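/-
Basic theory of rank one pairs (conjugation calculus, the action on the unipotent subgroups,
normal subgroup dichotomy).
-/
import Cfsg.Prelude.Def_RootSubgroups

set_option autoImplicit false

namespace CfsgLib.RootSub

open Cfsg

variable {G : Type*} [Group G]

section Conj

lemma mem_conjBy {A : Subgroup G} {g x : G} : x ∈ conjBy A g ↔ g⁻¹ * x * g ∈ A := by
  constructor
  · rintro ⟨a, ha, rfl⟩
    simpa [MulAut.conj_apply, mul_assoc] using ha
  · intro h
    exact ⟨g⁻¹ * x * g, h, by simp [MulAut.conj_apply, mul_assoc]⟩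

lemma conj_mem_conjBy {A : Subgroup G} {g a : G} (ha : a ∈ A) : g * a * g⁻¹ ∈ conjBy A g :=
  mem_conjBy.2 (by simpa [mul_assoc] using ha)

lemma conj_mem_conjBy_inv {A : Subgroup G} {g a : G} (ha : a ∈ A) : g⁻¹ * a * g ∈ conjBy A g⁻¹ :=
  mem_conjBy.2 (by simpa [mul_assoc] using ha)

@[simp] lemma conjBy_one (A : Subgroup G) : conjBy A 1 = A := by
  ext x; simp

lemma conjBy_conjBy (A : Subgroup G) (g h : G) : conjBy (conjBy A h) g = conjBy A (g * h) := by
  ext x; simp [mul_assoc]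

lemma conjBy_inv_conjBy (A : Subgroup G) (g : G) : conjBy (conjBy A g) g⁻¹ = A := by
  simp [conjBy_conjBy]

lemma conjBy_conjBy_inv (A : Subgroup G) (g : G) : conjBy (conjBy A g⁻¹) g = A := by
  simp [conjBy_conjBy]

lemma conjBy_injective (g : G) : Function.Injective (fun A : Subgroup G => conjBy A g) := by
  intro A B h
  have := congrArg (fun C => conjBy C g⁻¹) h
  simpa [conjBy_inv_conjBy] using this

lemma conjBy_inj {A B : Subgroup G} {g : G} : conjBy A g = conjBy B g ↔ A = B :=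
  (conjBy_injective g).eq_iff

lemma conjBy_le {A B : Subgroup G} {g : G} (h : A ≤ B) : conjBy A g ≤ conjBy B g :=
  Subgroup.map_mono h

lemma conjBy_eq_iff_mem_normalizer {A : Subgroup G} {g : G} :
    conjBy A g = A ↔ g ∈ Subgroup.normalizer (A : Set G) :=
  Subgroup.mem_normalizer_iff_map_conj_eq.symm

lemma conjBy_of_mem {A : Subgroup G} {g : G} (hg : g ∈ A) : conjBy A g = A := by
  ext x
  rw [mem_conjBy]
  constructor
  · intro h
    have := A.mul_mem (A.mul_mem hg h) (A.inv_mem hg)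
    simpa [mul_assoc] using this
  · intro h
    exact A.mul_mem (A.mul_mem (A.inv_mem hg) h) hg

lemma conjBy_of_commutes {A : Subgroup G} {g : G} (hg : ∀ a ∈ A, g * a = a * g) : conjBy A g = A := by
  ext x
  rw [mem_conjBy]
  constructor
  · intro h
    have h2 := hg _ h
    have : x = g⁻¹ * x * g := by
      apply mul_right_cancel (b := g)
      rw [← h2]; simp [mul_assoc]
    rw [this]; exact h
  · intro h
    have h2 := hg x h
    have : g⁻¹ * x * g = x := by rw [mul_assoc, ← h2, inv_mul_cancel_left]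
    rw [this]; exact h

lemma conjBy_sup (A B : Subgroup G) (g : G) : conjBy (A ⊔ B) g = conjBy A g ⊔ conjBy B g :=
  Subgroup.map_sup _ _ _

lemma conjBy_inf (A B : Subgroup G) (g : G) : conjBy (A ⊓ B) g = conjBy A g ⊓ conjBy B g :=
  Subgroup.map_inf _ _ _ (MulEquiv.injective _)

@[simp] lemma conjBy_bot (g : G) : conjBy (⊥ : Subgroup G) g = ⊥ := Subgroup.map_bot _

lemma conjBy_eq_bot_iff {A : Subgroup G} {g : G} : conjBy A g = ⊥ ↔ A = ⊥ := by
  conv_lhs => rw [← conjBy_bot g]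
  exact conjBy_inj

lemma conjBy_commutator (A B : Subgroup G) (g : G) :
    conjBy ⁅A, B⁆ g = ⁅conjBy A g, conjBy B g⁆ :=
  Subgroup.map_commutator _ _ _

lemma commutator_eq_bot_iff {A B : Subgroup G} :
    ⁅A, B⁆ = ⊥ ↔ ∀ a ∈ A, ∀ b ∈ B, a * b = b * a := by
  constructor
  · intro h a ha b hb
    exact commutatorElement_eq_one_iff_mul_comm.1
      (Subgroup.mem_bot.1 (h ▸ Subgroup.commutator_mem_commutator ha hb))
  · intro h
    rw [eq_bot_iff, Subgroup.commutator_le]
    intro a ha b hb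
    exact Subgroup.mem_bot.2 (commutatorElement_eq_one_iff_mul_comm.2 (h a ha b hb))

lemma commutator_bot_symm {A B : Subgroup G} (h : ⁅A, B⁆ = ⊥) : ⁅B, A⁆ = ⊥ := by
  rw [Subgroup.commutator_comm]; exact h

lemma mul_comm_of_commutative {A : Subgroup G} (h : IsMulCommutative A) {a b : G}
    (ha : a ∈ A) (hb : b ∈ A) : a * b = b * a :=
  congrArg Subtype.val (h.is_comm.comm (⟨a, ha⟩ : A) ⟨b, hb⟩)

lemma conjBy_commute_iff {A B : Subgroup G} (g : G) :
    ⁅conjBy A g, conjBy B g⁆ = ⊥ ↔ ⁅A, B⁆ = ⊥ := by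
  rw [← conjBy_commutator, conjBy_eq_bot_iff]

lemma conjBy_nilpotent {A : Subgroup G} (g : G) (h : Group.IsNilpotent A) :
    Group.IsNilpotent (conjBy A g) :=
  haveI := h
  Group.nilpotent_of_mulEquiv (Subgroup.equivMapOfInjective A _ (MulEquiv.injective (MulAut.conj g)))

lemma isRankOnePair_conjBy {A B : Subgroup G} (h : IsRankOnePair A B) (g : G) :
    IsRankOnePair (conjBy A g) (conjBy B g) := by
  have key : ∀ {C D : Subgroup G}, RankOneCondition C D →
      RankOneCondition (conjBy C g) (conjBy D g) := by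
    intro C D hc a ha ha1
    rw [mem_conjBy] at ha
    obtain ⟨b, hb, hb1, hbe⟩ := hc _ ha (by
      intro h1; apply ha1
      have h2 : g * (g⁻¹ * a * g) * g⁻¹ = g * 1 * g⁻¹ := by rw [h1]
      simpa [mul_assoc] using h2)
    refine ⟨g * b * g⁻¹, conj_mem_conjBy hb, by simpa using hb1, ?_⟩
    have := congrArg (fun E => conjBy E g) hbe
    simpa [conjBy_conjBy, mul_assoc] using this
  exact ⟨fun e => h.ne (conjBy_injective g e), conjBy_nilpotent g h.nilpotent_left,
    conjBy_nilpotent g h.nilpotent_right, key h.cond_left, key h.cond_right⟩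

end Conj

section RankOne

variable {A B : Subgroup G}

lemma r1_symm (h : IsRankOnePair A B) : IsRankOnePair B A := Cfsg.RankOnePair_symm h

lemma r1_left_ne_bot (h : IsRankOnePair A B) : A ≠ ⊥ := by
  intro hA
  apply h.ne
  rw [hA, eq_comm, eq_bot_iff]
  intro b hb
  by_contra hb1
  obtain ⟨a, ha, ha1, -⟩ := h.cond_right b hb (by simpa using hb1)
  exact ha1 (by simpa [hA] using ha)

lemma r1_right_ne_bot (h : IsRankOnePair A B) : B ≠ ⊥ := r1_left_ne_bot (r1_symm h)

lemma r1_inf_normalizer (h : IsRankOnePair A B) : A ⊓ Subgroup.normalizer (B : Set G) = ⊥ := by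
  rw [eq_bot_iff]
  rintro a ⟨ha, hn⟩
  by_contra ha1
  obtain ⟨b, hb, -, hbe⟩ := h.cond_left a ha (by simpa using ha1)
  rw [conjBy_eq_iff_mem_normalizer.2 (inv_mem hn)] at hbe
  have := congrArg (fun E => conjBy E b) hbe
  simp only [conjBy_conjBy_inv, conjBy_of_mem hb] at this
  exact h.ne this

lemma r1_eq_one_of_normalizes (h : IsRankOnePair A B) {a : G} (ha : a ∈ A)
    (hn : conjBy B a = B) : a = 1 := by
  have : a ∈ A ⊓ Subgroup.normalizer (B : Set G) := ⟨ha, conjBy_eq_iff_mem_normalizer.1 hn⟩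
  simpa [r1_inf_normalizer h] using this

lemma r1_conjBy_inj (h : IsRankOnePair A B) {a a' : G} (ha : a ∈ A) (ha' : a' ∈ A)
    (he : conjBy B a = conjBy B a') : a = a' := by
  have := congrArg (fun E => conjBy E a'⁻¹) he
  simp only [conjBy_conjBy, inv_mul_cancel, conjBy_one] at this
  exact (inv_mul_eq_one.1 (r1_eq_one_of_normalizes h (mul_mem (inv_mem ha') ha) this)).symm

lemma r1_inf (h : IsRankOnePair A B) : A ⊓ B = ⊥ := by
  rw [eq_bot_iff]
  rintro x ⟨hxA, hxB⟩
  exact Subgroup.mem_bot.2 (r1_eq_one_of_normalizes h hxA (conjBy_of_mem hxB))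

lemma r1_exists (h : IsRankOnePair A B) {a : G} (ha : a ∈ A) (ha1 : a ≠ 1) :
    ∃ b ∈ B, b ≠ 1 ∧ conjBy A b⁻¹ = conjBy B a⁻¹ := h.cond_left a ha ha1

lemma r1_exists' (h : IsRankOnePair A B) {b : G} (hb : b ∈ B) (hb1 : b ≠ 1) :
    ∃ a ∈ A, a ≠ 1 ∧ conjBy A b⁻¹ = conjBy B a⁻¹ := by
  obtain ⟨a, ha, ha1, e⟩ := h.cond_right b hb hb1
  exact ⟨a, ha, ha1, e.symm⟩

/-- every conjugate of `B` by an element of `A#` is a conjugate of `A` by an element of `B#` -/
lemma r1_exists_conj (h : IsRankOnePair A B) {a : G} (ha : a ∈ A) (ha1 : a ≠ 1) :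
    ∃ b ∈ B, b ≠ 1 ∧ conjBy A b = conjBy B a := by
  obtain ⟨b, hb, hb1, e⟩ := h.cond_left a⁻¹ (inv_mem ha) (inv_ne_one.2 ha1)
  exact ⟨b⁻¹, inv_mem hb, inv_ne_one.2 hb1, by simpa using e⟩

lemma unipotent_self (A B : Subgroup G) : A ∈ unipotentSubgroups A B :=
  ⟨1, one_mem _, (conjBy_one A).symm⟩

lemma unipotent_conj {C : Subgroup G} (hC : C ∈ unipotentSubgroups A B) {x : G}
    (hx : x ∈ A ⊔ B) : conjBy C x ∈ unipotentSubgroups A B := by
  obtain ⟨y, hy, rfl⟩ := hC
  exact ⟨x * y, mul_mem hx hy, conjBy_conjBy _ _ _⟩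

/-- An `A`- and `B`-stable description of the conjugates of `A`. -/
lemma r1_orbit_left (h : IsRankOnePair A B) {x : G} (hx : x ∈ A ⊔ B) :
    ∀ C, (C = A ∨ ∃ a ∈ A, C = conjBy B a) →
      (conjBy C x = A ∨ ∃ a ∈ A, conjBy C x = conjBy B a) := by
  have hA : ∀ a ∈ A, ∀ C, (C = A ∨ ∃ a ∈ A, C = conjBy B a) →
      (conjBy C a = A ∨ ∃ a' ∈ A, conjBy C a = conjBy B a') := by
    intro a ha C hC
    rcases hC with rfl | ⟨a', ha', rfl⟩
    · exact Or.inl (conjBy_of_mem ha)
    · exact Or.inr ⟨a * a', mul_mem ha ha', conjBy_conjBy _ _ _⟩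
  have hB : ∀ b ∈ B, ∀ C, (C = A ∨ ∃ a ∈ A, C = conjBy B a) →
      (conjBy C b = A ∨ ∃ a' ∈ A, conjBy C b = conjBy B a') := by
    have hAb : ∀ b ∈ B, conjBy A b = A ∨ ∃ a' ∈ A, conjBy A b = conjBy B a' := by
      intro b hb
      by_cases hb1 : b = 1
      · exact Or.inl (by simp [hb1])
      · obtain ⟨a, ha, -, e⟩ := r1_exists_conj (r1_symm h) hb hb1
        exact Or.inr ⟨a, ha, e.symm⟩
    intro b hb C hC
    rcases hC with rfl | ⟨a', ha', rfl⟩
    · exact hAb b hb
    · by_cases ha1 : a' = 1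
      · subst ha1
        exact Or.inr ⟨1, one_mem _, by simp [conjBy_of_mem hb]⟩
      · obtain ⟨b', hb', -, e⟩ := r1_exists_conj h ha' ha1
        rw [← e, conjBy_conjBy]
        exact hAb _ (mul_mem hb hb')
  rw [Subgroup.sup_eq_closure] at hx
  induction hx using Subgroup.closure_induction'' with
  | mem x hx => rcases hx with hx | hx; exacts [hA x hx, hB x hx]
  | inv_mem x hx => rcases hx with hx | hx; exacts [hA _ (inv_mem hx), hB _ (inv_mem hx)]
  | one => intro C hC; simpa using hC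
  | mul x y _ _ ihx ihy =>
      intro C hC
      rw [← conjBy_conjBy]
      exact ihx _ (ihy C hC)

lemma r1_right_mem (h : IsRankOnePair A B) : B ∈ unipotentSubgroups A B := by
  obtain ⟨a, ha, ha1⟩ := (Subgroup.bot_or_exists_ne_one A).resolve_left (r1_left_ne_bot h)
  obtain ⟨b, hb, -, e⟩ := r1_exists h ha ha1
  refine ⟨a * b⁻¹, mul_mem (Subgroup.mem_sup_left ha) (Subgroup.mem_sup_right (inv_mem hb)), ?_⟩
  rw [← conjBy_conjBy, e, conjBy_conjBy_inv]

lemma mem_unipotent_iff (h : IsRankOnePair A B) {C : Subgroup G} :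
    C ∈ unipotentSubgroups A B ↔ C = A ∨ ∃ a ∈ A, C = conjBy B a := by
  constructor
  · rintro ⟨x, hx, rfl⟩
    exact r1_orbit_left h hx A (Or.inl rfl)
  · rintro (rfl | ⟨a, ha, rfl⟩)
    · exact unipotent_self _ _
    · exact unipotent_conj (r1_right_mem h) (Subgroup.mem_sup_left ha)

lemma unipotent_comm (h : IsRankOnePair A B) :
    unipotentSubgroups A B = unipotentSubgroups B A := by
  have key : ∀ {C D : Subgroup G}, IsRankOnePair C D →
      unipotentSubgroups C D ⊆ unipotentSubgroups D C := by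
    intro C D hCD E hE
    obtain ⟨x, hx, rfl⟩ := hE
    exact unipotent_conj (r1_right_mem (r1_symm hCD)) (sup_comm C D ▸ hx)
  exact Set.Subset.antisymm (key h) (key (r1_symm h))

lemma mem_unipotent_iff' (h : IsRankOnePair A B) {C : Subgroup G} :
    C ∈ unipotentSubgroups A B ↔ C = B ∨ ∃ b ∈ B, C = conjBy A b := by
  rw [unipotent_comm h, mem_unipotent_iff (r1_symm h)]

lemma unipotent_le {C : Subgroup G} (hC : C ∈ unipotentSubgroups A B) : C ≤ A ⊔ B := by
  obtain ⟨x, hx, rfl⟩ := hC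
  intro y hy
  rw [mem_conjBy] at hy
  have := mul_mem (mul_mem hx (Subgroup.mem_sup_left hy : x⁻¹ * y * x ∈ A ⊔ B)) (inv_mem hx)
  simpa [mul_assoc] using this

lemma unipotent_pair_map (h : IsRankOnePair A B) {C D : Subgroup G}
    (hC : C ∈ unipotentSubgroups A B) (hD : D ∈ unipotentSubgroups A B) (hne : C ≠ D) :
    ∃ x ∈ A ⊔ B, C = conjBy A x ∧ D = conjBy B x := by
  obtain ⟨x, hx, rfl⟩ := hC
  have hD' : conjBy D x⁻¹ ∈ unipotentSubgroups A B := unipotent_conj hD (inv_mem hx)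
  rcases (mem_unipotent_iff h).1 hD' with e | ⟨a, ha, e⟩
  · have := congrArg (fun E => conjBy E x) e
    simp only [conjBy_conjBy_inv] at this
    exact absurd this.symm hne
  · refine ⟨x * a, mul_mem hx (Subgroup.mem_sup_left ha), ?_, ?_⟩
    · rw [← conjBy_conjBy, conjBy_of_mem ha]
    · rw [← conjBy_conjBy, ← e, conjBy_conjBy_inv]

lemma unipotent_sup (h : IsRankOnePair A B) {C D : Subgroup G}
    (hC : C ∈ unipotentSubgroups A B) (hD : D ∈ unipotentSubgroups A B) (hne : C ≠ D) :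
    C ⊔ D = A ⊔ B := by
  obtain ⟨x, hx, rfl, rfl⟩ := unipotent_pair_map h hC hD hne
  rw [← conjBy_sup, conjBy_of_mem hx]

lemma unipotent_isRankOnePair (h : IsRankOnePair A B) {C D : Subgroup G}
    (hC : C ∈ unipotentSubgroups A B) (hD : D ∈ unipotentSubgroups A B) (hne : C ≠ D) :
    IsRankOnePair C D := by
  obtain ⟨x, -, rfl, rfl⟩ := unipotent_pair_map h hC hD hne
  exact isRankOnePair_conjBy h x

lemma unipotent_eq (h : IsRankOnePair A B) {C D : Subgroup G}
    (hC : C ∈ unipotentSubgroups A B) (hD : D ∈ unipotentSubgroups A B) (hne : C ≠ D) :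
    unipotentSubgroups C D = unipotentSubgroups A B := by
  have hs := unipotent_sup h hC hD hne
  obtain ⟨x, hx, rfl, rfl⟩ := unipotent_pair_map h hC hD hne
  ext E
  constructor
  · rintro ⟨y, hy, rfl⟩
    exact unipotent_conj (unipotent_conj (unipotent_self A B) hx) (hs ▸ hy)
  · rintro ⟨y, hy, rfl⟩
    refine ⟨y * x⁻¹, by rw [hs]; exact mul_mem hy (inv_mem hx), ?_⟩
    simp [conjBy_conjBy]

/-- two elementwise commuting members of `Ω` coincide -/
lemma r1_not_commute (h : IsRankOnePair A B) : ⁅A, B⁆ ≠ ⊥ := by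
  intro hc
  obtain ⟨a, ha, ha1⟩ := (Subgroup.bot_or_exists_ne_one A).resolve_left (r1_left_ne_bot h)
  exact ha1 (r1_eq_one_of_normalizes h ha
    (conjBy_of_commutes fun b hb => commutator_eq_bot_iff.1 hc a ha b hb))

lemma unipotent_commute_eq (h : IsRankOnePair A B) {C D : Subgroup G}
    (hC : C ∈ unipotentSubgroups A B) (hD : D ∈ unipotentSubgroups A B) (hcd : ⁅C, D⁆ = ⊥) :
    C = D := by
  by_contra hne
  exact r1_not_commute (unipotent_isRankOnePair h hC hD hne) hcd

lemma unipotent_inf_eq (h : IsRankOnePair A B) {C D : Subgroup G}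
    (hC : C ∈ unipotentSubgroups A B) (hD : D ∈ unipotentSubgroups A B) (hcd : C ⊓ D ≠ ⊥) :
    C = D := by
  by_contra hne
  exact hcd (r1_inf (unipotent_isRankOnePair h hC hD hne))

/-- an element of `A ⊔ B` fixing all members of `Ω` is central -/
lemma r1_kernel_central (h : IsRankOnePair A B) {x : G} (hx : x ∈ A ⊔ B)
    (hfix : ∀ C ∈ unipotentSubgroups A B, conjBy C x = C) :
    ∀ y ∈ A ⊔ B, x * y = y * x := by
  have key : ∀ {C D : Subgroup G}, IsRankOnePair C D → x ∈ C ⊔ D →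
      (∀ E ∈ unipotentSubgroups C D, conjBy E x = E) → ∀ a ∈ C, x * a = a * x := by
    intro C D hCD _ hf a ha
    have hxC := hf C (unipotent_self C D)
    have hmem : x * a * x⁻¹ ∈ C := by
      have := conj_mem_conjBy (g := x) ha
      rwa [hxC] at this
    have e1 := hf _ (unipotent_conj (r1_right_mem hCD) (Subgroup.mem_sup_left ha))
    have e2 := hf D (r1_right_mem hCD)
    have hxi : conjBy D x⁻¹ = D := by
      conv_lhs => rw [← e2]
      exact conjBy_inv_conjBy _ _
    have : conjBy D (x * a * x⁻¹) = conjBy D a := by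
      rw [← conjBy_conjBy, hxi, ← conjBy_conjBy, e1]
    have := r1_conjBy_inj hCD hmem ha this
    exact mul_inv_eq_iff_eq_mul.1 this
  intro y hy
  rw [Subgroup.sup_eq_closure] at hy
  induction hy using Subgroup.closure_induction with
  | mem y hy =>
      rcases hy with hy | hy
      · exact key h hx hfix y hy
      · refine key (r1_symm h) (sup_comm A B ▸ hx) ?_ y hy
        rw [← unipotent_comm h]; exact hfix
  | one => simp
  | mul y z _ _ ihy ihz => exact Commute.mul_right ihy ihz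
  | inv y _ ihy => exact Commute.inv_right ihy

/-- an element normalizing `A` and `B`, centralizing `B`, centralizes `A` -/
lemma r1_centralizes_left (h : IsRankOnePair A B) {z : G}
    (hA : conjBy A z = A) (hB : ∀ b ∈ B, z * b = b * z) : ∀ a ∈ A, z * a = a * z := by
  intro a ha
  by_cases ha1 : a = 1
  · simp [ha1]
  obtain ⟨b, hb, hb1, e⟩ := r1_exists h ha ha1
  have hmem : z * a * z⁻¹ ∈ A := by
    have := conj_mem_conjBy (g := z) ha
    rwa [hA] at this
  have e' := congrArg (fun E => conjBy E z) e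
  have hBz : conjBy B z = B := conjBy_of_commutes hB
  have hzA : conjBy A z⁻¹ = A := by
    conv_lhs => rw [← hA]
    exact conjBy_inv_conjBy _ _
  have h1 : conjBy A b⁻¹ = conjBy B (z * a * z⁻¹)⁻¹ := by
    have hc : z * b⁻¹ * z⁻¹ = b⁻¹ := by
      rw [mul_inv_eq_iff_eq_mul]; exact hB _ (inv_mem hb)
    have hzB : conjBy B z⁻¹ = B := by
      conv_lhs => rw [← hBz]
      exact conjBy_inv_conjBy _ _
    calc conjBy A b⁻¹ = conjBy A (z * b⁻¹ * z⁻¹) := by rw [hc]
      _ = conjBy (conjBy A b⁻¹) z := by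
          rw [← conjBy_conjBy, hzA, conjBy_conjBy]
      _ = conjBy (conjBy B a⁻¹) z := by rw [e]
      _ = conjBy B (z * a⁻¹ * z⁻¹) := by
          rw [conjBy_conjBy, ← conjBy_conjBy B (z * a⁻¹) z⁻¹, hzB]
      _ = conjBy B (z * a * z⁻¹)⁻¹ := by simp [mul_assoc]
  have := r1_conjBy_inj h (inv_mem hmem) (inv_mem ha) (h1.symm.trans e)
  exact mul_inv_eq_iff_eq_mul.1 (inv_injective this)

end RankOne

section Group

variable {X : Type*} [Group X] {A B : Subgroup X}

lemma r1g_exists_top (h : IsRankOneGroup X A B) (x : X) : x ∈ A ⊔ B := h.1 ▸ Subgroup.mem_top x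

lemma r1g_normal_dichotomy (h : IsRankOneGroup X A B) (N : Subgroup X) (hN : N.Normal) :
    N ⊔ A = ⊤ ∨ N ≤ Subgroup.center X := by
  by_cases hmove : ∃ C ∈ unipotentSubgroups A B, ∃ n ∈ N, conjBy C n ≠ C
  · left
    obtain ⟨C, hC, n, hn, hne⟩ := hmove
    have hC' := unipotent_conj hC (r1g_exists_top h n)
    obtain ⟨x, -, e1, e2⟩ := unipotent_pair_map h.2 hC hC' (Ne.symm hne)
    set m := x⁻¹ * n * x with hm
    have hmN : m ∈ N := hN.conj_mem' n hn x
    have hB : B = conjBy A m := by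
      have := congrArg (fun E => conjBy E x⁻¹) e2
      simp only [conjBy_inv_conjBy] at this
      rw [← this, e1, conjBy_conjBy, conjBy_conjBy, hm]
    rw [eq_top_iff, ← h.1]
    refine sup_le le_sup_right ?_
    rw [hB]
    intro y hy
    rw [mem_conjBy] at hy
    have hmS : m ∈ N ⊔ A := Subgroup.mem_sup_left hmN
    have := mul_mem (mul_mem hmS (Subgroup.mem_sup_right hy : m⁻¹ * y * m ∈ N ⊔ A)) (inv_mem hmS)
    simpa [mul_assoc] using this
  · right
    push Not at hmove
    intro n hn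
    rw [Subgroup.mem_center_iff]
    intro y
    exact (r1_kernel_central h.2 (r1g_exists_top h n) (fun C hC => hmove C hC n hn) y
      (r1g_exists_top h y)).symm

end Group

end CfsgLib.RootSub
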