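/-
SL₂ over a field as a special rank one group with the unitriangular subgroups.
-/
import Cfsg.Agent.Lib.RootSub.RankOne

set_option autoImplicit false

namespace CfsgLib.RootSub

open Cfsg Matrix

variable {k : Type*} [Field k]

/-- Upper elementary matrix. -/
def slU (t : k) : SpecialLinearGroup (Fin 2) k := ⟨!![1, t; 0, 1], by simp [det_fin_two]⟩

/-- Lower elementary matrix. -/
def slL (t : k) : SpecialLinearGroup (Fin 2) k := ⟨!![1, 0; t, 1], by simp [det_fin_two]⟩

lemma slU_val (t : k) : ((slU t : SpecialLinearGroup (Fin 2) k) : Matrix (Fin 2) (Fin 2) k) = !![1, t; 0, 1] := rfl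
lemma slL_val (t : k) : ((slL t : SpecialLinearGroup (Fin 2) k) : Matrix (Fin 2) (Fin 2) k) = !![1, 0; t, 1] := rfl

lemma slU_add (s t : k) : slU (s + t) = slU s * slU t := by
  apply Subtype.ext
  simp [slU_val, Matrix.mul_fin_two, add_comm]

lemma slL_add (s t : k) : slL (s + t) = slL s * slL t := by
  apply Subtype.ext
  simp [slL_val, Matrix.mul_fin_two]

lemma slU_zero : slU (0 : k) = 1 := by
  apply Subtype.ext; simp [slU_val, Matrix.one_fin_two]

lemma slL_zero : slL (0 : k) = 1 := by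
  apply Subtype.ext; simp [slL_val, Matrix.one_fin_two]

lemma slU_neg (t : k) : slU (-t) = (slU t)⁻¹ := by
  rw [eq_inv_iff_mul_eq_one, ← slU_add, neg_add_cancel, slU_zero]

lemma slL_neg (t : k) : slL (-t) = (slL t)⁻¹ := by
  rw [eq_inv_iff_mul_eq_one, ← slL_add, neg_add_cancel, slL_zero]

lemma slU_inj {s t : k} (h : slU s = slU t) : s = t := by
  have := congrArg (fun g : SpecialLinearGroup (Fin 2) k => (g : Matrix (Fin 2) (Fin 2) k) 0 1) h
  simpa [slU_val] using this

lemma slL_inj {s t : k} (h : slL s = slL t) : s = t := by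
  have := congrArg (fun g : SpecialLinearGroup (Fin 2) k => (g : Matrix (Fin 2) (Fin 2) k) 1 0) h
  simpa [slL_val] using this

/-- `t ↦ slU t` as a monoid homomorphism. -/
def slUHom : Multiplicative k →* SpecialLinearGroup (Fin 2) k :=
  MonoidHom.mk' (fun t => slU t.toAdd) fun s t => slU_add s.toAdd t.toAdd

/-- `t ↦ slL t` as a monoid homomorphism. -/
def slLHom : Multiplicative k →* SpecialLinearGroup (Fin 2) k :=
  MonoidHom.mk' (fun t => slL t.toAdd) fun s t => slL_add s.toAdd t.toAdd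

lemma upperUnipotent_eq : upperUnipotentSL2 k = (slUHom (k := k)).range := by
  refine le_antisymm ((Subgroup.closure_le _).2 ?_) ?_
  · rintro g ⟨h10, h00, h11⟩
    refine ⟨Multiplicative.ofAdd ((g : Matrix (Fin 2) (Fin 2) k) 0 1), ?_⟩
    apply Subtype.ext
    show !![1, _; 0, 1] = (g : Matrix (Fin 2) (Fin 2) k)
    rw [Matrix.eta_fin_two (g : Matrix (Fin 2) (Fin 2) k), h10, h00, h11]; rfl
  · rintro _ ⟨t, rfl⟩
    exact Subgroup.subset_closure ⟨by simp [slUHom, slU_val], by simp [slUHom, slU_val], by simp [slUHom, slU_val]⟩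

lemma lowerUnipotent_eq : lowerUnipotentSL2 k = (slLHom (k := k)).range := by
  refine le_antisymm ((Subgroup.closure_le _).2 ?_) ?_
  · rintro g ⟨h01, h00, h11⟩
    refine ⟨Multiplicative.ofAdd ((g : Matrix (Fin 2) (Fin 2) k) 1 0), ?_⟩
    apply Subtype.ext
    show !![1, 0; _, 1] = (g : Matrix (Fin 2) (Fin 2) k)
    rw [Matrix.eta_fin_two (g : Matrix (Fin 2) (Fin 2) k), h01, h00, h11]; rfl
  · rintro _ ⟨t, rfl⟩
    exact Subgroup.subset_closure ⟨by simp [slLHom, slL_val], by simp [slLHom, slL_val], by simp [slLHom, slL_val]⟩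

lemma mem_upperUnipotent {g : SpecialLinearGroup (Fin 2) k} :
    g ∈ upperUnipotentSL2 k ↔ ∃ t, slU t = g := by
  rw [upperUnipotent_eq]
  exact ⟨fun ⟨t, h⟩ => ⟨t.toAdd, h⟩, fun ⟨t, h⟩ => ⟨Multiplicative.ofAdd t, h⟩⟩

lemma mem_lowerUnipotent {g : SpecialLinearGroup (Fin 2) k} :
    g ∈ lowerUnipotentSL2 k ↔ ∃ t, slL t = g := by
  rw [lowerUnipotent_eq]
  exact ⟨fun ⟨t, h⟩ => ⟨t.toAdd, h⟩, fun ⟨t, h⟩ => ⟨Multiplicative.ofAdd t, h⟩⟩

lemma slU_mem (t : k) : slU t ∈ upperUnipotentSL2 k := mem_upperUnipotent.2 ⟨t, rfl⟩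
lemma slL_mem (t : k) : slL t ∈ lowerUnipotentSL2 k := mem_lowerUnipotent.2 ⟨t, rfl⟩

lemma sl2_braid {t : k} (ht : t ≠ 0) :
    slU t * slL (-t⁻¹) * slU t = slL (-t⁻¹) * slU t * slL (-t⁻¹) := by
  apply Subtype.ext
  simp [slU_val, slL_val, Matrix.mul_fin_two, ht]

lemma sl2_conj_rel {t : k} (ht : t ≠ 0) (x : k) :
    (slU t⁻¹)⁻¹ * slL x * slU t⁻¹ = (slL t)⁻¹ * slU (-x / (t * t)) * slL t := by
  rw [← slU_neg, ← slL_neg]
  apply Subtype.ext
  simp [slU_val, slL_val, Matrix.mul_fin_two]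
  refine ⟨⟨?_, ?_⟩, ?_, ?_⟩ <;> field_simp <;> ring

lemma sl2_sup_eq_top : lowerUnipotentSL2 k ⊔ upperUnipotentSL2 k = ⊤ := by
  set H := lowerUnipotentSL2 k ⊔ upperUnipotentSL2 k with hH
  have key : ∀ g : SpecialLinearGroup (Fin 2) k, (g : Matrix (Fin 2) (Fin 2) k) 1 0 ≠ 0 → g ∈ H := by
    intro g hc
    set a := (g : Matrix (Fin 2) (Fin 2) k) 0 0 with ha
    set c := (g : Matrix (Fin 2) (Fin 2) k) 1 0 with hcd
    set d := (g : Matrix (Fin 2) (Fin 2) k) 1 1 with hd
    have hdet := g.2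
    rw [det_fin_two] at hdet
    set b := (g : Matrix (Fin 2) (Fin 2) k) 0 1 with hb
    have hdet' : a * d - b * c = 1 := hdet
    have hM : (g : Matrix (Fin 2) (Fin 2) k) = !![a, b; c, d] :=
      Matrix.eta_fin_two _
    have e : g = slU ((a - 1) / c) * slL c * slU ((d - 1) / c) := by
      apply Subtype.ext
      show (g : Matrix (Fin 2) (Fin 2) k) =
        !![1, (a - 1) / c; 0, 1] * !![1, 0; c, 1] * !![1, (d - 1) / c; 0, 1]
      rw [hM, Matrix.mul_fin_two, Matrix.mul_fin_two]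
      clear_value a b c d
      clear hdet hM ha hb hcd hd
      ext i j
      fin_cases i <;> fin_cases j <;> simp <;> field_simp <;>
        first
          | (linear_combination hdet')
          | (linear_combination -hdet')
          | ring
    rw [e]
    exact mul_mem (mul_mem (Subgroup.mem_sup_right (slU_mem _)) (Subgroup.mem_sup_left (slL_mem _)))
      (Subgroup.mem_sup_right (slU_mem _))
  rw [eq_top_iff]
  intro g _
  by_cases hc : (g : Matrix (Fin 2) (Fin 2) k) 1 0 = 0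
  · have h1 : slL 1 * g ∈ H := by
      refine key _ ?_
      have hdet := g.2
      rw [det_fin_two, hc, mul_zero, sub_zero] at hdet
      intro e
      simp [slL_val, Matrix.mul_apply, Fin.sum_univ_two, hc] at e
      rw [e, zero_mul] at hdet
      exact zero_ne_one hdet
    have := mul_mem (inv_mem (Subgroup.mem_sup_left (T := upperUnipotentSL2 k) (slL_mem (1 : k)))) h1
    simpa using this
  · exact key g hc

lemma sl2_conjBy {t : k} (ht : t ≠ 0) :
    conjBy (lowerUnipotentSL2 k) (slU t⁻¹)⁻¹ = conjBy (upperUnipotentSL2 k) (slL t)⁻¹ := by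
  ext g
  constructor
  · intro hg
    rw [mem_conjBy, inv_inv, mem_lowerUnipotent] at hg
    obtain ⟨x, hx⟩ := hg
    have : g = (slU t⁻¹)⁻¹ * slL x * slU t⁻¹ := by rw [hx]; group
    rw [this, sl2_conj_rel ht]
    exact conj_mem_conjBy_inv (slU_mem _)
  · intro hg
    rw [mem_conjBy, inv_inv, mem_upperUnipotent] at hg
    obtain ⟨y, hy⟩ := hg
    have : g = (slL t)⁻¹ * slU y * slL t := by rw [hy]; group
    rw [this, show y = -(-y * (t * t)) / (t * t) by field_simp, ← sl2_conj_rel ht]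
    exact conj_mem_conjBy_inv (slL_mem _)

lemma nilpotent_of_commutative {H : Type*} [Group H] (h : IsMulCommutative H) :
    Group.IsNilpotent H := by
  refine ⟨⟨1, ?_⟩⟩
  rw [Subgroup.upperCentralSeries_one, eq_top_iff]
  intro x _
  exact Subgroup.mem_center_iff.2 fun y => h.is_comm.comm y x

lemma sl2_isRankOnePair : IsRankOnePair (lowerUnipotentSL2 k) (upperUnipotentSL2 k) := by
  have hA : IsMulCommutative (lowerUnipotentSL2 k) := by
    rw [lowerUnipotent_eq]; infer_instance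
  have hB : IsMulCommutative (upperUnipotentSL2 k) := by
    rw [upperUnipotent_eq]; infer_instance
  refine ⟨?_, nilpotent_of_commutative hA, nilpotent_of_commutative hB, ?_, ?_⟩
  · intro e
    obtain ⟨t, ht⟩ := mem_upperUnipotent.1 (e ▸ slL_mem (1 : k))
    have := congrArg (fun g : SpecialLinearGroup (Fin 2) k => (g : Matrix (Fin 2) (Fin 2) k) 1 0) ht
    simp [slU_val, slL_val] at this
  · intro a ha ha1
    obtain ⟨t, rfl⟩ := mem_lowerUnipotent.1 ha
    have ht : t ≠ 0 := fun e => ha1 (by rw [e, slL_zero])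
    exact ⟨slU t⁻¹, slU_mem _, fun e => inv_ne_zero ht (slU_inj (e.trans slU_zero.symm)),
      sl2_conjBy ht⟩
  · intro b hb hb1
    obtain ⟨s, rfl⟩ := mem_upperUnipotent.1 hb
    have hs : s ≠ 0 := fun e => hb1 (by rw [e, slU_zero])
    refine ⟨slL s⁻¹, slL_mem _, fun e => inv_ne_zero hs (slL_inj (e.trans slL_zero.symm)), ?_⟩
    have := sl2_conjBy (inv_ne_zero hs)
    rw [inv_inv] at this
    exact this.symm

lemma sl2_isRankOneGroup :
    IsRankOneGroup (SpecialLinearGroup (Fin 2) k) (lowerUnipotentSL2 k) (upperUnipotentSL2 k) :=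
  ⟨sl2_sup_eq_top, sl2_isRankOnePair⟩

lemma sl2_special : IsSpecialRankOnePair (lowerUnipotentSL2 k) (upperUnipotentSL2 k) := by
  refine ⟨sl2_isRankOnePair, fun a ha ha1 b hb _ e => ?_⟩
  obtain ⟨t, rfl⟩ := mem_lowerUnipotent.1 ha
  obtain ⟨s, rfl⟩ := mem_upperUnipotent.1 hb
  have ht : t ≠ 0 := fun e' => ha1 (by rw [e', slL_zero])
  have : slU s = slU t⁻¹ := inv_injective (r1_conjBy_inj (r1_symm sl2_isRankOnePair)
    (inv_mem (slU_mem s)) (inv_mem (slU_mem t⁻¹)) (e.trans (sl2_conjBy ht).symm))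
  rw [this, sl2_conj_rel ht, ← slU_neg]
  congr 2; congr 1
  field_simp

lemma sl2_abelian : HasAbelianUnipotents (lowerUnipotentSL2 k) (upperUnipotentSL2 k) := by
  refine ⟨?_, ?_⟩
  · rw [lowerUnipotent_eq]; infer_instance
  · rw [upperUnipotent_eq]; infer_instance

lemma sl2_center {z : SpecialLinearGroup (Fin 2) k}
    (hz : z ∈ Subgroup.center (SpecialLinearGroup (Fin 2) k)) :
    z = 1 ∨ (z : Matrix (Fin 2) (Fin 2) k) = -1 := by
  rw [Subgroup.mem_center_iff] at hz
  have h1 := congrArg Subtype.val (hz (slU 1))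
  have h2 := congrArg Subtype.val (hz (slL 1))
  have hdet := z.2
  rw [det_fin_two] at hdet
  have a1 := congrFun (congrFun h1 0) 0
  have a2 := congrFun (congrFun h1 0) 1
  have a3 := congrFun (congrFun h2 0) 0
  simp [slU_val, slL_val, Matrix.mul_apply, Fin.sum_univ_two] at a1 a2 a3
  have hd : (z : Matrix (Fin 2) (Fin 2) k) 1 1 = (z : Matrix (Fin 2) (Fin 2) k) 0 0 := by
    linear_combination a2
  rw [a1, a3, mul_zero, sub_zero, hd, mul_self_eq_one_iff] at hdet
  rcases hdet with e | e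
  · left
    apply Subtype.ext
    rw [Matrix.eta_fin_two (z : Matrix (Fin 2) (Fin 2) k), a1, a3, hd, e]
    simp [Matrix.one_fin_two]
  · right
    rw [Matrix.eta_fin_two (z : Matrix (Fin 2) (Fin 2) k), a1, a3, hd, e]
    simp [Matrix.one_fin_two]

end CfsgLib.RootSub
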