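/-
Sets of abstract root subgroups: trivial intersection property, the commutator case, and the
basic lemmas on commuting members.
-/
import Cfsg.Agent.Lib.RootSub.RankOne

set_option autoImplicit false

namespace CfsgLib.RootSub

open Cfsg
open scoped commutatorElement

variable {G : Type*} [Group G] {S : Set (Subgroup G)}

/-- `A` has a rank one partner in `S`. -/
def HasPartner (S : Set (Subgroup G)) (A : Subgroup G) : Prop := ∃ B ∈ S, IsRankOnePair A B

lemma hasPartner_of_not_isolated {A : Subgroup G} (hA : A ∈ S)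
    (h : ¬ IsIsolatedIn (FAdj S) S A) : HasPartner S A := by
  by_contra hc
  refine h ⟨hA, fun B => ⟨fun hB => hc ⟨B, hB.2.1, hB.2.2⟩, fun hB => hc ⟨B, hB.1, r1_symm hB.2.2⟩⟩⟩

lemma not_isolated_of_hasPartner {A : Subgroup G} (h : HasPartner S A) :
    ¬ IsIsolatedIn (FAdj S) S A := by
  rintro ⟨hA, hno⟩
  obtain ⟨B, hB, r⟩ := h
  exact (hno B).1 ⟨hA, hB, r⟩

section

variable (hS : IsRootSubgroupSet S)
include hS

lemma rs_comm {A : Subgroup G} (hA : A ∈ S) {a b : G} (ha : a ∈ A) (hb : b ∈ A) :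
    a * b = b * a := mul_comm_of_commutative (hS.commutative A hA) ha hb

lemma rs_exists_ne_one {A : Subgroup G} (hA : A ∈ S) : ∃ a ∈ A, a ≠ 1 :=
  (Subgroup.bot_or_exists_ne_one A).resolve_left (hS.ne_bot A hA)

lemma rs_not_bot_mem : (⊥ : Subgroup G) ∉ S := fun h => hS.ne_bot _ h rfl

lemma rs_self_commute {A : Subgroup G} (hA : A ∈ S) : ⁅A, A⁆ = ⊥ :=
  commutator_eq_bot_iff.2 fun _ ha _ hb => rs_comm hS hA ha hb

lemma rs_hasPartner_conj {A : Subgroup G} (hA : HasPartner S A) (g : G) :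
    HasPartner S (conjBy A g) := by
  obtain ⟨B, hB, r⟩ := hA
  exact ⟨conjBy B g, hS.conj_mem B hB g, isRankOnePair_conjBy r g⟩

lemma rs_unipotent_mem {A B : Subgroup G} (hA : A ∈ S) {C : Subgroup G}
    (hC : C ∈ unipotentSubgroups A B) : C ∈ S := by
  obtain ⟨x, -, rfl⟩ := hC
  exact hS.conj_mem A hA x

/-- If `(E, B)` is not a rank one pair then every conjugate of `B` by `E` commutes with `B`. -/
lemma rs_conj_commute {E B : Subgroup G} (hE : E ∈ S) (hB : B ∈ S) (hn : ¬ IsRankOnePair E B)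
    {e : G} (he : e ∈ E) : ⁅conjBy B e, B⁆ = ⊥ := by
  rcases hS.pair E hE B hB with h | h | h
  · rw [conjBy_of_commutes fun b hb => commutator_eq_bot_iff.1 h e he b hb]
    exact rs_self_commute hS hB
  · exact absurd h hn
  · rw [commutator_eq_bot_iff]
    intro x hx b hb
    rw [mem_conjBy] at hx
    have hc : ⁅e, e⁻¹ * x * e⁆ ∈ ⁅E, B⁆ := Subgroup.commutator_mem_commutator he hx
    have h1 := h.2.1 _ hc b (Subgroup.mem_sup_right hb)
    have h2 := rs_comm hS hB hx hb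
    have ex : x = ⁅e, e⁻¹ * x * e⁆ * (e⁻¹ * x * e) := by rw [commutatorElement_def]; group
    rw [ex]
    exact Commute.mul_left h1 h2

/-- An element of `E ∈ S` acting on `B` as a non-identity element of a partner `A` forces
`E` to be a unipotent subgroup of `⟨A, B⟩`. -/
lemma rs_mem_unipotent_of_conj {A B E : Subgroup G} (hB : B ∈ S) (hE : E ∈ S)
    (hAB : IsRankOnePair A B) {a e : G} (ha : a ∈ A) (ha1 : a ≠ 1) (he : e ∈ E)
    (heq : conjBy B e = conjBy B a) : E ∈ unipotentSubgroups A B := by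
  have hr : IsRankOnePair E B := by
    by_contra hn
    have h := rs_conj_commute hS hE hB hn he
    rw [heq] at h
    exact ha1 (r1_eq_one_of_normalizes hAB ha (unipotent_commute_eq hAB
      (unipotent_conj (r1_right_mem hAB) (Subgroup.mem_sup_left ha)) (r1_right_mem hAB) h))
  have he1 : e ≠ 1 := by
    rintro rfl
    rw [conjBy_one] at heq
    exact ha1 (r1_eq_one_of_normalizes hAB ha heq.symm)
  obtain ⟨b, hb, -, e1⟩ := r1_exists_conj hr he he1
  obtain ⟨b', hb', -, e2⟩ := r1_exists_conj hAB ha ha1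
  have : E = conjBy A (b⁻¹ * b') := by
    rw [← conjBy_conjBy, e2, ← heq, ← e1, conjBy_inv_conjBy]
  rw [this]
  exact unipotent_conj (unipotent_self A B) (Subgroup.mem_sup_right (mul_mem (inv_mem hb) hb'))

/-- A central translate of a root element is not a root element. -/
lemma rs_central_translate {A B E : Subgroup G} (hA : A ∈ S) (hB : B ∈ S) (hE : E ∈ S)
    (hAB : IsRankOnePair A B) {z a : G} (hzA : ∀ x ∈ A, z * x = x * z)
    (hzB : ∀ x ∈ B, z * x = x * z) (hz : z ≠ 1) (ha : a ∈ A) (ha1 : a ≠ 1) : z * a ∉ E := by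
  intro he
  have hBz : conjBy B (z * a) = conjBy B a := by
    have : z * a = a * z := hzA a ha
    rw [this, ← conjBy_conjBy, conjBy_of_commutes hzB]
  have hEΩ := rs_mem_unipotent_of_conj hS hB hE hAB ha ha1 he hBz
  have hEA : ¬ IsRankOnePair E A := by
    intro hr
    have : z * a = 1 := r1_eq_one_of_normalizes hr he
      (conjBy_of_commutes fun x hx => Commute.mul_left (hzA x hx) (rs_comm hS hA ha hx))
    rw [mul_eq_one_iff_eq_inv] at this
    exact ha1 (r1_eq_one_of_normalizes hAB ha (conjBy_of_commutes fun x hx => by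
      have h1 := hzB x hx
      rw [this] at h1
      exact (Commute.inv_left_iff.1 h1)))
  by_cases hEq : E = A
  · rw [hEq] at he
    have hzmem : z ∈ A := by
      have := mul_mem he (inv_mem ha)
      simpa [mul_assoc] using this
    exact hz (r1_eq_one_of_normalizes hAB hzmem (conjBy_of_commutes hzB))
  · exact hEA (unipotent_isRankOnePair hAB hEΩ (unipotent_self A B) hEq)

/-- Trivial intersection property. -/
lemma rs_ti {A B : Subgroup G} (hA : A ∈ S) (hP : HasPartner S A) (hB : B ∈ S)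
    (h : A ⊓ B ≠ ⊥) : A = B := by
  obtain ⟨D, hD, r⟩ := hP
  obtain ⟨d, ⟨hdA, hdB⟩, hd1⟩ := (Subgroup.bot_or_exists_ne_one (A ⊓ B)).resolve_left h
  refine unipotent_inf_eq r (unipotent_self A D)
    (rs_mem_unipotent_of_conj hS hD hB r hdA hd1 hdB rfl) h

lemma rs_ti_of_mem {A B : Subgroup G} (hA : A ∈ S) (hP : HasPartner S A) (hB : B ∈ S) {x : G}
    (hxA : x ∈ A) (hxB : x ∈ B) (hx : x ≠ 1) : A = B := by
  refine rs_ti hS hA hP hB fun h => hx ?_
  have : x ∈ A ⊓ B := ⟨hxA, hxB⟩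
  rwa [h, Subgroup.mem_bot] at this

/-- A pair with commutator subgroup in `S` is in the commutator case. -/
lemma rs_cc_of_mem {A B : Subgroup G} (hA : A ∈ S) (hB : B ∈ S) (hR : ⁅A, B⁆ ∈ S) :
    RootCommutatorCase S A B := by
  rcases hS.pair A hA B hB with h | h | h
  · exact absurd (h ▸ hR) (rs_not_bot_mem hS)
  · exfalso
    have hnorm : ∀ a ∈ A, conjBy ⁅A, B⁆ a = ⁅A, B⁆ := by
      have key : ∀ a ∈ A, conjBy ⁅A, B⁆ a ≤ ⁅A, B⁆ := by
        intro a ha
        rw [conjBy, Subgroup.map_le_iff_le_comap, Subgroup.commutator_le]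
        intro x hx y hy
        rw [Subgroup.mem_comap]
        have : (MulAut.conj a).toMonoidHom ⁅x, y⁆ = ⁅a * x, y⁆ * ⁅a, y⁆⁻¹ := by
          simp [commutatorElement_def, mul_assoc]
        rw [this]
        exact mul_mem (Subgroup.commutator_mem_commutator (mul_mem ha hx) hy)
          (inv_mem (Subgroup.commutator_mem_commutator ha hy))
      intro a ha
      refine le_antisymm (key a ha) ?_
      have := conjBy_le (g := a) (key a⁻¹ (inv_mem ha))
      rwa [conjBy_conjBy_inv] at this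
    have hn : ¬ IsRankOnePair A ⁅A, B⁆ := by
      intro hr
      obtain ⟨a, ha, ha1⟩ := rs_exists_ne_one hS hA
      exact ha1 (r1_eq_one_of_normalizes hr ha (hnorm a ha))
    have hn' : ¬ IsRankOnePair ⁅A, B⁆ A := fun hr => hn (r1_symm hr)
    obtain ⟨a, ha, ha1⟩ := rs_exists_ne_one hS hA
    obtain ⟨b, hb, hb1⟩ := rs_exists_ne_one hS hB
    have hr : conjBy A ⁅a, b⁆ = A := by
      refine unipotent_commute_eq h (unipotent_conj (unipotent_self A B) ?_) (unipotent_self A B)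
        (rs_conj_commute hS hR hA hn' (Subgroup.commutator_mem_commutator ha hb))
      exact Subgroup.commutator_le_sup _ _ (Subgroup.commutator_mem_commutator ha hb)
    have hx : conjBy A (b * a⁻¹ * b⁻¹) = A := by
      have e : b * a⁻¹ * b⁻¹ = a⁻¹ * ⁅a, b⁆ := by rw [commutatorElement_def]; group
      rw [e, ← conjBy_conjBy, hr, conjBy_of_mem (inv_mem ha)]
    have hne : conjBy A b ≠ A := fun e => hb1 (r1_eq_one_of_normalizes (r1_symm h) hb e)
    have hpair := unipotent_isRankOnePair h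
      (unipotent_conj (unipotent_self A B) (Subgroup.mem_sup_right hb)) (unipotent_self A B) hne
    have := r1_eq_one_of_normalizes hpair (conj_mem_conjBy (inv_mem ha)) hx
    exact ha1 (by simpa using this)
  · exact h

end

section CommutatorCase

variable {A B : Subgroup G}

lemma cc_mem (h : RootCommutatorCase S A B) : ⁅A, B⁆ ∈ S := h.1

lemma cc_central_left (h : RootCommutatorCase S A B) {c x : G} (hc : c ∈ ⁅A, B⁆) (hx : x ∈ A) :
    c * x = x * c := h.2.1 c hc x (Subgroup.mem_sup_left hx)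

lemma cc_central_right (h : RootCommutatorCase S A B) {c x : G} (hc : c ∈ ⁅A, B⁆) (hx : x ∈ B) :
    c * x = x * c := h.2.1 c hc x (Subgroup.mem_sup_right hx)

lemma cc_mul_right (h : RootCommutatorCase S A B) {a b b' : G} (ha : a ∈ A) (hb : b ∈ B)
    (hb' : b' ∈ B) : ⁅a, b * b'⁆ = ⁅a, b⁆ * ⁅a, b'⁆ := by
  have h1 := cc_central_right h (Subgroup.commutator_mem_commutator ha hb') hb
  calc ⁅a, b * b'⁆ = ⁅a, b⁆ * (b * ⁅a, b'⁆ * b⁻¹) := by
        simp only [commutatorElement_def]; group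
    _ = _ := by rw [← h1]; group

lemma cc_mul_left (h : RootCommutatorCase S A B) {a a' b : G} (ha : a ∈ A) (ha' : a' ∈ A)
    (hb : b ∈ B) : ⁅a * a', b⁆ = ⁅a', b⁆ * ⁅a, b⁆ := by
  have h1 := cc_central_left h (Subgroup.commutator_mem_commutator ha' hb) ha
  calc ⁅a * a', b⁆ = (a * ⁅a', b⁆ * a⁻¹) * ⁅a, b⁆ := by
        simp only [commutatorElement_def]; group
    _ = _ := by rw [← h1]; group

lemma cc_inv_right (h : RootCommutatorCase S A B) {a b : G} (ha : a ∈ A) (hb : b ∈ B) :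
    ⁅a, b⁻¹⁆ = ⁅a, b⁆⁻¹ := by
  rw [eq_inv_iff_mul_eq_one, ← cc_mul_right h ha (inv_mem hb) hb, inv_mul_cancel]
  simp [commutatorElement_def]

lemma cc_inv_left (h : RootCommutatorCase S A B) {a b : G} (ha : a ∈ A) (hb : b ∈ B) :
    ⁅a⁻¹, b⁆ = ⁅a, b⁆⁻¹ := by
  rw [eq_inv_iff_mul_eq_one, ← cc_mul_left h ha (inv_mem ha) hb, mul_inv_cancel]
  simp [commutatorElement_def]

lemma cc_surj (h : RootCommutatorCase S A B) {a : G} (ha : a ∈ A) (ha1 : a ≠ 1) {c : G}
    (hc : c ∈ ⁅A, B⁆) : ∃ b ∈ B, ⁅a, b⁆ = c := by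
  rw [← h.2.2.1 a ha ha1] at hc
  induction hc using Subgroup.closure_induction with
  | mem x hx => obtain ⟨b, hb, rfl⟩ := hx; exact ⟨b, hb, by simp [commutatorElement_def]⟩
  | one => exact ⟨1, one_mem _, by simp [commutatorElement_def]⟩
  | mul x y _ _ ihx ihy =>
    obtain ⟨b, hb, rfl⟩ := ihx
    obtain ⟨b', hb', rfl⟩ := ihy
    exact ⟨b * b', mul_mem hb hb', cc_mul_right h ha hb hb'⟩
  | inv x _ ih =>
    obtain ⟨b, hb, rfl⟩ := ih
    exact ⟨b⁻¹, inv_mem hb, cc_inv_right h ha hb⟩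

lemma cc_surj' (h : RootCommutatorCase S A B) {b : G} (hb : b ∈ B) (hb1 : b ≠ 1) {c : G}
    (hc : c ∈ ⁅A, B⁆) : ∃ a ∈ A, ⁅a, b⁆ = c := by
  rw [← h.2.2.2 b hb hb1] at hc
  induction hc using Subgroup.closure_induction with
  | mem x hx => obtain ⟨a, ha, rfl⟩ := hx; exact ⟨a, ha, by simp [commutatorElement_def]⟩
  | one => exact ⟨1, one_mem _, by simp [commutatorElement_def]⟩
  | mul x y hx hy ihx ihy =>
    obtain ⟨a, ha, rfl⟩ := ihx
    obtain ⟨a', ha', rfl⟩ := ihy
    exact ⟨a' * a, mul_mem ha' ha, cc_mul_left h ha' ha hb⟩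
  | inv x _ ih =>
    obtain ⟨a, ha, rfl⟩ := ih
    exact ⟨a⁻¹, inv_mem ha, cc_inv_left h ha hb⟩

lemma cc_symm (h : RootCommutatorCase S A B) : RootCommutatorCase S B A := by
  have e : ⁅B, A⁆ = ⁅A, B⁆ := Subgroup.commutator_comm _ _
  refine ⟨e ▸ h.1, fun c hc x hx => h.2.1 c (e ▸ hc) x (sup_comm A B ▸ hx), ?_, ?_⟩
  · intro b hb hb1
    rw [e, ← h.2.2.2 b hb hb1]
    refine le_antisymm ((Subgroup.closure_le _).2 ?_) ((Subgroup.closure_le _).2 ?_) <;>
      rintro _ ⟨a, ha, rfl⟩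
    · have := inv_mem (Subgroup.subset_closure (k := (fun a : G => a * b * a⁻¹ * b⁻¹) '' (A : Set G))
        ⟨a, ha, rfl⟩)
      simpa [mul_assoc] using this
    · have := inv_mem (Subgroup.subset_closure (k := (fun a : G => b * a * b⁻¹ * a⁻¹) '' (A : Set G))
        ⟨a, ha, rfl⟩)
      simpa [mul_assoc] using this
  · intro a ha ha1
    rw [e, ← h.2.2.1 a ha ha1]
    refine le_antisymm ((Subgroup.closure_le _).2 ?_) ((Subgroup.closure_le _).2 ?_) <;>
      rintro _ ⟨b, hb, rfl⟩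
    · have := inv_mem (Subgroup.subset_closure (k := (fun b : G => a * b * a⁻¹ * b⁻¹) '' (B : Set G))
        ⟨b, hb, rfl⟩)
      simpa [mul_assoc] using this
    · have := inv_mem (Subgroup.subset_closure (k := (fun b : G => b * a * b⁻¹ * a⁻¹) '' (B : Set G))
        ⟨b, hb, rfl⟩)
      simpa [mul_assoc] using this

variable (hS : IsRootSubgroupSet S) (hA : A ∈ S) (h : RootCommutatorCase S A B)
include hS hA h

lemma cc_commute_left : ∀ x ∈ A ⊔ ⁅A, B⁆, ∀ y ∈ A ⊔ ⁅A, B⁆, x * y = y * x := by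
  intro x hx y hy
  rw [Subgroup.sup_eq_closure] at hx hy
  have hgen : ∀ u ∈ (A : Set G) ∪ (⁅A, B⁆ : Subgroup G),
      ∀ v ∈ (A : Set G) ∪ (⁅A, B⁆ : Subgroup G), Commute u v := by
    rintro u (hu | hu) v (hv | hv)
    · exact rs_comm hS hA hu hv
    · exact (cc_central_left h hv hu).symm
    · exact cc_central_left h hu hv
    · exact rs_comm hS h.1 hu hv
  induction hx, hy using Subgroup.closure_induction₂ with
  | mem u v hu hv => exact hgen u hu v hv
  | one_left v _ => simp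
  | one_right v _ => simp
  | mul_left u v w _ _ _ h1 h2 => exact Commute.mul_left h1 h2
  | mul_right u v w _ _ _ h1 h2 => exact Commute.mul_right h1 h2
  | inv_left u v _ _ h1 => exact Commute.inv_left h1
  | inv_right u v _ _ h1 => exact Commute.inv_right h1

lemma cc_mem_sup {x : G} (hx : x ∈ A ⊔ ⁅A, B⁆) :
    ∃ a ∈ A, ∃ c ∈ ⁅A, B⁆, x = c * a := by
  rw [Subgroup.sup_eq_closure] at hx
  induction hx using Subgroup.closure_induction with
  | mem u hu =>
    rcases hu with hu | hu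
    · exact ⟨u, hu, 1, one_mem _, (one_mul u).symm⟩
    · exact ⟨1, one_mem _, u, hu, (mul_one u).symm⟩
  | one => exact ⟨1, one_mem _, 1, one_mem _, (one_mul 1).symm⟩
  | mul u v _ _ ihu ihv =>
    obtain ⟨a, ha, c, hc, rfl⟩ := ihu
    obtain ⟨a', ha', c', hc', rfl⟩ := ihv
    refine ⟨a * a', mul_mem ha ha', c * c', mul_mem hc hc', ?_⟩
    calc c * a * (c' * a') = c * (a * c') * a' := by group
      _ = c * (c' * a) * a' := by rw [cc_central_left h hc' ha]
      _ = _ := by group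
  | inv u _ ih =>
    obtain ⟨a, ha, c, hc, rfl⟩ := ih
    refine ⟨a⁻¹, inv_mem ha, c⁻¹, inv_mem hc, ?_⟩
    rw [mul_inv_rev, cc_central_left h (inv_mem hc) (inv_mem ha)]

/-- every element of `A ⊔ ⁅A, B⁆` outside `⁅A, B⁆` lies in a `B`-conjugate of `A` -/
lemma cc_mem_conj {a c : G} (ha : a ∈ A) (ha1 : a ≠ 1) (hc : c ∈ ⁅A, B⁆) :
    ∃ b ∈ B, c * a = b * a * b⁻¹ := by
  obtain ⟨b, hb, e⟩ := cc_surj h ha ha1 (inv_mem hc)
  refine ⟨b, hb, ?_⟩
  have : c = ⁅a, b⁆⁻¹ := by rw [e, inv_inv]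
  rw [this, commutatorElement_def]; group

lemma cc_conj_le {b : G} (hb : b ∈ B) : conjBy A b ≤ A ⊔ ⁅A, B⁆ := by
  intro x hx
  rw [mem_conjBy] at hx
  have e : x = ⁅b⁻¹ * x * b, b⁆⁻¹ * (b⁻¹ * x * b) := by rw [commutatorElement_def]; group
  rw [e]
  exact mul_mem (Subgroup.mem_sup_right (inv_mem (Subgroup.commutator_mem_commutator hx hb)))
    (Subgroup.mem_sup_left hx)

lemma cc_conjBy_comm {b : G} (hb : b ∈ B) : conjBy ⁅A, B⁆ b = ⁅A, B⁆ :=
  conjBy_of_commutes fun _ hc => (cc_central_right h hc hb).symm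

variable (hP : HasPartner S A)
include hP

lemma cc_inf : A ⊓ ⁅A, B⁆ = ⊥ := by
  by_contra hne
  have e := rs_ti hS hA hP h.1 hne
  apply rs_not_bot_mem hS
  have : ⁅A, B⁆ = ⊥ := by
    rw [commutator_eq_bot_iff]
    intro a ha b hb
    rw [e] at ha
    exact cc_central_right h ha hb
  exact this ▸ h.1

lemma cc_injective {a b : G} (ha : a ∈ A) (ha1 : a ≠ 1) (hb : b ∈ B) (e : ⁅a, b⁆ = 1) :
    b = 1 := by
  by_contra hb1
  have hcomm : a * b = b * a := commutatorElement_eq_one_iff_mul_comm.1 e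
  have hAb : conjBy A b = A := (rs_ti_of_mem hS hA hP (hS.conj_mem A hA b) ha
    (mem_conjBy.2 (by rw [mul_assoc, hcomm, inv_mul_cancel_left]; exact ha)) ha1).symm
  apply hS.ne_bot _ h.1
  rw [eq_bot_iff, ← cc_inf hS hA h hP]
  refine le_inf ?_ le_rfl
  intro c hc
  obtain ⟨a', ha', rfl⟩ := cc_surj' h hb hb1 hc
  rw [commutatorElement_def, mul_assoc, mul_assoc]
  refine mul_mem ha' ?_
  have := conj_mem_conjBy (g := b) (inv_mem ha')
  rw [hAb] at this
  simpa [mul_assoc] using this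

lemma cc_eq_of_le {E : Subgroup G} (hE : E ∈ S) (hle : E ≤ ⁅A, B⁆) : E = ⁅A, B⁆ := by
  have hEne := hS.ne_bot E hE
  have hinf : E ⊓ ⁅A, B⁆ ≠ ⊥ := by rwa [inf_of_le_left hle]
  obtain ⟨D, hD, r⟩ := hP
  rcases hS.pair ⁅A, B⁆ h.1 D hD with hc | hc | hc
  · exfalso
    obtain ⟨a, ha, ha1⟩ := rs_exists_ne_one hS hA
    obtain ⟨e, he, he1⟩ := rs_exists_ne_one hS hE
    obtain ⟨b, hb, eb⟩ := cc_mem_conj hS hA h ha ha1 (hle he)
    exact rs_central_translate hS hA hD (hS.conj_mem A hA b) r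
      (fun x hx => cc_central_left h (hle he) hx)
      (fun x hx => commutator_eq_bot_iff.1 hc e (hle he) x hx) he1 ha ha1
      (eb ▸ conj_mem_conjBy ha)
  · exact (rs_ti hS h.1 ⟨D, hD, hc⟩ hE (by rwa [inf_comm])).symm
  · rcases hS.pair E hE D hD with hd | hd | hd
    · exfalso
      obtain ⟨e, he, he1⟩ := rs_exists_ne_one hS hE
      obtain ⟨d, hd', hd1⟩ := rs_exists_ne_one hS hD
      exact he1 (cc_injective hS hD (cc_symm hc) ⟨A, hA, r1_symm r⟩ hd' hd1 (hle he)
        (commutatorElement_eq_one_iff_mul_comm.2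
          (commutator_eq_bot_iff.1 hd e he d hd').symm))
    · exact rs_ti hS hE ⟨D, hD, hd⟩ h.1 hinf
    · refine le_antisymm hle fun c hcR => ?_
      obtain ⟨d, hd', hd1⟩ := rs_exists_ne_one hS hD
      obtain ⟨e, he, he1⟩ := rs_exists_ne_one hS hE
      have hsub : ⁅⁅A, B⁆, D⁆ = ⁅E, D⁆ :=
        (hc.2.2.1 e (hle he) he1).symm.trans (hd.2.2.1 e he he1)
      have hmem : ⁅d, c⁆ ∈ ⁅D, E⁆ := by
        rw [Subgroup.commutator_comm D E, ← hsub, Subgroup.commutator_comm]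
        exact Subgroup.commutator_mem_commutator hd' hcR
      obtain ⟨e', he', ee⟩ := cc_surj (cc_symm hd) hd' hd1 hmem
      have h1 : ⁅d, c * e'⁻¹⁆ = 1 := by
        rw [cc_mul_right (cc_symm hc) hd' hcR (inv_mem (hle he')),
          cc_inv_right (cc_symm hc) hd' (hle he'), ee, mul_inv_cancel]
      have := cc_injective hS hD (cc_symm hc) ⟨A, hA, r1_symm r⟩ hd' hd1
        (mul_mem hcR (inv_mem (hle he'))) h1
      rw [mul_inv_eq_one] at this
      exact this ▸ he'

theorem cc_members : membersIn S (A ⊔ ⁅A, B⁆) =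
    (fun b : G => conjBy A b) '' (B : Set G) ∪ {⁅A, B⁆} := by
  ext E
  constructor
  · rintro ⟨hE, hle⟩
    by_cases hER : E ≤ ⁅A, B⁆
    · exact Or.inr (cc_eq_of_le hS hA h hP hE hER)
    obtain ⟨e, he, heR⟩ := SetLike.not_le_iff_exists.1 hER
    obtain ⟨a, ha, c, hc, rfl⟩ := cc_mem_sup hS hA h (hle he)
    have ha1 : a ≠ 1 := by rintro rfl; exact heR (by rwa [mul_one])
    obtain ⟨b, hb, eb⟩ := cc_mem_conj hS hA h ha ha1 hc
    refine Or.inl ⟨b, hb, ?_⟩
    refine rs_ti_of_mem hS (hS.conj_mem A hA b) (rs_hasPartner_conj hS hP b) hE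
      (eb ▸ conj_mem_conjBy ha) he ?_
    rintro e1
    exact heR (by rw [e1]; exact one_mem _)
  · rintro (⟨b, hb, rfl⟩ | rfl)
    · exact ⟨hS.conj_mem A hA b, cc_conj_le hS hA h hb⟩
    · exact ⟨h.1, le_sup_right⟩

theorem cc_partition : IsSubgroupPartition (A ⊔ ⁅A, B⁆) (membersIn S (A ⊔ ⁅A, B⁆)) := by
  refine ⟨fun C hC => hC.2, fun x hx hx1 => ?_, ?_⟩
  · obtain ⟨a, ha, c, hc, rfl⟩ := cc_mem_sup hS hA h hx
    by_cases ha1 : a = 1
    · exact ⟨⁅A, B⁆, ⟨h.1, le_sup_right⟩, by rwa [ha1, mul_one]⟩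
    · obtain ⟨b, hb, eb⟩ := cc_mem_conj hS hA h ha ha1 hc
      exact ⟨conjBy A b, ⟨hS.conj_mem A hA b, cc_conj_le hS hA h hb⟩, eb ▸ conj_mem_conjBy ha⟩
  · intro C hC D hD hne
    by_contra hinf
    rw [cc_members hS hA h hP] at hC hD
    rcases hC with ⟨b, hb, rfl⟩ | rfl
    · exact hne (rs_ti hS (hS.conj_mem A hA b) (rs_hasPartner_conj hS hP b)
        (by rcases hD with ⟨b', -, rfl⟩ | rfl; exacts [hS.conj_mem A hA b', h.1]) hinf)
    · rcases hD with ⟨b, hb, rfl⟩ | rfl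
      · rw [inf_comm] at hinf
        exact hne (rs_ti hS (hS.conj_mem A hA b) (rs_hasPartner_conj hS hP b) h.1 hinf).symm
      · exact hne rfl

theorem cc_linePartner : A ∈ linePartners S ⁅A, B⁆ := by
  refine ⟨⟨hA, fun e => ?_, ?_⟩, ?_⟩
  · have := cc_inf hS hA h hP
    rw [← e, inf_idem] at this
    exact hS.ne_bot A hA this
  · exact commutator_eq_bot_iff.2 fun c hc a ha => cc_central_left h hc ha
  · rw [sup_comm]; exact cc_partition hS hA h hP

end CommutatorCase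

section Lines

variable (hS : IsRootSubgroupSet S)
include hS

/-- A member through a product of commuting root elements inherits a partner. -/
lemma rs_product_partner {A B D E : Subgroup G} (hA : A ∈ S) (hB : B ∈ S) (hD : D ∈ S)
    (hE : E ∈ S) (hAB : ⁅A, B⁆ = ⊥) (hAD : IsRankOnePair A D) (hBD : ¬ IsRankOnePair B D)
    {a b : G} (ha : a ∈ A) (ha1 : a ≠ 1) (hb : b ∈ B) (he : a * b ∈ E) :
    IsRankOnePair E D := by
  by_contra hn
  have h1 := rs_conj_commute hS hE hD hn he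
  rw [← conjBy_conjBy] at h1
  have hbA : conjBy A b = A := conjBy_of_commutes fun x hx =>
    (commutator_eq_bot_iff.1 hAB x hx b hb).symm
  have hD2 : IsRankOnePair A (conjBy D b) := by
    have := isRankOnePair_conjBy hAD b
    rwa [hbA] at this
  have h2 := rs_conj_commute hS hB hD hBD hb
  obtain ⟨c, hc, -, ec⟩ := r1_exists_conj hD2 ha ha1
  rw [← ec] at h1
  have hcD : conjBy D c = D :=
    conjBy_of_commutes fun x hx => commutator_eq_bot_iff.1 h2 c hc x hx
  rw [← hcD, conjBy_commute_iff] at h1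
  exact r1_not_commute hAD h1

end Lines

end CfsgLib.RootSub
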