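/-
A chain of two commutator pairs generates a nilpotent group.
-/
import Cfsg.Agent.Lib.RootSub.RootSet

set_option autoImplicit false

namespace CfsgLib.RootSub

open Cfsg
open scoped commutatorElement

variable {G : Type*} [Group G]

/-- Commutators with a join, modulo a normalized subgroup. -/
lemma comm_sup_le {U V W Q : Subgroup G} (hQ : ∀ x ∈ U ⊔ V, ∀ q ∈ Q, x * q * x⁻¹ ∈ Q)
    (h1 : ⁅U, W⁆ ≤ Q) (h2 : ⁅V, W⁆ ≤ Q) : ⁅U ⊔ V, W⁆ ≤ Q := by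
  let K : Subgroup G :=
    { carrier := {x | x ∈ U ⊔ V ∧ ∀ w ∈ W, ⁅x, w⁆ ∈ Q}
      one_mem' := ⟨one_mem _, fun w _ => by simp [commutatorElement_def]⟩
      mul_mem' := fun {x y} hx hy => ⟨mul_mem hx.1 hy.1, fun w hw => by
        rw [show ⁅x * y, w⁆ = x * ⁅y, w⁆ * x⁻¹ * ⁅x, w⁆ by simp only [commutatorElement_def]; group]
        exact mul_mem (hQ x hx.1 _ (hy.2 w hw)) (hx.2 w hw)⟩
      inv_mem' := fun {x} hx => ⟨inv_mem hx.1, fun w hw => by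
        rw [show ⁅x⁻¹, w⁆ = x⁻¹ * ⁅x, w⁆⁻¹ * x⁻¹⁻¹ by simp only [commutatorElement_def]; group]
        exact hQ _ (inv_mem hx.1) _ (inv_mem (hx.2 w hw))⟩ }
  have hK : U ⊔ V ≤ K := sup_le
    (fun x hx => ⟨Subgroup.mem_sup_left hx, fun w hw => h1 (Subgroup.commutator_mem_commutator hx hw)⟩)
    (fun x hx => ⟨Subgroup.mem_sup_right hx, fun w hw => h2 (Subgroup.commutator_mem_commutator hx hw)⟩)
  rw [Subgroup.commutator_le]
  exact fun x hx w hw => (hK hx).2 w hw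

/-- A subgroup central in an overgroup is normalized by it. -/
lemma normalized_of_commutator_le {P Q : Subgroup G} (h : ⁅Q, P⁆ ≤ Q) :
    ∀ x ∈ P, ∀ q ∈ Q, x * q * x⁻¹ ∈ Q := fun x hx q hq => by
  rw [show x * q * x⁻¹ = ⁅q, x⁆⁻¹ * q by simp only [commutatorElement_def]; group]
  exact mul_mem (inv_mem (h (Subgroup.commutator_mem_commutator hq hx))) hq

lemma mem_centralizer_of_commute {U : Subgroup G} {x : G}
    (h : ∀ u ∈ U, u * x = x * u) : x ∈ Subgroup.centralizer (U : Set G) :=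
  Subgroup.mem_centralizer_iff.2 h

lemma commutator_sup_eq_bot {U V W : Subgroup G} (h1 : ⁅U, W⁆ = ⊥) (h2 : ⁅V, W⁆ = ⊥) :
    ⁅U ⊔ V, W⁆ = ⊥ :=
  le_bot_iff.1 (comm_sup_le (fun x _ q hq => by simp [Subgroup.mem_bot.1 hq]) h1.le h2.le)

lemma commutator_bot_mono {U V U' V' : Subgroup G} (h : ⁅U, V⁆ = ⊥) (hu : U' ≤ U) (hv : V' ≤ V) :
    ⁅U', V'⁆ = ⊥ :=
  le_bot_iff.1 (le_trans (Subgroup.commutator_mono hu hv) h.le)

variable {S : Set (Subgroup G)} (hS : IsRootSubgroupSet S)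
include hS

lemma cc_le_sup_conj {A B : Subgroup G} (h : RootCommutatorCase S A B) {b : G} (hb : b ∈ B)
    (hb1 : b ≠ 1) : ⁅A, B⁆ ≤ A ⊔ conjBy A b := by
  rw [← h.2.2.2 b hb hb1, Subgroup.closure_le]
  rintro _ ⟨a, ha, rfl⟩
  show a * b * a⁻¹ * b⁻¹ ∈ A ⊔ conjBy A b
  rw [show a * b * a⁻¹ * b⁻¹ = a * (b * a⁻¹ * b⁻¹) by group]
  exact mul_mem (Subgroup.mem_sup_left ha) (Subgroup.mem_sup_right (conj_mem_conjBy (inv_mem ha)))

lemma chain_not_rankOne {A B C : Subgroup G} (hA : A ∈ S) (hC : C ∈ S)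
    (hAB : RootCommutatorCase S A B) (hAC : ⁅A, C⁆ = ⊥) {b : G} (hb : b ∈ B) :
    ¬ IsRankOnePair A (conjBy C b⁻¹) := by
  intro r
  obtain ⟨a, ha, ha1⟩ := rs_exists_ne_one hS hA
  have hz : b⁻¹ * a⁻¹ * b⁻¹⁻¹ ∈ conjBy A b⁻¹ := conj_mem_conjBy (inv_mem ha)
  have hAA : ∀ x ∈ A, b⁻¹ * a⁻¹ * b⁻¹⁻¹ * x = x * (b⁻¹ * a⁻¹ * b⁻¹⁻¹) := fun x hx =>
    cc_commute_left hS hA hAB _ (cc_conj_le hS hA hAB (inv_mem hb) hz) _ (Subgroup.mem_sup_left hx)
  have hAC' : ∀ x ∈ conjBy C b⁻¹, b⁻¹ * a⁻¹ * b⁻¹⁻¹ * x = x * (b⁻¹ * a⁻¹ * b⁻¹⁻¹) := fun x hx =>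
    commutator_eq_bot_iff.1 ((conjBy_commute_iff _).2 hAC) _ hz x hx
  refine rs_central_translate hS hA (hS.conj_mem C hC _) hAB.1 r hAA hAC'
    (fun e => ha1 (inv_eq_one.1 (conj_eq_one_iff.1 e))) ha
    ha1 ?_
  rw [hAA a ha, show a * (b⁻¹ * a⁻¹ * b⁻¹⁻¹) = ⁅a, b⁻¹⁆ by simp [commutatorElement_def, mul_assoc]]
  exact Subgroup.commutator_mem_commutator ha (inv_mem hb)

omit hS in
lemma pair_class_two {A C : Subgroup G} (hA : ⁅A, A⁆ = ⊥) (hC : ⁅C, C⁆ = ⊥)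
    (h : ⁅⁅A, C⁆, A ⊔ C⁆ = ⊥) : ⁅A ⊔ C, A ⊔ C⁆ ≤ ⁅A, C⁆ := by
  have hn : ∀ {U : Subgroup G}, U ≤ A ⊔ C → ∀ x ∈ U, ∀ q ∈ ⁅A, C⁆, x * q * x⁻¹ ∈ ⁅A, C⁆ :=
    fun {U} hU x hx => normalized_of_commutator_le (h.le.trans bot_le) x (hU hx)
  refine comm_sup_le (hn le_rfl) ?_ ?_
  · rw [Subgroup.commutator_comm]
    exact comm_sup_le (hn le_rfl) (hA.le.trans bot_le) (Subgroup.commutator_comm C A).le
  · rw [Subgroup.commutator_comm]
    exact comm_sup_le (hn le_rfl) le_rfl (hC.le.trans bot_le)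

lemma chain_pair {A C : Subgroup G} (hA : A ∈ S) (hC : C ∈ S) (h : ¬ IsRankOnePair A C) :
    ⁅⁅A, C⁆, A ⊔ C⁆ = ⊥ ∧ ⁅⁅A ⊔ C, A ⊔ C⁆, A ⊔ C⁆ = ⊥ := by
  have h1 : ⁅⁅A, C⁆, A ⊔ C⁆ = ⊥ := by
    rcases hS.pair A hA C hC with h' | h' | h'
    · rw [h', Subgroup.commutator_bot_left]
    · exact absurd h' h
    · exact commutator_eq_bot_iff.2 h'.2.1
  exact ⟨h1, commutator_bot_mono h1
    (pair_class_two (rs_self_commute hS hA) (rs_self_commute hS hC) h1) le_rfl⟩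

omit hS in
lemma isMulCommutative_iff_commutator {U : Subgroup G} : IsMulCommutative ↥U ↔ ⁅U, U⁆ = ⊥ := by
  rw [commutator_eq_bot_iff]
  exact ⟨fun h a ha b hb => mul_comm_of_commutative h ha hb,
    fun h => ⟨⟨fun a b => Subtype.ext (h a a.2 b b.2)⟩⟩⟩

/-- The chain theorem. -/
theorem chain_nilpotent {A B C : Subgroup G} (hA : A ∈ S) (hB : B ∈ S) (hC : C ∈ S)
    (hABm : ⁅A, B⁆ ∈ S) (hBCm : ⁅B, C⁆ ∈ S) (hAC : ⁅A, C⁆ = ⊥) {b : G} (hb : b ∈ B) (hb1 : b ≠ 1) :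
    ((IsMulCommutative ↥(A ⊔ conjBy C b⁻¹) ∧ IsMulCommutative ↥(conjBy A b⁻¹ ⊔ C)) ∨
      ((¬ IsMulCommutative ↥(A ⊔ conjBy C b⁻¹) ∧
          ⁅⁅A ⊔ conjBy C b⁻¹, A ⊔ conjBy C b⁻¹⁆, A ⊔ conjBy C b⁻¹⁆ = ⊥) ∧
        (¬ IsMulCommutative ↥(conjBy A b⁻¹ ⊔ C) ∧
          ⁅⁅conjBy A b⁻¹ ⊔ C, conjBy A b⁻¹ ⊔ C⁆, conjBy A b⁻¹ ⊔ C⁆ = ⊥))) ∧
    ⁅A ⊔ conjBy C b⁻¹, conjBy A b⁻¹ ⊔ C⁆ = ⊥ ∧
    (∀ r ∈ A ⊔ B ⊔ C, conjBy ((A ⊔ conjBy C b⁻¹) ⊔ (conjBy A b⁻¹ ⊔ C)) r =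
      (A ⊔ conjBy C b⁻¹) ⊔ (conjBy A b⁻¹ ⊔ C)) ∧
    ((A ⊔ conjBy C b⁻¹) ⊔ (conjBy A b⁻¹ ⊔ C)) ⊔ B = A ⊔ B ⊔ C ∧
    Group.IsNilpotent ↥(A ⊔ B ⊔ C) := by
  have hAB := rs_cc_of_mem hS hA hB hABm
  have hCB : RootCommutatorCase S C B := cc_symm (rs_cc_of_mem hS hB hC hBCm)
  have hCA := commutator_bot_symm hAC
  have hbi : b⁻¹ ∈ B := inv_mem hb
  have hbi1 : b⁻¹ ≠ 1 := inv_ne_one.2 hb1
  obtain ⟨R₁, hR₁⟩ : ∃ R, R = ⁅A, B⁆ := ⟨_, rfl⟩
  obtain ⟨T, hT⟩ : ∃ T, T = ⁅C, B⁆ := ⟨_, rfl⟩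
  obtain ⟨A', hA'⟩ : ∃ A', A' = conjBy A b⁻¹ := ⟨_, rfl⟩
  obtain ⟨C', hC'⟩ : ∃ C', C' = conjBy C b⁻¹ := ⟨_, rfl⟩
  rw [← hA', ← hC']
  have hA'S : A' ∈ S := hA' ▸ hS.conj_mem A hA _
  have hC'S : C' ∈ S := hC' ▸ hS.conj_mem C hC _
  have hA'le : A' ≤ A ⊔ R₁ := by rw [hA', hR₁]; exact cc_conj_le hS hA hAB hbi
  have hC'le : C' ≤ C ⊔ T := by rw [hC', hT]; exact cc_conj_le hS hC hCB hbi
  have hR₁le : R₁ ≤ A ⊔ A' := by rw [hA', hR₁]; exact cc_le_sup_conj hS hAB hbi hbi1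
  have hTle : T ≤ C ⊔ C' := by rw [hC', hT]; exact cc_le_sup_conj hS hCB hbi hbi1
  have hAR : ⁅A ⊔ R₁, A ⊔ R₁⁆ = ⊥ :=
    hR₁ ▸ commutator_eq_bot_iff.2 (cc_commute_left hS hA hAB)
  have hCT : ⁅C ⊔ T, C ⊔ T⁆ = ⊥ :=
    hT ▸ commutator_eq_bot_iff.2 (cc_commute_left hS hC hCB)
  have hA'C' : ⁅A', C'⁆ = ⊥ := by rw [hA', hC']; exact (conjBy_commute_iff _).2 hAC
  -- the equivalence
  have key : ∀ x ∈ B, x ≠ 1 → (⁅conjBy A x, C⁆ = ⊥ ↔ ⁅R₁, C⁆ = ⊥) := by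
    intro x hx hx1
    constructor
    · intro h
      exact commutator_bot_mono (commutator_sup_eq_bot hAC h)
        (hR₁ ▸ cc_le_sup_conj hS hAB hx hx1) le_rfl
    · intro h
      exact commutator_bot_mono (commutator_sup_eq_bot hAC h)
        (hR₁ ▸ cc_conj_le hS hA hAB hx) le_rfl
  have hequiv : ⁅A, C'⁆ = ⊥ ↔ ⁅A', C⁆ = ⊥ := by
    rw [hA', hC', key b⁻¹ hbi hbi1, ← key b hb hb1, ← conjBy_commute_iff b, conjBy_conjBy_inv]
  have hXn : ¬ IsRankOnePair A C' := hC' ▸ chain_not_rankOne hS hA hC hAB hAC hb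
  have hYn : ¬ IsRankOnePair A' C := fun r =>
    chain_not_rankOne hS hC hA hCB hCA hb (hA' ▸ r1_symm r)
  obtain ⟨hX1, hX2⟩ := chain_pair hS hA hC'S hXn
  obtain ⟨hY1, hY2⟩ := chain_pair hS hA'S hC hYn
  have hab : ∀ {U V : Subgroup G}, U ∈ S → V ∈ S → (IsMulCommutative ↥(U ⊔ V) ↔ ⁅U, V⁆ = ⊥) := by
    intro U V hU hV
    rw [isMulCommutative_iff_commutator]
    refine ⟨fun h => commutator_bot_mono h le_sup_left le_sup_right, fun h => ?_⟩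
    refine commutator_sup_eq_bot (commutator_bot_symm (commutator_sup_eq_bot (rs_self_commute hS hU)
      (commutator_bot_symm h))) (commutator_bot_symm (commutator_sup_eq_bot h (rs_self_commute hS hV)))
  -- the elementwise commuting of `X` and `Y`
  have hXY : ⁅A ⊔ C', A' ⊔ C⁆ = ⊥ := by
    refine commutator_sup_eq_bot (commutator_bot_symm (commutator_sup_eq_bot ?_ hCA))
      (commutator_bot_symm (commutator_sup_eq_bot hA'C' ?_))
    · exact commutator_bot_mono hAR hA'le le_sup_left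
    · exact commutator_bot_mono hCT le_sup_left hC'le
  obtain ⟨M, hM⟩ : ∃ M, M = (A ⊔ C') ⊔ (A' ⊔ C) := ⟨_, rfl⟩
  rw [← hM]
  have mA : A ≤ M := hM ▸ le_sup_left.trans le_sup_left
  have mC' : C' ≤ M := hM ▸ le_sup_right.trans le_sup_left
  have mA' : A' ≤ M := hM ▸ le_sup_left.trans le_sup_right
  have mC : C ≤ M := hM ▸ le_sup_right.trans le_sup_right
  have mR : R₁ ≤ M := hR₁le.trans (sup_le mA mA')
  have mT : T ≤ M := hTle.trans (sup_le mC mC')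
  have hMeq : M = (A ⊔ R₁) ⊔ (C ⊔ T) := le_antisymm
    (hM ▸ sup_le (sup_le (le_sup_left.trans le_sup_left) (hC'le.trans le_sup_right))
      (sup_le (hA'le.trans le_sup_left) (le_sup_left.trans le_sup_right)))
    (sup_le (sup_le mA mR) (sup_le mC mT))
  obtain ⟨P, hP⟩ : ∃ P, P = A ⊔ B ⊔ C := ⟨_, rfl⟩
  rw [← hP]
  have pA : A ≤ P := hP ▸ le_sup_left.trans le_sup_left
  have pB : B ≤ P := hP ▸ le_sup_right.trans le_sup_left
  have pC : C ≤ P := hP ▸ le_sup_right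
  have pR : R₁ ≤ P := by
    rw [hR₁, Subgroup.commutator_le]
    exact fun u hu v hv =>
      mul_mem (mul_mem (mul_mem (pA hu) (pB hv)) (inv_mem (pA hu))) (inv_mem (pB hv))
  have pT : T ≤ P := by
    rw [hT, Subgroup.commutator_le]
    exact fun u hu v hv =>
      mul_mem (mul_mem (mul_mem (pC hu) (pB hv)) (inv_mem (pC hu))) (inv_mem (pB hv))
  have hMP : M ≤ P := hMeq ▸ sup_le (sup_le pA pR) (sup_le pC pT)
  -- normality
  have hBM : ∀ x ∈ B, conjBy M x ≤ M := by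
    intro x hx
    conv_lhs => rw [hMeq]
    rw [conjBy_sup, conjBy_sup, conjBy_sup, hR₁, hT, cc_conjBy_comm hS hA hAB hx,
      cc_conjBy_comm hS hC hCB hx, ← hR₁, ← hT]
    exact sup_le (sup_le ((cc_conj_le hS hA hAB hx).trans (hR₁ ▸ sup_le mA mR)) mR)
      (sup_le ((cc_conj_le hS hC hCB hx).trans (hT ▸ sup_le mC mT)) mT)
  have hnorm : P ≤ Subgroup.normalizer (M : Set G) := by
    rw [hP]
    refine sup_le (sup_le (mA.trans Subgroup.le_normalizer) fun x hx => ?_)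
      (mC.trans Subgroup.le_normalizer)
    rw [← conjBy_eq_iff_mem_normalizer]
    refine le_antisymm (hBM x hx) ?_
    have := conjBy_le (g := x) (hBM x⁻¹ (inv_mem hx))
    rwa [conjBy_conjBy_inv] at this
  have hnormM : ∀ x ∈ P, ∀ q ∈ M, x * q * x⁻¹ ∈ M := fun x hx q hq =>
    (Subgroup.mem_normalizer_iff.1 (hnorm hx) q).1 hq
  refine ⟨?_, hXY, fun r hr => conjBy_eq_iff_mem_normalizer.2 (hnorm hr), ?_, ?_⟩
  · by_cases h : ⁅A, C'⁆ = ⊥
    · exact Or.inl ⟨(hab hA hC'S).2 h, (hab hA'S hC).2 (hequiv.1 h)⟩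
    · exact Or.inr ⟨⟨fun h' => h ((hab hA hC'S).1 h'), hX2⟩,
        fun h' => h (hequiv.2 ((hab hA'S hC).1 h')), hY2⟩
  · exact le_antisymm (sup_le hMP pB)
      (hP ▸ sup_le (sup_le (mA.trans le_sup_left) le_sup_right) (mC.trans le_sup_left))
  -- nilpotency
  obtain ⟨Z, hZ⟩ : ∃ Z, Z = ⁅A, C'⁆ ⊔ ⁅A', C⁆ := ⟨_, rfl⟩
  have hZM : ⁅Z, M⁆ = ⊥ := by
    have hc : ∀ {U V W : Subgroup G}, U ≤ W → V ≤ W → ⁅U, V⁆ ≤ W := fun {U V W} hu hv => by
      rw [Subgroup.commutator_le]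
      exact fun u hu' v hv' =>
        mul_mem (mul_mem (mul_mem (hu hu') (hv hv')) (inv_mem (hu hu'))) (inv_mem (hv hv'))
    rw [hZ, hM]
    refine commutator_sup_eq_bot ?_ ?_
    · refine commutator_bot_symm (commutator_sup_eq_bot (commutator_bot_symm hX1) ?_)
      exact commutator_bot_symm (commutator_bot_mono hXY (hc le_sup_left le_sup_right) le_rfl)
    · refine commutator_bot_symm (commutator_sup_eq_bot ?_ (commutator_bot_symm hY1))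
      exact commutator_bot_mono hXY le_rfl (hc le_sup_left le_sup_right)
  have hMM : ⁅M, M⁆ ≤ Z := by
    have hn : ∀ x ∈ M, ∀ q ∈ Z, x * q * x⁻¹ ∈ Z := normalized_of_commutator_le (hZM.le.trans bot_le)
    have hX : ⁅A ⊔ C', A ⊔ C'⁆ ≤ Z :=
      (pair_class_two (rs_self_commute hS hA) (rs_self_commute hS hC'S) hX1).trans (hZ ▸ le_sup_left)
    have hY : ⁅A' ⊔ C, A' ⊔ C⁆ ≤ Z :=
      (pair_class_two (rs_self_commute hS hA'S) (rs_self_commute hS hC) hY1).trans (hZ ▸ le_sup_right)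
    have hn' : ∀ x ∈ (A ⊔ C') ⊔ (A' ⊔ C), ∀ q ∈ Z, x * q * x⁻¹ ∈ Z := hM ▸ hn
    rw [hM]
    refine comm_sup_le hn' ?_ ?_ <;> rw [Subgroup.commutator_comm]
    · exact comm_sup_le hn' hX ((commutator_bot_symm hXY).le.trans bot_le)
    · exact comm_sup_le hn' (hXY.le.trans bot_le) hY
  obtain ⟨Q₁, hQ₁⟩ : ∃ Q, Q = ⁅R₁, T⁆ := ⟨_, rfl⟩
  obtain ⟨D, hD⟩ : ∃ D, D = ⁅A, T⁆ ⊔ ⁅R₁, C⁆ ⊔ Q₁ := ⟨_, rfl⟩
  have hDZ : D ≤ Z := by
    rw [hD, hQ₁]
    exact sup_le (sup_le ((Subgroup.commutator_mono mA mT).trans hMM)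
      ((Subgroup.commutator_mono mR mC).trans hMM)) ((Subgroup.commutator_mono mR mT).trans hMM)
  have hDM : ⁅D, M⁆ = ⊥ := commutator_bot_mono hZM hDZ le_rfl
  have hQ₁D : Q₁ ≤ D := hD ▸ le_sup_right
  have hR₁B : ∀ r ∈ R₁, ∀ x ∈ B, x * r * x⁻¹ = r := fun r hr x hx => by
    rw [← cc_central_right hAB (hR₁ ▸ hr) hx, mul_inv_cancel_right]
  have hTB : ∀ r ∈ T, ∀ x ∈ B, x * r * x⁻¹ = r := fun r hr x hx => by
    rw [← cc_central_right hCB (hT ▸ hr) hx, mul_inv_cancel_right]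
  have hQ₁B : ⁅Q₁, B⁆ = ⊥ := by
    have hle : B ≤ Subgroup.centralizer ((R₁ : Set G) ∪ (T : Set G)) := fun x hx => by
      rw [Subgroup.mem_centralizer_iff]
      rintro u (hu | hu)
      · exact (mul_inv_eq_iff_eq_mul.1 (hR₁B u hu x hx)).symm
      · exact (mul_inv_eq_iff_eq_mul.1 (hTB u hu x hx)).symm
    rw [Subgroup.commutator_eq_bot_iff_le_centralizer, hQ₁, Subgroup.commutator_le]
    intro u hu v hv
    rw [Subgroup.mem_centralizer_iff]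
    intro x hx
    have h1 : Commute x u := (Subgroup.mem_centralizer_iff.1 (hle hx) u (Or.inl hu)).symm
    have h2 : Commute x v := (Subgroup.mem_centralizer_iff.1 (hle hx) v (Or.inr hv)).symm
    exact ((h1.mul_right h2).mul_right h1.inv_right).mul_right h2.inv_right
  have hQ₁P : ⁅Q₁, P⁆ = ⊥ := by
    rw [hP]
    refine commutator_bot_symm (commutator_sup_eq_bot (commutator_sup_eq_bot ?_
      (commutator_bot_symm hQ₁B)) ?_) <;>
      exact commutator_bot_symm (commutator_bot_mono hDM hQ₁D (by assumption))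
  have hQ₁n : ∀ x ∈ P, ∀ q ∈ Q₁, x * q * x⁻¹ ∈ Q₁ := normalized_of_commutator_le (hQ₁P.le.trans bot_le)
  have hconjA : ∀ a ∈ A, ∀ x ∈ B, ∃ r ∈ R₁, x * a * x⁻¹ = a * r := fun a ha x hx => by
    refine ⟨a⁻¹ * (x * a * x⁻¹), ?_, by group⟩
    rw [show a⁻¹ * (x * a * x⁻¹) = ⁅a⁻¹, x⁆ by simp only [commutatorElement_def]; group, hR₁]
    exact Subgroup.commutator_mem_commutator (inv_mem ha) hx
  have hconjC : ∀ a ∈ C, ∀ x ∈ B, ∃ r ∈ T, x * a * x⁻¹ = a * r := fun a ha x hx => by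
    refine ⟨a⁻¹ * (x * a * x⁻¹), ?_, by group⟩
    rw [show a⁻¹ * (x * a * x⁻¹) = ⁅a⁻¹, x⁆ by simp only [commutatorElement_def]; group, hT]
    exact Subgroup.commutator_mem_commutator (inv_mem ha) hx
  have hDB : ⁅D, B⁆ ≤ Q₁ := by
    have hDP : D ≤ P := by
      rw [hD, hQ₁]
      refine sup_le (sup_le ?_ ?_) ?_ <;>
      · rw [Subgroup.commutator_le]
        exact fun u hu v hv => by
          apply mul_mem (mul_mem (mul_mem ?_ ?_) (inv_mem ?_)) (inv_mem ?_) <;>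
            first | exact pA hu | exact pR hu | exact pT hv | exact pC hv
    have hpair : ∀ {U V : Subgroup G}, U ≤ M → V ≤ M → (∀ u ∈ U, ∀ v ∈ V, ∀ x ∈ B,
        ∃ q ∈ Q₁, x * ⁅u, v⁆ * x⁻¹ = q * ⁅u, v⁆) → ⁅⁅U, V⁆, B⁆ ≤ Q₁ := by
      intro U V hU hV h
      have hUV : ⁅U, V⁆ ≤ Z := (Subgroup.commutator_mono hU hV).trans hMM
      have hUVP : ⁅U, V⁆ ≤ P := by
        rw [Subgroup.commutator_le]
        exact fun u hu v hv => mul_mem (mul_mem (mul_mem (hMP (hU hu)) (hMP (hV hv)))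
          (inv_mem (hMP (hU hu)))) (inv_mem (hMP (hV hv)))
      let K : Subgroup G :=
        { carrier := {z | z ∈ P ∧ ∀ x ∈ B, ⁅z, x⁆ ∈ Q₁}
          one_mem' := ⟨one_mem _, fun w _ => by simp [commutatorElement_def]⟩
          mul_mem' := fun {z w} hz hw => ⟨mul_mem hz.1 hw.1, fun x hx => by
            rw [show ⁅z * w, x⁆ = z * ⁅w, x⁆ * z⁻¹ * ⁅z, x⁆ by
              simp only [commutatorElement_def]; group]
            exact mul_mem (hQ₁n z hz.1 _ (hw.2 x hx)) (hz.2 x hx)⟩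
          inv_mem' := fun {z} hz => ⟨inv_mem hz.1, fun x hx => by
            rw [show ⁅z⁻¹, x⁆ = z⁻¹ * ⁅z, x⁆⁻¹ * z⁻¹⁻¹ by simp only [commutatorElement_def]; group]
            exact hQ₁n _ (inv_mem hz.1) _ (inv_mem (hz.2 x hx))⟩ }
      have hK : ⁅U, V⁆ ≤ K := by
        rw [Subgroup.commutator_le]
        intro u hu v hv
        refine ⟨hUVP (Subgroup.commutator_mem_commutator hu hv), fun x hx => ?_⟩
        obtain ⟨q, hq, e⟩ := h u hu v hv x hx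
        rw [show ⁅⁅u, v⁆, x⁆ = ⁅u, v⁆ * (x * ⁅u, v⁆ * x⁻¹)⁻¹ by
          rw [commutatorElement_def ⁅u, v⁆ x]; group, e, mul_inv_rev, mul_inv_cancel_left]
        exact inv_mem hq
      rw [Subgroup.commutator_le]
      exact fun z hz x hx => (hK hz).2 x hx
    have hcen : ∀ {q y : G}, q ∈ Q₁ → y ∈ P → y * q * y⁻¹ = q := fun {q y} hq hy => by
      rw [← commutator_eq_bot_iff.1 hQ₁P q hq y hy, mul_inv_cancel_right]
    rw [hD]
    refine comm_sup_le (fun z hz => hQ₁n z (hDP (hD ▸ hz))) (comm_sup_le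
      (fun z hz => hQ₁n z (hDP (hD ▸ Subgroup.mem_sup_left hz))) ?_ ?_) (hQ₁B.le.trans bot_le)
    · refine hpair mA mT fun a ha t ht x hx => ?_
      obtain ⟨r, hr, e⟩ := hconjA a ha x hx
      have hq : ⁅r, t⁆ ∈ Q₁ := hQ₁ ▸ Subgroup.commutator_mem_commutator hr ht
      refine ⟨_, hq, ?_⟩
      calc x * ⁅a, t⁆ * x⁻¹ = ⁅x * a * x⁻¹, x * t * x⁻¹⁆ := by
            simp only [commutatorElement_def]; group
        _ = ⁅a * r, t⁆ := by rw [e, hTB t ht x hx]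
        _ = a * ⁅r, t⁆ * a⁻¹ * ⁅a, t⁆ := by simp only [commutatorElement_def]; group
        _ = _ := by rw [hcen hq (pA ha)]
    · refine hpair mR mC fun r hr c hc x hx => ?_
      obtain ⟨t, ht, e⟩ := hconjC c hc x hx
      have hq : ⁅r, t⁆ ∈ Q₁ := hQ₁ ▸ Subgroup.commutator_mem_commutator hr ht
      refine ⟨_, hq, ?_⟩
      calc x * ⁅r, c⁆ * x⁻¹ = ⁅x * r * x⁻¹, x * c * x⁻¹⁆ := by
            simp only [commutatorElement_def]; group
        _ = ⁅r, c * t⁆ := by rw [e, hR₁B r hr x hx]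
        _ = ⁅r, c⁆ * (c * ⁅r, t⁆ * c⁻¹) := by simp only [commutatorElement_def]; group
        _ = ⁅r, c⁆ * ⁅r, t⁆ := by rw [hcen hq (pC hc)]
        _ = _ := (commutator_eq_bot_iff.1 hQ₁P _ hq _ (hMP
            (mul_mem (mul_mem (mul_mem (mR hr) (mC hc)) (inv_mem (mR hr))) (inv_mem (mC hc))))).symm
  have hDP' : ⁅D, P⁆ ≤ Q₁ := by
    rw [Subgroup.commutator_comm, hP]
    refine comm_sup_le (fun z hz => hQ₁n z (hP ▸ hz)) (comm_sup_le
      (fun z hz => hQ₁n z (hP ▸ Subgroup.mem_sup_left hz)) ?_ ?_) ?_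
    · rw [Subgroup.commutator_comm]; exact (commutator_bot_mono hDM le_rfl mA).le.trans bot_le
    · rw [Subgroup.commutator_comm]; exact hDB
    · rw [Subgroup.commutator_comm]; exact (commutator_bot_mono hDM le_rfl mC).le.trans bot_le
  have hDn : ∀ x ∈ P, ∀ q ∈ D, x * q * x⁻¹ ∈ D := normalized_of_commutator_le (hDP'.trans hQ₁D)
  obtain ⟨E, hE⟩ : ∃ E, E = R₁ ⊔ T ⊔ D := ⟨_, rfl⟩
  have hEP : ⁅E, P⁆ ≤ D := by
    have hR : ⁅R₁, P⁆ ≤ D := by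
      rw [Subgroup.commutator_comm, hP]
      refine comm_sup_le (fun z hz => hDn z (hP ▸ hz)) (comm_sup_le
        (fun z hz => hDn z (hP ▸ Subgroup.mem_sup_left hz)) ?_ ?_) ?_
      · exact (commutator_bot_mono hAR le_sup_left le_sup_right).le.trans bot_le
      · rw [Subgroup.commutator_comm]
        exact (commutator_eq_bot_iff.2 fun u hu v hv => cc_central_right hAB (hR₁ ▸ hu) hv).le.trans
          bot_le
      · rw [Subgroup.commutator_comm, hD]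
        exact le_sup_right.trans le_sup_left
    have hT' : ⁅T, P⁆ ≤ D := by
      rw [Subgroup.commutator_comm, hP]
      refine comm_sup_le (fun z hz => hDn z (hP ▸ hz)) (comm_sup_le
        (fun z hz => hDn z (hP ▸ Subgroup.mem_sup_left hz)) ?_ ?_) ?_
      · rw [hD]
        exact le_sup_left.trans le_sup_left
      · rw [Subgroup.commutator_comm]
        exact (commutator_eq_bot_iff.2 fun u hu v hv => cc_central_right hCB (hT ▸ hu) hv).le.trans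
          bot_le
      · exact (commutator_bot_mono hCT le_sup_left le_sup_right).le.trans bot_le
    have hDP₀ : D ≤ P := hDZ.trans (by
      rw [hZ]
      refine sup_le ?_ ?_ <;>
      · rw [Subgroup.commutator_le]
        intro u hu v hv
        apply mul_mem (mul_mem (mul_mem ?_ ?_) (inv_mem ?_)) (inv_mem ?_) <;>
          first | exact hMP (mA hu) | exact hMP (mA' hu) | exact hMP (mC hv) | exact hMP (mC' hv))
    rw [hE]
    exact comm_sup_le (fun z hz => hDn z (sup_le (sup_le pR pT) hDP₀ hz))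
      (comm_sup_le (fun z hz => hDn z (sup_le pR pT hz)) hR hT') (hDP'.trans hQ₁D)
  have hEn : ∀ x ∈ P, ∀ q ∈ E, x * q * x⁻¹ ∈ E :=
    normalized_of_commutator_le (hEP.trans (hE ▸ le_sup_right))
  have hAP : ⁅A, P⁆ ≤ E := by
    rw [Subgroup.commutator_comm, hP]
    refine comm_sup_le (fun z hz => hEn z (hP ▸ hz)) (comm_sup_le
      (fun z hz => hEn z (hP ▸ Subgroup.mem_sup_left hz)) ?_ ?_) ?_
    · exact (rs_self_commute hS hA).le.trans bot_le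
    · rw [Subgroup.commutator_comm, ← hR₁, hE]
      exact le_sup_left.trans le_sup_left
    · exact hCA.le.trans bot_le
  have hCP : ⁅C, P⁆ ≤ E := by
    rw [Subgroup.commutator_comm, hP]
    refine comm_sup_le (fun z hz => hEn z (hP ▸ hz)) (comm_sup_le
      (fun z hz => hEn z (hP ▸ Subgroup.mem_sup_left hz)) ?_ ?_) ?_
    · exact hAC.le.trans bot_le
    · rw [Subgroup.commutator_comm, ← hT, hE]
      exact le_sup_right.trans le_sup_left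
    · exact (rs_self_commute hS hC).le.trans bot_le
  have hMP' : ⁅M, P⁆ ≤ E := by
    have hDE : D ≤ E := hE ▸ le_sup_right
    have hEsub : ∀ {U : Subgroup G}, U ≤ E → ⁅U, P⁆ ≤ E := fun {U} hU =>
      ((Subgroup.commutator_mono hU le_rfl).trans hEP).trans hDE
    rw [hMeq]
    exact comm_sup_le (fun z hz => hEn z (hMP (hMeq ▸ hz)))
      (comm_sup_le (fun z hz => hEn z (sup_le pA pR hz)) hAP
        (hEsub (hE ▸ le_sup_left.trans le_sup_left)))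
      (comm_sup_le (fun z hz => hEn z (sup_le pC pT hz)) hCP
        (hEsub (hE ▸ le_sup_right.trans le_sup_left)))
  have hBP : ⁅B, P⁆ ≤ M := by
    rw [Subgroup.commutator_comm, hP]
    refine comm_sup_le (fun z hz => hnormM z (hP ▸ hz)) (comm_sup_le
      (fun z hz => hnormM z (hP ▸ Subgroup.mem_sup_left hz)) ?_ ?_) ?_
    · rw [← hR₁]; exact mR
    · exact (rs_self_commute hS hB).le.trans bot_le
    · rw [← hT]; exact mT
  have hPP : ⁅P, P⁆ ≤ M := by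
    have hEM : E ≤ M := by
      rw [hE, hD, hQ₁]
      refine sup_le (sup_le mR mT) (sup_le (sup_le ?_ ?_) ?_) <;>
      · rw [Subgroup.commutator_le]
        intro u hu v hv
        apply mul_mem (mul_mem (mul_mem ?_ ?_) (inv_mem ?_)) (inv_mem ?_) <;>
          first | exact mA hu | exact mR hu | exact mC hv | exact mT hv
    calc ⁅P, P⁆ = ⁅A ⊔ B ⊔ C, P⁆ := by rw [← hP]
      _ ≤ M := comm_sup_le (fun z hz => hnormM z (hP ▸ hz))
        (comm_sup_le (fun z hz => hnormM z (hP ▸ Subgroup.mem_sup_left hz)) (hAP.trans hEM) hBP)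
        (hCP.trans hEM)
  refine Subgroup.isNilpotent_of_lowerCentralSeries_eq_bot (n := 5) (le_bot_iff.1 ?_)
  simp only [Subgroup.lowerCentralSeries_succ, Subgroup.lowerCentralSeries_zero]
  have m : ∀ {U V : Subgroup G}, U ≤ V → ⁅U, P⁆ ≤ ⁅V, P⁆ := fun h =>
    Subgroup.commutator_mono h le_rfl
  exact le_trans (m (m (m (m hPP)))) (le_trans (m (m (m hMP'))) (le_trans (m (m hEP))
    (le_trans (m hDP') hQ₁P.le)))

end CfsgLib.RootSub
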