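/-
The graph 𝓕(S): connectivity.
-/
import Cfsg.Agent.Lib.RootSub.RootSet

set_option autoImplicit false

namespace CfsgLib.RootSub

open Cfsg

variable {G : Type*} [Group G] {S : Set (Subgroup G)}

/-- Reachability in 𝓕(S). -/
abbrev FReach (S : Set (Subgroup G)) (A B : Subgroup G) : Prop := Relation.ReflTransGen (FAdj S) A B

lemma freach_symm {A B : Subgroup G} (h : FReach S A B) : FReach S B A := by
  induction h with
  | refl => exact .refl
  | tail _ h ih => exact .head ⟨h.2.1, h.1, r1_symm h.2.2⟩ ih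

lemma freach_two {A D B : Subgroup G} (hA : A ∈ S) (hD : D ∈ S) (hB : B ∈ S)
    (h1 : IsRankOnePair A D) (h2 : IsRankOnePair B D) : FReach S A B :=
  (Relation.ReflTransGen.single ⟨hA, hD, h1⟩).tail ⟨hD, hB, r1_symm h2⟩

lemma hasPartner_of_comp {A : Subgroup G}
    (h : ∃ A' ∈ componentOf (FAdj S) S A, A' ≠ A) : HasPartner S A := by
  obtain ⟨A', ⟨-, hr⟩, hne⟩ := h
  rcases hr.cases_head with e | ⟨X, hX, -⟩
  · exact absurd e.symm hne
  · exact ⟨X, hX.2.1, hX.2.2⟩

lemma componentOf_eq {A B : Subgroup G} (h : FReach S A B) :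
    componentOf (FAdj S) S A = componentOf (FAdj S) S B := by
  ext C
  exact ⟨fun hC => ⟨hC.1, (freach_symm h).trans hC.2⟩, fun hC => ⟨hC.1, h.trans hC.2⟩⟩

variable (hS : IsRootSubgroupSet S)
include hS

/-- Two commuting members with a product which is a root element are connected. -/
lemma rs_line_reach {A B E : Subgroup G} (hA : A ∈ S) (hB : B ∈ S) (hE : E ∈ S)
    (hAP : HasPartner S A) (hBP : HasPartner S B) (hAB : ⁅A, B⁆ = ⊥) {a b : G} (ha : a ∈ A)
    (ha1 : a ≠ 1) (hb : b ∈ B) (hb1 : b ≠ 1) (he : a * b ∈ E) : FReach S A B := by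
  obtain ⟨D, hD, r⟩ := hAP
  by_cases h1 : IsRankOnePair B D
  · exact freach_two hA hD hB r h1
  obtain ⟨D', hD', r'⟩ := hBP
  by_cases h2 : IsRankOnePair A D'
  · exact freach_two hA hD' hB h2 r'
  have e1 := rs_product_partner hS hA hB hD hE hAB r h1 ha ha1 hb he
  have e2 := rs_product_partner hS hB hA hD' hE (commutator_bot_symm hAB) r' h2 hb hb1 ha
    (commutator_eq_bot_iff.1 hAB a ha b hb ▸ he)
  exact (freach_two hA hD hE r e1).trans (freach_two hE hD' hB e2 r')

lemma rs_reach_conj {A E : Subgroup G} (hA : A ∈ S) (hAP : HasPartner S A) (hE : E ∈ S) {e : G}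
    (he : e ∈ E) : FReach S A (conjBy A e) := by
  rcases hS.pair A hA E hE with h | h | h
  · rw [conjBy_of_commutes fun a ha => (commutator_eq_bot_iff.1 h a ha e he).symm]
  · have := isRankOnePair_conjBy h e
    rw [conjBy_of_mem he] at this
    exact freach_two hA hE (hS.conj_mem A hA e) h this
  · by_cases hne : conjBy A e = A
    · rw [hne]
    obtain ⟨a, ha, ha1⟩ := rs_exists_ne_one hS hA
    have hmem : e * a * e⁻¹ ∈ conjBy A e := conj_mem_conjBy ha
    have hne1 : a * (e * a * e⁻¹) ≠ 1 := by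
      intro hc
      apply hne
      refine (rs_ti_of_mem hS hA hAP (hS.conj_mem A hA e) ha ?_ ha1).symm
      have := inv_mem hmem
      rwa [← (mul_eq_one_iff_eq_inv.1 hc)] at this
    have hsup : a * (e * a * e⁻¹) ∈ A ⊔ ⁅A, E⁆ :=
      mul_mem (Subgroup.mem_sup_left ha) (cc_conj_le hS hA h he hmem)
    obtain ⟨F, hF, hFm⟩ := (cc_partition hS hA h hAP).2.1 _ hsup hne1
    refine rs_line_reach hS hA (hS.conj_mem A hA e) hF.1 hAP (rs_hasPartner_conj hS hAP e) ?_ ha ha1
      hmem (by simpa using ha1) hFm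
    exact commutator_eq_bot_iff.2 fun x hx y hy =>
      cc_commute_left hS hA h x (Subgroup.mem_sup_left hx) y (cc_conj_le hS hA h he hy)

theorem rs_connected_of_class (hcl : IsConjClassOfSubgroups S) {A₀ : Subgroup G} (hA₀ : A₀ ∈ S)
    (hP : HasPartner S A₀) : IsConnectedFamily (FAdj S) S := by
  have hall : ∀ A ∈ S, HasPartner S A := by
    intro A hA
    obtain ⟨g, rfl⟩ := hcl.2 A₀ hA₀ A hA
    exact rs_hasPartner_conj hS hP g
  have key : ∀ g : G, ∀ A ∈ S, FReach S A (conjBy A g) := by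
    intro g
    let K : Subgroup G :=
      { carrier := {g | ∀ A ∈ S, FReach S A (conjBy A g)}
        one_mem' := fun A _ => by rw [conjBy_one]
        mul_mem' := fun {g h} hg hh A hA => by
          rw [← conjBy_conjBy]
          exact (hh A hA).trans (hg _ (hS.conj_mem A hA h))
        inv_mem' := fun {g} hg A hA => by
          have := hg (conjBy A g⁻¹) (hS.conj_mem A hA g⁻¹)
          rw [conjBy_conjBy_inv] at this
          exact freach_symm this }
    have : (⊤ : Subgroup G) ≤ K := by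
      rw [← hS.generates]
      exact iSup₂_le fun E hE e he A hA => rs_reach_conj hS hA (hall A hA) hE he
    exact this (Subgroup.mem_top g)
  intro A hA B hB
  obtain ⟨g, rfl⟩ := hcl.2 A hA B hB
  exact key g A hA

omit hS in
theorem rs_class_of_connected (hne : S.Nonempty) (hc : IsConnectedFamily (FAdj S) S) :
    IsConjClassOfSubgroups S := by
  refine ⟨hne, fun A hA B hB => ?_⟩
  induction hc A hA B hB with
  | refl => exact ⟨1, (conjBy_one A).symm⟩
  | tail _ h ih =>
    obtain ⟨g, hg⟩ := ih h.1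
    obtain ⟨x, -, hx⟩ := r1_right_mem h.2.2
    exact ⟨x * g, by rw [hx, hg, conjBy_conjBy]⟩

end CfsgLib.RootSub
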