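/-
Lines: commuting members whose products are root elements.
-/
import Cfsg.Agent.Lib.RootSub.RootSet

set_option autoImplicit false

namespace CfsgLib.RootSub

open Cfsg
open scoped commutatorElement

variable {G : Type*} [Group G] {S : Set (Subgroup G)} (hS : IsRootSubgroupSet S)
include hS

/-- The key lemma: if all products of `B` and `C` are root elements and `C` is not a partner
of a partner `B'` of `B`, then `B` moves along the line inside the commutator `⁅C, B'⁆`. -/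
theorem line_main {B B' C : Subgroup G} (hB : B ∈ S) (hB' : B' ∈ S) (hC : C ∈ S)
    (hBC : ⁅B, C⁆ = ⊥) (r : IsRankOnePair B B') (hn : ¬ IsRankOnePair C B')
    (hprod : ∀ c ∈ C, c ≠ 1 → ∀ b ∈ B, b ≠ 1 → ∃ E ∈ S, c * b ∈ E) :
    RootCommutatorCase S C B' ∧ RootCommutatorCase S B ⁅C, B'⁆ ∧ ⁅B, ⁅C, B'⁆⁆ = C := by
  have hCB : ∀ {c b : G}, c ∈ C → b ∈ B → c * b = b * c := fun hc hb =>
    (commutator_eq_bot_iff.1 hBC _ hb _ hc).symm
  have h1 : RootCommutatorCase S C B' := by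
    rcases hS.pair C hC B' hB' with h | h | h
    · exfalso
      obtain ⟨c, hc, hc1⟩ := rs_exists_ne_one hS hC
      obtain ⟨b, hb, hb1⟩ := rs_exists_ne_one hS hB
      obtain ⟨E, hE, he⟩ := hprod c hc hc1 b hb hb1
      exact rs_central_translate hS hB hB' hE r (fun x hx => hCB hc hx)
        (fun x hx => commutator_eq_bot_iff.1 h c hc x hx) hc1 hb hb1 he
    · exact absurd h hn
    · exact h
  obtain ⟨R, hR⟩ : ∃ R, R = ⁅C, B'⁆ := ⟨_, rfl⟩
  have hRS : R ∈ S := hR ▸ h1.1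
  have hRC : ∀ {x c : G}, x ∈ R → c ∈ C → x * c = c * x := fun hx hc =>
    cc_central_left h1 (hR ▸ hx) hc
  have hRB' : ∀ {x c : G}, x ∈ R → c ∈ B' → x * c = c * x := fun hx hc =>
    cc_central_right h1 (hR ▸ hx) hc
  have h2 : RootCommutatorCase S B R := by
    rcases hS.pair B hB R hRS with h | h | h
    · exfalso
      -- both `B` and `B'` would normalize `U = C ⊔ R`, and `B` centralizes it
      obtain ⟨x, hx, e⟩ := r1_right_mem r
      have hBZ : B ≤ Subgroup.centralizer ((C ⊔ R : Subgroup G) : Set G) := by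
        intro b hb
        rw [Subgroup.mem_centralizer_iff]
        intro u hu
        obtain ⟨c, hc, z, hz, rfl⟩ := cc_mem_sup hS hC h1 (hR ▸ hu)
        exact Commute.mul_left (commutator_eq_bot_iff.1 h b hb z (hR ▸ hz)).symm (hCB hc hb)
      have hnorm : B ⊔ B' ≤ Subgroup.normalizer ((C ⊔ R : Subgroup G) : Set G) := by
        refine sup_le (le_trans hBZ (Subgroup.centralizer_le_normalizer _)) fun y hy => ?_
        rw [← conjBy_eq_iff_mem_normalizer, hR]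
        have hle : ∀ y ∈ B', conjBy (C ⊔ ⁅C, B'⁆) y ≤ C ⊔ ⁅C, B'⁆ := fun y hy => by
          rw [conjBy_sup, cc_conjBy_comm hS hC h1 hy]
          exact sup_le (cc_conj_le hS hC h1 hy) le_sup_right
        refine le_antisymm (hle y hy) ?_
        have := conjBy_le (g := y) (hle y⁻¹ (inv_mem hy))
        rwa [conjBy_conjBy_inv] at this
      obtain ⟨c, hc, hc1⟩ := rs_exists_ne_one hS hC
      apply hS.ne_bot _ h1.1
      rw [commutator_eq_bot_iff]
      intro c hc y hy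
      rw [e, mem_conjBy] at hy
      have hn' := Subgroup.mem_normalizer_iff''.1 (hnorm hx) c
      have hcx := hn'.1 (Subgroup.mem_sup_left hc)
      have := (Subgroup.mem_centralizer_iff.1 (hBZ hy)) _ hcx
      calc c * y = x * (x⁻¹ * c * x * (x⁻¹ * y * x)) * x⁻¹ := by group
        _ = x * (x⁻¹ * y * x * (x⁻¹ * c * x)) * x⁻¹ := by rw [this]
        _ = y * c := by group
    · exfalso
      obtain ⟨c, hc, hc1⟩ := rs_exists_ne_one hS hC
      obtain ⟨ρ, hρ, hρ1⟩ := rs_exists_ne_one hS hRS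
      obtain ⟨b', hb', eb⟩ := cc_mem_conj hS hC h1 hc hc1 (hR ▸ hρ)
      have he : c * ρ ∈ conjBy C b' := by
        rw [← hRC hρ hc, eb]; exact conj_mem_conjBy hc
      exact rs_central_translate hS hRS hB (hS.conj_mem C hC b') (r1_symm h)
        (fun x hx => (hRC hx hc).symm) (fun x hx => hCB hc hx) hc1 hρ hρ1 he
    · exact h
  refine ⟨h1, hR ▸ h2, ?_⟩
  rw [← hR]
  have hle : C ≤ ⁅B, R⁆ := by
    intro c hc
    by_cases hc1 : c = 1
    · rw [hc1]; exact one_mem _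
    obtain ⟨y, hy, hy1⟩ := rs_exists_ne_one hS hB'
    obtain ⟨b, hb, hb1, e⟩ := r1_exists_conj (r1_symm r) hy hy1
    -- `e : conjBy B' b = conjBy B y`
    have hc2 : ∀ x ∈ B', (b⁻¹ * (y * c * y⁻¹) * b) * x = x * (b⁻¹ * (y * c * y⁻¹) * b) := by
      intro x hx
      have : b * x * b⁻¹ ∈ conjBy B y := e ▸ conj_mem_conjBy hx
      rw [mem_conjBy] at this
      have h3 := hCB hc this
      calc (b⁻¹ * (y * c * y⁻¹) * b) * x
          = b⁻¹ * y * (c * (y⁻¹ * (b * x * b⁻¹) * y)) * y⁻¹ * b := by group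
        _ = b⁻¹ * y * (y⁻¹ * (b * x * b⁻¹) * y * c) * y⁻¹ * b := by rw [h3]
        _ = _ := by group
    have hw : ⁅y, c⁆ ∈ R := by
      rw [hR, Subgroup.commutator_comm]; exact Subgroup.commutator_mem_commutator hy hc
    have ht : ⁅b⁻¹, ⁅y, c⁆⁆ ∈ ⁅B, R⁆ := Subgroup.commutator_mem_commutator (inv_mem hb) hw
    obtain ⟨t, htdef⟩ : ∃ t, t = ⁅b⁻¹, ⁅y, c⁆⁆ := ⟨_, rfl⟩
    rw [← htdef] at ht
    have hform : b⁻¹ * (y * c * y⁻¹) * b = ⁅y, c⁆ * (t * c) := by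
      have e1 : b⁻¹ * (y * c * y⁻¹) * b = (t * ⁅y, c⁆) * (b⁻¹ * c * b) := by
        rw [htdef]; simp only [commutatorElement_def]; group
      rw [e1, mul_assoc b⁻¹, hCB hc hb, inv_mul_cancel_left, cc_central_right h2 ht hw, mul_assoc]
    have hzB' : ∀ x ∈ B', (t * c) * x = x * (t * c) := by
      intro x hx
      have h3 : Commute (b⁻¹ * (y * c * y⁻¹) * b) x := hc2 x hx
      rw [hform] at h3
      have h4 : Commute (⁅y, c⁆⁻¹ * (⁅y, c⁆ * (t * c))) x :=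
        Commute.mul_left (Commute.inv_left (hRB' hw hx)) h3
      rwa [inv_mul_cancel_left] at h4
    have hzB : ∀ x ∈ B, (t * c) * x = x * (t * c) := fun x hx =>
      Commute.mul_left (cc_central_left h2 ht hx) (hCB hc hx)
    by_cases hz : t * c = 1
    · rw [(eq_inv_of_mul_eq_one_right hz)]
      exact inv_mem ht
    exfalso
    obtain ⟨b0, hb0, hb01⟩ := rs_exists_ne_one hS hB
    obtain ⟨r0, hr0, er⟩ := cc_mem_conj hS hB h2 hb0 hb01 ht
    obtain ⟨E, hE, he⟩ := hprod c⁻¹ (inv_mem hc) (inv_ne_one.2 hc1) b0 hb0 hb01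
    have hzr : ∀ x ∈ conjBy B r0, (t * c)⁻¹ * x = x * (t * c)⁻¹ := by
      intro x hx
      rw [mem_conjBy] at hx
      have hzr0 : Commute (t * c) r0 :=
        Commute.mul_left (cc_central_right h2 ht hr0) (hRC hr0 hc).symm
      have : Commute (t * c) (r0 * (r0⁻¹ * x * r0) * r0⁻¹) :=
        (hzr0.mul_right (hzB _ hx)).mul_right hzr0.inv_right
      rw [show r0 * (r0⁻¹ * x * r0) * r0⁻¹ = x by group] at this
      exact this.inv_left
    refine rs_central_translate hS (hS.conj_mem B hB r0) hB' hE (A := conjBy B r0) ?_ hzr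
      (fun x hx => Commute.inv_left (hzB' x hx)) (inv_ne_one.2 hz) (conj_mem_conjBy hb0)
      (by simpa using hb01) ?_
    · have h5 := isRankOnePair_conjBy r r0
      rwa [conjBy_of_commutes fun x hx => hRB' hr0 hx] at h5
    · have h6 : (t * c)⁻¹ * (r0 * b0 * r0⁻¹) = c⁻¹ * b0 := by
        rw [← er]; group
      rw [h6]; exact he
  exact (cc_eq_of_le hS hB h2 ⟨B', hB', r⟩ hC hle).symm

/-- Two different members of a line of the form `B ⊔ ⁅B, R⁆` generate it. -/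
theorem line_members_sup {B R : Subgroup G} (hB : B ∈ S) (hP : HasPartner S B)
    (h : RootCommutatorCase S B R) {C₁ C₂ : Subgroup G}
    (h1 : C₁ ∈ membersIn S (B ⊔ ⁅B, R⁆)) (h2 : C₂ ∈ membersIn S (B ⊔ ⁅B, R⁆)) (hne : C₁ ≠ C₂) :
    C₁ ⊔ C₂ = B ⊔ ⁅B, R⁆ := by
  have key : ∀ r ∈ R, ∀ r' ∈ R, r ≠ r' → conjBy B r ⊔ conjBy B r' = B ⊔ ⁅B, R⁆ := by
    intro r hr r' hr' hrr
    refine le_antisymm (sup_le (cc_conj_le hS hB h hr) (cc_conj_le hS hB h hr')) ?_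
    set s := r⁻¹ * r' with hs
    have hsR : s ∈ R := mul_mem (inv_mem hr) hr'
    have hs1 : s ≠ 1 := fun e => hrr (inv_mul_eq_one.1 e)
    have : B ⊔ ⁅B, R⁆ ≤ B ⊔ conjBy B s := by
      refine sup_le le_sup_left fun c hc => ?_
      obtain ⟨b, hb, rfl⟩ := cc_surj' h hsR hs1 hc
      have : ⁅b, s⁆ = b * (s * b⁻¹ * s⁻¹) := by rw [commutatorElement_def]; group
      rw [this]
      exact mul_mem (Subgroup.mem_sup_left hb) (Subgroup.mem_sup_right (conj_mem_conjBy (inv_mem hb)))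
    have h3 := conjBy_le (g := r) this
    rw [conjBy_sup, conjBy_sup, conjBy_conjBy, hs, mul_inv_cancel_left,
      cc_conjBy_comm hS hB h hr] at h3
    refine le_trans ?_ h3
    refine sup_le (fun b hb => ?_) le_sup_right
    obtain ⟨c, hc, e⟩ : ∃ c ∈ ⁅B, R⁆, b = c * (r * b * r⁻¹) :=
      ⟨⁅b, r⁆, Subgroup.commutator_mem_commutator hb hr, by rw [commutatorElement_def]; group⟩
    rw [e]
    exact mul_mem (Subgroup.mem_sup_right hc) (Subgroup.mem_sup_left (conj_mem_conjBy hb))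
  have key2 : ∀ r ∈ R, conjBy B r ⊔ ⁅B, R⁆ = B ⊔ ⁅B, R⁆ := by
    intro r hr
    refine le_antisymm (sup_le (cc_conj_le hS hB h hr) le_sup_right) (sup_le (fun b hb => ?_) le_sup_right)
    have : b = ⁅b, r⁆ * (r * b * r⁻¹) := by rw [commutatorElement_def]; group
    rw [this]
    exact mul_mem (Subgroup.mem_sup_right (Subgroup.commutator_mem_commutator hb hr))
      (Subgroup.mem_sup_left (conj_mem_conjBy hb))
  rw [cc_members hS hB h hP] at h1 h2
  rcases h1 with ⟨r, hr, rfl⟩ | rfl <;> rcases h2 with ⟨r', hr', rfl⟩ | rfl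
  · exact key r hr r' hr' fun e => hne (by rw [e])
  · exact key2 r hr
  · rw [sup_comm]; exact key2 r' hr'
  · exact absurd rfl hne

/-- In a line every member `C₂` is moved by a root subgroup fixing another member. -/
theorem line_fix {A B : Subgroup G} (hF : ∀ C ∈ S, HasPartner S C) (hA : A ∈ S)
    (hB : B ∈ linePartners S A) {C₂ : Subgroup G} (hC₂ : C₂ ∈ membersIn S (A ⊔ B))
    {B' : Subgroup G} (hB' : B' ∈ S) (r : IsRankOnePair C₂ B') :
    ∃ C₀ ∈ membersIn S (A ⊔ B), C₀ ≠ C₂ ∧ RootCommutatorCase S C₀ B' ∧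
      RootCommutatorCase S C₂ ⁅C₀, B'⁆ ∧ ⁅C₂, ⁅C₀, B'⁆⁆ = C₀ ∧ C₂ ⊔ C₀ = A ⊔ B := by
  obtain ⟨⟨hBS, hBA, hAB⟩, -, hcov, -⟩ := hB
  have hABc : ∀ x ∈ A ⊔ B, ∀ y ∈ A ⊔ B, x * y = y * x := by
    have : ∀ x ∈ A ⊔ B, ∀ y, (y ∈ A ∨ y ∈ B) → x * y = y * x := by
      intro x hx y hy
      have : A ⊔ B ≤ Subgroup.centralizer {y} := by
        rcases hy with hy | hy
        · exact sup_le (fun u hu => Subgroup.mem_centralizer_singleton_iff.2 (rs_comm hS hA hu hy))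
            (fun u hu => Subgroup.mem_centralizer_singleton_iff.2
              (commutator_eq_bot_iff.1 hAB y hy u hu).symm)
        · exact sup_le (fun u hu => Subgroup.mem_centralizer_singleton_iff.2
              (commutator_eq_bot_iff.1 hAB u hu y hy))
            (fun u hu => Subgroup.mem_centralizer_singleton_iff.2 (rs_comm hS hBS hu hy))
      exact Subgroup.mem_centralizer_singleton_iff.1 (this hx)
    intro x hx y hy
    have h2 : A ⊔ B ≤ Subgroup.centralizer {x} :=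
      sup_le (fun u hu => Subgroup.mem_centralizer_singleton_iff.2 (this x hx u (Or.inl hu)).symm)
        (fun u hu => Subgroup.mem_centralizer_singleton_iff.2 (this x hx u (Or.inr hu)).symm)
    exact (Subgroup.mem_centralizer_singleton_iff.1 (h2 hy)).symm
  have hcomm : ∀ {C D : Subgroup G}, C ≤ A ⊔ B → D ≤ A ⊔ B → ⁅C, D⁆ = ⊥ := fun hC hD =>
    commutator_eq_bot_iff.2 fun x hx y hy => hABc x (hC hx) y (hD hy)
  have hprod : ∀ {C D : Subgroup G}, C ∈ membersIn S (A ⊔ B) → D ∈ membersIn S (A ⊔ B) →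
      ∀ c ∈ C, c ≠ 1 → ∀ d ∈ D, d ≠ 1 → ∃ E ∈ S, c * d ∈ E := by
    intro C D hC hD c hc _ d hd _
    by_cases h1 : c * d = 1
    · exact ⟨A, hA, h1 ▸ one_mem _⟩
    obtain ⟨E, hE, he⟩ := hcov _ (mul_mem (hC.2 hc) (hD.2 hd)) h1
    exact ⟨E, hE.1, he⟩
  have hAm : A ∈ membersIn S (A ⊔ B) := ⟨hA, le_sup_left⟩
  have hBm : B ∈ membersIn S (A ⊔ B) := ⟨hBS, le_sup_right⟩
  -- for any member find another one which is not a partner of `P'`
  have hfind : ∀ P P' : Subgroup G, P ∈ membersIn S (A ⊔ B) → P' ∈ S → IsRankOnePair P P' →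
      ∃ C₀ ∈ membersIn S (A ⊔ B), C₀ ≠ P ∧ RootCommutatorCase S C₀ P' ∧
        RootCommutatorCase S P ⁅C₀, P'⁆ ∧ ⁅P, ⁅C₀, P'⁆⁆ = C₀ := by
    intro P P' hP hP' rP
    obtain ⟨Q, hQ, hQP⟩ : ∃ Q ∈ membersIn S (A ⊔ B), Q ≠ P := by
      by_cases h : A = P
      · exact ⟨B, hBm, h ▸ hBA⟩
      · exact ⟨A, hAm, h⟩
    suffices ∃ C₀ ∈ membersIn S (A ⊔ B), C₀ ≠ P ∧ ¬ IsRankOnePair C₀ P' by
      obtain ⟨C₀, hC₀, hne, hn⟩ := this
      obtain ⟨k1, k2, k3⟩ := line_main hS hP.1 hP' hC₀.1 (hcomm hP.2 hC₀.2) rP hn (hprod hC₀ hP)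
      exact ⟨C₀, hC₀, hne, k1, k2, k3⟩
    by_cases hQ' : IsRankOnePair Q P'
    swap
    · exact ⟨Q, hQ, hQP, hQ'⟩
    obtain ⟨c, hc, hc1⟩ := rs_exists_ne_one hS hP'
    obtain ⟨a, ha, ha1, ea⟩ := r1_exists_conj (r1_symm hQ') hc hc1
    obtain ⟨b, hb, hb1, eb⟩ := r1_exists_conj (r1_symm rP) hc hc1
    -- conjugates of `P'` by `a` and `b` commute
    have hcom : ⁅conjBy P' a, conjBy P' b⁆ = ⊥ := by
      rw [ea, eb, conjBy_commute_iff]
      exact hcomm hQ.2 hP.2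
    have hne1 : b⁻¹ * a ≠ 1 := by
      intro e
      rw [inv_mul_eq_one] at e
      subst e
      exact hQP (rs_ti_of_mem hS hQ.1 (hF _ hQ.1) hP.1 ha hb hb1)
    obtain ⟨E, hE, he⟩ := hcov _ (mul_mem (inv_mem (hP.2 hb)) (hQ.2 ha)) hne1
    have hcE : ⁅conjBy P' (b⁻¹ * a), P'⁆ = ⊥ := by
      rw [← conjBy_commute_iff b, conjBy_conjBy, mul_inv_cancel_left]
      exact hcom
    refine ⟨E, hE, fun e => ?_, fun hr => ?_⟩
    · subst e
      have : a ∈ E := by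
        have := mul_mem hb he
        rwa [mul_inv_cancel_left] at this
      exact hQP (rs_ti_of_mem hS hQ.1 (hF _ hQ.1) hP.1 ha this ha1)
    · exact hne1 (r1_eq_one_of_normalizes hr he (unipotent_commute_eq hr
        (unipotent_conj (r1_right_mem hr) (Subgroup.mem_sup_left he)) (r1_right_mem hr) hcE))
  -- the line is generated by any two members
  obtain ⟨PB, hPB, rB⟩ := hF B hBS
  obtain ⟨C₁, hC₁, hne₁, -, k2, k3⟩ := hfind B PB hBm hPB rB
  have hU : B ⊔ C₁ = A ⊔ B := by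
    refine le_antisymm (sup_le le_sup_right hC₁.2) (sup_le ?_ le_sup_left)
    obtain ⟨x, hx, hx1⟩ := rs_exists_ne_one hS hC₁.1
    have hxU := hC₁.2 hx
    obtain ⟨u, hu, v, hv, rfl⟩ : ∃ u ∈ A, ∃ v ∈ B, u * v = x := by
      have hdec : ∀ y ∈ A ⊔ B, ∃ u ∈ A, ∃ v ∈ B, u * v = y := by
        intro y hy
        rw [Subgroup.sup_eq_closure] at hy
        induction hy using Subgroup.closure_induction with
        | mem y hy =>
          rcases hy with hy | hy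
          · exact ⟨y, hy, 1, one_mem _, mul_one y⟩
          · exact ⟨1, one_mem _, y, hy, one_mul y⟩
        | one => exact ⟨1, one_mem _, 1, one_mem _, one_mul 1⟩
        | mul y z _ _ ihy ihz =>
          obtain ⟨u, hu, v, hv, rfl⟩ := ihy
          obtain ⟨u', hu', v', hv', rfl⟩ := ihz
          refine ⟨u * u', mul_mem hu hu', v * v', mul_mem hv hv', ?_⟩
          have hc : u' * v = v * u' := commutator_eq_bot_iff.1 hAB u' hu' v hv
          calc u * u' * (v * v') = u * (u' * v) * v' := by group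
            _ = u * (v * u') * v' := by rw [hc]
            _ = _ := by group
        | inv y _ ih =>
          obtain ⟨u, hu, v, hv, rfl⟩ := ih
          refine ⟨u⁻¹, inv_mem hu, v⁻¹, inv_mem hv, ?_⟩
          rw [mul_inv_rev, commutator_eq_bot_iff.1 hAB _ (inv_mem hu) _ (inv_mem hv)]
      exact hdec x hxU
    have hu1 : u ≠ 1 := by
      rintro rfl
      rw [one_mul] at hx hx1
      exact hne₁ (rs_ti_of_mem hS hBS (hF B hBS) hC₁.1 hv hx hx1).symm
    have huU : u ∈ B ⊔ C₁ := by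
      have := mul_mem (Subgroup.mem_sup_right (S := B) hx) (Subgroup.mem_sup_left (T := C₁) (inv_mem hv))
      rwa [mul_inv_cancel_right] at this
    have hp := cc_partition hS hBS k2 ⟨PB, hPB, rB⟩
    rw [k3] at hp
    obtain ⟨E, hE, he⟩ := hp.2.1 u huU hu1
    rw [rs_ti_of_mem hS hA (hF A hA) hE.1 hu he hu1]
    exact hE.2
  have hsup : ∀ {P Q : Subgroup G}, P ∈ membersIn S (A ⊔ B) → Q ∈ membersIn S (A ⊔ B) → P ≠ Q →
      P ⊔ Q = A ⊔ B := by
    intro P Q hP hQ hne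
    rw [← hU, ← k3] at hP hQ ⊢
    exact line_members_sup hS hBS ⟨PB, hPB, rB⟩ k2 hP hQ hne
  obtain ⟨C₀, hC₀, hne₀, k1', k2', k3'⟩ := hfind C₂ B' hC₂ hB' r
  exact ⟨C₀, hC₀, hne₀, k1', k2', k3', hsup hC₂ hC₀ (Ne.symm hne₀)⟩

/-- The stabilizer of a line acts doubly transitively on its members. -/
theorem line_two_transitive {A B : Subgroup G} (hF : ∀ C ∈ S, HasPartner S C) (hA : A ∈ S)
    (hB : B ∈ linePartners S A) :
    ∀ C₁ ∈ membersIn S (A ⊔ B), ∀ C₂ ∈ membersIn S (A ⊔ B), ∀ D₁ ∈ membersIn S (A ⊔ B),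
      ∀ D₂ ∈ membersIn S (A ⊔ B), C₁ ≠ C₂ → D₁ ≠ D₂ →
        ∃ x ∈ ⨆ E ∈ normalizingMembers S (A ⊔ B), E, conjBy C₁ x = D₁ ∧ conjBy C₂ x = D₂ := by
  obtain ⟨K, hK⟩ : ∃ K, K = ⨆ E ∈ normalizingMembers S (A ⊔ B), E := ⟨_, rfl⟩
  rw [← hK]
  have hKN : K ≤ Subgroup.normalizer ((A ⊔ B : Subgroup G) : Set G) :=
    hK ▸ iSup₂_le fun E hE => hE.2
  have hKm : ∀ {x : G} {C : Subgroup G}, x ∈ K → C ∈ membersIn S (A ⊔ B) →
      conjBy C x ∈ membersIn S (A ⊔ B) := by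
    intro x C hx hC
    refine ⟨hS.conj_mem C hC.1 x, ?_⟩
    rw [← conjBy_eq_iff_mem_normalizer.2 (hKN hx)]
    exact conjBy_le hC.2
  -- members fixed by a subgroup of `K` which is transitive on the other members
  let P : Subgroup G → Prop := fun D => ∀ E ∈ membersIn S (A ⊔ B), ∀ E' ∈ membersIn S (A ⊔ B),
    E ≠ D → E' ≠ D → ∃ x ∈ K, conjBy D x = D ∧ conjBy E x = E'
  have hex : ∀ C₂ ∈ membersIn S (A ⊔ B), ∃ C₀ ∈ membersIn S (A ⊔ B), C₀ ≠ C₂ ∧ P C₀ ∧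
      ∃ C₃ ∈ membersIn S (A ⊔ B), C₃ ≠ C₂ ∧ C₃ ≠ C₀ := by
    intro C₂ hC₂
    obtain ⟨B', hB', r⟩ := hF C₂ hC₂.1
    obtain ⟨C₀, hC₀, hne, k1, k2, k3, k4⟩ := line_fix hS hF hA hB hC₂ hB' r
    obtain ⟨R, hR⟩ : ∃ R, R = ⁅C₀, B'⁆ := ⟨_, rfl⟩
    rw [← hR] at k2 k3
    have hfix : ∀ x ∈ R, conjBy C₀ x = C₀ := fun x hx =>
      conjBy_of_commutes fun c hc => cc_central_left k1 (hR ▸ hx) hc
    have hRK : R ≤ K := by
      have hmem : R ∈ normalizingMembers S (A ⊔ B) := by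
        refine ⟨hR ▸ k1.1, fun x hx => conjBy_eq_iff_mem_normalizer.1 ?_⟩
        have hle : ∀ x ∈ R, conjBy (C₂ ⊔ ⁅C₂, R⁆) x ≤ C₂ ⊔ ⁅C₂, R⁆ := fun x hx => by
          rw [conjBy_sup, cc_conjBy_comm hS hC₂.1 k2 hx]
          exact sup_le (cc_conj_le hS hC₂.1 k2 hx) le_sup_right
        rw [← k4]
        conv_rhs => rw [← k3]
        refine le_antisymm (by conv_lhs => rw [← k3]
                               exact hle x hx) ?_
        have := conjBy_le (g := x) (hle x⁻¹ (inv_mem hx))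
        rw [conjBy_conjBy_inv] at this
        rw [k3] at this ⊢
        exact this
      rw [hK]; exact le_iSup₂_of_le R hmem le_rfl
    have hmem : ∀ E ∈ membersIn S (A ⊔ B), E ≠ C₀ → ∃ x ∈ R, E = conjBy C₂ x := by
      intro E hE hEne
      have h5 := cc_members hS hC₂.1 k2 ⟨B', hB', r⟩
      rw [k3, k4] at h5
      rw [h5] at hE
      rcases hE with ⟨x, hx, rfl⟩ | hE
      · exact ⟨x, hx, rfl⟩
      · exact absurd hE hEne
    refine ⟨C₀, hC₀, hne, ?_, ?_⟩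
    · intro E hE E' hE' h1 h2
      obtain ⟨x, hx, rfl⟩ := hmem E hE h1
      obtain ⟨y, hy, rfl⟩ := hmem E' hE' h2
      refine ⟨y * x⁻¹, hRK (mul_mem hy (inv_mem hx)), hfix _ (mul_mem hy (inv_mem hx)), ?_⟩
      rw [conjBy_conjBy, inv_mul_cancel_right]
    · obtain ⟨x, hx, hx1⟩ := rs_exists_ne_one hS (hR ▸ k1.1)
      refine ⟨conjBy C₂ x, hKm (hRK hx) hC₂, fun e => ?_, fun e => ?_⟩
      · obtain ⟨c, hc, hc1⟩ := rs_exists_ne_one hS hC₂.1
        have h6 : ⁅c, x⁆ ∈ C₂ := by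
          have := conj_mem_conjBy (g := x) (inv_mem hc)
          rw [e] at this
          rw [commutatorElement_def, mul_assoc, mul_assoc]
          exact mul_mem hc (by simpa [mul_assoc] using this)
        have h7 : ⁅c, x⁆ = 1 := by
          have h8 : ⁅c, x⁆ ∈ C₂ ⊓ ⁅C₂, R⁆ := ⟨h6, Subgroup.commutator_mem_commutator hc hx⟩
          rwa [cc_inf hS hC₂.1 k2 ⟨B', hB', r⟩, Subgroup.mem_bot] at h8
        exact hx1 (cc_injective hS hC₂.1 k2 ⟨B', hB', r⟩ hc hc1 hx h7)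
      · rw [← hfix x hx, conjBy_inj] at e
        exact hne e.symm
  -- transitivity
  have htrans : ∀ D ∈ membersIn S (A ⊔ B), ∀ E ∈ membersIn S (A ⊔ B),
      ∃ x ∈ K, conjBy D x = E := by
    intro D hD E hE
    obtain ⟨C₀, hC₀, -, hP₀, -⟩ := hex D hD
    obtain ⟨C₀', hC₀', hne', hP₀', C₃, hC₃, hC₃0, hC₃0'⟩ := hex C₀ hC₀
    have hto : ∀ D ∈ membersIn S (A ⊔ B), ∃ x ∈ K, conjBy D x = C₃ := by
      intro D hD
      by_cases h0 : D = C₀
      · obtain ⟨x, hx, -, e⟩ := hP₀' D hD C₃ hC₃ (h0 ▸ Ne.symm hne') hC₃0'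
        exact ⟨x, hx, e⟩
      · obtain ⟨x, hx, -, e⟩ := hP₀ D hD C₃ hC₃ h0 hC₃0
        exact ⟨x, hx, e⟩
    obtain ⟨x, hx, ex⟩ := hto D hD
    obtain ⟨y, hy, ey⟩ := hto E hE
    exact ⟨y⁻¹ * x, mul_mem (inv_mem hy) hx, by rw [← conjBy_conjBy, ex, ← ey, conjBy_inv_conjBy]⟩
  intro C₁ hC₁ C₂ hC₂ D₁ hD₁ D₂ hD₂ hCne hDne
  obtain ⟨C₀, hC₀, -, hP₀, -⟩ := hex C₁ hC₁
  obtain ⟨g, hg, eg⟩ := htrans C₁ hC₁ C₀ hC₀
  obtain ⟨k, hk, ek⟩ := htrans C₀ hC₀ D₁ hD₁
  have hne2 : conjBy C₂ g ≠ C₀ := by rw [← eg, ne_eq, conjBy_inj]; exact Ne.symm hCne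
  have hne3 : conjBy D₂ k⁻¹ ≠ C₀ := by
    intro e
    apply hDne
    rw [← ek, ← e, conjBy_conjBy_inv]
  obtain ⟨x, hx, e1, e2⟩ := hP₀ (conjBy C₂ g) (hKm hg hC₂) (conjBy D₂ k⁻¹)
    (hKm (inv_mem hk) hD₂) hne2 hne3
  refine ⟨k * x * g, mul_mem (mul_mem hk hx) hg, ?_, ?_⟩
  · rw [← conjBy_conjBy, eg, ← conjBy_conjBy, e1, ek]
  · rw [← conjBy_conjBy, ← conjBy_conjBy, e2, conjBy_conjBy_inv]

end CfsgLib.RootSub
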