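/-
Opposite commutator partners generate a rank one group acting on the line between them.
-/
import Cfsg.Agent.Lib.RootSub.RootSet

set_option autoImplicit false

namespace CfsgLib.RootSub

open Cfsg
open scoped commutatorElement

variable {G : Type*} [Group G] {S : Set (Subgroup G)} {A B D : Subgroup G}

/-- The part of `U` centralized by `E`. -/
def fixIn (U E : Subgroup G) : Subgroup G := U ⊓ Subgroup.centralizer (E : Set G)

lemma mem_fixIn {U E : Subgroup G} {u : G} : u ∈ fixIn U E ↔ u ∈ U ∧ ∀ e ∈ E, e * u = u * e := by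
  simp [fixIn, Subgroup.mem_centralizer_iff]

lemma fixIn_conjBy {U E : Subgroup G} {x : G} (hU : conjBy U x = U) :
    fixIn U (conjBy E x) = conjBy (fixIn U E) x := by
  ext u
  rw [mem_conjBy, mem_fixIn, mem_fixIn]
  constructor
  · rintro ⟨hu, hc⟩
    refine ⟨mem_conjBy.1 (hU.symm ▸ hu), fun e he => ?_⟩
    have := hc _ (conj_mem_conjBy (g := x) he)
    calc e * (x⁻¹ * u * x) = x⁻¹ * (x * e * x⁻¹ * u) * x := by group
      _ = x⁻¹ * (u * (x * e * x⁻¹)) * x := by rw [this]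
      _ = _ := by group
  · rintro ⟨hu, hc⟩
    refine ⟨hU ▸ (mem_conjBy.2 hu), fun f hf => ?_⟩
    have := hc _ (mem_conjBy.1 hf)
    calc f * u = x * (x⁻¹ * f * x * (x⁻¹ * u * x)) * x⁻¹ := by group
      _ = x * (x⁻¹ * u * x * (x⁻¹ * f * x)) * x⁻¹ := by rw [this]
      _ = _ := by group

variable (hS : IsRootSubgroupSet S) (h1 : RootCommutatorCase S A B)
  (h2 : RootCommutatorCase S D ⁅A, B⁆) (hA : A ∈ S) (hB : B ∈ S) (hD : D ∈ S)
  (hDC : ⁅D, ⁅A, B⁆⁆ = A)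

include hS h1 h2 hA hB hD hDC

theorem opp_isRankOnePair : IsRankOnePair B D := by
  by_contra hn
  have hcomm : ∀ b ∈ B, ∀ d ∈ D, ⁅b, d⁆ * b = b * ⁅b, d⁆ := by
    rcases hS.pair B hB D hD with h | h | h
    · intro b hb d hd
      rw [commutatorElement_eq_one_iff_mul_comm.2 (commutator_eq_bot_iff.1 h b hb d hd)]; simp
    · exact absurd h hn
    · exact fun b hb d hd => cc_central_left h (Subgroup.commutator_mem_commutator hb hd) hb
  obtain ⟨b, hb, hb1⟩ := rs_exists_ne_one hS hB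
  obtain ⟨d, hd, hd1⟩ := rs_exists_ne_one hS hD
  apply hS.ne_bot _ h1.1
  rw [eq_bot_iff]
  intro c hc
  rw [Subgroup.mem_bot]
  have hsB : ∀ {y : G}, y ∈ ⁅A, B⁆ → ∃ x ∈ A, ⁅b, x⁆ = y := fun {y} hy => by
    obtain ⟨x, hx, e⟩ := cc_surj' h1 hb hb1 (inv_mem hy)
    exact ⟨x, hx, by rw [← commutatorElement_inv, e, inv_inv]⟩
  have hsD : ∀ {y : G}, y ∈ A → ∃ x ∈ ⁅A, B⁆, ⁅d, x⁆ = y := fun hy =>
    cc_surj h2 hd hd1 (hDC.symm ▸ hy)
  -- write `c` as an iterated image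
  obtain ⟨a2, ha2, rfl⟩ := hsB hc
  obtain ⟨c2, hc2, rfl⟩ := hsD ha2
  obtain ⟨a1, ha1, rfl⟩ := hsB hc2
  obtain ⟨c1, hc1, rfl⟩ := hsD ha1
  obtain ⟨a, ha, rfl⟩ := hsB hc1
  generalize hC1 : ⁅b, a⁆ = c1 at *
  generalize hA1 : ⁅d, c1⁆ = a1 at *
  generalize hC2 : ⁅b, a1⁆ = c2 at *
  generalize hA2 : ⁅d, c2⁆ = a2 at *
  generalize hC3 : ⁅b, a2⁆ = c3 at *
  have fbA : ∀ {x y : G}, ⁅b, x⁆ = y → MulAut.conj b x = y * x := fun e => by
    rw [← e, MulAut.conj_apply, commutatorElement_def]; group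
  have fdC : ∀ {x y : G}, ⁅d, x⁆ = y → MulAut.conj d x = y * x := fun e => by
    rw [← e, MulAut.conj_apply, commutatorElement_def]; group
  have fbC : ∀ {x : G}, x ∈ ⁅A, B⁆ → MulAut.conj b x = x := fun {x} hx => by
    rw [MulAut.conj_apply, ← cc_central_right h1 hx hb, mul_inv_cancel_right]
  have fdA : ∀ {x : G}, x ∈ A → MulAut.conj d x = x := fun {x} hx => by
    rw [MulAut.conj_apply, ← cc_central_left h2 (hDC.symm ▸ hx) hd, mul_inv_cancel_right]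
  have eb := fbA hC1
  have eb1 := fbA hC2
  have eb2 := fbA hC3
  have ed := fdC hA1
  have ed1 := fdC hA2
  have hc3' : c3 ∈ ⁅A, B⁆ := hc
  have hu : ∀ {x y : G}, x ∈ A ⊔ ⁅A, B⁆ → y ∈ A ⊔ ⁅A, B⁆ → x * y = y * x := fun hx hy =>
    cc_commute_left hS hA h1 _ hx _ hy
  -- the commutator of `b` and `d` commutes with `b`
  have hr := congrArg (fun g : G => MulAut.conj g a) (hcomm b hb d hd)
  simp only [commutatorElement_def, map_mul, MulAut.mul_apply, map_inv] at hr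
  have i1 : (MulAut.conj d)⁻¹ a = a := by
    rw [MulAut.inv_apply, MulEquiv.symm_apply_eq, fdA ha]
  have i2 : (MulAut.conj b)⁻¹ a = c1⁻¹ * a := by
    rw [MulAut.inv_apply, MulEquiv.symm_apply_eq, map_mul, map_inv, fbC hc1, eb, inv_mul_cancel_left]
  have i3 : (MulAut.conj d)⁻¹ c1 = a1⁻¹ * c1 := by
    rw [MulAut.inv_apply, MulEquiv.symm_apply_eq, map_mul, map_inv, fdA ha1, ed, inv_mul_cancel_left]
  have i4 : (MulAut.conj b)⁻¹ a1 = c2⁻¹ * a1 := by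
    rw [MulAut.inv_apply, MulEquiv.symm_apply_eq, map_mul, map_inv, fbC hc2, eb1, inv_mul_cancel_left]
  have i5 : (MulAut.conj b)⁻¹ c1 = c1 := by
    rw [MulAut.inv_apply, MulEquiv.symm_apply_eq, fbC hc1]
  simp only [eb, fbC hc1, fdA ha, fdA ha1, ed, ed1, eb1, eb2, fbC hc2, map_mul, map_inv,
    i1, i2, i3, i4, i5] at hr
  have hz : c3 * a2 = c2⁻¹ * c2⁻¹ := by
    letI : CommGroup ↥(A ⊔ ⁅A, B⁆) :=
      { (inferInstance : Group ↥(A ⊔ ⁅A, B⁆)) with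
        mul_comm := fun x y => Subtype.ext (hu x.2 y.2) }
    have lA : ∀ {x : G}, x ∈ A → x ∈ A ⊔ ⁅A, B⁆ := fun h => Subgroup.mem_sup_left h
    have lC : ∀ {x : G}, x ∈ ⁅A, B⁆ → x ∈ A ⊔ ⁅A, B⁆ := fun h => Subgroup.mem_sup_right h
    let u : ↥(A ⊔ ⁅A, B⁆) := ⟨a, lA ha⟩
    let v1 : ↥(A ⊔ ⁅A, B⁆) := ⟨c1, lC hc1⟩
    let u1 : ↥(A ⊔ ⁅A, B⁆) := ⟨a1, lA ha1⟩
    let v2 : ↥(A ⊔ ⁅A, B⁆) := ⟨c2, lC hc2⟩
    let u2 : ↥(A ⊔ ⁅A, B⁆) := ⟨a2, lA ha2⟩
    let v3 : ↥(A ⊔ ⁅A, B⁆) := ⟨c3, lC hc3'⟩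
    suffices v3 * u2 = v2⁻¹ * v2⁻¹ from congrArg Subtype.val this
    have hr' : ((v3 * u2 * v2)⁻¹ * (v2 * u1))⁻¹ * (v2 * u1 * v1) * ((v2 * u1 * v1)⁻¹ * (v1 * u)) =
        (v2 * (v2 * u1) * v1)⁻¹ * (v1 * (v1 * u)) := Subtype.ext hr
    apply Additive.ofMul.injective
    have h5 := sub_eq_zero.2 (congrArg Additive.ofMul hr')
    simp only [ofMul_mul, ofMul_inv] at h5 ⊢
    rw [← sub_eq_zero, ← h5]
    abel
  have : c3 = 1 := by
    have hmem : a2 ∈ ⁅A, B⁆ := by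
      have : a2 = c3⁻¹ * (c2⁻¹ * c2⁻¹) := by rw [← hz]; group
      rw [this]
      exact mul_mem (inv_mem hc3') (mul_mem (inv_mem hc2) (inv_mem hc2))
    rw [← hC3, commutatorElement_eq_one_iff_mul_comm]
    exact (cc_central_right h1 hmem hb).symm
  exact this

theorem opp_normalizes : ∀ x ∈ B ⊔ D,
    conjBy (A ⊔ ⁅A, B⁆) x = A ⊔ ⁅A, B⁆ := by
  set U := A ⊔ ⁅A, B⁆ with hUdef
  have hDA : ∀ {d a : G}, d ∈ D → a ∈ A → d * a = a * d := fun hd ha =>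
    (cc_central_left h2 (hDC.symm ▸ ha) hd).symm
  have hle : ∀ x, (x ∈ B ∨ x ∈ D) → conjBy U x ≤ U := by
    rintro x (hx | hx)
    · rw [hUdef, conjBy_sup]
      exact sup_le (cc_conj_le hS hA h1 hx)
        (le_trans (le_of_eq (cc_conjBy_comm hS hA h1 hx)) le_sup_right)
    · have e2 := cc_conj_le hS h1.1 (cc_symm h2) hx
      rw [Subgroup.commutator_comm ⁅A, B⁆ D, hDC, sup_comm] at e2
      rw [hUdef, conjBy_sup, conjBy_of_commutes fun a ha => hDA hx ha]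
      exact sup_le le_sup_left e2
  have heq : ∀ x, (x ∈ B ∨ x ∈ D) → conjBy U x = U := by
    intro x hx
    refine le_antisymm (hle x hx) ?_
    have := conjBy_le (g := x) (hle x⁻¹ (hx.imp inv_mem inv_mem))
    rwa [conjBy_conjBy_inv] at this
  intro x hx
  rw [conjBy_eq_iff_mem_normalizer]
  have : B ⊔ D ≤ Subgroup.normalizer (U : Set G) :=
    sup_le (fun y hy => conjBy_eq_iff_mem_normalizer.1 (heq y (Or.inl hy)))
      (fun y hy => conjBy_eq_iff_mem_normalizer.1 (heq y (Or.inr hy)))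
  exact this hx

/-- The orbit description for opposite commutator partners. -/
theorem opp_orbit :
    {E | ∃ x ∈ B ⊔ D, E = conjBy A x} = {E | ∃ x ∈ B ⊔ D, E = conjBy ⁅A, B⁆ x} ∧
    {E | ∃ x ∈ B ⊔ D, E = conjBy A x} = (fun b : G => conjBy A b) '' (B : Set G) ∪ {⁅A, B⁆} ∧
    {E | ∃ x ∈ B ⊔ D, E = conjBy A x} = (fun d : G => conjBy ⁅A, B⁆ d) '' (D : Set G) ∪ {A} ∧
    IsSubgroupPartition (A ⊔ ⁅A, B⁆) {E | ∃ x ∈ B ⊔ D, E = conjBy A x} ∧
    ∀ x ∈ (B ⊔ D) ⊓ Subgroup.centralizer ((A ⊔ ⁅A, B⁆ : Subgroup G) : Set G), ∀ y ∈ B ⊔ D,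
      x * y = y * x := by
  have r := opp_isRankOnePair hS h1 h2 hA hB hD hDC
  have hBA : ⁅B, A⁆ = ⁅A, B⁆ := Subgroup.commutator_comm _ _
  have injB : ∀ {b a : G}, b ∈ B → b ≠ 1 → a ∈ A → ⁅b, a⁆ = 1 → a = 1 := fun hb hb1 ha e =>
    cc_injective hS hB (cc_symm h1) ⟨D, hD, r⟩ hb hb1 ha e
  have injD : ∀ {d c : G}, d ∈ D → d ≠ 1 → c ∈ ⁅A, B⁆ → ⁅d, c⁆ = 1 → c = 1 := fun hd hd1 hc e =>
    cc_injective hS hD h2 ⟨B, hB, r1_symm r⟩ hd hd1 hc e
  obtain ⟨b0, hb0, hb01⟩ := rs_exists_ne_one hS hB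
  obtain ⟨d0, hd0, hd01⟩ := rs_exists_ne_one hS hD
  have hinf : ∀ {x : G}, x ∈ A → x ∈ ⁅A, B⁆ → x = 1 := fun hxA hxC =>
    injB hb0 hb01 hxA
      (commutatorElement_eq_one_iff_mul_comm.2 (cc_central_right h1 hxC hb0).symm)
  set U := A ⊔ ⁅A, B⁆ with hUdef
  have hDA : ∀ {d a : G}, d ∈ D → a ∈ A → d * a = a * d := fun hd ha =>
    (cc_central_left h2 (hDC.symm ▸ ha) hd).symm
  have hnorm : ∀ x ∈ B ⊔ D, conjBy U x = U := opp_normalizes hS h1 h2 hA hB hD hDC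
  have hfixB : fixIn U B = ⁅A, B⁆ := by
    refine le_antisymm (fun u hu => ?_) fun c hc => mem_fixIn.2
      ⟨Subgroup.mem_sup_right hc, fun b hb => (cc_central_right h1 hc hb).symm⟩
    obtain ⟨hu, hcomm⟩ := mem_fixIn.1 hu
    obtain ⟨a, ha, c, hc, rfl⟩ := cc_mem_sup hS hA h1 hu
    have hba : b0 * a = a * b0 := by
      have h3 : Commute b0 (c⁻¹ * (c * a)) :=
        Commute.mul_right ((cc_central_right h1 (inv_mem hc) hb0).symm) (hcomm b0 hb0)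
      rwa [inv_mul_cancel_left] at h3
    rw [injB hb0 hb01 ha (commutatorElement_eq_one_iff_mul_comm.2 hba), mul_one]
    exact hc
  have hfixD : fixIn U D = A := by
    refine le_antisymm (fun u hu => ?_) fun a ha => mem_fixIn.2
      ⟨Subgroup.mem_sup_left ha, fun d hd => hDA hd ha⟩
    obtain ⟨hu, hcomm⟩ := mem_fixIn.1 hu
    obtain ⟨a, ha, c, hc, rfl⟩ := cc_mem_sup hS hA h1 hu
    have hdc : d0 * c = c * d0 := by
      have h3 : Commute d0 (c * a * a⁻¹) :=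
        Commute.mul_right (hcomm d0 hd0) (hDA hd0 (inv_mem ha))
      rwa [mul_inv_cancel_right] at h3
    rw [injD hd0 hd01 hc (commutatorElement_eq_one_iff_mul_comm.2 hdc), one_mul]
    exact ha
  have hfixD' : ∀ x ∈ B ⊔ D, fixIn U (conjBy D x) = conjBy A x := fun x hx => by
    rw [fixIn_conjBy (hnorm x hx), hfixD]
  have hfixB' : ∀ x ∈ B ⊔ D, fixIn U (conjBy B x) = conjBy ⁅A, B⁆ x := fun x hx => by
    rw [fixIn_conjBy (hnorm x hx), hfixB]
  obtain ⟨x0, hx0, hC0⟩ : ∃ x ∈ B ⊔ D, ⁅A, B⁆ = conjBy A x := by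
    obtain ⟨x, hx, e⟩ := r1_right_mem (r1_symm r)
    rw [sup_comm] at hx
    refine ⟨x, hx, ?_⟩
    rw [← hfixD' x hx, ← e, hfixB]
  have horbit : {E | ∃ x ∈ B ⊔ D, E = conjBy A x} =
      (fun b : G => conjBy A b) '' (B : Set G) ∪ {⁅A, B⁆} := by
    ext E
    constructor
    · rintro ⟨x, hx, rfl⟩
      have hmem : conjBy D x ∈ unipotentSubgroups B D := unipotent_conj (r1_right_mem r) hx
      rcases (mem_unipotent_iff r).1 hmem with e | ⟨b, hb, e⟩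
      · exact Or.inr (by rw [Set.mem_singleton_iff, ← hfixD' x hx, e, hfixB])
      · exact Or.inl ⟨b, hb, by
          show conjBy A b = conjBy A x
          rw [← hfixD' x hx, e, hfixD' b (Subgroup.mem_sup_left hb)]⟩
    · rintro (⟨b, hb, rfl⟩ | rfl)
      · exact ⟨b, Subgroup.mem_sup_left hb, rfl⟩
      · exact ⟨x0, hx0, hC0⟩
  have hdisj : ∀ b ∈ B, ∀ {x : G}, x ∈ conjBy A b → x ∈ ⁅A, B⁆ → x = 1 := by
    intro b hb x hxA hxC
    rw [mem_conjBy] at hxA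
    have e : b⁻¹ * x * b = x := by
      rw [mul_assoc, cc_central_right h1 hxC hb, inv_mul_cancel_left]
    rw [e] at hxA
    exact hinf hxA hxC
  have hdisj2 : ∀ b ∈ B, ∀ b' ∈ B, ∀ {x : G}, x ∈ conjBy A b → x ∈ conjBy A b' → x ≠ 1 → b = b' := by
    intro b hb b' hb' x hxb hxb' hx1
    by_contra hne
    rw [mem_conjBy] at hxb hxb'
    set a := b⁻¹ * x * b with ha'
    have hb'' : b'⁻¹ * b ∈ B := mul_mem (inv_mem hb') hb
    have hmemC : ⁅b'⁻¹ * b, a⁆ ∈ ⁅A, B⁆ := hBA ▸ Subgroup.commutator_mem_commutator hb'' hxb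
    have hmemA : ⁅b'⁻¹ * b, a⁆ ∈ A := by
      have e : ⁅b'⁻¹ * b, a⁆ = b'⁻¹ * x * b' * a⁻¹ := by
        rw [ha', commutatorElement_def]; group
      rw [e]; exact mul_mem hxb' (inv_mem hxb)
    have ha1 := injB hb'' (fun e => hne (inv_mul_eq_one.1 e).symm) hxb (hinf hmemA hmemC)
    have ha2 := ha'.symm.trans ha1
    exact hx1 (by
      calc x = b * (b⁻¹ * x * b) * b⁻¹ := by group
        _ = 1 := by rw [ha2]; group)
  refine ⟨?_, horbit, ?_, ?_, ?_⟩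
  · ext E
    constructor
    · rintro ⟨x, hx, rfl⟩
      refine ⟨x * x0⁻¹, mul_mem hx (inv_mem hx0), ?_⟩
      rw [hC0, conjBy_conjBy, inv_mul_cancel_right]
    · rintro ⟨x, hx, rfl⟩
      exact ⟨x * x0, mul_mem hx hx0, by rw [hC0, conjBy_conjBy]⟩
  · ext E
    constructor
    · rintro ⟨x, hx, rfl⟩
      have hmem : conjBy D x ∈ unipotentSubgroups B D := unipotent_conj (r1_right_mem r) hx
      rcases (mem_unipotent_iff' r).1 hmem with e | ⟨d, hd, e⟩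
      · exact Or.inr (by rw [Set.mem_singleton_iff, ← hfixD' x hx, e, hfixD])
      · exact Or.inl ⟨d, hd, by
          show conjBy ⁅A, B⁆ d = conjBy A x
          rw [← hfixD' x hx, e, hfixB' d (Subgroup.mem_sup_right hd)]⟩
    · rintro (⟨d, hd, rfl⟩ | rfl)
      · exact ⟨d * x0, mul_mem (Subgroup.mem_sup_right hd) hx0, by
          show conjBy ⁅A, B⁆ d = _
          rw [hC0, conjBy_conjBy]⟩
      · exact ⟨1, one_mem _, (conjBy_one _).symm⟩
  · rw [horbit]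
    refine ⟨?_, ?_, ?_⟩
    · rintro C (⟨b, hb, rfl⟩ | rfl)
      · exact cc_conj_le hS hA h1 hb
      · exact le_sup_right
    · intro x hx _
      obtain ⟨a, ha, c, hc, rfl⟩ := cc_mem_sup hS hA h1 hx
      by_cases ha1 : a = 1
      · exact ⟨⁅A, B⁆, Or.inr rfl, by rwa [ha1, mul_one]⟩
      · obtain ⟨b, hb, eb⟩ := cc_mem_conj hS hA h1 ha ha1 hc
        exact ⟨conjBy A b, Or.inl ⟨b, hb, rfl⟩, eb ▸ conj_mem_conjBy ha⟩
    · intro C hC C' hC' hne
      rw [eq_bot_iff]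
      rintro x ⟨hxC, hxC'⟩
      rw [Subgroup.mem_bot]
      by_contra hx1
      rcases hC with ⟨b, hb, rfl⟩ | rfl <;> rcases hC' with ⟨b', hb', rfl⟩ | rfl
      · exact hne (by rw [hdisj2 b hb b' hb' hxC hxC' hx1])
      · exact hx1 (hdisj b hb hxC hxC')
      · exact hx1 (hdisj b' hb' hxC' hxC)
      · exact hne rfl
  · rintro x ⟨hx, hxc⟩ y hy
    refine r1_kernel_central r hx (fun E hE => ?_) y hy
    have hinjΩ : ∀ E ∈ unipotentSubgroups B D, ∀ E' ∈ unipotentSubgroups B D,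
        fixIn U E = fixIn U E' → E = E' := by
      have hneC : ∀ b ∈ B, conjBy A b ≠ ⁅A, B⁆ := by
        intro b hb e
        refine hS.ne_bot _ h1.1 ((Subgroup.eq_bot_iff_forall _).2 fun z hz => ?_)
        exact hdisj b hb (e.symm ▸ hz) hz
      intro E hE E' hE' he
      rcases (mem_unipotent_iff r).1 hE with rfl | ⟨b, hb, rfl⟩ <;>
        rcases (mem_unipotent_iff r).1 hE' with rfl | ⟨b', hb', rfl⟩
      · rfl
      · rw [hfixB, hfixD' b' (Subgroup.mem_sup_left hb')] at he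
        exact absurd he.symm (hneC b' hb')
      · rw [hfixB, hfixD' b (Subgroup.mem_sup_left hb)] at he
        exact absurd he (hneC b hb)
      · rw [hfixD' b (Subgroup.mem_sup_left hb), hfixD' b' (Subgroup.mem_sup_left hb')] at he
        obtain ⟨a, ha, ha1⟩ := rs_exists_ne_one hS hA
        rw [hdisj2 b hb b' hb' (conj_mem_conjBy ha) (he ▸ conj_mem_conjBy ha) (by simpa using ha1)]
    refine hinjΩ _ (unipotent_conj hE hx) _ hE ?_
    rw [fixIn_conjBy (hnorm x hx)]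
    exact conjBy_of_commutes fun u hu =>
      (Subgroup.mem_centralizer_iff.1 hxc u (mem_fixIn.1 hu).1).symm

end CfsgLib.RootSub
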