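/-
A rank one group acting quadratically (and not trivially modulo fixed points) on an abelian
group is special.
-/
import Cfsg.Agent.Lib.RootSub.RankOne

set_option autoImplicit false

namespace CfsgLib.RootSub

open Cfsg

section

variable {X : Type*} [Group X] {N : Type*} [AddCommGroup N] [DistribMulAction X N]

lemma quad_error_fixed {A B : Subgroup X}
    (hqA : ∀ a ∈ A, ∀ a' ∈ A, ∀ n : N, a' • (a • n - n) = a • n - n)
    (hqB : ∀ a ∈ B, ∀ a' ∈ B, ∀ n : N, a' • (a • n - n) = a • n - n)
    (hgen : A ⊔ B = ⊤) {a b : X} (ha : a ∈ A) (hb : b ∈ B)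
    (he : conjBy A b⁻¹ = conjBy B a⁻¹) (n : N) (x : X) :
    let al : N → N := fun m => a • m - m
    let be' : N → N := fun m => b • m - m
    x • (al n - al (be' (al n))) = al n - al (be' (al n)) := by
  intro al be'
  have binv : ∀ m : N, b⁻¹ • m = m - (b • m - m) := by
    intro m
    rw [inv_smul_eq_iff, smul_sub, hqB b hb b hb m]; abel
  have aadd : ∀ p q : N, al (p - q) = al p - al q := by
    intro p q; simp only [al, smul_sub]; abel
  have key : ∀ c : N, (∀ a'' ∈ A, a'' • c = c) → ∀ b'' ∈ B,
      b'' • c - c = b'' • (al (be' c)) - al (be' c) := by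
    intro c hc b'' hb''
    have hfix : b'' • (a • (b⁻¹ • c)) = a • (b⁻¹ • c) := by
      have : a⁻¹ * b'' * a ∈ conjBy A b⁻¹ := he ▸ conj_mem_conjBy_inv hb''
      rw [mem_conjBy, inv_inv] at this
      have h2 := hc _ this
      simp only [mul_smul] at h2
      have h3 := congrArg (fun m => a • (b⁻¹ • m)) h2
      simpa using h3
    have e : a • (b⁻¹ • c) = c - be' c - al (be' c) := by
      rw [binv, smul_sub, hc a ha]; simp only [al, be']; abel
    rw [e, smul_sub, smul_sub, show b'' • be' c = be' c from hqB b hb b'' hb'' c] at hfix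
    rw [sub_eq_sub_iff_add_eq_add] at hfix ⊢
    have := congrArg (fun m => m + be' c) hfix
    simp only [sub_add_eq_add_sub] at this
    have h4 : b'' • c + al (be' c) - (c + b'' • al (be' c)) = 0 := by
      have h5 := sub_eq_zero.2 hfix
      rw [← h5]; abel
    exact (sub_eq_zero.1 h4).trans (add_comm _ _)
  set c := al n with hcdef
  have hcA : ∀ a'' ∈ A, a'' • c = c := fun a'' h => hqA a ha a'' h n
  set u := c - al (be' c) with hudef
  have huA : ∀ a'' ∈ A, a'' • u = u := by
    intro a'' h
    rw [hudef, smul_sub, hcA a'' h]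
    exact congrArg _ (hqA a ha a'' h (be' c))
  have hbu : be' u = 0 := by
    have h1 := key c hcA b hb
    simp only [be', hudef, smul_sub] at *
    have h5 := sub_eq_zero.2 h1
    rw [← h5]; abel
  have huB : ∀ b'' ∈ B, b'' • u = u := by
    intro b'' h
    have h1 := key u huA b'' h
    rw [hbu] at h1
    simpa [al, sub_eq_zero] using h1
  have hx : x ∈ MulAction.stabilizer X u := by
    have : (⊤ : Subgroup X) ≤ MulAction.stabilizer X u := by
      rw [← hgen]; exact sup_le (fun g hg => huA g hg) (fun g hg => huB g hg)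
    exact this (Subgroup.mem_top x)
  exact hx

/-- The subgroup of points fixed by the whole group. -/
def fixedPts (X N : Type*) [Group X] [AddCommGroup N] [DistribMulAction X N] : AddSubgroup N where
  carrier := {n | ∀ x : X, x • n = n}
  add_mem' := fun hp hq x => by rw [smul_add, hp x, hq x]
  zero_mem' := fun x => smul_zero x
  neg_mem' := fun hp x => by rw [smul_neg, hp x]

/-- The action on the quotient by the fixed points. -/
def quotAct (X N : Type*) [Group X] [AddCommGroup N] [DistribMulAction X N] :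
    X →* AddMonoid.End (N ⧸ fixedPts X N) where
  toFun x := QuotientAddGroup.map (fixedPts X N) (fixedPts X N)
    (DistribSMul.toAddMonoidHom N x) (fun p hp => by
      show x • p ∈ fixedPts X N
      rw [hp x]; exact hp)
  map_one' := by
    apply AddMonoidHom.ext
    intro q
    induction q using QuotientAddGroup.induction_on with
    | H n => exact congrArg _ (one_smul X n)
  map_mul' x y := by
    apply AddMonoidHom.ext
    intro q
    induction q using QuotientAddGroup.induction_on with
    | H n => exact congrArg _ (mul_smul x y n)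

lemma quotAct_apply (x : X) (n : N) :
    quotAct X N x (n : N ⧸ fixedPts X N) = ((x • n : N) : N ⧸ fixedPts X N) := rfl

end

lemma ring_quad_identity {R : Type*} [Ring R] (α β β' : R) (h1 : α * α = 0) (h2 : β * β = 0)
    (h3 : α * β * α = α) (h4 : β * α * β = β)
    (h : (1 - β) * (1 + α) * (1 + β) = (1 - α) * (1 + β') * (1 + α)) : β' = -β := by
  have hL : (1 - β) * (1 + α) * (1 + β) = 1 + α + α * β - β * α - β := by
    have : (1 - β) * (1 + α) * (1 + β) =
        1 + α + β + α * β - β - β * α - β * β - β * α * β := by noncomm_ring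
    rw [this, h2, h4]; abel
  rw [hL] at h
  have hR : (1 - α) * (1 + β') * (1 + α) =
      1 + β' + α + β' * α - α - α * β' - α * α - α * β' * α := by noncomm_ring
  rw [hR] at h
  have e1 : α * β' = -(α * β) := by
    have h' := congrArg (fun r => α * r) h
    have eL : α * (1 + α + α * β - β * α - β) = -(α * β) := by
      have : α * (1 + α + α * β - β * α - β) =
          α + α * α + α * α * β - α * β * α - α * β := by noncomm_ring
      rw [this, h1, h3]; simp
    have eR : α * (1 + β' + α + β' * α - α - α * β' - α * α - α * β' * α) =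
        α + α * β' + α * β' * α := by
      have : α * (1 + β' + α + β' * α - α - α * β' - α * α - α * β' * α) =
          α + α * β' + α * β' * α - α * α * β' - α * α * α - α * α * β' * α := by noncomm_ring
      rw [this, h1]; simp
    simp only [eL, eR] at h'
    have h'' := congrArg (fun r => r * (1 - α)) h'
    have eL2 : -(α * β) * (1 - α) = -(α * β) + α := by
      rw [show -(α * β) * (1 - α) = -(α * β) + α * β * α by noncomm_ring, h3]
    have eR2 : (α + α * β' + α * β' * α) * (1 - α) = α + α * β' := by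
      rw [show (α + α * β' + α * β' * α) * (1 - α) =
        α + α * β' - α * α - α * β' * (α * α) by noncomm_ring, h1]; simp
    simp only [eL2, eR2] at h''
    rw [add_comm (-(α * β))] at h''
    exact (add_left_cancel h'').symm
  have e2 : β' * α = -(β * α) := by
    have h' := congrArg (fun r => r * α) h
    have eL : (1 + α + α * β - β * α - β) * α = α + α - β * α := by
      rw [show (1 + α + α * β - β * α - β) * α =
        α + α * α + α * β * α - β * (α * α) - β * α by noncomm_ring, h1, h3]; simp
    have eR : (1 + β' + α + β' * α - α - α * β' - α * α - α * β' * α) * α =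
        α + α + β' * α := by
      rw [show (1 + β' + α + β' * α - α - α * β' - α * α - α * β' * α) * α =
        α + β' * α + β' * (α * α) - α * β' * α - α * (α * α) - α * β' * (α * α) by noncomm_ring,
        h1, e1, neg_mul, h3]
      simp; abel
    simp only [eL, eR] at h'
    rw [sub_eq_add_neg] at h'
    exact (add_left_cancel h').symm
  rw [e1, e2, neg_mul, h3, h1] at h
  have h5 := sub_eq_zero.2 h
  have h6 : β' + β = 0 := by
    have : β' + β = -(1 + α + α * β - β * α - β -
        (1 + β' + α + -(β * α) - α - -(α * β) - 0 - -α)) := by abel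
    rw [this, h5, neg_zero]
  exact eq_neg_of_add_eq_zero_left h6

variable {X : Type*} [Group X] {A B : Subgroup X} {N : Type*} [AddCommGroup N] [DistribMulAction X N]

lemma quad_transfer (h : IsRankOneGroup X A B)
    (hq : ∀ a ∈ A, ∀ a' ∈ A, ∀ n : N, a' • (a • n - n) = a • n - n) :
    ∀ a ∈ B, ∀ a' ∈ B, ∀ n : N, a' • (a • n - n) = a • n - n := by
  obtain ⟨g, -, e⟩ := r1_right_mem h.2
  intro a ha a' ha' n
  rw [e, mem_conjBy] at ha ha'
  have := hq _ ha _ ha' (g⁻¹ • n)
  simp only [mul_smul, smul_inv_smul, smul_sub] at this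
  exact MulAction.injective g⁻¹ (by simpa [smul_sub] using this)

lemma quad_data (h : IsRankOneGroup X A B)
    (hq : ∀ a ∈ A, ∀ a' ∈ A, ∀ n : N, a' • (a • n - n) = a • n - n)
    {a b : X} (ha : a ∈ A) (hb : b ∈ B) (he : conjBy A b⁻¹ = conjBy B a⁻¹) :
    let α := quotAct X N a - 1
    let β := quotAct X N b - 1
    α * α = 0 ∧ β * β = 0 ∧ α * β * α = α ∧ β * α * β = β := by
  have hqB := quad_transfer h hq
  intro α β
  have happ : ∀ (g : X) (n : N), (quotAct X N g - 1 : AddMonoid.End (N ⧸ fixedPts X N))
      (n : N ⧸ fixedPts X N) = ((g • n - n : N) : N ⧸ fixedPts X N) := fun g n => rfl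
  have sq : ∀ (C : Subgroup X), (∀ a ∈ C, ∀ a' ∈ C, ∀ n : N, a' • (a • n - n) = a • n - n) →
      ∀ g ∈ C, (quotAct X N g - 1) * (quotAct X N g - 1) = 0 := by
    intro C hC g hg
    apply AddMonoidHom.ext
    intro q
    induction q using QuotientAddGroup.induction_on with
    | H n =>
      show (quotAct X N g - 1 : AddMonoid.End (N ⧸ fixedPts X N))
        ((quotAct X N g - 1 : AddMonoid.End (N ⧸ fixedPts X N)) (n : N ⧸ fixedPts X N)) = 0
      rw [happ, happ, hC g hg g hg n, sub_self, QuotientAddGroup.mk_zero]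
  have cub : ∀ (C D : Subgroup X),
      (∀ a ∈ C, ∀ a' ∈ C, ∀ n : N, a' • (a • n - n) = a • n - n) →
      (∀ a ∈ D, ∀ a' ∈ D, ∀ n : N, a' • (a • n - n) = a • n - n) →
      C ⊔ D = ⊤ → ∀ c ∈ C, ∀ d ∈ D, conjBy C d⁻¹ = conjBy D c⁻¹ →
      (quotAct X N c - 1) * (quotAct X N d - 1) * (quotAct X N c - 1) = quotAct X N c - 1 := by
    intro C D hC hD hgen c hc d hd hcd
    apply AddMonoidHom.ext
    intro q
    induction q using QuotientAddGroup.induction_on with
    | H n =>
      show (quotAct X N c - 1 : AddMonoid.End (N ⧸ fixedPts X N))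
          ((quotAct X N d - 1 : AddMonoid.End (N ⧸ fixedPts X N))
            ((quotAct X N c - 1 : AddMonoid.End (N ⧸ fixedPts X N)) (n : N ⧸ fixedPts X N)))
        = (quotAct X N c - 1 : AddMonoid.End (N ⧸ fixedPts X N)) (n : N ⧸ fixedPts X N)
      rw [happ, happ, happ, QuotientAddGroup.eq_iff_sub_mem]
      have hm := quad_error_fixed hC hD hgen hc hd hcd n
      intro x
      rw [← neg_sub, smul_neg, hm x]
  exact ⟨sq A hq a ha, sq B hqB b hb, cub A B hq hqB h.1 a ha b hb he,
    cub B A hqB hq (by rw [sup_comm]; exact h.1) b hb a ha he.symm⟩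

/-- the kernel of the action on the quotient by the fixed points is central -/
lemma quotAct_ker_central (h : IsRankOneGroup X A B)
    (hq : ∀ a ∈ A, ∀ a' ∈ A, ∀ n : N, a' • (a • n - n) = a • n - n)
    (hX : ∃ x y : X, ∃ n : N, y • (x • n - n) ≠ x • n - n) :
    ∀ e : X, quotAct X N e = 1 → e ∈ Subgroup.center X := by
  intro e he
  set K := (quotAct X N).ker with hK
  rcases r1g_normal_dichotomy h K inferInstance with htop | hc
  swap
  · exact hc (MonoidHom.mem_ker.2 he)
  exfalso
  have hrep : ∀ x : X, ∃ a ∈ A, quotAct X N x = quotAct X N a := by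
    intro x
    obtain ⟨k, hk, a, ha, rfl⟩ := Subgroup.mem_sup_of_normal_left.1 (htop ▸ Subgroup.mem_top x)
    exact ⟨a, ha, by rw [map_mul, MonoidHom.mem_ker.1 hk, one_mul]⟩
  have happ : ∀ (g : X) (n : N), (quotAct X N g - 1 : AddMonoid.End (N ⧸ fixedPts X N))
      (n : N ⧸ fixedPts X N) = ((g • n - n : N) : N ⧸ fixedPts X N) := fun g n => rfl
  have hA1 : ∀ a ∈ A, quotAct X N a = 1 := by
    intro a ha
    by_cases ha1 : a = 1
    · rw [ha1, map_one]
    obtain ⟨b, hb, -, hab'⟩ := r1_exists h.2 ha ha1
    obtain ⟨-, -, h3, -⟩ := quad_data h hq ha hb hab'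
    obtain ⟨a', ha', eb⟩ := hrep b
    have hz : (quotAct X N a - 1) * (quotAct X N b - 1) = 0 := by
      apply AddMonoidHom.ext
      intro q
      induction q using QuotientAddGroup.induction_on with
      | H n =>
        show (quotAct X N a - 1 : AddMonoid.End (N ⧸ fixedPts X N))
          ((quotAct X N b - 1 : AddMonoid.End (N ⧸ fixedPts X N)) (n : N ⧸ fixedPts X N)) = 0
        rw [eb, happ, happ, hq a' ha' a ha n, sub_self, QuotientAddGroup.mk_zero]
    rw [hz, zero_mul] at h3
    exact sub_eq_zero.1 h3.symm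
  obtain ⟨x, y, n, hne⟩ := hX
  apply hne
  obtain ⟨a, ha, ex⟩ := hrep x
  have h1 : quotAct X N x (n : N ⧸ fixedPts X N) = (n : N ⧸ fixedPts X N) := by
    rw [ex, hA1 a ha]; rfl
  rw [quotAct_apply, QuotientAddGroup.eq_iff_sub_mem] at h1
  exact h1 y

/-- Quadratic action implies special. -/
theorem special_of_quadratic (h : IsRankOneGroup X A B)
    (hq : ∀ a ∈ A, ∀ a' ∈ A, ∀ n : N, a' • (a • n - n) = a • n - n)
    (hX : ∃ x y : X, ∃ n : N, y • (x • n - n) ≠ x • n - n) : IsSpecialRankOnePair A B := by
  refine ⟨h.2, fun a ha _ b hb _ he => ?_⟩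
  obtain ⟨h1, h2, h3, h4⟩ := quad_data h hq ha hb he
  have hmem : a * (b⁻¹ * a * b) * a⁻¹ ∈ B := by
    have : b⁻¹ * a * b ∈ conjBy B a⁻¹ := he ▸ conj_mem_conjBy_inv ha
    rw [mem_conjBy, inv_inv] at this
    exact this
  generalize hb' : a * (b⁻¹ * a * b) * a⁻¹ = b' at hmem
  have hrel : b⁻¹ * a * b = a⁻¹ * b' * a := by rw [← hb']; group
  have hinv : ∀ g : X, (quotAct X N g - 1) * (quotAct X N g - 1) = 0 →
      quotAct X N g⁻¹ = 1 - (quotAct X N g - 1) := by
    intro g hg
    have hl : quotAct X N g⁻¹ * quotAct X N g = 1 := by rw [← map_mul, inv_mul_cancel, map_one]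
    have hr : quotAct X N g * (1 - (quotAct X N g - 1)) = 1 := by
      generalize quotAct X N g = r at hg
      rw [show r * (1 - (r - 1)) = 1 - (r - 1) * (r - 1) by
        simp only [sub_mul, mul_sub, one_mul, mul_one]; abel, hg, sub_zero]
    exact left_inv_eq_right_inv hl hr
  have hring := congrArg (quotAct X N) hrel
  simp only [map_mul] at hring
  rw [hinv a h1, hinv b h2] at hring
  have key : quotAct X N b' - 1 = -(quotAct X N b - 1) := by
    refine ring_quad_identity _ _ _ h1 h2 h3 h4 ?_
    have e : ∀ r : AddMonoid.End (N ⧸ fixedPts X N), 1 + (r - 1) = r := fun r => by abel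
    simp only [e]
    exact hring
  have hbb : quotAct X N (b' * b) = 1 := by
    rw [map_mul]
    generalize quotAct X N b' = r' at key
    generalize quotAct X N b = r at key h2
    have : r' = 1 - (r - 1) := by
      rw [sub_eq_iff_eq_add] at key; rw [key]; abel
    rw [this, show (1 - (r - 1)) * r = 1 - (r - 1) * (r - 1) by
      simp only [sub_mul, mul_sub, one_mul, mul_one]; abel, h2, sub_zero]
  have hcen := quotAct_ker_central h hq hX _ hbb
  have hone : b' * b = 1 := r1_eq_one_of_normalizes (r1_symm h.2) (mul_mem hmem hb)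
    (conjBy_of_commutes fun c _ => (Subgroup.mem_center_iff.1 hcen c).symm)
  rw [hrel, mul_eq_one_iff_eq_inv.1 hone]

end CfsgLib.RootSub
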