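/-
Transport of rank one pairs along injective homomorphisms.
-/
import Cfsg.Agent.Lib.RootSub.RankOne

set_option autoImplicit false

namespace CfsgLib.RootSub

open Cfsg

variable {H G : Type*} [Group H] [Group G] {f : H →* G}

lemma map_conjBy (C : Subgroup H) (g : H) : (conjBy C g).map f = conjBy (C.map f) (f g) := by
  rw [conjBy, conjBy, Subgroup.map_map, Subgroup.map_map]
  congr 1
  ext x
  simp

lemma r1_map_iff (hf : Function.Injective f) {A B : Subgroup H} :
    IsRankOnePair (A.map f) (B.map f) ↔ IsRankOnePair A B := by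
  have inj : Function.Injective (Subgroup.map f) := Subgroup.map_injective hf
  have hnil : ∀ C : Subgroup H, Group.IsNilpotent (C.map f) ↔ Group.IsNilpotent C := fun C =>
    (Group.isNilpotent_congr (Subgroup.equivMapOfInjective C f hf)).symm
  have key : ∀ C D : Subgroup H,
      RankOneCondition (C.map f) (D.map f) ↔ RankOneCondition C D := by
    intro C D
    constructor
    · intro h c hc hc1
      obtain ⟨d, hd, hd1, e⟩ := h (f c) (Subgroup.mem_map_of_mem f hc)
        (fun e => hc1 (hf (e.trans (map_one f).symm)))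
      obtain ⟨d', hd', rfl⟩ := hd
      refine ⟨d', hd', fun e' => hd1 (by rw [e', map_one]), inj ?_⟩
      rw [map_conjBy, map_conjBy, map_inv, map_inv]
      exact e
    · rintro h _ ⟨c, hc, rfl⟩ hc1
      obtain ⟨d, hd, hd1, e⟩ := h c hc (fun e => hc1 (by rw [e, map_one]))
      refine ⟨f d, Subgroup.mem_map_of_mem f hd, fun e' => hd1 (hf (e'.trans (map_one f).symm)), ?_⟩
      rw [← map_inv, ← map_inv, ← map_conjBy, ← map_conjBy, e]
  refine ⟨fun h => ⟨fun e => h.ne (by rw [e]), (hnil A).1 h.nilpotent_left,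
      (hnil B).1 h.nilpotent_right, (key A B).1 h.cond_left, (key B A).1 h.cond_right⟩,
    fun h => ⟨fun e => h.ne (inj e), (hnil A).2 h.nilpotent_left,
      (hnil B).2 h.nilpotent_right, (key A B).2 h.cond_left, (key B A).2 h.cond_right⟩⟩

lemma special_map_iff (hf : Function.Injective f) {A B : Subgroup H} :
    IsSpecialRankOnePair (A.map f) (B.map f) ↔ IsSpecialRankOnePair A B := by
  constructor
  · intro h
    refine ⟨(r1_map_iff hf).1 h.1, fun a ha ha1 b hb hb1 e => hf ?_⟩
    simp only [map_mul, map_inv]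
    refine h.2 _ (Subgroup.mem_map_of_mem f ha) (fun e' => ha1 (hf (e'.trans (map_one f).symm))) _
      (Subgroup.mem_map_of_mem f hb) (fun e' => hb1 (hf (e'.trans (map_one f).symm))) ?_
    rw [← map_inv, ← map_inv, ← map_conjBy, ← map_conjBy, e]
  · intro h
    refine ⟨(r1_map_iff hf).2 h.1, ?_⟩
    rintro _ ⟨a, ha, rfl⟩ ha1 _ ⟨b, hb, rfl⟩ hb1 e
    rw [← map_inv, ← map_inv, ← map_conjBy, ← map_conjBy] at e
    have := h.2 a ha (fun e' => ha1 (by rw [e', map_one])) b hb (fun e' => hb1 (by rw [e', map_one]))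
      (Subgroup.map_injective hf e)
    simpa using congrArg f this

variable {A B : Subgroup G}

/-- A rank one pair inside the group it generates. -/
lemma r1_restrict (h : IsRankOnePair A B) :
    IsRankOneGroup (A ⊔ B : Subgroup G) (A.subgroupOf (A ⊔ B)) (B.subgroupOf (A ⊔ B)) := by
  refine ⟨?_, (r1_map_iff (A ⊔ B).subtype_injective).1 ?_⟩
  · apply Subgroup.map_injective (A ⊔ B).subtype_injective
    rw [Subgroup.map_sup, Subgroup.map_subgroupOf_eq_of_le le_sup_left,
      Subgroup.map_subgroupOf_eq_of_le le_sup_right, ← MonoidHom.range_eq_map, Subgroup.range_subtype]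
  · rwa [Subgroup.map_subgroupOf_eq_of_le le_sup_left, Subgroup.map_subgroupOf_eq_of_le le_sup_right]

lemma special_of_restrict
    (h : IsSpecialRankOnePair (A.subgroupOf (A ⊔ B)) (B.subgroupOf (A ⊔ B))) :
    IsSpecialRankOnePair A B := by
  have := (special_map_iff (A ⊔ B).subtype_injective).2 h
  rwa [Subgroup.map_subgroupOf_eq_of_le le_sup_left,
    Subgroup.map_subgroupOf_eq_of_le le_sup_right] at this

lemma special_restrict (h : IsSpecialRankOnePair A B) :
    IsSpecialRankOnePair (A.subgroupOf (A ⊔ B)) (B.subgroupOf (A ⊔ B)) := by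
  refine (special_map_iff (A ⊔ B).subtype_injective).1 ?_
  rwa [Subgroup.map_subgroupOf_eq_of_le le_sup_left, Subgroup.map_subgroupOf_eq_of_le le_sup_right]

lemma commutative_restrict (h : IsMulCommutative A) (K : Subgroup G) :
    IsMulCommutative (A.subgroupOf K) :=
  ⟨⟨fun x y => Subtype.ext (Subtype.ext
    (mul_comm_of_commutative h (Subgroup.mem_subgroupOf.1 x.2) (Subgroup.mem_subgroupOf.1 y.2)))⟩⟩

end CfsgLib.RootSub
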