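/-
Non-degenerate classes of abstract root subgroups.
-/
import Cfsg.Agent.Lib.RootSub.Lines
import Cfsg.Agent.Lib.RootSub.Opposite
import Cfsg.Agent.Lib.RootSub.Quadratic
import Cfsg.Agent.Lib.RootSub.Transfer

set_option autoImplicit false

namespace CfsgLib.RootSub

open Cfsg
open scoped commutatorElement

variable {G : Type*} [Group G] {S : Set (Subgroup G)}

lemma linePartners_conj (hS : IsRootSubgroupSet S) {A B : Subgroup G} (g : G)
    (h : B ∈ linePartners S A) : conjBy B g ∈ linePartners S (conjBy A g) := by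
  obtain ⟨⟨hB, hne, hc⟩, h1, h2, h3⟩ := h
  have hmem : ∀ {C : Subgroup G}, C ∈ membersIn S (conjBy A g ⊔ conjBy B g) →
      conjBy C g⁻¹ ∈ membersIn S (A ⊔ B) := by
    rintro C ⟨hC, hle⟩
    refine ⟨hS.conj_mem C hC _, ?_⟩
    have := conjBy_le (g := g⁻¹) hle
    rwa [← conjBy_sup, conjBy_inv_conjBy] at this
  refine ⟨⟨hS.conj_mem B hB g, fun e => hne (conjBy_inj.1 e), (conjBy_commute_iff g).2 hc⟩,
    fun C hC => hC.2, fun x hx hx1 => ?_, fun C hC D hD hne' => ?_⟩
  · rw [← conjBy_sup, mem_conjBy] at hx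
    obtain ⟨C, hC, hxC⟩ := h2 _ hx (fun e => hx1 (conj_eq_one_iff.1 (show g⁻¹ * x * g⁻¹⁻¹ = 1 by rwa [inv_inv])))
    refine ⟨conjBy C g, ⟨hS.conj_mem C hC.1 g, ?_⟩, mem_conjBy.2 hxC⟩
    rw [← conjBy_sup]
    exact conjBy_le hC.2
  · have := h3 _ (hmem hC) _ (hmem hD) (fun e => hne' (conjBy_inj.1 e))
    rw [← conjBy_inf, conjBy_eq_bot_iff] at this
    exact this

lemma class_hasPartner (hS : IsRootSubgroupClass S) (hnd : IsNondegenerateRootSet S) :
    ∀ C ∈ S, HasPartner S C := by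
  obtain ⟨-, ⟨A, hA, B, hB, r⟩, -⟩ := hnd
  intro C hC
  obtain ⟨g, rfl⟩ := hS.2.2 A hA C hC
  exact rs_hasPartner_conj hS.1 ⟨B, hB, r⟩ g

lemma class_exists_linePartner (hS : IsRootSubgroupClass S) (hnd : IsNondegenerateRootSet S)
    {A : Subgroup G} (hA : A ∈ S) : ∃ B, B ∈ linePartners S A := by
  have hF := class_hasPartner hS hnd
  obtain ⟨-, -, P, hP, Q, -, h⟩ := hnd
  have h1 := cc_linePartner hS.1 hP h (hF P hP)
  obtain ⟨g, rfl⟩ := hS.2.2 _ h.1 A hA
  exact ⟨_, linePartners_conj hS.1 g h1⟩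

/-- conjugation action of a subgroup on a normalized subgroup -/
@[instance_reducible]
def conjActOn (K U : Subgroup G) (hn : ∀ x ∈ K, conjBy U x = U) : MulDistribMulAction K U where
  smul x u := ⟨(x : G) * u * (x : G)⁻¹, (SetLike.ext_iff.1 (hn x x.2) _).1 (conj_mem_conjBy u.2)⟩
  one_smul u := Subtype.ext (show (1 : G) * u * (1 : G)⁻¹ = u by group)
  mul_smul x y u := Subtype.ext
    (show ((x : G) * y) * u * ((x : G) * y)⁻¹ = x * (y * u * (y : G)⁻¹) * (x : G)⁻¹ by group)
  smul_mul x u v := Subtype.ext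
    (show (x : G) * (u * v) * (x : G)⁻¹ = (x * u * (x : G)⁻¹) * (x * v * (x : G)⁻¹) by group)
  smul_one x := Subtype.ext (show (x : G) * 1 * (x : G)⁻¹ = 1 by group)

/-- A rank one pair acting on a line as on the natural module is special. -/
theorem special_of_line (hS : IsRootSubgroupSet S) {A B C : Subgroup G} (hA : A ∈ S) (hB : B ∈ S)
    (hC : C ∈ S) (r : IsRankOnePair A B) (k1 : RootCommutatorCase S C B)
    (k2 : RootCommutatorCase S A ⁅C, B⁆) (k3 : ⁅A, ⁅C, B⁆⁆ = C) :
    IsSpecialRankOnePair A B := by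
  apply special_of_restrict
  set K := A ⊔ B with hK
  set U := C ⊔ ⁅C, B⁆ with hU
  have hn : ∀ x ∈ K, conjBy U x = U := fun x hx =>
    opp_normalizes hS k1 k2 hC hB hA k3 x (sup_comm A B ▸ hx)
  letI : CommGroup U := { (inferInstance : Group U) with
    mul_comm := fun u v => Subtype.ext (cc_commute_left hS hC k1 u u.2 v v.2) }
  letI : MulDistribMulAction K U := conjActOn K U hn
  letI : DistribMulAction K (Additive U) :=
    { smul := fun x n => Additive.ofMul (x • n.toMul)
      one_smul := fun n => congrArg Additive.ofMul (one_smul K n.toMul)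
      mul_smul := fun x y n => congrArg Additive.ofMul (mul_smul x y n.toMul)
      smul_zero := fun x => congrArg Additive.ofMul (smul_one x)
      smul_add := fun x n m => congrArg Additive.ofMul (smul_mul' x n.toMul m.toMul) }
  have hval : ∀ (x : K) (n : Additive U),
      (((x • n - n).toMul : U) : G) = ⁅(x : G), ((n.toMul : U) : G)⁆ := by
    intro x n
    rw [sub_eq_add_neg]
    show (x : G) * (n.toMul : U) * (x : G)⁻¹ * ((n.toMul : U) : G)⁻¹ = _
    rw [commutatorElement_def]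
  have hext : ∀ {n m : Additive U}, ((n.toMul : U) : G) = ((m.toMul : U) : G) → n = m :=
    fun e => Additive.toMul.injective (Subtype.ext e)
  refine special_of_quadratic (N := Additive U) (r1_restrict r) ?_ ?_
  · intro a ha a' ha' n
    rw [Subgroup.mem_subgroupOf] at ha ha'
    apply hext
    show (a' : G) * (((a • n - n).toMul : U) : G) * (a' : G)⁻¹ = _
    rw [hval]
    obtain ⟨c, hc, z, hz, e⟩ := cc_mem_sup hS hC k1 (n.toMul).2
    rw [e]
    have h1 : ⁅(a : G), z * c⁆ = ⁅(a : G), z⁆ := by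
      have hac : (a : G) * c = c * (a : G) := (cc_central_left k2 (k3.symm ▸ hc) ha).symm
      have hzc : z * c = c * z := cc_central_left k1 hz hc
      calc ⁅(a : G), z * c⁆ = (a : G) * z * (c * (a : G)⁻¹ * c⁻¹) * z⁻¹ := by
            rw [commutatorElement_def]; group
        _ = (a : G) * z * ((a : G)⁻¹ * c * c⁻¹) * z⁻¹ := by
            rw [show c * (a : G)⁻¹ = (a : G)⁻¹ * c from
              ((show Commute (a : G) c from hac).inv_left).eq.symm]
        _ = _ := by rw [commutatorElement_def]; group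
    rw [h1, ← cc_central_left k2 (Subgroup.commutator_mem_commutator ha hz) ha', mul_inv_cancel_right]
  · obtain ⟨a, ha, ha1⟩ := rs_exists_ne_one hS hA
    obtain ⟨b, hb, hb1⟩ := rs_exists_ne_one hS hB
    obtain ⟨z, hz, hz1⟩ := rs_exists_ne_one hS k1.1
    refine ⟨⟨a, Subgroup.mem_sup_left ha⟩, ⟨b, Subgroup.mem_sup_right hb⟩,
      Additive.ofMul ⟨z, Subgroup.mem_sup_right hz⟩, fun e => ?_⟩
    have e' := congrArg (fun n : Additive U => ((n.toMul : U) : G)) e
    change b * _ * b⁻¹ = _ at e'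
    rw [hval] at e'
    change b * ⁅a, z⁆ * b⁻¹ = ⁅a, z⁆ at e'
    have hc : ⁅a, z⁆ ∈ C := k3.le (Subgroup.commutator_mem_commutator ha hz)
    rw [mul_inv_eq_iff_eq_mul] at e'
    have hc1 : ⁅a, z⁆ = 1 :=
      cc_injective hS hB (cc_symm k1) ⟨A, hA, r1_symm r⟩ hb hb1 hc
        (commutatorElement_eq_one_iff_mul_comm.2 e')
    exact hz1 (cc_injective hS hA k2 ⟨B, hB, r⟩ ha ha1 hz hc1)

end CfsgLib.RootSub
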