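/-
The line graph of a non-degenerate class of abstract root subgroups, and generation of the group
by the line partners of a member together with a rank one partner.
-/
import Cfsg.Agent.Lib.RootSub.Nondegenerate
import Cfsg.Agent.Lib.RootSub.Graph

set_option autoImplicit false

namespace CfsgLib.RootSub

open Cfsg
open scoped commutatorElement

variable {G : Type*} [Group G] {S : Set (Subgroup G)}

lemma linePartners_symm {A B : Subgroup G} (hA : A ∈ S) (h : B ∈ linePartners S A) :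
    A ∈ linePartners S B :=
  ⟨⟨hA, Ne.symm h.1.2.1, commutator_bot_symm h.1.2.2⟩, sup_comm A B ▸ h.2⟩

lemma cc_linePartner_symm (hS : IsRootSubgroupSet S) {A B : Subgroup G} (hA : A ∈ S)
    (h : RootCommutatorCase S A B) (hP : HasPartner S A) :
    ⁅A, B⁆ ∈ linePartners S A ∧ A ∈ linePartners S ⁅A, B⁆ :=
  ⟨linePartners_symm h.1 (cc_linePartner hS hA h hP), cc_linePartner hS hA h hP⟩

variable (hS : IsRootSubgroupClass S) (hnd : IsNondegenerateRootSet S)
include hS hnd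

/-- A rank one pair is joined in the line graph by a path of length three. -/
lemma rankOne_line_reach {A B : Subgroup G} (hA : A ∈ S) (hB : B ∈ S) (r : IsRankOnePair A B) :
    Relation.ReflTransGen (EAdj S S) A B := by
  have hF := class_hasPartner hS hnd
  obtain ⟨C, hC⟩ := class_exists_linePartner hS hnd hA
  obtain ⟨C₀, hC₀, -, k1, k2, k3, -⟩ :=
    line_fix hS.1 hF hA hC ⟨hA, le_sup_left⟩ hB r
  have e1 : C₀ ∈ linePartners S A := by
    have := (cc_linePartner_symm hS.1 hA k2 (hF A hA)).1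
    rwa [k3] at this
  have e2 := (cc_linePartner_symm hS.1 hC₀.1 k1 (hF C₀ hC₀.1)).1
  have e3 := (cc_linePartner_symm hS.1 hB (cc_symm k1) (hF B hB)).2
  rw [Subgroup.commutator_comm] at e3
  exact ((Relation.ReflTransGen.single ⟨hA, hC₀.1, e1⟩).tail ⟨hC₀.1, k1.1, e2⟩).tail
    ⟨k1.1, hB, e3⟩

lemma class_EAdj_connected : IsConnectedFamily (EAdj S S) S := by
  obtain ⟨A₀, hA₀, B₀, hB₀, r₀⟩ := hnd.2.1
  have hconn := rs_connected_of_class hS.1 hS.2 hA₀ ⟨B₀, hB₀, r₀⟩
  intro A hA B hB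
  have h := hconn A hA B hB
  induction h with
  | refl => exact .refl
  | tail _ h ih => exact (ih h.1).trans (rankOne_line_reach hS hnd h.1 h.2.1 h.2.2)

lemma class_DAdj_connected : IsConnectedFamily (DAdj S) S := fun A hA B hB =>
  Relation.ReflTransGen.mono (fun _ _ (h : EAdj S S _ _) =>
    (⟨h.1, h.2.1, Ne.symm h.2.2.1.2.1, h.2.2.1.2.2⟩ : DAdj S _ _)) A B
    (class_EAdj_connected hS hnd A hA B hB)

/-- The subgroup generated by the line partners of `A` and a rank one partner is the whole group. -/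
theorem class_generated_by_line_partners {A B : Subgroup G} (hA : A ∈ S) (hB : B ∈ S)
    (r : IsRankOnePair A B) : (⨆ C ∈ linePartners S A, C) ⊔ B = ⊤ := by
  have hF := class_hasPartner hS hnd
  obtain ⟨H, hH⟩ : ∃ H, H = (⨆ C ∈ linePartners S A, C) ⊔ B := ⟨_, rfl⟩
  rw [← hH]
  have hlp : ∀ {C : Subgroup G}, C ∈ linePartners S A → C ≤ H := fun {C} hC =>
    hH ▸ le_trans (le_biSup (fun D => D) hC) le_sup_left
  have hBH : B ≤ H := hH ▸ le_sup_right
  -- the line data through any line partner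
  have hline : ∀ {C : Subgroup G}, C ∈ linePartners S A →
      A ≤ H ∧ ∃ h ∈ H, C = conjBy A h := by
    intro C hC
    obtain ⟨C₀, hC₀, hne, k1, k2, k3, k4⟩ := line_fix hS.1 hF hA hC ⟨hA, le_sup_left⟩ hB r
    obtain ⟨R, hR⟩ : ∃ R, R = ⁅C₀, B⁆ := ⟨_, rfl⟩
    rw [← hR] at k2 k3
    have e0 : C₀ ∈ linePartners S A := by
      have := (cc_linePartner_symm hS.1 hA k2 (hF A hA)).1
      rwa [k3] at this
    have hC₀H : C₀ ≤ H := hlp e0
    have hRH : R ≤ H := by
      rw [hR, Subgroup.commutator_le]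
      intro x hx y hy
      exact mul_mem (mul_mem (mul_mem (hC₀H hx) (hBH hy)) (inv_mem (hC₀H hx))) (inv_mem (hBH hy))
    obtain ⟨x, -, x1, x2⟩ := line_two_transitive hS.1 hF hA e0 A ⟨hA, le_sup_left⟩ C₀
      ⟨hC₀.1, le_sup_right⟩ C₀ ⟨hC₀.1, le_sup_right⟩ A ⟨hA, le_sup_left⟩ (Ne.symm hne) hne
    obtain ⟨C', hC'⟩ : ∃ C', C' = conjBy R x := ⟨_, rfl⟩
    have hC'S : C' ∈ S := hC' ▸ hS.1.conj_mem R (hR ▸ k1.1) x
    have hcom : ⁅C', C₀⁆ = A := by
      rw [Subgroup.commutator_comm, hC', ← x1]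
      show ⁅A.map _, R.map _⁆ = A
      rw [← Subgroup.map_commutator, k3]
      exact x2
    have hcc : RootCommutatorCase S C' C₀ := rs_cc_of_mem hS.1 hC'S hC₀.1 (hcom ▸ hA)
    have hC'H : C' ≤ H := by
      have := (cc_linePartner_symm hS.1 hC'S hcc (hF C' hC'S)).2
      rw [hcom] at this
      exact hlp this
    have hAH : A ≤ H := by
      rw [← hcom, Subgroup.commutator_le]
      intro u hu v hv
      exact mul_mem (mul_mem (mul_mem (hC'H hu) (hC₀H hv)) (inv_mem (hC'H hu))) (inv_mem (hC₀H hv))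
    refine ⟨hAH, ?_⟩
    have horb := opp_orbit hS.1 k2 (k3.symm ▸ hcc) hA (hR ▸ k1.1) hC'S (by rw [k3, hcom])
    obtain ⟨y, hy, ey⟩ : A ∈ {E | ∃ y ∈ R ⊔ C', E = conjBy ⁅A, R⁆ y} :=
      horb.1 ▸ ⟨1, one_mem _, (conjBy_one A).symm⟩
    rw [k3] at ey
    have hyH : y ∈ H := sup_le hRH hC'H hy
    have hmem : C ∈ membersIn S (A ⊔ ⁅A, R⁆) := ⟨hC.1.1, by rw [k3, k4]; exact le_sup_right⟩
    rw [cc_members hS.1 hA k2 (hF A hA)] at hmem
    rcases hmem with ⟨z, hz, rfl⟩ | hmem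
    · exact ⟨z, hRH hz, rfl⟩
    · refine ⟨y⁻¹, inv_mem hyH, ?_⟩
      rw [Set.mem_singleton_iff.1 hmem, k3, ey, conjBy_inv_conjBy]
  obtain ⟨C₁, hC₁⟩ := class_exists_linePartner hS hnd hA
  have hAH := (hline hC₁).1
  have hall : ∀ E, Relation.ReflTransGen (EAdj S S) A E → ∃ h ∈ H, E = conjBy A h := by
    intro E hE
    induction hE with
    | refl => exact ⟨1, one_mem _, (conjBy_one A).symm⟩
    | @tail E F _ h ih =>
      obtain ⟨g, hg, rfl⟩ := ih
      have hF' := linePartners_conj hS.1 g⁻¹ h.2.2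
      rw [conjBy_inv_conjBy] at hF'
      obtain ⟨k, hk, ek⟩ := (hline hF').2
      refine ⟨g * k, mul_mem hg hk, ?_⟩
      rw [← conjBy_conjBy, ← ek, conjBy_conjBy_inv]
  rw [eq_top_iff, ← hS.1.generates]
  refine iSup₂_le fun E hE => ?_
  obtain ⟨g, hg, rfl⟩ := hall E (class_EAdj_connected hS hnd A hA E hE)
  intro u hu
  rw [mem_conjBy] at hu
  have := mul_mem (mul_mem hg (hAH hu)) (inv_mem hg)
  rwa [show g * (g⁻¹ * u * g) * g⁻¹ = u by group] at this

end CfsgLib.RootSub
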