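/-
SL₂ acting on a plane with a chosen complement, and transvection matrices.
-/
import Cfsg.Agent.Lib.RootSub.SL2Model
import Cfsg.Agent.Lib.RootSub.Transfer

set_option autoImplicit false

namespace CfsgLib.RootSub

open Cfsg Matrix

variable {N : Type*} [Fintype N] [DecidableEq N] {k : Type*} [Field k]

/-- `x ↦ x + c (l ⬝ᵥ x) v`. -/
def tvMat (v l : N → k) (c : k) : Matrix N N k := 1 + c • vecMulVec v l

lemma tvMat_mulVec (v l : N → k) (c : k) (x : N → k) :
    tvMat v l c *ᵥ x = x + (c * (l ⬝ᵥ x)) • v := by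
  rw [tvMat, add_mulVec, one_mulVec, smul_mulVec, vecMulVec_mulVec, op_smul_eq_smul, smul_smul]

lemma mat_ext {A B : Matrix N N k} (h : ∀ x, A *ᵥ x = B *ᵥ x) : A = B :=
  ext_of_mulVec_single fun i => h (Pi.single i 1)

lemma tvMat_det {v l : N → k} (h : l ⬝ᵥ v = 0) (c : k) : (tvMat v l c).det = 1 := by
  have : tvMat v l c = 1 + replicateCol Unit (c • v) * replicateRow Unit l := by
    rw [← vecMulVec_eq Unit, tvMat, smul_vecMulVec]
  rw [this, det_one_add_replicateCol_mul_replicateRow, dotProduct_smul, h, smul_zero, add_zero]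

lemma exists_dot_ne_zero {v : N → k} (hv : v ≠ 0) : ∃ x : N → k, v ⬝ᵥ x ≠ 0 := by
  obtain ⟨i, hi⟩ := Function.ne_iff.1 hv
  exact ⟨Pi.single i 1, by simpa [dotProduct_single] using hi⟩

lemma tvMat_zero (v l : N → k) : tvMat v l 0 = 1 := by simp [tvMat]

lemma tvMat_inj {v l : N → k} (hv : v ≠ 0) (hl : l ≠ 0) {c d : k} (h : tvMat v l c = tvMat v l d) :
    c = d := by
  obtain ⟨x, hx⟩ := exists_dot_ne_zero hl
  have h1 := congrArg (fun A => A *ᵥ x) h
  simp only [tvMat_mulVec, add_right_inj] at h1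
  have h2 := sub_eq_zero.2 h1
  rw [← sub_smul, smul_eq_zero, ← sub_mul, mul_eq_zero] at h2
  simpa [hv, hx, sub_eq_zero] using h2

lemma tvMat_add {v l : N → k} (h : l ⬝ᵥ v = 0) (c d : k) :
    tvMat v l c * tvMat v l d = tvMat v l (c + d) := by
  refine mat_ext fun x => ?_
  simp only [← mulVec_mulVec, tvMat_mulVec, dotProduct_add, dotProduct_smul, h, smul_zero, add_zero]
  module

/-- Two vectors and two covectors dual to each other. -/
structure Plane (N : Type*) [Fintype N] (k : Type*) [Field k] where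
  /-- first vector -/
  v : N → k
  /-- second vector -/
  w : N → k
  /-- covector vanishing on `v` -/
  l : N → k
  /-- covector vanishing on `w` -/
  m : N → k
  lv : l ⬝ᵥ v = 0
  lw : l ⬝ᵥ w = 1
  mv : m ⬝ᵥ v = 1
  mw : m ⬝ᵥ w = 0

/-- The matrix of an element of SL₂ on the plane, trivial on the complement. -/
def Plane.mat (P : Plane N k) (g : Matrix (Fin 2) (Fin 2) k) : Matrix N N k :=
  1 + vecMulVec P.v ((g 0 0 - 1) • P.m + g 0 1 • P.l) + vecMulVec P.w (g 1 0 • P.m + (g 1 1 - 1) • P.l)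

lemma Plane.mat_mulVec (P : Plane N k) (g : Matrix (Fin 2) (Fin 2) k) (x : N → k) :
    P.mat g *ᵥ x = x + ((g 0 0 - 1) * (P.m ⬝ᵥ x) + g 0 1 * (P.l ⬝ᵥ x)) • P.v +
      (g 1 0 * (P.m ⬝ᵥ x) + (g 1 1 - 1) * (P.l ⬝ᵥ x)) • P.w := by
  simp only [Plane.mat, add_mulVec, one_mulVec, vecMulVec_mulVec, op_smul_eq_smul, add_dotProduct,
    smul_dotProduct, smul_eq_mul]

/-- SL₂ acting on the plane. -/
def Plane.hom (P : Plane N k) : SpecialLinearGroup (Fin 2) k →* Matrix N N k where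
  toFun g := P.mat g
  map_one' := by
    refine mat_ext fun x => ?_
    simp [Plane.mat_mulVec]
  map_mul' g h := by
    refine mat_ext fun x => ?_
    rw [show (((g * h : SpecialLinearGroup (Fin 2) k)) : Matrix (Fin 2) (Fin 2) k) =
      (g : Matrix (Fin 2) (Fin 2) k) * (h : Matrix (Fin 2) (Fin 2) k) from rfl,
      ← mulVec_mulVec, P.mat_mulVec _ x, P.mat_mulVec (h : Matrix (Fin 2) (Fin 2) k) x,
      P.mat_mulVec (g : Matrix (Fin 2) (Fin 2) k)]
    simp only [dotProduct_add, dotProduct_smul, P.lv, P.lw, P.mv, P.mw, smul_eq_mul,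
      Matrix.mul_apply, Fin.sum_univ_two]
    module

lemma Plane.hom_apply (P : Plane N k) (g : SpecialLinearGroup (Fin 2) k) :
    P.hom g = P.mat g := rfl

lemma Plane.hom_injective (P : Plane N k) : Function.Injective P.hom := by
  intro g h e
  apply Subtype.ext
  rw [Plane.hom_apply, Plane.hom_apply] at e
  have key : ∀ (g : Matrix (Fin 2) (Fin 2) k) (y : N → k),
      g 0 0 * (P.m ⬝ᵥ y) + g 0 1 * (P.l ⬝ᵥ y) = P.m ⬝ᵥ (P.mat g *ᵥ y) ∧
      g 1 0 * (P.m ⬝ᵥ y) + g 1 1 * (P.l ⬝ᵥ y) = P.l ⬝ᵥ (P.mat g *ᵥ y) := by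
    intro g y
    rw [P.mat_mulVec]
    simp only [dotProduct_add, dotProduct_smul, P.lv, P.lw, P.mv, P.mw, smul_eq_mul]
    constructor <;> ring
  have k1 := key (g : Matrix (Fin 2) (Fin 2) k) P.v
  have k2 := key (h : Matrix (Fin 2) (Fin 2) k) P.v
  have k3 := key (g : Matrix (Fin 2) (Fin 2) k) P.w
  have k4 := key (h : Matrix (Fin 2) (Fin 2) k) P.w
  simp only [P.lv, P.lw, P.mv, P.mw, mul_one, mul_zero, add_zero, zero_add] at k1 k2 k3 k4
  ext i j
  fin_cases i <;> fin_cases j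
  · exact k1.1.trans (e ▸ k2.1.symm)
  · exact k3.1.trans (e ▸ k4.1.symm)
  · exact k1.2.trans (e ▸ k2.2.symm)
  · exact k3.2.trans (e ▸ k4.2.symm)

lemma Plane.hom_slU (P : Plane N k) (t : k) : P.hom (slU t) = tvMat P.v P.l t := by
  refine mat_ext fun x => ?_
  rw [Plane.hom_apply, Plane.mat_mulVec, tvMat_mulVec]
  simp [slU_val]

lemma Plane.hom_slL (P : Plane N k) (t : k) : P.hom (slL t) = tvMat P.w P.m t := by
  refine mat_ext fun x => ?_
  rw [Plane.hom_apply, Plane.mat_mulVec, tvMat_mulVec]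
  simp [slL_val]

lemma sl2_induction {p : SpecialLinearGroup (Fin 2) k → Prop} (g : SpecialLinearGroup (Fin 2) k)
    (h1 : p 1) (hU : ∀ t, p (slU t)) (hL : ∀ t, p (slL t)) (hmul : ∀ a b, p a → p b → p (a * b)) :
    p g := by
  have hU' : ∀ y ∈ upperUnipotentSL2 k, p y ∧ p y⁻¹ := by
    intro y hy
    obtain ⟨t, rfl⟩ := mem_upperUnipotent.1 hy
    exact ⟨hU t, by rw [← slU_neg]; exact hU _⟩
  have hL' : ∀ y ∈ lowerUnipotentSL2 k, p y ∧ p y⁻¹ := by
    intro y hy
    obtain ⟨t, rfl⟩ := mem_lowerUnipotent.1 hy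
    exact ⟨hL t, by rw [← slL_neg]; exact hL _⟩
  let H : Subgroup (SpecialLinearGroup (Fin 2) k) :=
    { carrier := {a | p a ∧ p a⁻¹}
      one_mem' := ⟨h1, by rw [inv_one]; exact h1⟩
      mul_mem' := fun {a b} ha hb => ⟨hmul _ _ ha.1 hb.1, by rw [_root_.mul_inv_rev]; exact hmul _ _ hb.2 ha.2⟩
      inv_mem' := fun {a} ha => ⟨ha.2, by rw [inv_inv]; exact ha.1⟩ }
  have hle : lowerUnipotentSL2 k ⊔ upperUnipotentSL2 k ≤ H := sup_le hL' hU'
  exact (hle (sl2_sup_eq_top (k := k) ▸ Subgroup.mem_top g)).1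

/-- Commuting transvection matrices. -/
lemma tvMat_commute {v l w m : N → k} (hlw : l ⬝ᵥ w = 0) (hmv : m ⬝ᵥ v = 0) (c d : k) :
    tvMat v l c * tvMat w m d = tvMat w m d * tvMat v l c := by
  refine mat_ext fun x => ?_
  simp only [← mulVec_mulVec, tvMat_mulVec, dotProduct_add, dotProduct_smul, hlw, hmv, smul_zero,
    add_zero]
  module

/-- The commutator of two transvection matrices sharing one incidence. -/
lemma tvMat_commutator {v l w m : N → k} (hlv : l ⬝ᵥ v = 0) (hmw : m ⬝ᵥ w = 0) (hmv : m ⬝ᵥ v = 0)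
    (c d : k) :
    tvMat v l c * tvMat w m d * tvMat v l (-c) * tvMat w m (-d) = tvMat v m (c * d * (l ⬝ᵥ w)) := by
  refine mat_ext fun x => ?_
  simp only [← mulVec_mulVec, tvMat_mulVec, dotProduct_add, dotProduct_smul, hlv, hmw, hmv,
    smul_eq_mul]
  module

/-- An injective map of SL₂ sending the unitriangular subgroups onto `A` and `B`. -/
lemma r1_of_sl2 {G : Type*} [Group G] (φ : SpecialLinearGroup (Fin 2) k →* G)
    (hφ : Function.Injective φ) :
    IsRankOnePair ((upperUnipotentSL2 k).map φ) ((lowerUnipotentSL2 k).map φ) :=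
  (r1_map_iff hφ).2 (r1_symm sl2_isRankOnePair)

lemma psl2_of_sl2 {G : Type*} [Group G] (φ : SpecialLinearGroup (Fin 2) k →* G)
    (hφ : Function.Injective φ) :
    IsPSL2PairOver k ((upperUnipotentSL2 k).map φ) ((lowerUnipotentSL2 k).map φ) := by
  refine ⟨φ, ?_, ?_, rfl, rfl⟩
  · rw [← Subgroup.map_sup, sup_comm, sl2_sup_eq_top, MonoidHom.range_eq_map]
  · rw [φ.ker_eq_bot hφ]
    exact bot_le

lemma not_r1_of_commute {G : Type*} [Group G] {A B : Subgroup G} (h : ⁅A, B⁆ = ⊥) :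
    ¬ IsRankOnePair A B := by
  intro hr
  refine r1_left_ne_bot hr (eq_bot_iff.2 fun a ha => ?_)
  rw [commutator_eq_bot_iff] at h
  exact Subgroup.mem_bot.2 (r1_eq_one_of_normalizes hr ha
    (conjBy_of_commutes fun b hb => h a ha b hb))

end CfsgLib.RootSub
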