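/-
Transvections of SLₙ attached to incident vector–covector pairs.
-/
import Cfsg.Agent.Lib.RootSub.PlaneHom
import Cfsg.Agent.Lib.Linear.Transvection

set_option autoImplicit false

namespace CfsgLib.RootSub

open Cfsg Matrix

variable {N : Type*} [Fintype N] [DecidableEq N] {k : Type*} [Field k]

/-- An incident pair: a non-zero vector and a non-zero covector vanishing on it. -/
structure Incident (N : Type*) [Fintype N] (k : Type*) [Field k] where
  /-- the vector -/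
  vec : N → k
  /-- the covector -/
  cov : N → k
  vec_ne : vec ≠ 0
  cov_ne : cov ≠ 0
  incident : cov ⬝ᵥ vec = 0

/-- The transvection `x ↦ x + c (l ⬝ᵥ x) v`. -/
def Incident.tv (P : Incident N k) (c : k) : SpecialLinearGroup N k :=
  ⟨tvMat P.vec P.cov c, tvMat_det P.incident c⟩

lemma Incident.tv_val (P : Incident N k) (c : k) :
    ((P.tv c : SpecialLinearGroup N k) : Matrix N N k) = tvMat P.vec P.cov c := rfl

lemma Incident.tv_add (P : Incident N k) (c d : k) : P.tv c * P.tv d = P.tv (c + d) :=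
  Subtype.ext (tvMat_add P.incident c d)

/-- `c ↦ tv c`. -/
def Incident.tvHom (P : Incident N k) : Multiplicative k →* SpecialLinearGroup N k :=
  MonoidHom.mk' (fun c => P.tv c.toAdd) fun _ _ => (P.tv_add _ _).symm

/-- The root subgroup of an incident pair. -/
def Incident.sub (P : Incident N k) : Subgroup (SpecialLinearGroup N k) := P.tvHom.range

lemma Incident.mem_sub {P : Incident N k} {g : SpecialLinearGroup N k} :
    g ∈ P.sub ↔ ∃ c, P.tv c = g :=
  ⟨fun ⟨c, h⟩ => ⟨c.toAdd, h⟩, fun ⟨c, h⟩ => ⟨Multiplicative.ofAdd c, h⟩⟩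

lemma Incident.tv_zero (P : Incident N k) : P.tv 0 = 1 := Subtype.ext (tvMat_zero _ _)

lemma Incident.tv_inv (P : Incident N k) (c : k) : (P.tv c)⁻¹ = P.tv (-c) :=
  inv_eq_of_mul_eq_one_right (by rw [P.tv_add, add_neg_cancel, P.tv_zero])

lemma Incident.tv_inj (P : Incident N k) {c d : k} (h : P.tv c = P.tv d) : c = d :=
  tvMat_inj P.vec_ne P.cov_ne (congrArg Subtype.val h)

lemma Incident.tv_ne_one (P : Incident N k) {c : k} (hc : c ≠ 0) : P.tv c ≠ 1 := fun h =>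
  hc (P.tv_inj (h.trans P.tv_zero.symm))

lemma Incident.sub_commutative (P : Incident N k) : IsMulCommutative P.sub :=
  inferInstanceAs (IsMulCommutative P.tvHom.range)

lemma Incident.sub_ne_bot (P : Incident N k) : P.sub ≠ ⊥ := fun h =>
  P.tv_ne_one one_ne_zero (Subgroup.mem_bot.1 (h ▸ Incident.mem_sub.2 ⟨1, rfl⟩))

lemma sl_inv_mul (g : SpecialLinearGroup N k) :
    ((g⁻¹ : SpecialLinearGroup N k) : Matrix N N k) * (g : Matrix N N k) = 1 :=
  congrArg Subtype.val (inv_mul_cancel g)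

lemma sl_mul_inv (g : SpecialLinearGroup N k) :
    (g : Matrix N N k) * ((g⁻¹ : SpecialLinearGroup N k) : Matrix N N k) = 1 :=
  congrArg Subtype.val (mul_inv_cancel g)

lemma sl_mul (g h : SpecialLinearGroup N k) :
    ((g * h : SpecialLinearGroup N k) : Matrix N N k) = (g : Matrix N N k) * (h : Matrix N N k) :=
  rfl

lemma mulVec_ne_zero (g : SpecialLinearGroup N k) {v : N → k} (hv : v ≠ 0) :
    (g : Matrix N N k) *ᵥ v ≠ 0 := fun h => hv (by
  have h' := congrArg (fun y => ((g⁻¹ : SpecialLinearGroup N k) : Matrix N N k) *ᵥ y) h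
  simp only [mulVec_mulVec, mulVec_zero, sl_inv_mul,
    one_mulVec] at h'
  exact h')

lemma vecMul_ne_zero (g : SpecialLinearGroup N k) {v : N → k} (hv : v ≠ 0) :
    v ᵥ* (g : Matrix N N k) ≠ 0 := fun h => hv (by
  have h' := congrArg (fun y => y ᵥ* ((g⁻¹ : SpecialLinearGroup N k) : Matrix N N k)) h
  simp only [vecMul_vecMul, zero_vecMul, sl_mul_inv,
    vecMul_one] at h'
  exact h')

/-- The image of an incident pair. -/
def Incident.act (g : SpecialLinearGroup N k) (P : Incident N k) : Incident N k where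
  vec := (g : Matrix N N k) *ᵥ P.vec
  cov := P.cov ᵥ* ((g⁻¹ : SpecialLinearGroup N k) : Matrix N N k)
  vec_ne := mulVec_ne_zero g P.vec_ne
  cov_ne := vecMul_ne_zero g⁻¹ P.cov_ne
  incident := by
    rw [← dotProduct_mulVec, mulVec_mulVec, sl_inv_mul, one_mulVec]
    exact P.incident

lemma Incident.tv_act (g : SpecialLinearGroup N k) (P : Incident N k) (c : k) :
    g * P.tv c * g⁻¹ = (P.act g).tv c := by
  apply Subtype.ext
  refine mat_ext fun x => ?_
  show ((g : Matrix N N k) * (P.tv c : SpecialLinearGroup N k).1 *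
    ((g⁻¹ : SpecialLinearGroup N k) : Matrix N N k)) *ᵥ x = _
  rw [Incident.tv_val, Incident.tv_val, ← mulVec_mulVec, ← mulVec_mulVec, tvMat_mulVec, tvMat_mulVec]
  simp only [Incident.act]
  rw [mulVec_add, mulVec_smul, mulVec_mulVec, sl_mul_inv, one_mulVec, dotProduct_mulVec]

lemma Incident.sub_act (g : SpecialLinearGroup N k) (P : Incident N k) :
    Cfsg.conjBy P.sub g = (P.act g).sub := by
  ext x
  rw [mem_conjBy, Incident.mem_sub, Incident.mem_sub]
  constructor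
  · rintro ⟨c, hc⟩
    exact ⟨c, by rw [← Incident.tv_act, hc]; group⟩
  · rintro ⟨c, rfl⟩
    exact ⟨c, by rw [← Incident.tv_act]; group⟩

lemma Incident.tv_congr {P Q : Incident N k} (hv : P.vec = Q.vec) (hl : P.cov = Q.cov) :
    P = Q := by
  cases P; cases Q; subst hv; subst hl; rfl

/-- Two independent vectors admit a common covector with value one. -/
lemma exists_common_one {a b : N → k} (ha : a ≠ 0) (hb : ∀ c : k, b ≠ c • a) :
    ∃ w : N → k, a ⬝ᵥ w = 1 ∧ b ⬝ᵥ w = 1 := by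
  obtain ⟨x, hx⟩ := exists_dot_ne_zero ha
  have hb' : b - ((b ⬝ᵥ x) / (a ⬝ᵥ x)) • a ≠ 0 := fun h => hb _ (sub_eq_zero.1 h)
  obtain ⟨y, hy⟩ := exists_dot_ne_zero hb'
  simp only [sub_dotProduct, smul_dotProduct, smul_eq_mul] at hy
  set B := b ⬝ᵥ y - b ⬝ᵥ x / a ⬝ᵥ x * (a ⬝ᵥ y) with hB
  refine ⟨(a ⬝ᵥ x)⁻¹ • x +
    ((1 - b ⬝ᵥ x / a ⬝ᵥ x) / B) • (y - (a ⬝ᵥ y / a ⬝ᵥ x) • x), ?_, ?_⟩
  · simp only [dotProduct_add, dotProduct_smul, dotProduct_sub, smul_eq_mul]
    field_simp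
    ring
  · simp only [dotProduct_add, dotProduct_smul, dotProduct_sub, smul_eq_mul]
    rw [show b ⬝ᵥ y - a ⬝ᵥ y / a ⬝ᵥ x * (b ⬝ᵥ x) = B by rw [hB]; ring,
      div_mul_cancel₀ _ hy, inv_mul_eq_div]
    ring

lemma exists_move_vec {a b : N → k} (ha : a ≠ 0) (hb : ∀ c : k, b ≠ c • a) :
    ∃ g : SpecialLinearGroup N k, (g : Matrix N N k) *ᵥ a = b := by
  obtain ⟨w, h1, h2⟩ := exists_common_one ha hb
  have h0 : w ⬝ᵥ (b - a) = 0 := by
    rw [dotProduct_sub, dotProduct_comm w, dotProduct_comm w, h1, h2, sub_self]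
  refine ⟨⟨tvMat (b - a) w 1, tvMat_det h0 1⟩, ?_⟩
  show tvMat (b - a) w 1 *ᵥ a = b
  rw [tvMat_mulVec, dotProduct_comm w, h1]
  simp

/-- Moving a covector while fixing a vector it annihilates. -/
lemma exists_move_cov {v a b : N → k} (ha : a ≠ 0) (hav : a ⬝ᵥ v = 0) (hbv : b ⬝ᵥ v = 0)
    (hb : ∀ c : k, b ≠ c • a) :
    ∃ g : SpecialLinearGroup N k, (g : Matrix N N k) *ᵥ v = v ∧ b ᵥ* (g : Matrix N N k) = a := by
  obtain ⟨w, h1, h2⟩ := exists_common_one ha hb
  have h0 : (a - b) ⬝ᵥ w = 0 := by rw [sub_dotProduct, h1, h2, sub_self]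
  refine ⟨⟨tvMat w (a - b) 1, tvMat_det h0 1⟩, ?_, ?_⟩
  · show tvMat w (a - b) 1 *ᵥ v = v
    rw [tvMat_mulVec, sub_dotProduct, hav, hbv]
    simp
  · show b ᵥ* tvMat w (a - b) 1 = a
    rw [tvMat, vecMul_add, vecMul_one, one_smul, vecMul_vecMulVec, h2, one_smul]
    abel

lemma single_indep {i j : N} (hij : i ≠ j) (a : N → k) (ha : a ≠ 0) :
    (∀ c : k, (Pi.single i 1 : N → k) ≠ c • a) ∨ (∀ c : k, (Pi.single j 1 : N → k) ≠ c • a) := by
  by_contra h
  push Not at h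
  obtain ⟨⟨c, hc⟩, ⟨d, hd⟩⟩ := h
  have h1 := congrFun hc i
  have h2 := congrFun hd i
  simp [hij] at h1 h2
  rcases h2 with h2 | h2
  · have := congrFun hd j
    simp [h2] at this
  · simp [h2] at h1

/-- Any incident pair can be moved to `(eᵢ, eⱼ)`. -/
lemma Incident.exists_act_single (P : Incident N k) {i j l : N} (hij : i ≠ j) (hil : i ≠ l) (hjl : j ≠ l) :
    ∃ g : SpecialLinearGroup N k, (P.act g).vec = Pi.single i 1 ∧ (P.act g).cov = Pi.single j 1 := by
  classical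
  -- move the vector
  obtain ⟨g, hg⟩ : ∃ g : SpecialLinearGroup N k, (g : Matrix N N k) *ᵥ P.vec = Pi.single i 1 := by
    by_cases h : ∀ c : k, (Pi.single i 1 : N → k) ≠ c • P.vec
    · exact exists_move_vec P.vec_ne h
    push Not at h
    obtain ⟨c, hc⟩ := h
    have hj := ((single_indep hij P.vec P.vec_ne).resolve_left fun h => h c hc)
    obtain ⟨g₁, h₁⟩ := exists_move_vec P.vec_ne hj
    obtain ⟨g₂, h₂⟩ := exists_move_vec (a := (Pi.single j 1 : N → k)) (b := Pi.single i 1)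
      (fun h => by simpa using congrFun h j)
      (fun d h => by simpa [hij] using congrFun h i)
    exact ⟨g₂ * g₁, by rw [sl_mul, ← mulVec_mulVec, h₁, h₂]⟩
  -- move the covector
  set Q := P.act g with hQ
  have hQv : Q.vec = Pi.single i 1 := hg
  have hQi : Q.cov i = 0 := by
    have := Q.incident
    rwa [hQv, dotProduct_single, mul_one] at this
  obtain ⟨f, hfv, hf⟩ : ∃ f : SpecialLinearGroup N k,
      (f : Matrix N N k) *ᵥ (Pi.single i 1 : N → k) = Pi.single i 1 ∧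
      (Pi.single j 1 : N → k) ᵥ* (f : Matrix N N k) = Q.cov := by
    have hzero : ∀ a : N, a ≠ i → (Pi.single a 1 : N → k) ⬝ᵥ Pi.single i 1 = 0 := fun a h => by
      simp [dotProduct_single, h.symm]
    have hq0 : Q.cov ⬝ᵥ Pi.single i 1 = 0 := by rw [dotProduct_single, hQi, zero_mul]
    by_cases h : ∀ c : k, (Pi.single j 1 : N → k) ≠ c • Q.cov
    · exact exists_move_cov Q.cov_ne hq0 (hzero j hij.symm) h
    push Not at h
    obtain ⟨c, hc⟩ := h
    have hl := (single_indep hjl Q.cov Q.cov_ne).resolve_left fun h => h c hc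
    obtain ⟨g₁, h₁, h₁'⟩ := exists_move_cov Q.cov_ne hq0 (hzero l hil.symm) hl
    obtain ⟨g₂, h₂, h₂'⟩ := exists_move_cov (v := (Pi.single i 1 : N → k))
      (a := (Pi.single l 1 : N → k)) (b := Pi.single j 1)
      (fun h => by simpa using congrFun h l) (hzero l hil.symm) (hzero j hij.symm)
      (fun d h => by simpa [hjl] using congrFun h j)
    exact ⟨g₂ * g₁, by rw [sl_mul, ← mulVec_mulVec, h₁, h₂],
      by rw [sl_mul, ← vecMul_vecMul, h₂', h₁']⟩
  refine ⟨f * g, ?_, ?_⟩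
  · show ((f * g : SpecialLinearGroup N k) : Matrix N N k) *ᵥ P.vec = _
    rw [sl_mul, ← mulVec_mulVec, hg, hfv]
  · show P.cov ᵥ* (((f * g)⁻¹ : SpecialLinearGroup N k) : Matrix N N k) = _
    rw [_root_.mul_inv_rev, sl_mul, ← vecMul_vecMul]
    show Q.cov ᵥ* ((f⁻¹ : SpecialLinearGroup N k) : Matrix N N k) = _
    rw [← hf, vecMul_vecMul, sl_mul_inv, vecMul_one]

/-- The plane of two incident pairs in general position. -/
def Incident.plane (P Q : Incident N k) (a : P.cov ⬝ᵥ Q.vec ≠ 0) (b : Q.cov ⬝ᵥ P.vec ≠ 0) :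
    Plane N k where
  v := P.vec
  w := (P.cov ⬝ᵥ Q.vec)⁻¹ • Q.vec
  l := P.cov
  m := (Q.cov ⬝ᵥ P.vec)⁻¹ • Q.cov
  lv := P.incident
  lw := by rw [dotProduct_smul, smul_eq_mul, inv_mul_cancel₀ a]
  mv := by rw [smul_dotProduct, smul_eq_mul, inv_mul_cancel₀ b]
  mw := by rw [smul_dotProduct, dotProduct_smul, Q.incident, smul_zero, smul_zero]

variable (P Q : Incident N k)

lemma Incident.plane_mem (a : P.cov ⬝ᵥ Q.vec ≠ 0) (b : Q.cov ⬝ᵥ P.vec ≠ 0)
    (g : SpecialLinearGroup (Fin 2) k) : ((P.plane Q a b).hom g).det = 1 := by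
  induction g using sl2_induction with
  | h1 => rw [map_one, det_one]
  | hU t => rw [Plane.hom_slU]; exact tvMat_det (P.plane Q a b).lv t
  | hL t => rw [Plane.hom_slL]; exact tvMat_det (P.plane Q a b).mw t
  | hmul x y hx hy => rw [map_mul, det_mul, hx, hy, mul_one]

/-- SL₂ of two incident pairs in general position. -/
def Incident.planeHom (a : P.cov ⬝ᵥ Q.vec ≠ 0) (b : Q.cov ⬝ᵥ P.vec ≠ 0) :
    SpecialLinearGroup (Fin 2) k →* SpecialLinearGroup N k :=
  MonoidHom.mk' (fun g => ⟨(P.plane Q a b).hom g, P.plane_mem Q a b g⟩)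
    fun g h => Subtype.ext (map_mul (P.plane Q a b).hom g h)

lemma Incident.planeHom_injective (a : P.cov ⬝ᵥ Q.vec ≠ 0) (b : Q.cov ⬝ᵥ P.vec ≠ 0) :
    Function.Injective (P.planeHom Q a b) :=
  fun _ _ e => (P.plane Q a b).hom_injective (congrArg Subtype.val e)

lemma Incident.planeHom_slU (a : P.cov ⬝ᵥ Q.vec ≠ 0) (b : Q.cov ⬝ᵥ P.vec ≠ 0) (t : k) :
    P.planeHom Q a b (slU t) = P.tv t := Subtype.ext ((P.plane Q a b).hom_slU t)

lemma Incident.planeHom_slL (a : P.cov ⬝ᵥ Q.vec ≠ 0) (b : Q.cov ⬝ᵥ P.vec ≠ 0) (t : k) :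
    P.planeHom Q a b (slL t) = Q.tv (t * (P.cov ⬝ᵥ Q.vec)⁻¹ * (Q.cov ⬝ᵥ P.vec)⁻¹) := by
  apply Subtype.ext
  show (P.plane Q a b).hom (slL t) = tvMat Q.vec Q.cov _
  rw [Plane.hom_slL]
  refine mat_ext fun x => ?_
  simp only [tvMat_mulVec, Incident.plane, smul_dotProduct, smul_eq_mul]
  module

lemma Incident.r1_of_general (a : P.cov ⬝ᵥ Q.vec ≠ 0) (b : Q.cov ⬝ᵥ P.vec ≠ 0) :
    IsRankOnePair P.sub Q.sub ∧ IsPSL2PairOver k P.sub Q.sub := by
  have hU : (upperUnipotentSL2 k).map (P.planeHom Q a b) = P.sub := by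
    ext g
    rw [Subgroup.mem_map, Incident.mem_sub]
    constructor
    · rintro ⟨x, hx, rfl⟩
      obtain ⟨t, rfl⟩ := mem_upperUnipotent.1 hx
      exact ⟨t, (P.planeHom_slU Q a b t).symm⟩
    · rintro ⟨c, rfl⟩
      exact ⟨slU c, slU_mem _, P.planeHom_slU Q a b c⟩
  have hL : (lowerUnipotentSL2 k).map (P.planeHom Q a b) = Q.sub := by
    ext g
    rw [Subgroup.mem_map, Incident.mem_sub]
    constructor
    · rintro ⟨x, hx, rfl⟩
      obtain ⟨t, rfl⟩ := mem_lowerUnipotent.1 hx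
      exact ⟨_, (P.planeHom_slL Q a b t).symm⟩
    · rintro ⟨c, rfl⟩
      refine ⟨slL (c * (P.cov ⬝ᵥ Q.vec) * (Q.cov ⬝ᵥ P.vec)), slL_mem _, ?_⟩
      rw [Incident.planeHom_slL]
      congr 1
      field_simp
  rw [← hU, ← hL]
  exact ⟨r1_of_sl2 _ (P.planeHom_injective Q a b), psl2_of_sl2 _ (P.planeHom_injective Q a b)⟩

lemma Incident.tv_commute (h1 : P.cov ⬝ᵥ Q.vec = 0) (h2 : Q.cov ⬝ᵥ P.vec = 0) (c d : k) :
    P.tv c * Q.tv d = Q.tv d * P.tv c :=
  Subtype.ext (tvMat_commute h1 h2 c d)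

lemma Incident.sub_commute (h1 : P.cov ⬝ᵥ Q.vec = 0) (h2 : Q.cov ⬝ᵥ P.vec = 0) :
    ⁅P.sub, Q.sub⁆ = ⊥ := by
  rw [commutator_eq_bot_iff]
  intro x hx y hy
  obtain ⟨c, rfl⟩ := Incident.mem_sub.1 hx
  obtain ⟨d, rfl⟩ := Incident.mem_sub.1 hy
  exact P.tv_commute Q h1 h2 c d

/-- The pair carrying the commutators. -/
def Incident.meet (h2 : Q.cov ⬝ᵥ P.vec = 0) : Incident N k :=
  ⟨P.vec, Q.cov, P.vec_ne, Q.cov_ne, h2⟩

lemma Incident.tv_commutator (h2 : Q.cov ⬝ᵥ P.vec = 0) (c d : k) :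
    P.tv c * Q.tv d * (P.tv c)⁻¹ * (Q.tv d)⁻¹ =
      (P.meet Q h2).tv (c * d * (P.cov ⬝ᵥ Q.vec)) := by
  rw [P.tv_inv, Q.tv_inv]
  exact Subtype.ext (tvMat_commutator P.incident Q.incident h2 c d)

/-- An elementary transvection comes from an incident pair. -/
def Incident.single (i j : N) (h : i ≠ j) : Incident N k :=
  ⟨Pi.single i 1, Pi.single j 1, fun e => by simpa using congrFun e i,
    fun e => by simpa using congrFun e j, by simp [dotProduct_single, h]⟩

lemma Incident.single_tv {i j : N} (h : i ≠ j) (c : k) :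
    (((Incident.single (k := k) i j h).tv c : SpecialLinearGroup N k) : Matrix N N k) =
      Matrix.transvection i j c := by
  refine mat_ext fun x => ?_
  rw [Incident.tv_val, tvMat_mulVec, Matrix.transvection, add_mulVec, one_mulVec]
  congr 1
  funext a
  by_cases ha : a = i <;> simp [Incident.single, ha, Matrix.single_mulVec, single_dotProduct]

end CfsgLib.RootSub
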