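/-
Special rank one pairs with abelian unipotent subgroups: the power lemma and the
consequence `A = [A, H]` when `A` has more than three elements.
-/
import Cfsg.Agent.Lib.RootSub.RankOne

set_option autoImplicit false

namespace CfsgLib.RootSub

open Cfsg

variable {G : Type*} [Group G] {A B : Subgroup G}

/-- `a` and `b` correspond to each other in the rank one pair `(A, B)`. -/
def R1Rel (A B : Subgroup G) (a b : G) : Prop :=
  a ∈ A ∧ a ≠ 1 ∧ b ∈ B ∧ b ≠ 1 ∧ conjBy A b⁻¹ = conjBy B a⁻¹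

lemma r1rel_swap {a b : G} (r : R1Rel A B a b) : R1Rel B A b a :=
  ⟨r.2.2.1, r.2.2.2.1, r.1, r.2.1, r.2.2.2.2.symm⟩

lemma r1rel_exists (h : IsRankOnePair A B) {a : G} (ha : a ∈ A) (ha1 : a ≠ 1) :
    ∃ b, R1Rel A B a b := by
  obtain ⟨b, hb, hb1, e⟩ := r1_exists h ha ha1
  exact ⟨b, ha, ha1, hb, hb1, e⟩

lemma r1rel_exists' (h : IsRankOnePair A B) {b : G} (hb : b ∈ B) (hb1 : b ≠ 1) :
    ∃ a, R1Rel A B a b := by
  obtain ⟨a, ha, ha1, e⟩ := r1_exists' h hb hb1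
  exact ⟨a, ha, ha1, hb, hb1, e⟩

lemma r1rel_unique_left (h : IsRankOnePair A B) {a a' b : G} (r : R1Rel A B a b)
    (r' : R1Rel A B a' b) : a = a' :=
  inv_injective (r1_conjBy_inj h (inv_mem r.1) (inv_mem r'.1)
    (r.2.2.2.2.symm.trans r'.2.2.2.2))

lemma r1rel_unique_right (h : IsRankOnePair A B) {a b b' : G} (r : R1Rel A B a b)
    (r' : R1Rel A B a b') : b = b' :=
  r1rel_unique_left (r1_symm h) (r1rel_swap r) (r1rel_swap r')

lemma r1rel_conj {C D : Subgroup G} {a b g : G} (r : R1Rel A B a b) (hA : conjBy A g = C)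
    (hB : conjBy B g = D) : R1Rel C D (g * a * g⁻¹) (g * b * g⁻¹) := by
  subst hA hB
  refine ⟨conj_mem_conjBy r.1, by simpa using r.2.1, conj_mem_conjBy r.2.2.1,
    by simpa using r.2.2.2.1, ?_⟩
  have := congrArg (fun E => conjBy E g) r.2.2.2.2
  simpa [conjBy_conjBy, mul_assoc] using this

lemma comm_ident₁ {C : Type*} [CommGroup C] (a z x p : C) :
    a * z * x * (z * (a * p))⁻¹ * (a * x * p) = a * x * x := by
  apply Additive.ofMul.injective
  simp only [ofMul_mul, ofMul_inv]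
  abel

lemma comm_ident₂ {C : Type*} [CommGroup C] (x a : C) :
    x * a * a * (x * a⁻¹ * a⁻¹) = x * x := by
  apply Additive.ofMul.injective
  simp only [ofMul_mul, ofMul_inv]
  abel

section Special

variable (hs : IsSpecialRankOnePair A B)
include hs

lemma spec_pair : IsRankOnePair A B := hs.1

lemma spec_rel {a b : G} (r : R1Rel A B a b) : b⁻¹ * a * b = a⁻¹ * b⁻¹ * a :=
  hs.2 a r.1 r.2.1 b r.2.2.1 r.2.2.2.1 r.2.2.2.2

lemma spec_symm : IsSpecialRankOnePair B A := by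
  refine ⟨r1_symm hs.1, fun b hb hb1 a ha ha1 e => ?_⟩
  have := congrArg (fun x => x⁻¹) (hs.2 a ha ha1 b hb hb1 e.symm)
  simpa [mul_assoc] using this.symm

lemma spec_braid {a b : G} (r : R1Rel A B a b) : a * b⁻¹ * a = b⁻¹ * a * b⁻¹ := by
  have h := spec_rel hs r
  calc a * b⁻¹ * a = a * (b⁻¹ * a * b) * b⁻¹ := by group
    _ = a * (a⁻¹ * b⁻¹ * a) * b⁻¹ := by rw [h]
    _ = b⁻¹ * a * b⁻¹ := by group

lemma spec_conj_eq {a b : G} (r : R1Rel A B a b) : b * a * b⁻¹ = a * b⁻¹ * a⁻¹ := by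
  have h := spec_braid hs r
  apply mul_right_cancel (b := a)
  calc b * a * b⁻¹ * a = b * (a * b⁻¹ * a) := by group
    _ = b * (b⁻¹ * a * b⁻¹) := by rw [h]
    _ = a * b⁻¹ * a⁻¹ * a := by group

lemma r1rel_inv {a b : G} (r : R1Rel A B a b) : R1Rel A B a⁻¹ b⁻¹ := by
  refine ⟨inv_mem r.1, inv_ne_one.2 r.2.1, inv_mem r.2.2.1, inv_ne_one.2 r.2.2.2.1, ?_⟩
  rw [inv_inv, inv_inv]
  have hA : conjBy A b ∈ unipotentSubgroups A B :=
    unipotent_conj (unipotent_self A B) (Subgroup.mem_sup_right r.2.2.1)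
  have hB : conjBy B a ∈ unipotentSubgroups A B :=
    unipotent_conj (r1_right_mem hs.1) (Subgroup.mem_sup_left r.1)
  refine unipotent_inf_eq hs.1 hA hB fun hbot => ?_
  have hmem : b * a * b⁻¹ ∈ conjBy A b ⊓ conjBy B a :=
    ⟨conj_mem_conjBy r.1, spec_conj_eq hs r ▸ conj_mem_conjBy (inv_mem r.2.2.1)⟩
  rw [hbot, Subgroup.mem_bot] at hmem
  exact r.2.1 (by simpa using hmem)

/-- The element `a b⁻¹ a` interchanges `A` and `B`. -/
lemma spec_w_left {a b : G} (r : R1Rel A B a b) : conjBy A (a * b⁻¹ * a) = B := by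
  rw [← conjBy_conjBy, conjBy_of_mem r.1, ← conjBy_conjBy, r.2.2.2.2, conjBy_conjBy_inv]

lemma spec_w_right {a b : G} (r : R1Rel A B a b) : conjBy B (a * b⁻¹ * a) = A := by
  rw [spec_braid hs r, ← conjBy_conjBy, conjBy_of_mem (inv_mem r.2.2.1), ← conjBy_conjBy]
  have e := (r1rel_inv hs r).2.2.2.2
  rw [inv_inv, inv_inv] at e
  rw [← e, conjBy_inv_conjBy]

lemma spec_w_conj {a b : G} (r : R1Rel A B a b) :
    (a * b⁻¹ * a) * a * (a * b⁻¹ * a)⁻¹ = b⁻¹ := by
  have h := spec_rel hs r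
  calc (a * b⁻¹ * a) * a * (a * b⁻¹ * a)⁻¹
      = (a * b⁻¹ * a) * a * a⁻¹ * b * a⁻¹ := by group
    _ = a * (b⁻¹ * a * b) * a⁻¹ := by group
    _ = a * (a⁻¹ * b⁻¹ * a) * a⁻¹ := by rw [h]
    _ = b⁻¹ := by group

lemma spec_w_pow {a b : G} (r : R1Rel A B a b) (k : ℕ) :
    (a * b⁻¹ * a) * a ^ k * (a * b⁻¹ * a)⁻¹ = (b⁻¹) ^ k := by
  conv_rhs => rw [← spec_w_conj hs r]
  rw [conj_pow]

lemma spec_pow_eq_one_iff {a b : G} (r : R1Rel A B a b) (k : ℕ) : a ^ k = 1 ↔ b ^ k = 1 := by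
  have h := spec_w_pow hs r k
  rw [inv_pow] at h
  constructor
  · intro e
    rw [e] at h
    simpa using h.symm
  · intro e
    rw [e, inv_one] at h
    exact conj_eq_one_iff.1 h

end Special

section Abelian

lemma spec_pow_aux : ∀ (n : ℕ) (A B : Subgroup G), IsSpecialRankOnePair A B →
    HasAbelianUnipotents A B → ∀ a b, R1Rel A B a b → b ^ n ≠ 1 →
      ∃ a', R1Rel A B a' (b ^ n) ∧ a' ^ n = a := by
  intro n
  induction n using Nat.strong_induction_on with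
  | _ n ih =>
    intro A B hs hab a b r hbn
    match n, ih, hbn with
    | 0, _, hbn => simp at hbn
    | 1, _, _ => exact ⟨a, by simpa using r, pow_one a⟩
    | m + 2, ih, hbn =>
      obtain ⟨a', r'⟩ := r1rel_exists' hs.1 (pow_mem r.2.2.1 _) hbn
      refine ⟨a', r', ?_⟩
      by_cases ham : a ^ (m + 1) = 1
      · have hbm := (spec_pow_eq_one_iff hs r _).1 ham
        have hbn' : b ^ (m + 2) = b := by rw [pow_succ, hbm, one_mul]
        rw [hbn'] at r'
        rw [r1rel_unique_left hs.1 r' r, pow_succ, ham, one_mul]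
      · obtain ⟨b1, r1, hb1⟩ := ih (m + 1) (by omega) B A (spec_symm hs) ⟨hab.2, hab.1⟩ b a
          (r1rel_swap r) ham
        replace r1 := r1rel_swap r1
        have eu : conjBy B (a⁻¹ * b * a⁻¹) = A := by
          have := spec_w_right hs (r1rel_inv hs r)
          simpa using this
        have hu : (a⁻¹ * b * a⁻¹) * a ^ (m + 2) = (b ^ (m + 2))⁻¹ * (a⁻¹ * b * a⁻¹) := by
          have := spec_w_pow hs (r1rel_inv hs r) (m + 2)
          simp only [inv_inv, inv_pow] at this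
          rw [mul_inv_eq_iff_eq_mul] at this
          calc (a⁻¹ * b * a⁻¹) * a ^ (m + 2)
              = ((b ^ (m + 2))⁻¹ * b ^ (m + 2) * (a⁻¹ * b * a⁻¹)) * a ^ (m + 2) := by group
            _ = (b ^ (m + 2))⁻¹ * ((a⁻¹ * b * a⁻¹) * (a ^ (m + 2))⁻¹) * a ^ (m + 2) := by
                  rw [this]; group
            _ = _ := by group
        have ecl : conjBy A (b * b1) = conjBy B (a * a'⁻¹) := by
          have e1 : conjBy A b1 = conjBy B (a ^ (m + 1)) := by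
            have := (r1rel_inv hs r1).2.2.2.2
            simpa using this
          have e2 : b * a ^ (m + 1) = a * ((a⁻¹ * b * a⁻¹) * a ^ (m + 2)) := by
            rw [pow_succ' a (m + 1)]; group
          rw [← conjBy_conjBy, e1, conjBy_conjBy, e2, hu, ← conjBy_conjBy, ← conjBy_conjBy, eu,
            r'.2.2.2.2, conjBy_conjBy]
        have hz : a * a'⁻¹ ≠ 1 := by
          intro hz
          rw [mul_inv_eq_one] at hz
          subst hz
          have := r1rel_unique_right hs.1 r r'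
          apply ham
          rw [spec_pow_eq_one_iff hs r]
          have h2 : b ^ (m + 1) * b = 1 * b := by rw [← pow_succ, one_mul]; exact this.symm
          exact mul_right_cancel h2
        have hzA : a * a'⁻¹ ∈ A := mul_mem r.1 (inv_mem r'.1)
        have hbb : b * b1 ≠ 1 := by
          intro hbb
          rw [hbb, conjBy_one] at ecl
          have := congrArg (fun E => conjBy E (a * a'⁻¹)⁻¹) ecl
          simp only [conjBy_inv_conjBy, conjBy_of_mem (inv_mem hzA)] at this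
          exact hs.1.ne this
        have rz : R1Rel A B (a * a'⁻¹) (b * b1) := by
          have : R1Rel A B (a * a'⁻¹)⁻¹ (b * b1)⁻¹ := by
            refine ⟨inv_mem hzA, inv_ne_one.2 hz, inv_mem (mul_mem r.2.2.1 r1.2.2.1),
              inv_ne_one.2 hbb, ?_⟩
            rw [inv_inv, inv_inv]
            exact ecl
          simpa using r1rel_inv hs this
        have hpow : (b * b1) ^ (m + 1) = b ^ (m + 2) := by
          rw [(show Commute b b1 from mul_comm_of_commutative hab.2 r.2.2.1 r1.2.2.1).mul_pow, hb1,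
            ← pow_succ]
        obtain ⟨a'', r'', ha''⟩ := ih (m + 1) (by omega) A B hs hab _ _ rz (hpow ▸ hbn)
        rw [hpow] at r''
        rw [r1rel_unique_left hs.1 r'' r'] at ha''
        calc a' ^ (m + 2) = a' ^ (m + 1) * a' := pow_succ _ _
          _ = a := by rw [ha'']; group

variable (hs : IsSpecialRankOnePair A B) (hab : HasAbelianUnipotents A B)
include hs hab

lemma spec_pow_right {a b : G} (r : R1Rel A B a b) {n : ℕ} (hn : b ^ n ≠ 1) :
    ∃ a', R1Rel A B a' (b ^ n) ∧ a' ^ n = a := spec_pow_aux n A B hs hab a b r hn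

lemma spec_pow_left {a b : G} (r : R1Rel A B a b) {n : ℕ} (hn : a ^ n ≠ 1) :
    ∃ b', R1Rel A B (a ^ n) b' ∧ b' ^ n = b := by
  obtain ⟨b', r', e⟩ := spec_pow_aux n B A (spec_symm hs) ⟨hab.2, hab.1⟩ b a (r1rel_swap r) hn
  exact ⟨b', r1rel_swap r', e⟩

lemma spec_root {a : G} (ha : a ∈ A) {n : ℕ} (hn : a ^ n ≠ 1) : ∃ c ∈ A, c ^ n = a := by
  have ha1 : a ≠ 1 := by rintro rfl; simp at hn
  obtain ⟨b, r⟩ := r1rel_exists hs.1 ha ha1
  obtain ⟨c, rc, e⟩ := spec_pow_right hs hab r (fun e => hn ((spec_pow_eq_one_iff hs r n).2 e))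
  exact ⟨c, rc.1, e⟩

lemma spec_exponent_or_torsionfree :
    (∃ p : ℕ, p.Prime ∧ ∀ a ∈ A, a ^ p = 1) ∨ ∀ a ∈ A, a ≠ 1 → ¬ IsOfFinOrder a := by
  by_cases h : ∀ a ∈ A, a ≠ 1 → ¬ IsOfFinOrder a
  · exact Or.inr h
  left
  push Not at h
  obtain ⟨a, ha, ha1, hfin⟩ := h
  have hne : orderOf a ≠ 1 := fun e => ha1 (orderOf_eq_one_iff.1 e)
  obtain ⟨p, hp, q, hq⟩ := Nat.exists_prime_and_dvd hne
  have hq0 : q ≠ 0 := by
    rintro rfl; rw [mul_zero] at hq; exact hfin.orderOf_pos.ne' hq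
  refine ⟨p, hp, fun x hx => ?_⟩
  set a0 := a ^ q with ha0
  have ha0A : a0 ∈ A := pow_mem ha _
  have ha01 : a0 ≠ 1 := by
    intro e
    have hd := Nat.le_of_dvd (Nat.pos_of_ne_zero hq0) (orderOf_dvd_of_pow_eq_one e)
    nlinarith [hp.two_le, Nat.pos_of_ne_zero hq0]
  have ha0p : a0 ^ p = 1 := by rw [ha0, ← pow_mul, mul_comm, ← hq, pow_orderOf_eq_one]
  by_contra hxp
  have hx1 : x ≠ 1 := by rintro rfl; simp at hxp
  have hy : (a0 * x) ^ p = x ^ p := by
    rw [(show Commute a0 x from mul_comm_of_commutative hab.1 ha0A hx).mul_pow, ha0p, one_mul]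
  have hy1 : a0 * x ≠ 1 := by
    intro e; rw [e, one_pow] at hy; exact hxp hy.symm
  obtain ⟨b, r⟩ := r1rel_exists hs.1 hx hx1
  obtain ⟨b', r', e'⟩ := spec_pow_left hs hab r hxp
  obtain ⟨c, rc⟩ := r1rel_exists hs.1 (mul_mem ha0A hx) hy1
  obtain ⟨c', rc', ec'⟩ := spec_pow_left hs hab rc (hy.symm ▸ hxp)
  rw [hy] at rc'
  rw [r1rel_unique_right hs.1 rc' r', e'] at ec'
  rw [← ec'] at rc
  exact ha01 (mul_right_cancel (b := x) (by rw [one_mul]; exact r1rel_unique_left hs.1 rc r))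

omit hab in
lemma spec_diag_of_w {a b c d : G} (r : R1Rel A B a b) (r' : R1Rel A B c d) :
    (a * b⁻¹ * a)⁻¹ * (c * d⁻¹ * c) ∈ rankOneDiagonal A B := by
  have hmem : ∀ {x y : G}, R1Rel A B x y → x * y⁻¹ * x ∈ A ⊔ B := fun r0 =>
    mul_mem (mul_mem (Subgroup.mem_sup_left r0.1) (inv_mem (Subgroup.mem_sup_right r0.2.2.1)))
      (Subgroup.mem_sup_left r0.1)
  have e1 : conjBy B (a * b⁻¹ * a)⁻¹ = A := by
    conv_lhs => rw [← spec_w_left hs r]
    exact conjBy_inv_conjBy _ _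
  have e2 : conjBy A (a * b⁻¹ * a)⁻¹ = B := by
    conv_lhs => rw [← spec_w_right hs r]
    exact conjBy_inv_conjBy _ _
  refine Subgroup.mem_inf.2 ⟨Subgroup.mem_inf.2 ⟨mul_mem (inv_mem (hmem r)) (hmem r'), ?_⟩, ?_⟩ <;>
    refine conjBy_eq_iff_mem_normalizer.1 ?_
  · rw [← conjBy_conjBy, spec_w_left hs r', e1]
  · rw [← conjBy_conjBy, spec_w_right hs r', e2]

/-- With more than three elements, `A` is generated modulo anything by commutators with `H`. -/
lemma spec_mem_of_diag_le {K : Subgroup G}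
    (hK : ∀ x ∈ A, ∀ h ∈ rankOneDiagonal A B, h * x * h⁻¹ * x⁻¹ ∈ K)
    {a x : G} (ha : a ∈ A) (ha1 : a ≠ 1) (hx : x ∈ A) (hx1 : x ≠ 1) (hxa : x ≠ a)
    (hxi : x ≠ a⁻¹) : a ∈ K := by
  letI cgA : CommGroup A :=
    { (inferInstance : Group A) with mul_comm := hab.1.is_comm.comm }
  have hdiag : ∀ {a b c : G}, R1Rel A B a b → ∀ h ∈ rankOneDiagonal A B, h * a * h⁻¹ = c →
      a * c⁻¹ ∈ K := by
    intro a b c r h hh e
    have h1 := inv_mem (hK a r.1 h hh)
    rw [e, mul_inv_rev, inv_inv] at h1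
    exact h1
  have key : ∀ a x : G, a ∈ A → a ≠ 1 → x ∈ A → x ≠ 1 → x ≠ a⁻¹ → a * x * x ∈ K := by
    intro a x ha ha1 hx hx1 hxi
    obtain ⟨b, r⟩ := r1rel_exists hs.1 ha ha1
    set w := a * b⁻¹ * a with hw
    have ewA : conjBy A w = B := spec_w_left hs r
    have ewB : conjBy B w = A := spec_w_right hs r
    have ewBi : conjBy B w⁻¹ = A := by
      conv_lhs => rw [← ewA]
      exact conjBy_inv_conjBy _ _
    have ewAi : conjBy A w⁻¹ = B := by
      conv_lhs => rw [← ewB]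
      exact conjBy_inv_conjBy _ _
    have hax : a * x ≠ 1 := fun e => hxi (mul_eq_one_iff_eq_inv'.1 e)
    obtain ⟨b2, r2⟩ := r1rel_exists hs.1 (mul_mem ha hx) hax
    have hb3 : b⁻¹ * b2 ≠ 1 := by
      intro e
      rw [inv_mul_eq_one] at e
      subst e
      exact hx1 (mul_left_cancel (a := a) (by rw [r1rel_unique_left hs.1 r2 r, mul_one]))
    obtain ⟨z, rz⟩ := r1rel_exists' hs.1 (mul_mem (inv_mem r.2.2.1) r2.2.2.1) hb3
    have hbyB : w * x * w⁻¹ ∈ B := ewA ▸ conj_mem_conjBy hx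
    obtain ⟨y, ry⟩ := r1rel_exists' hs.1 hbyB (by simpa using hx1)
    have hy : y = a * z := by
      have e1 := (r1rel_inv hs ry).2.2.2.2
      have e2 := (r1rel_inv hs r2).2.2.2.2
      have e3 := (r1rel_inv hs rz).2.2.2.2
      simp only [inv_inv] at e1 e2 e3
      refine r1_conjBy_inj hs.1 ry.1 (mul_mem ha rz.1) ?_
      calc conjBy B y = conjBy A (w * x * w⁻¹) := e1.symm
        _ = conjBy (conjBy B (a * x)) (a * b⁻¹) := by
            rw [← conjBy_conjBy, ewAi, conjBy_conjBy]; congr 1; rw [hw]; group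
        _ = conjBy (conjBy A (b⁻¹ * b2)) a := by
            rw [← e2, conjBy_conjBy, conjBy_conjBy]; congr 1; group
        _ = conjBy B (a * z) := by rw [e3, conjBy_conjBy]
    -- y * x ∈ K
    have k1 : y * x ∈ K := by
      set v := y * (w * x * w⁻¹)⁻¹ * y with hv
      have e : (w⁻¹ * v) * y * (w⁻¹ * v)⁻¹ = x⁻¹ := by
        calc (w⁻¹ * v) * y * (w⁻¹ * v)⁻¹ = w⁻¹ * (v * y * v⁻¹) * w := by group
          _ = w⁻¹ * (w * x * w⁻¹)⁻¹ * w := by rw [hv, spec_w_conj hs ry]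
          _ = x⁻¹ := by group
      simpa using hdiag ry _ (spec_diag_of_w hs r ry) e
    have k2 : ∀ {u c : G}, R1Rel A B u c → u * (w⁻¹ * c * w) ∈ K := by
      intro u c ru
      have e : (w⁻¹ * (u * c⁻¹ * u)) * u * (w⁻¹ * (u * c⁻¹ * u))⁻¹ = w⁻¹ * c⁻¹ * w := by
        calc (w⁻¹ * (u * c⁻¹ * u)) * u * (w⁻¹ * (u * c⁻¹ * u))⁻¹
            = w⁻¹ * ((u * c⁻¹ * u) * u * (u * c⁻¹ * u)⁻¹) * w := by group
          _ = w⁻¹ * c⁻¹ * w := by rw [spec_w_conj hs ru]
      have := hdiag ru _ (spec_diag_of_w hs r ru) e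
      simpa [mul_assoc] using this
    have hpA : ∀ {c : G}, c ∈ B → w⁻¹ * c * w ∈ A := fun hc => ewBi ▸ conj_mem_conjBy_inv hc
    have epa : w⁻¹ * b * w = a⁻¹ := by
      have := spec_w_conj hs r
      rw [← hw] at this
      calc w⁻¹ * b * w = w⁻¹ * (b⁻¹)⁻¹ * w := by group
        _ = w⁻¹ * (w * a * w⁻¹)⁻¹ * w := by rw [this]
        _ = a⁻¹ := by group
    have epz : w⁻¹ * (b⁻¹ * b2) * w = a * (w⁻¹ * b2 * w) := by
      calc w⁻¹ * (b⁻¹ * b2) * w = (w⁻¹ * b * w)⁻¹ * (w⁻¹ * b2 * w) := by group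
        _ = a * (w⁻¹ * b2 * w) := by rw [epa, inv_inv]
    have k3 := k2 rz
    rw [epz] at k3
    have k4 := k2 r2
    have hp := hpA r2.2.2.1
    rw [hy] at k1
    have k5 := mul_mem (mul_mem k1 (inv_mem k3)) k4
    have e5 : a * z * x * (z * (a * (w⁻¹ * b2 * w)))⁻¹ * (a * x * (w⁻¹ * b2 * w)) = a * x * x := by
      generalize w⁻¹ * b2 * w = p at hp
      have : ((⟨a, ha⟩ : A) * ⟨z, rz.1⟩ * ⟨x, hx⟩ * (⟨z, rz.1⟩ * (⟨a, ha⟩ * ⟨p, hp⟩))⁻¹ *
          (⟨a, ha⟩ * ⟨x, hx⟩ * ⟨p, hp⟩)) = ⟨a, ha⟩ * ⟨x, hx⟩ * ⟨x, hx⟩ := by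
        exact comm_ident₁ _ _ _ _
      exact congrArg Subtype.val this
    rwa [e5] at k5
  have h1 := key a x ha ha1 hx hx1 hxi
  -- x * x ∈ K
  have h2 := key x a hx hx1 ha ha1 (fun e => hxi (by rw [e, inv_inv]))
  have h3 := key x a⁻¹ hx hx1 (inv_mem ha) (inv_ne_one.2 ha1)
    (fun e => hxa (inv_injective e).symm)
  have h4 : x * x ∈ K := by
    have e : x * a * a * (x * a⁻¹ * a⁻¹) = x * x := by
      have : ((⟨x, hx⟩ : A) * ⟨a, ha⟩ * ⟨a, ha⟩ * (⟨x, hx⟩ * ⟨a, ha⟩⁻¹ * ⟨a, ha⟩⁻¹)) =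
          ⟨x, hx⟩ * ⟨x, hx⟩ := by
        exact comm_ident₂ _ _
      exact congrArg Subtype.val this
    exact e ▸ mul_mem h2 h3
  have := mul_mem h1 (inv_mem h4)
  simpa [mul_assoc] using this

lemma spec_left_eq_commutator_diag (hcard : 3 < ENat.card A) :
    ⁅A, rankOneDiagonal A B⁆ = A := by
  refine le_antisymm ?_ ?_
  · rw [Subgroup.commutator_le]
    intro x hx h hh
    have hn : conjBy A h = A := conjBy_eq_iff_mem_normalizer.2 hh.1.2
    have : h * x⁻¹ * h⁻¹ ∈ A := by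
      have := conj_mem_conjBy (g := h) (inv_mem hx)
      rwa [hn] at this
    rw [commutatorElement_def, mul_assoc, mul_assoc]
    exact mul_mem hx (by simpa [mul_assoc] using this)
  intro a ha
  by_cases ha1 : a = 1
  · rw [ha1]; exact one_mem _
  obtain ⟨x, hx1, hxa, hxi⟩ : ∃ x : A, x ≠ 1 ∧ x ≠ ⟨a, ha⟩ ∧ x ≠ ⟨a, ha⟩⁻¹ := by
    by_contra hc
    push Not at hc
    classical
    have hsurj : Function.Surjective
        (![1, (⟨a, ha⟩ : A), (⟨a, ha⟩ : A)⁻¹] : Fin 3 → A) := by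
      intro x
      by_cases h1 : x = 1
      · exact ⟨0, by simp [h1]⟩
      by_cases h2 : x = ⟨a, ha⟩
      · exact ⟨1, by simp [h2]⟩
      exact ⟨2, by simp [hc x h1 h2]⟩
    have h3 := ENat.card_le_card_of_injective (Function.injective_surjInv hsurj)
    have : (3 : ℕ∞) < 3 := lt_of_lt_of_le hcard (le_trans h3 (by simp [ENat.card_eq_coe_fintype_card]))
    exact lt_irrefl _ this
  refine spec_mem_of_diag_le hs hab ?_ ha ha1 x.2 (fun e => hx1 (Subtype.ext e))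
    (fun e => hxa (Subtype.ext e)) (fun e => hxi (Subtype.ext e))
  intro y hy h hh
  have := inv_mem (Subgroup.commutator_mem_commutator hy hh)
  rw [commutatorElement_inv] at this
  simpa [commutatorElement_def] using this

end Abelian

end CfsgLib.RootSub
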