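/-
Classes of abstract transvection groups: rank one pairs are special.
-/
import Cfsg.Agent.Lib.RootSub.Graph
import Cfsg.Agent.Lib.RootSub.Special
import Cfsg.Agent.Lib.RootSub.SL2Model
import Cfsg.Agent.Lib.RootSub.Transfer

set_option autoImplicit false

namespace CfsgLib.RootSub

open Cfsg
open scoped commutatorElement

variable {G : Type*} [Group G] {S : Set (Subgroup G)}

/-- An abelian rank one pair of exponent two is special. -/
lemma special_of_exponent_two {A B : Subgroup G} (h : IsRankOnePair A B)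
    (hA : ∀ x ∈ A, x * x = 1) : IsSpecialRankOnePair A B := by
  refine ⟨h, fun a ha ha1 b hb hb1 e => ?_⟩
  have hB : ∀ x ∈ B, x * x = 1 := by
    obtain ⟨g, -, eB⟩ := r1_right_mem h
    intro x hx
    rw [eB, mem_conjBy] at hx
    have := hA _ hx
    calc x * x = g * ((g⁻¹ * x * g) * (g⁻¹ * x * g)) * g⁻¹ := by group
      _ = 1 := by rw [this]; group
  have hai : a⁻¹ = a := inv_eq_of_mul_eq_one_left (hA a ha)
  have hbi : b⁻¹ = b := inv_eq_of_mul_eq_one_left (hB b hb)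
  rw [hai, hbi] at e ⊢
  have hwB : conjBy B (b * a * b) = A := by
    rw [← conjBy_conjBy, conjBy_of_mem hb, ← conjBy_conjBy, ← e, conjBy_conjBy, hB b hb, conjBy_one]
  have hww : (b * a * b)⁻¹ = b * a * b := by simp [mul_inv_rev, hai, hbi, mul_assoc]
  have hwA : conjBy A (b * a * b) = B := by
    conv_lhs => rw [← hwB, conjBy_conjBy]
    have : b * a * b * (b * a * b) = 1 := by
      nth_rewrite 1 [← hww]; exact inv_mul_cancel _
    rw [this, conjBy_one]
  have key : b * a * b * a * (b * a * b) = b := by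
    have hmem : b * a * b * a * (b * a * b) ∈ B := by
      have := conj_mem_conjBy (g := b * a * b) ha
      rwa [hwA, hww] at this
    refine r1_conjBy_inj (r1_symm h) hmem hb ?_
    calc conjBy A (b * a * b * a * (b * a * b))
        = conjBy (conjBy (conjBy A (b * a * b)) a) (b * a * b) := by
          simp only [conjBy_conjBy, mul_assoc]
      _ = conjBy (conjBy A b) (b * a * b) := by rw [hwA, ← e]
      _ = conjBy A b := by
          rw [conjBy_conjBy, show b * a * b * b = b * a * (b * b) by group, hB b hb, mul_one,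
            ← conjBy_conjBy, conjBy_of_mem ha]
  have h3 : b * a * b * a * b * a = 1 := by
    calc b * a * b * a * b * a = b * a * b * a * (b * a * b) * b⁻¹ := by group
      _ = 1 := by rw [key, mul_inv_cancel]
  calc b * a * b = (b * a * b * a * b * a) * (a⁻¹ * b⁻¹ * a⁻¹) := by group
    _ = a * b * a := by rw [h3, one_mul, hai, hbi]

lemma special_conjBy {A B : Subgroup G} (g : G) (h : IsSpecialRankOnePair A B) :
    IsSpecialRankOnePair (conjBy A g) (conjBy B g) :=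
  (special_map_iff (MulEquiv.injective (MulAut.conj g))).2 h

/-- If `A, C` commute and both are partners of `B`, with `a, c` corresponding to the same
element of `B`, then `a c⁻¹` moves `B` to a member commuting with `B`. -/
lemma quad_step {A B C : Subgroup G} {a c b : G} (hAC : ⁅A, C⁆ = ⊥) (ra : R1Rel A B a b)
    (rc : R1Rel C B c b) : ⁅conjBy B (a * c⁻¹), B⁆ = ⊥ := by
  have h : ⁅conjBy C b⁻¹, conjBy A b⁻¹⁆ = ⊥ := (conjBy_commute_iff _).2 (commutator_bot_symm hAC)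
  rw [rc.2.2.2.2, ra.2.2.2.2, ← conjBy_commute_iff a, conjBy_conjBy, conjBy_conjBy, mul_inv_cancel,
    conjBy_one] at h
  exact h

variable (hS : IsRootSubgroupSet S)
include hS

lemma rs_commute_elem {A C : Subgroup G} (hAC : ⁅A, C⁆ = ⊥) {a c : G} (ha : a ∈ A) (hc : c ∈ C) :
    a * c = c * a := commutator_eq_bot_iff.1 hAC a ha c hc

/-- The basic elements attached to a commuting pair `A, C` with common partner `B`. -/
lemma quad_config {A B C : Subgroup G} (hA : A ∈ S) (hB : B ∈ S)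
    (hAC : ⁅A, C⁆ = ⊥) (rAB : IsRankOnePair A B) (rCB : IsRankOnePair C B) {a b : G}
    (ra : R1Rel A B a b) :
    ∃ c, R1Rel C B c b ∧
      (∀ x ∈ B, b * ((a * c⁻¹) * b * (a * c⁻¹)⁻¹)⁻¹ * x =
        x * (b * ((a * c⁻¹) * b * (a * c⁻¹)⁻¹)⁻¹)) ∧
      conjBy A (b * ((a * c⁻¹) * b * (a * c⁻¹)⁻¹)⁻¹) = C ∧
      (b * ((a * c⁻¹) * b * (a * c⁻¹)⁻¹)⁻¹) * a * (b * ((a * c⁻¹) * b * (a * c⁻¹)⁻¹)⁻¹)⁻¹ = c := by
  obtain ⟨c, rc⟩ := r1rel_exists' rCB ra.2.2.1 ra.2.2.2.1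
  refine ⟨c, rc, ?_⟩
  obtain ⟨g, hg⟩ : ∃ g, g = a * c⁻¹ := ⟨_, rfl⟩
  rw [← hg]
  obtain ⟨k, hk⟩ : ∃ k, k = b * (g * b * g⁻¹)⁻¹ := ⟨_, rfl⟩
  rw [← hk]
  have hD : ⁅conjBy B g, B⁆ = ⊥ := hg ▸ quad_step hAC ra rc
  have hkB : ∀ x ∈ B, k * x = x * k := fun x hx => by
    rw [hk]
    exact Commute.mul_left (rs_comm hS hB ra.2.2.1 hx)
      (Commute.inv_left (commutator_eq_bot_iff.1 hD _ (conj_mem_conjBy ra.2.2.1) x hx))
  have hgA : conjBy A g = A := conjBy_of_commutes fun x hx => by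
    rw [hg]
    exact Commute.mul_left (rs_comm hS hA ra.1 hx)
      (Commute.inv_left (rs_commute_elem hS hAC hx rc.1).symm)
  have hgA' : conjBy A g⁻¹ = A := by
    conv_lhs => rw [← hgA]
    exact conjBy_inv_conjBy _ _
  have hkA : conjBy A k = C := by
    have e1 : k = b * g * b⁻¹ * g⁻¹ := by rw [hk]; group
    have hac : a * c⁻¹ * a⁻¹ = c⁻¹ := by
      rw [rs_commute_elem hS hAC ra.1 (inv_mem rc.1), mul_inv_cancel_right]
    rw [e1, ← conjBy_conjBy, hgA', ← conjBy_conjBy, ra.2.2.2.2, conjBy_conjBy, hg,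
      show b * (a * c⁻¹) * a⁻¹ = b * (a * c⁻¹ * a⁻¹) by group, hac, ← conjBy_conjBy,
      ← rc.2.2.2.2, conjBy_conjBy_inv]
  refine ⟨hkB, hkA, ?_⟩
  have hkb : k * b * k⁻¹ = b := by rw [hkB b ra.2.2.1, mul_inv_cancel_right]
  have r' := r1rel_conj ra hkA (conjBy_of_commutes hkB)
  rw [hkb] at r'
  exact r1rel_unique_left rCB r' rc

/-- A commuting pair with a common partner makes the pairs special. -/
theorem quad_special {A B C : Subgroup G} (hA : A ∈ S) (hB : B ∈ S)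
    (hAC : ⁅A, C⁆ = ⊥) (hne : A ≠ C) (rAB : IsRankOnePair A B) (rCB : IsRankOnePair C B) :
    IsSpecialRankOnePair A B := by
  refine ⟨rAB, fun a ha ha1 b hb hb1 he => ?_⟩
  have ra : R1Rel A B a b := ⟨ha, ha1, hb, hb1, he⟩
  obtain ⟨c, rc, hkB, -, hkc⟩ := quad_config hS hA hB hAC rAB rCB ra
  obtain ⟨g, hg⟩ : ∃ g, g = a * c⁻¹ := ⟨_, rfl⟩
  rw [← hg] at hkB hkc
  obtain ⟨k, hk⟩ : ∃ k, k = b * (g * b * g⁻¹)⁻¹ := ⟨_, rfl⟩
  rw [← hk] at hkB hkc
  have fag : a * g * a⁻¹ = g := by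
    rw [hg]
    have : Commute a (a * c⁻¹) :=
      Commute.mul_right (Commute.refl a) (rs_commute_elem hS hAC ha (inv_mem rc.1))
    rw [this.eq, mul_inv_cancel_right]
  have fak : a * k * a⁻¹ = g * k := by
    rw [hg, ← hkc]; group
  have fbk : b * k * b⁻¹ = k := by rw [← hkB b hb, mul_inv_cancel_right]
  have fbg : b * g * b⁻¹ = k * g := by rw [hk]; group
  have hmem : a * (b⁻¹ * a * b) * a⁻¹ ∈ B := by
    have : b⁻¹ * a * b ∈ conjBy B a⁻¹ := he ▸ conj_mem_conjBy_inv ha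
    rw [mem_conjBy, inv_inv] at this
    exact this
  generalize hb' : a * (b⁻¹ * a * b) * a⁻¹ = b' at hmem
  have fiag : a⁻¹ * g * a = g := by
    calc a⁻¹ * g * a = a⁻¹ * (a * g * a⁻¹) * a := by rw [fag]
      _ = g := by group
  have fiak : a * k⁻¹ * a⁻¹ = k⁻¹ * g⁻¹ := by
    calc a * k⁻¹ * a⁻¹ = (a * k * a⁻¹)⁻¹ := by group
      _ = _ := by rw [fak, mul_inv_rev]
  have fibk : b⁻¹ * k * b = k := by
    calc b⁻¹ * k * b = b⁻¹ * (b * k * b⁻¹) * b := by rw [fbk]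
      _ = k := by group
  have fibg : b⁻¹ * g * b = k⁻¹ * g := by
    calc b⁻¹ * g * b = k⁻¹ * (k * (b⁻¹ * g * b)) := by group
      _ = k⁻¹ * ((b⁻¹ * k * b) * (b⁻¹ * g * b)) := by rw [fibk]
      _ = k⁻¹ * (b⁻¹ * (k * g) * b) := by group
      _ = k⁻¹ * (b⁻¹ * (b * g * b⁻¹) * b) := by rw [fbg]
      _ = _ := by group
  have hb'g : b' * g * b'⁻¹ = k⁻¹ * g := by
    calc b' * g * b'⁻¹ = a * b⁻¹ * a * b * (a⁻¹ * g * a) * b⁻¹ * a⁻¹ * b * a⁻¹ := by
          rw [← hb']; group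
      _ = a * b⁻¹ * a * (b * g * b⁻¹) * a⁻¹ * b * a⁻¹ := by rw [fiag]; group
      _ = a * b⁻¹ * ((a * k * a⁻¹) * (a * g * a⁻¹)) * b * a⁻¹ := by rw [fbg]; group
      _ = a * ((b⁻¹ * g * b) * (b⁻¹ * k * b) * (b⁻¹ * g * b)) * a⁻¹ := by rw [fak, fag]; group
      _ = a * (k⁻¹ * g * g) * a⁻¹ := by rw [fibg, fibk]; group
      _ = (a * k⁻¹ * a⁻¹) * (a * g * a⁻¹) * (a * g * a⁻¹) := by group
      _ = _ := by rw [fiak, fag]; group
  have hone : b' * b = 1 := by
    by_contra hne1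
    have hcomm : (b' * b) * g * (b' * b)⁻¹ = g := by
      calc (b' * b) * g * (b' * b)⁻¹ = b' * (b * g * b⁻¹) * b'⁻¹ := by group
        _ = (b' * k * b'⁻¹) * (b' * g * b'⁻¹) := by rw [fbg]; group
        _ = g := by rw [← hkB b' hmem, hb'g]; group
    have hBm : b' * b ∈ B := mul_mem hmem hb
    have hgd : g * (b' * b) * g⁻¹ = b' * b := by
      rw [mul_inv_eq_iff_eq_mul] at hcomm ⊢
      exact hcomm.symm
    have hgB : conjBy B g = B := by
      refine (rs_ti_of_mem hS hB ⟨A, hA, r1_symm rAB⟩ (hS.conj_mem B hB g) hBm ?_ hne1).symm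
      have := conj_mem_conjBy (g := g) hBm
      rwa [hgd] at this
    have heq : conjBy B c⁻¹ = conjBy B a⁻¹ := by
      have := congrArg (fun F => conjBy F a⁻¹) hgB
      simp only [hg, conjBy_conjBy] at this
      rwa [inv_mul_cancel_left] at this
    apply hne
    rw [← rc.2.2.2.2, ← ra.2.2.2.2, conjBy_inj] at heq
    exact heq.symm
  calc b⁻¹ * a * b = a⁻¹ * b' * a := by rw [← hb']; group
    _ = _ := by rw [eq_inv_of_mul_eq_one_left hone]

variable (hdeg : IsDegenerateRootSet S)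
include hdeg

lemma deg_rankOne {A B : Subgroup G} (hA : A ∈ S) (hB : B ∈ S) (h : ⁅A, B⁆ ≠ ⊥) :
    IsRankOnePair A B :=
  ((hS.pair A hA B hB).resolve_left h).resolve_right (hdeg A hA B hB)

lemma deg_not_special_iff {A B : Subgroup G} (hA : A ∈ S) (hB : B ∈ S) (r : IsRankOnePair A B)
    (hns : ¬ IsSpecialRankOnePair A B) {F : Subgroup G} (hF : F ∈ S) (hFA : F ≠ A)
    (h : ⁅F, A⁆ = ⊥) : ⁅F, B⁆ = ⊥ := by
  by_contra hne
  exact hns (quad_special hS hA hB (commutator_bot_symm h) (Ne.symm hFA) r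
    (deg_rankOne hS hdeg hF hB hne))

/-- The analysis of a non-special pair with a common commuting member. -/
lemma bad_step {A B C E : Subgroup G} (hA : A ∈ S) (hB : B ∈ S) (hC : C ∈ S) (hE : E ∈ S)
    (r : IsRankOnePair A B) (hns : ¬ IsSpecialRankOnePair A B) (hCA : ⁅C, A⁆ = ⊥) (hne : C ≠ A)
    (rA : IsRankOnePair A E) (rC : IsRankOnePair C E) {a : G} (ha : a ∈ A) (ha1 : a ≠ 1) :
    a ^ 4 = 1 ∨ (a ^ 3 = 1 ∧ ∀ a1 ∈ A, ∃ k : G,
      (∀ x ∈ A ⊔ B, k * x = x * k) ∧ ∀ x ∈ E, a1 * k * x = x * (a1 * k)) := by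
  have hAC : ⁅A, C⁆ = ⊥ := commutator_bot_symm hCA
  obtain ⟨e, ra⟩ := r1rel_exists rA ha ha1
  obtain ⟨c, rc, hhE, hhA, hhc⟩ := quad_config hS hA hE hAC rA rC ra
  obtain ⟨g, hg⟩ : ∃ g, g = a * c⁻¹ := ⟨_, rfl⟩
  rw [← hg] at hhE hhA hhc
  obtain ⟨η, hη⟩ : ∃ η, η = e * (g * e * g⁻¹)⁻¹ := ⟨_, rfl⟩
  rw [← hη] at hhE hhA hhc
  have hηE : conjBy E η = E := conjBy_of_commutes hhE
  have hCmem : ∀ {x : G}, x ∈ A → η * x * η⁻¹ ∈ C := fun hx => hhA ▸ conj_mem_conjBy hx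
  have step : ∀ x ∈ A, ⁅conjBy E (x * (η * x * η⁻¹)⁻¹), E⁆ = ⊥ := by
    intro x hx
    by_cases hx1 : x = 1
    · subst hx1
      simp only [mul_one, mul_inv_cancel, inv_one, conjBy_one]
      exact rs_self_commute hS hE
    obtain ⟨e1, r1'⟩ := r1rel_exists rA hx hx1
    have r2 := r1rel_conj r1' hhA hηE
    rw [hhE e1 r1'.2.2.1, mul_inv_cancel_right] at r2
    exact quad_step hAC r1' r2
  have hEcomm : ∀ {u : G}, (∃ x ∈ A, u = x * (η * x * η⁻¹)⁻¹) → ∀ {v w : G}, v ∈ E → w ∈ E →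
      Commute (u * v * u⁻¹) w := by
    rintro u ⟨x, hx, rfl⟩ v w hv hw
    exact commutator_eq_bot_iff.1 (step x hx) _ (conj_mem_conjBy hv) w hw
  -- the second image of `A`
  have hsq : ⁅conjBy A (η * η), A⁆ = ⊥ := by
    have hgd : Commute (g * e * g⁻¹) e := hEcomm ⟨a, ha, by rw [hhc, hg]⟩ ra.2.2.1 ra.2.2.1
    have e2 : η * η = (e * e) * (g * (e * e) * g⁻¹)⁻¹ := by
      have h1 : Commute e (g * e * g⁻¹)⁻¹ := hgd.symm.inv_right
      calc η * η = e * ((g * e * g⁻¹)⁻¹ * e) * (g * e * g⁻¹)⁻¹ := by rw [hη]; group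
        _ = e * (e * (g * e * g⁻¹)⁻¹) * (g * e * g⁻¹)⁻¹ := by rw [h1.eq]
        _ = _ := by group
    rw [e2]
    by_cases h1 : e * e = 1
    · rw [h1]
      simp only [mul_one, mul_inv_cancel, inv_one, conjBy_one]
      exact rs_self_commute hS hA
    have hgA : ∀ x ∈ A, g * x = x * g := fun x hx => by
      rw [hg]
      exact Commute.mul_left (rs_comm hS hA ha hx)
        (Commute.inv_left (rs_commute_elem hS hAC hx rc.1).symm)
    obtain ⟨a', r'⟩ := r1rel_exists' rA (mul_mem ra.2.2.1 ra.2.2.1) h1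
    have r'' := r1rel_conj r' (conjBy_of_commutes hgA) rfl
    rw [hgA a' r'.1, mul_inv_cancel_right] at r''
    have hED : ⁅E, conjBy E g⁆ = ⊥ := by
      rw [hg]
      exact commutator_bot_symm (quad_step hAC ra rc)
    exact quad_step hED (r1rel_swap r') (r1rel_swap r'')
  obtain ⟨C2, hC2⟩ : ∃ C2, C2 = conjBy C η := ⟨_, rfl⟩
  have hC2' : C2 = conjBy A (η * η) := by rw [hC2, ← hhA, conjBy_conjBy]
  have hC2S : C2 ∈ S := hC2 ▸ hS.conj_mem C hC η
  have hC2A : ⁅C2, A⁆ = ⊥ := hC2' ▸ hsq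
  have hC2C : ⁅C2, C⁆ = ⊥ := by
    have h1 := (conjBy_commute_iff (A := C) (B := A) η).2 hCA
    rw [hhA] at h1
    rw [hC2]
    exact h1
  have hCB : ⁅C, B⁆ = ⊥ := deg_not_special_iff hS hdeg hA hB r hns hC hne hCA
  -- the key element
  have hy : ∀ a1 ∈ A, ∀ x ∈ E, Commute
      (a1 * ((η * a1 * η⁻¹)⁻¹ * (η * (η * a1 * η⁻¹) * η⁻¹) * (η * a1 * η⁻¹)⁻¹)) x := by
    intro a1 ha1' x hx
    obtain ⟨c1, hc1⟩ : ∃ c1, c1 = η * a1 * η⁻¹ := ⟨_, rfl⟩
    rw [← hc1]
    obtain ⟨g1, hg1⟩ : ∃ g1, g1 = a1 * c1⁻¹ := ⟨_, rfl⟩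
    have e1 : g1 * η * g1⁻¹ * η⁻¹ = a1 * (c1⁻¹ * (η * c1 * η⁻¹) * c1⁻¹) := by
      rw [hg1, hc1]; group
    have e2 : g1 * η * g1⁻¹ * η⁻¹ = (g1 * e * g1⁻¹) * ((g1 * g) * e⁻¹ * (g1 * g)⁻¹) *
        (g * e * g⁻¹) * e⁻¹ := by
      rw [hη]; group
    have hg1g : g1 * g = (a1 * a) * (η * (a1 * a) * η⁻¹)⁻¹ := by
      have h1 : Commute c1⁻¹ a := by
        exact (rs_commute_elem hS hAC ha (inv_mem (hc1 ▸ hCmem ha1'))).symm
      have h2 : c1⁻¹ * c⁻¹ = c⁻¹ * c1⁻¹ :=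
        rs_comm hS hC (inv_mem (hc1 ▸ hCmem ha1')) (inv_mem rc.1)
      calc g1 * g = a1 * (c1⁻¹ * a) * c⁻¹ := by rw [hg1, hg]; group
        _ = a1 * a * (c1⁻¹ * c⁻¹) := by rw [h1.eq]; group
        _ = a1 * a * (c⁻¹ * c1⁻¹) := by rw [h2]
        _ = _ := by rw [hc1, ← hhc]; group
    rw [← e1, e2]
    refine Commute.mul_left (Commute.mul_left (Commute.mul_left ?_ ?_) ?_)
      (rs_comm hS hE (inv_mem ra.2.2.1) hx)
    · exact hEcomm ⟨a1, ha1', by rw [hg1, hc1]⟩ ra.2.2.1 hx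
    · exact hEcomm ⟨a1 * a, mul_mem ha1' ha, hg1g⟩ (inv_mem ra.2.2.1) hx
    · exact hEcomm ⟨a, ha, by rw [hhc, hg]⟩ ra.2.2.1 hx
  have hya := hy a ha
  rw [hhc] at hya
  obtain ⟨c2, hc2⟩ : ∃ c2, c2 = η * c * η⁻¹ := ⟨_, rfl⟩
  rw [← hc2] at hya
  have hc2m : c2 ∈ C2 := by rw [hc2, hC2]; exact conj_mem_conjBy rc.1
  obtain ⟨y, hydef⟩ : ∃ y, y = a * (c⁻¹ * c2 * c⁻¹) := ⟨_, rfl⟩
  rw [← hydef] at hya
  have hac : Commute a c := rs_commute_elem hS hAC ha rc.1
  have hac2 : Commute a c2 := (rs_commute_elem hS hC2A hc2m ha).symm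
  have hcc2 : Commute c c2 := (rs_commute_elem hS hC2C hc2m rc.1).symm
  have hyg : Commute y g := by
    rw [hydef, hg]
    refine Commute.mul_left ((Commute.refl a).mul_right hac.inv_right) ?_
    refine Commute.mul_left (Commute.mul_left ?_ ?_) ?_
    · exact (hac.symm.inv_left).mul_right (Commute.refl c).inv_left.inv_right
    · exact hac2.symm.mul_right hcc2.symm.inv_right
    · exact (hac.symm.inv_left).mul_right (Commute.refl c).inv_left.inv_right
  have hyη : Commute y η := by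
    rw [hη]
    exact (hya e ra.2.2.1).mul_right
      (((hyg.mul_right (hya e ra.2.2.1)).mul_right hyg.inv_right).inv_right)
  have hconj : η⁻¹ * g * η = y * g := by
    have e1 : g * η * g⁻¹ * η⁻¹ = y := by
      rw [hydef, hc2, hg, ← hhc]; group
    have e2 : η * g * η⁻¹ = y⁻¹ * g := by rw [← e1]; group
    calc η⁻¹ * g * η = η⁻¹ * (y * (y⁻¹ * g)) * η := by rw [mul_inv_cancel_left]
      _ = (η⁻¹ * y * η) * (η⁻¹ * (η * g * η⁻¹) * η) := by rw [e2]; group
      _ = _ := by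
        rw [show η⁻¹ * y * η = y by rw [mul_assoc, hyη.eq, inv_mul_cancel_left]]
        group
  -- the image of `B`
  have hB' : ⁅A, conjBy B η⁆ = ⊥ := by
    refine deg_not_special_iff hS hdeg hC (hS.conj_mem B hB η) ?_ ?_ hA (Ne.symm hne) hAC
    · have := isRankOnePair_conjBy r η
      rwa [hhA] at this
    · intro hs
      apply hns
      have := special_conjBy η⁻¹ hs
      rwa [conjBy_inv_conjBy, ← hhA, conjBy_inv_conjBy] at this
  have hfix : conjBy B (y * g * a) = B := by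
    have h1 : conjBy (conjBy B η) a = conjBy B η :=
      conjBy_of_commutes fun x hx => commutator_eq_bot_iff.1 hB' a ha x hx
    rw [conjBy_conjBy, show a * η = g * η * a by rw [hg, ← hhc]; group] at h1
    have h2 := congrArg (fun F => conjBy F η⁻¹) h1
    simp only [conjBy_conjBy, inv_mul_cancel, conjBy_one] at h2
    rw [show η⁻¹ * (g * η * a) = y * g * a by rw [← hconj]; group] at h2
    exact h2
  have hyga : y * g * a = a ^ 3 * (c2 * (c⁻¹) ^ 3) := by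
    have k1 : Commute (c⁻¹ * c2 * c⁻¹) a :=
      ((hac.inv_right.mul_right hac2).mul_right hac.inv_right).symm
    have k2 : Commute c⁻¹ a := hac.inv_right.symm
    calc y * g * a = a * ((c⁻¹ * c2 * c⁻¹) * a) * (c⁻¹ * a) := by rw [hydef, hg]; group
      _ = a * (a * (c⁻¹ * c2 * c⁻¹)) * (a * c⁻¹) := by rw [k1.eq, k2.eq]
      _ = a * a * ((c⁻¹ * c2 * c⁻¹) * a) * c⁻¹ := by group
      _ = a * a * (a * (c⁻¹ * c2 * c⁻¹)) * c⁻¹ := by rw [k1.eq]
      _ = a ^ 3 * ((c⁻¹ * c2) * (c⁻¹ * c⁻¹)) := by simp only [pow_succ, pow_zero, one_mul, mul_assoc]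
      _ = a ^ 3 * ((c2 * c⁻¹) * (c⁻¹ * c⁻¹)) := by rw [hcc2.inv_left.eq]
      _ = _ := by simp only [pow_succ, pow_zero, one_mul, mul_assoc]
  have hcB : conjBy B ((c⁻¹) ^ 3) = B := conjBy_of_commutes fun x hx =>
    (show Commute c⁻¹ x from Commute.inv_left (rs_commute_elem hS hCB rc.1 hx)).pow_left 3
  by_cases hC2A' : C2 = A
  · left
    have hη2 : conjBy A (η * η) = A := hC2'.symm.trans hC2A'
    have hcen := r1_centralizes_left rA hη2 (fun x hx => Commute.mul_left (hhE x hx) (hhE x hx))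
    have hc2a : c2 = a := by
      have : c2 = (η * η) * a * (η * η)⁻¹ := by rw [hc2, ← hhc]; group
      rw [this, hcen a ha, mul_inv_cancel_right]
    rw [hyga, hc2a, ← mul_assoc, ← conjBy_conjBy, hcB, ← pow_succ] at hfix
    exact r1_eq_one_of_normalizes r (pow_mem ha _) hfix
  · right
    have hC2B : ⁅C2, B⁆ = ⊥ := deg_not_special_iff hS hdeg hA hB r hns hC2S hC2A' hC2A
    refine ⟨?_, fun a1 ha1' => ?_⟩
    · have hc2B : conjBy B c2 = B := conjBy_of_commutes fun x hx => rs_commute_elem hS hC2B hc2m hx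
      rw [hyga, ← conjBy_conjBy, ← conjBy_conjBy B c2, hcB, hc2B] at hfix
      exact r1_eq_one_of_normalizes r (pow_mem ha _) hfix
    · refine ⟨_, fun x hx => ?_, hy a1 ha1'⟩
      have hall : ∀ {F : Subgroup G}, ⁅F, A⁆ = ⊥ → ⁅F, B⁆ = ⊥ → ∀ {f : G}, f ∈ F → Commute f x := by
        intro F hFA hFB f hf
        have : A ⊔ B ≤ Subgroup.centralizer {f} :=
          sup_le (fun u hu => Subgroup.mem_centralizer_singleton_iff.2
              (commutator_eq_bot_iff.1 hFA f hf u hu).symm)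
            (fun u hu => Subgroup.mem_centralizer_singleton_iff.2
              (commutator_eq_bot_iff.1 hFB f hf u hu).symm)
        exact (Subgroup.mem_centralizer_singleton_iff.1 (this hx)).symm
      exact Commute.mul_left (Commute.mul_left (hall hCA hCB (inv_mem (hCmem ha1')))
        (hall hC2A hC2B (hC2 ▸ conj_mem_conjBy (hCmem ha1')))) (hall hCA hCB (inv_mem (hCmem ha1')))

lemma deg_class_special (hcl : IsConjClassOfSubgroups S)
    (hcomm : ∃ A ∈ S, ∃ C ∈ S, A ≠ C ∧ ⁅A, C⁆ = ⊥) {A B : Subgroup G} (hA : A ∈ S) (hB : B ∈ S)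
    (r : IsRankOnePair A B)
    (hH : (∀ A' ∈ S, ∀ a ∈ A', 0 < orderOf a ∧ orderOf a ≤ 3) →
      ∃ (A₀ B₀ : Subgroup G), A₀ ≤ A ∧ B₀ ≤ B ∧ ∃ t ∈ A₀ ⊔ B₀, ∃ x ∈ A₀, x ≠ 1 ∧
        t * x * t⁻¹ ∈ A₀ ∧ t * x ≠ x * t) :
    IsSpecialRankOnePair A B := by
  by_contra hns
  have hns' : ¬ IsSpecialRankOnePair B A := fun h => hns (spec_symm h)
  have hconn := rs_connected_of_class hS hcl hA ⟨B, hB, r⟩
  obtain ⟨P, hP, Q, hQ, hPQ, hPQc⟩ := hcomm
  obtain ⟨g0, hg0⟩ := hcl.2 P hP A hA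
  obtain ⟨C, E, hC, hE, hCA, hne, rC, hEA⟩ : ∃ C E, C ∈ S ∧ E ∈ S ∧ ⁅C, A⁆ = ⊥ ∧ C ≠ A ∧
      IsRankOnePair C E ∧ ⁅E, A⁆ ≠ ⊥ := by
    by_contra hc
    push Not at hc
    have hstay : ∀ F, Relation.ReflTransGen (FAdj S) (conjBy Q g0) F → ⁅F, A⁆ = ⊥ ∧ F ≠ A := by
      intro F hF
      induction hF with
      | refl =>
        refine ⟨?_, fun e => hPQ (conjBy_inj.1 (e.trans hg0)).symm⟩
        rw [hg0, conjBy_commute_iff]
        exact commutator_bot_symm hPQc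
      | tail _ h ih =>
        refine ⟨hc _ _ h.1 h.2.1 ih.1 ih.2 h.2.2, fun e => ?_⟩
        exact r1_not_commute h.2.2 (e ▸ ih.1)
    exact (hstay A (hconn _ (hS.conj_mem Q hQ g0) A hA)).2 rfl
  have hCB : ⁅C, B⁆ = ⊥ := deg_not_special_iff hS hdeg hA hB r hns hC hne hCA
  have hCB' : C ≠ B := by
    rintro rfl
    exact r1_not_commute r (commutator_bot_symm hCA)
  have rA : IsRankOnePair A E := r1_symm (deg_rankOne hS hdeg hE hA hEA)
  have hEB : ⁅E, B⁆ ≠ ⊥ := by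
    intro h
    refine hEA (deg_not_special_iff hS hdeg hB hA (r1_symm r) hns' hE (fun e => ?_) h)
    subst e
    exact r1_not_commute rC hCB
  have rB : IsRankOnePair B E := r1_symm (deg_rankOne hS hdeg hE hB hEB)
  have hspec : IsSpecialRankOnePair A E := quad_special hS hA hE (commutator_bot_symm hCA) (Ne.symm hne) rA rC
  obtain ⟨a, ha, ha1⟩ := rs_exists_ne_one hS hA
  -- the exponent is three
  have hexp : ∀ x ∈ A, x ^ 3 = 1 := by
    have hfin : IsOfFinOrder a := by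
      rcases bad_step hS hdeg hA hB hC hE r hns hCA hne rA rC ha ha1 with h | ⟨h, -⟩
      · exact isOfFinOrder_iff_pow_eq_one.2 ⟨4, by norm_num, h⟩
      · exact isOfFinOrder_iff_pow_eq_one.2 ⟨3, by norm_num, h⟩
    rcases spec_exponent_or_torsionfree hspec ⟨hS.commutative A hA, hS.commutative E hE⟩ with
      ⟨p, hp, hA'⟩ | h
    · haveI := Fact.mk hp
      have hord : orderOf a = p := orderOf_eq_prime (hA' a ha) ha1
      rcases bad_step hS hdeg hA hB hC hE r hns hCA hne rA rC ha ha1 with h | ⟨h, -⟩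
      · have hd := orderOf_dvd_of_pow_eq_one h
        rw [hord, show (4 : ℕ) = 2 ^ 2 by norm_num] at hd
        have : p = 2 := (Nat.prime_dvd_prime_iff_eq hp Nat.prime_two).1 (hp.dvd_of_dvd_pow hd)
        subst this
        exact absurd (special_of_exponent_two r fun x hx => by rw [← pow_two]; exact hA' x hx) hns
      · have : p = 3 := (Nat.prime_dvd_prime_iff_eq hp Nat.prime_three).1
          (hord ▸ orderOf_dvd_of_pow_eq_one h)
        subst this
        exact hA'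
    · exact absurd hfin (h a ha ha1)
  have hexpS : ∀ F ∈ S, ∀ x ∈ F, x ^ 3 = 1 := by
    intro F hF x hx
    obtain ⟨g, rfl⟩ := hcl.2 A hA F hF
    rw [mem_conjBy] at hx
    have := hexp _ hx
    rw [show g⁻¹ * x * g = g⁻¹ * x * g⁻¹⁻¹ by rw [inv_inv], conj_pow] at this
    exact conj_eq_one_iff.1 this
  -- every element of `A ⊔ B` normalizing `A` centralizes it
  have hlift : ∀ x ∈ A ⊔ B, ∃ k : G, (∀ z ∈ A ⊔ B, k * z = z * k) ∧
      ∀ z ∈ E, x * k * z = z * (x * k) := by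
    have hnot4 : ∀ {F : Subgroup G}, F ∈ S → ∀ {x : G}, x ∈ F → x ≠ 1 → x ^ 4 ≠ 1 := by
      intro F hF x hx hx1 h4
      rw [pow_succ, hexpS F hF x hx, one_mul] at h4
      exact hx1 h4
    obtain ⟨b, hb, hb1⟩ := rs_exists_ne_one hS hB
    obtain ⟨-, hAk⟩ :=
      (bad_step hS hdeg hA hB hC hE r hns hCA hne rA rC ha ha1).resolve_left (hnot4 hA ha ha1)
    obtain ⟨-, hBk⟩ :=
      (bad_step hS hdeg hB hA hC hE (r1_symm r) hns' hCB hCB' rB rC hb hb1).resolve_left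
        (hnot4 hB hb hb1)
    let M : Subgroup G :=
      { carrier := {x | x ∈ A ⊔ B ∧ ∃ k : G, (∀ z ∈ A ⊔ B, k * z = z * k) ∧
          ∀ z ∈ E, x * k * z = z * (x * k)}
        one_mem' := ⟨one_mem _, 1, fun z _ => by simp, fun z _ => by simp⟩
        mul_mem' := fun {x x'} ⟨hx, k, hk, hk'⟩ ⟨hx', k', hl, hl'⟩ =>
          ⟨mul_mem hx hx', k * k', fun z hz => Commute.mul_left (hk z hz) (hl z hz), fun z hz => by
            have e : x * x' * (k * k') = x * k * (x' * k') := by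
              calc x * x' * (k * k') = x * (x' * k) * k' := by group
                _ = x * (k * x') * k' := by rw [hk x' hx']
                _ = _ := by group
            rw [e]
            exact Commute.mul_left (hk' z hz) (hl' z hz)⟩
        inv_mem' := fun {x} ⟨hx, k, hk, hk'⟩ =>
          ⟨inv_mem hx, k⁻¹, fun z hz => Commute.inv_left (hk z hz), fun z hz => by
            rw [show x⁻¹ * k⁻¹ = (x * k)⁻¹ by rw [← mul_inv_rev, hk x hx]]
            exact Commute.inv_left (hk' z hz)⟩ }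
    have hM : A ⊔ B ≤ M := by
      refine sup_le (fun x hx => ?_) (fun x hx => ?_)
      · exact ⟨Subgroup.mem_sup_left hx, hAk x hx⟩
      · obtain ⟨k, hk, hk'⟩ := hBk x hx
        exact ⟨Subgroup.mem_sup_right hx, k, fun z hz => hk z (sup_comm A B ▸ hz), hk'⟩
    exact fun x hx => (hM hx).2
  have hord : ∀ A' ∈ S, ∀ x ∈ A', 0 < orderOf x ∧ orderOf x ≤ 3 := by
    intro F hF x hx
    refine ⟨orderOf_pos_iff.2 (isOfFinOrder_iff_pow_eq_one.2 ⟨3, by norm_num, hexpS F hF x hx⟩), ?_⟩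
    exact Nat.le_of_dvd (by norm_num) (orderOf_dvd_of_pow_eq_one (hexpS F hF x hx))
  obtain ⟨A₀, B₀, hA₀, hB₀, t, ht, x, hx, hx1, hmem, hne'⟩ := hH hord
  have htX : t ∈ A ⊔ B := sup_le_sup hA₀ hB₀ ht
  have htA : conjBy A t = A :=
    (rs_ti_of_mem hS hA ⟨B, hB, r⟩ (hS.conj_mem A hA t) (hA₀ hmem) (conj_mem_conjBy (hA₀ hx))
      (by simpa using hx1)).symm
  obtain ⟨k, hk, hk'⟩ := hlift t htX
  have hkA : ∀ z ∈ A, k * z = z * k := fun z hz => hk z (Subgroup.mem_sup_left hz)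
  have htk : conjBy A (t * k) = A := by rw [← conjBy_conjBy, conjBy_of_commutes hkA, htA]
  have hfin := r1_centralizes_left rA htk hk' x (hA₀ hx)
  apply hne'
  apply mul_right_cancel (b := k)
  calc t * x * k = t * (k * x) := by rw [mul_assoc, hkA x (hA₀ hx)]
    _ = x * (t * k) := by rw [← mul_assoc, hfin]
    _ = _ := by group

omit hdeg hS in
/-- A torus element inside an `(P)SL₂` pair over a field with more than three elements. -/
lemma psl2_torus {k : Type*} [Field k] (hk : 3 < ENat.card k) {A₀ B₀ : Subgroup G}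
    (h : IsPSL2PairOver k A₀ B₀) :
    ∃ t ∈ A₀ ⊔ B₀, ∃ x ∈ A₀, x ≠ 1 ∧ t * x * t⁻¹ ∈ A₀ ∧ t * x ≠ x * t := by
  obtain ⟨φ, hrange, hker, hU, -⟩ := h
  obtain ⟨l, hl0, hl⟩ : ∃ l : k, l ≠ 0 ∧ l * l ≠ 1 := by
    by_contra hc
    push Not at hc
    classical
    have hsurj : Function.Surjective (![0, 1, -1] : Fin 3 → k) := by
      intro l
      by_cases h0 : l = 0
      · exact ⟨0, by simp [h0]⟩
      rcases mul_self_eq_one_iff.1 (hc l h0) with h1 | h1
      · exact ⟨1, by simp [h1]⟩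
      · exact ⟨2, by simp [h1]⟩
    have h3 := ENat.card_le_card_of_injective (Function.injective_surjInv hsurj)
    have : (3 : ℕ∞) < 3 := lt_of_lt_of_le hk (le_trans h3 (by simp [ENat.card_eq_coe_fintype_card]))
    exact lt_irrefl _ this
  let T : Matrix.SpecialLinearGroup (Fin 2) k :=
    ⟨!![l, 0; 0, l⁻¹], by simp [Matrix.det_fin_two, hl0]⟩
  have hTU : T * slU 1 = slU (l * l) * T := by
    apply Subtype.ext
    show !![l, 0; 0, l⁻¹] * !![1, 1; 0, 1] = !![1, l * l; 0, 1] * !![l, 0; 0, l⁻¹]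
    simp [Matrix.mul_fin_two, hl0]
  have hcen : ∀ s : k, slU s ∈ φ.ker → s = 0 := by
    intro s hs
    rcases sl2_center (hker hs) with h1 | h1
    · exact slU_inj (h1.trans slU_zero.symm)
    · have := congrFun (congrFun h1 0) 1
      simpa [slU_val] using this
  have hmemA : ∀ s : k, φ (slU s) ∈ A₀ := fun s => hU ▸ Subgroup.mem_map_of_mem φ (slU_mem s)
  refine ⟨φ T, hrange ▸ ⟨T, rfl⟩, φ (slU 1), hmemA 1, fun e => one_ne_zero (hcen 1 e), ?_, ?_⟩
  · rw [← map_inv, ← map_mul, ← map_mul, hTU, mul_inv_cancel_right]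
    exact hmemA _
  · rw [← map_mul, ← map_mul, hTU, map_mul, map_mul]
    intro e
    have := mul_right_cancel e
    apply hl
    have h2 : φ (slU (l * l - 1)) = 1 := by
      rw [sub_eq_add_neg, slU_add, slU_neg, map_mul, map_inv, this, mul_inv_cancel]
    exact sub_eq_zero.1 (hcen _ h2)

end CfsgLib.RootSub
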