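/-
Members of a class of abstract root subgroups are determined by the members they commute with,
up to equality of the centralizing sets; weak TI subsets of non-degenerate classes are abelian.
-/
import Cfsg.Agent.Lib.RootSub.EGraph
import Cfsg.Agent.Lib.RootSub.Transvection

set_option autoImplicit false

namespace CfsgLib.RootSub

open Cfsg
open scoped commutatorElement

variable {G : Type*} [Group G] {S : Set (Subgroup G)}

lemma mem_centralizingMembers {A E : Subgroup G} :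
    E ∈ centralizingMembers S A ↔ E ∈ S ∧ ⁅E, A⁆ = ⊥ :=
  and_congr Iff.rfl Subgroup.commutator_eq_bot_iff_le_centralizer.symm

lemma centralizer_le_of_normalizes {U : Subgroup G} {x z : G}
    (hx : x ∈ Subgroup.normalizer (U : Set G)) (hz : z ∈ Subgroup.centralizer (U : Set G)) :
    x * z * x⁻¹ ∈ Subgroup.centralizer (U : Set G) := by
  rw [Subgroup.mem_centralizer_iff] at hz ⊢
  intro u hu
  have := hz _ ((Subgroup.mem_normalizer_iff''.1 hx u).1 hu)
  calc u * (x * z * x⁻¹) = x * (x⁻¹ * u * x * z) * x⁻¹ := by group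
    _ = x * (z * (x⁻¹ * u * x)) * x⁻¹ := by rw [this]
    _ = _ := by group

/-- A partner of a member centralizing `U` centralizes `U` as soon as it normalizes it. -/
lemma r1_centralizes_normalized {C Z U : Subgroup G} (r : IsRankOnePair C Z)
    (hC : C ≤ Subgroup.centralizer (U : Set G)) (hZ : Z ≤ Subgroup.normalizer (U : Set G)) :
    Z ≤ Subgroup.centralizer (U : Set G) := by
  obtain ⟨x, hx, e⟩ := r1_right_mem r
  have hxn : x ∈ Subgroup.normalizer (U : Set G) :=
    sup_le (le_trans hC (Subgroup.centralizer_le_normalizer _)) hZ hx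
  intro z hz
  rw [e, mem_conjBy] at hz
  have := centralizer_le_of_normalizes hxn (hC hz)
  rwa [show x * (x⁻¹ * z * x) * x⁻¹ = z by group] at this

/-- No member commutes with a line and is a rank one partner of an element moving that line. -/
lemma cc_not_rankOne_centralizer (hS : IsRootSubgroupSet S) {R Z C : Subgroup G} (hR : R ∈ S)
    (hcc : RootCommutatorCase S R Z) (hCR : ⁅C, R⁆ = ⊥) (hCE : ⁅C, ⁅R, Z⁆⁆ = ⊥) :
    ¬ IsRankOnePair C Z := by
  intro r
  have hC : C ≤ Subgroup.centralizer ((R ⊔ ⁅R, Z⁆ : Subgroup G) : Set G) := by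
    intro c hc
    rw [Subgroup.mem_centralizer_iff]
    intro u hu
    obtain ⟨x, hx, w, hw, rfl⟩ := cc_mem_sup hS hR hcc hu
    exact Commute.mul_left (commutator_eq_bot_iff.1 hCE c hc w hw).symm
      (commutator_eq_bot_iff.1 hCR c hc x hx).symm
  have hle : ∀ y ∈ Z, conjBy (R ⊔ ⁅R, Z⁆) y ≤ R ⊔ ⁅R, Z⁆ := fun y hy => by
    rw [conjBy_sup, cc_conjBy_comm hS hR hcc hy]
    exact sup_le (cc_conj_le hS hR hcc hy) le_sup_right
  have hZ : Z ≤ Subgroup.normalizer ((R ⊔ ⁅R, Z⁆ : Subgroup G) : Set G) := fun y hy => by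
    rw [← conjBy_eq_iff_mem_normalizer]
    refine le_antisymm (hle y hy) ?_
    have := conjBy_le (g := y) (hle y⁻¹ (inv_mem hy))
    rwa [conjBy_conjBy_inv] at this
  apply hS.ne_bot _ hcc.1
  rw [commutator_eq_bot_iff]
  intro x hx y hy
  exact Subgroup.mem_centralizer_iff.1 (r1_centralizes_normalized r hC hZ hy) x
    (Subgroup.mem_sup_left hx)

/-- A member commuting with a pair of rank one `(T, R)` is not a line partner of `T`. -/
lemma linePartner_not_commute (hS : IsRootSubgroupSet S) {C T R : Subgroup G} (hC : C ∈ S)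
    (hR : R ∈ S) (hT : T ∈ linePartners S C) (r : IsRankOnePair T R) : ⁅R, C⁆ ≠ ⊥ := by
  intro h
  obtain ⟨⟨hTS, -, hCT⟩, -, hcov, -⟩ := hT
  obtain ⟨c, hc, hc1⟩ := rs_exists_ne_one hS hC
  obtain ⟨t, ht, ht1⟩ := rs_exists_ne_one hS hTS
  have hne : c * t ≠ 1 := by
    intro e
    have hct : c = t⁻¹ := eq_inv_of_mul_eq_one_left e
    refine ht1 (r1_eq_one_of_normalizes r ht (conjBy_of_commutes fun x hx => ?_))
    have h1 := commutator_eq_bot_iff.1 h x hx c hc
    rw [hct] at h1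
    exact (Commute.inv_right_iff.1 h1).symm
  obtain ⟨E, ⟨hE, -⟩, hmem⟩ :=
    hcov _ (mul_mem (Subgroup.mem_sup_left hc) (Subgroup.mem_sup_right ht)) hne
  exact rs_central_translate hS hTS hR hE r (fun x hx => commutator_eq_bot_iff.1 hCT c hc x hx)
    (fun x hx => (commutator_eq_bot_iff.1 h x hx c hc).symm) hc1 ht ht1 hmem

/-- The opposite of a commutator partner. -/
lemma cc_opposite (hS : IsRootSubgroupClass S) (hnd : IsNondegenerateRootSet S)
    {X Y : Subgroup G} (hX : X ∈ S) (hY : Y ∈ S) (h : RootCommutatorCase S X Y) :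
    ∃ Z ∈ S, RootCommutatorCase S ⁅X, Y⁆ Z ∧ ⁅⁅X, Y⁆, Z⁆ = X ∧ IsRankOnePair Y Z ∧
      Z ∈ linePartners S X ∧ ⁅X, Z⁆ = ⊥ := by
  have hF := class_hasPartner hS hnd
  obtain ⟨e1, e2⟩ := cc_linePartner_symm hS.1 hX h (hF X hX)
  have hne : X ≠ ⁅X, Y⁆ := Ne.symm e1.1.2.1
  obtain ⟨x, -, x1, x2⟩ := line_two_transitive hS.1 hF hX e1 X ⟨hX, le_sup_left⟩ ⁅X, Y⁆
    ⟨h.1, le_sup_right⟩ ⁅X, Y⁆ ⟨h.1, le_sup_right⟩ X ⟨hX, le_sup_left⟩ hne (Ne.symm hne)
  obtain ⟨Z, hZ⟩ : ∃ Z, Z = conjBy Y x := ⟨_, rfl⟩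
  have hZS : Z ∈ S := hZ ▸ hS.1.conj_mem Y hY x
  have hcom : ⁅⁅X, Y⁆, Z⁆ = X := by
    conv_lhs => rw [← x1, hZ]
    show ⁅X.map _, Y.map _⁆ = X
    rw [← Subgroup.map_commutator]
    exact x2
  have hcc : RootCommutatorCase S ⁅X, Y⁆ Z := rs_cc_of_mem hS.1 h.1 hZS (hcom.symm ▸ hX)
  have hcc' := cc_symm hcc
  have hcom' : ⁅Z, ⁅X, Y⁆⁆ = X := by rw [Subgroup.commutator_comm]; exact hcom
  have hlp := (cc_linePartner_symm hS.1 hZS hcc' (hF Z hZS)).2
  rw [hcom'] at hlp
  exact ⟨Z, hZS, hcc, hcom, opp_isRankOnePair hS.1 h hcc' hX hY hZS hcom', hlp, hlp.1.2.2⟩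

/-- Weak TI subsets of non-degenerate classes are abelian. -/
theorem weakTI_abelian (hS : IsRootSubgroupClass S) (hnd : IsNondegenerateRootSet S)
    {Δ : Set (Subgroup G)} (hΔ : IsWeakTISubset S Δ) : IsAbelianFamily Δ := by
  obtain ⟨hsub, -, hne, hti⟩ := hΔ
  let φ : G → Set (Subgroup G) := fun g => (fun A => conjBy A g) '' Δ
  have φmul : ∀ g h, φ (g * h) = (fun A => conjBy A g) '' φ h := fun g h => by
    simp only [φ, Set.image_image, conjBy_conjBy]
  have φone : φ 1 = Δ := by simp only [φ, conjBy_one, Set.image_id']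
  let N : Subgroup G :=
    { carrier := {g | φ g = Δ}
      one_mem' := φone
      mul_mem' := fun {g h} (hg : φ g = Δ) (hh : φ h = Δ) => by
        show φ (g * h) = Δ
        rw [φmul, hh]; exact hg
      inv_mem' := fun {g} (hg : φ g = Δ) => by
        show φ g⁻¹ = Δ
        have h1 := φmul g⁻¹ g
        rw [inv_mul_cancel, φone, hg] at h1
        exact h1.symm }
  have hN : ∀ X ∈ Δ, ∀ E ∈ S, ⁅E, X⁆ = ⊥ → E ≤ N := by
    intro X hX E hE hEX d hd
    by_cases hd1 : d = 1
    · rw [hd1]; exact one_mem _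
    rcases hti d ⟨hd1, E, hE, hd⟩ with h | h
    · exact h
    · exfalso
      exact Set.disjoint_left.1 h ⟨X, hX, conjBy_of_commutes fun x hx =>
        commutator_eq_bot_iff.1 hEX d hd x hx⟩ hX
  have hno : ∀ X ∈ Δ, ∀ B ∈ S, IsRankOnePair X B → B ≤ N → False := by
    intro X hX B hB r hBN
    have hgen := class_generated_by_line_partners hS hnd (hsub hX) hB r
    have htop : (⊤ : Subgroup G) ≤ N := by
      rw [← hgen]
      exact sup_le (iSup₂_le fun L hL => hN X hX L hL.1.1 (commutator_bot_symm hL.1.2.2)) hBN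
    apply hne
    refine Set.Subset.antisymm hsub fun E hE => ?_
    obtain ⟨g, rfl⟩ := hS.2.2 X (hsub hX) E hE
    exact (htop (Subgroup.mem_top g) : φ g = Δ) ▸ ⟨X, hX, rfl⟩
  intro X hX Y hY
  rw [← commutator_eq_bot_iff]
  rcases hS.1.pair X (hsub hX) Y (hsub hY) with h | h | h
  · exact h
  · exact absurd (hno X hX Y (hsub hY) h (hN Y hY Y (hsub hY) (rs_self_commute hS.1 (hsub hY)))) id
  · obtain ⟨Z, hZ, -, -, r, -, hXZ⟩ := cc_opposite hS hnd (hsub hX) (hsub hY) h
    exact absurd (hno Y hY Z hZ r (hN X hX Z hZ (commutator_bot_symm hXZ))) id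

/-- The core computation for nested centralizing sets. -/
lemma incomparable_core (hS : IsRootSubgroupSet S) {A C E F : Subgroup G} (hA : A ∈ S)
    (hC : C ∈ S) (hE : E ∈ S) (hF : F ∈ S)
    (hsub : centralizingMembers S A ⊆ centralizingMembers S C) (hEC : ⁅E, C⁆ = ⊥)
    (rA : IsRankOnePair A F) (rC : IsRankOnePair C F) : ⁅E, A⁆ = ⊥ := by
  have hAC : ⁅A, C⁆ = ⊥ :=
    (mem_centralizingMembers.1 (hsub (mem_centralizingMembers.2 ⟨hA, rs_self_commute hS hA⟩))).2
  rw [commutator_eq_bot_iff]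
  intro u hu a ha
  by_cases ha1 : a = 1
  · simp [ha1]
  obtain ⟨e, ra⟩ := r1rel_exists rA ha ha1
  obtain ⟨c, rc, hhE, hhA, hhc⟩ := quad_config hS hA hF hAC rA rC ra
  obtain ⟨g, hg⟩ : ∃ g, g = a * c⁻¹ := ⟨_, rfl⟩
  rw [← hg] at hhE hhA hhc
  obtain ⟨η, hη⟩ : ∃ η, η = e * (g * e * g⁻¹)⁻¹ := ⟨_, rfl⟩
  rw [← hη] at hhE hhA hhc
  have hηF : conjBy F η = F := conjBy_of_commutes hhE
  -- centralizing sets grow along the orbit of `η`
  have hshift : ∀ {X : Subgroup G}, X ∈ S → ⁅X, C⁆ = ⊥ → ⁅X, conjBy C η⁆ = ⊥ := by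
    intro X hX h
    have h1 : ⁅conjBy X η⁻¹, A⁆ = ⊥ := by
      rw [← conjBy_commute_iff η, conjBy_conjBy_inv, hhA]
      exact h
    have h2 := (mem_centralizingMembers.1
      (hsub (mem_centralizingMembers.2 ⟨hS.conj_mem X hX _, h1⟩))).2
    rw [← conjBy_commute_iff η, conjBy_conjBy_inv] at h2
    exact h2
  have hC2 : conjBy C η ∈ S := hS.conj_mem C hC η
  have hEC2 := hshift hE hEC
  have hEC3 : ⁅E, conjBy (conjBy C η) η⁆ = ⊥ := by
    have h1 : ⁅conjBy E η⁻¹, C⁆ = ⊥ := by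
      have : ⁅conjBy E η⁻¹, A⁆ = ⊥ := by
        rw [← conjBy_commute_iff η, conjBy_conjBy_inv, hhA]; exact hEC
      exact (mem_centralizingMembers.1
        (hsub (mem_centralizingMembers.2 ⟨hS.conj_mem E hE _, this⟩))).2
    have h2 := hshift (hS.conj_mem E hE _) h1
    rw [← conjBy_commute_iff η, conjBy_conjBy_inv] at h2
    exact h2
  -- the element `y`
  have step : ∀ x ∈ A, ⁅conjBy F (x * (η * x * η⁻¹)⁻¹), F⁆ = ⊥ := by
    intro x hx
    by_cases hx1 : x = 1
    · subst hx1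
      simp only [mul_one, mul_inv_cancel, inv_one, conjBy_one]
      exact rs_self_commute hS hF
    obtain ⟨e1, r1'⟩ := r1rel_exists rA hx hx1
    have r2 := r1rel_conj r1' hhA hηF
    rw [hhE e1 r1'.2.2.1, mul_inv_cancel_right] at r2
    exact quad_step hAC r1' r2
  have hFcomm : ∀ {w : G}, (∃ x ∈ A, w = x * (η * x * η⁻¹)⁻¹) → ∀ {v z : G}, v ∈ F → z ∈ F →
      Commute (w * v * w⁻¹) z := by
    rintro w ⟨x, hx, rfl⟩ v z hv hz
    exact commutator_eq_bot_iff.1 (step x hx) _ (conj_mem_conjBy hv) z hz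
  obtain ⟨c2, hc2⟩ : ∃ c2, c2 = η * c * η⁻¹ := ⟨_, rfl⟩
  have hc2m : c2 ∈ conjBy C η := hc2 ▸ conj_mem_conjBy rc.1
  have hac : Commute a c := commutator_eq_bot_iff.1 hAC a ha c rc.1
  have hac2 : Commute a c2 := commutator_eq_bot_iff.1 (hshift hA hAC) a ha c2 hc2m
  have hcc2 : Commute c c2 :=
    commutator_eq_bot_iff.1 (hshift hC (rs_self_commute hS hC)) c rc.1 c2 hc2m
  obtain ⟨y, hy⟩ : ∃ y, y = a * (c⁻¹ * c2 * c⁻¹) := ⟨_, rfl⟩
  have e1 : g * η * g⁻¹ * η⁻¹ = y := by
    rw [hy, hc2, hg, ← hhc]; group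
  have hye : Commute y e := by
    have e2 : g * η * g⁻¹ * η⁻¹ = (g * e * g⁻¹) * ((g * g) * e⁻¹ * (g * g)⁻¹) *
        (g * e * g⁻¹) * e⁻¹ := by
      rw [hη]; group
    have hgg : g * g = (a * a) * (η * (a * a) * η⁻¹)⁻¹ := by
      have h1 : Commute c⁻¹ a := hac.symm.inv_left
      calc g * g = a * (c⁻¹ * a) * c⁻¹ := by rw [hg]; group
        _ = a * a * (c⁻¹ * c⁻¹) := by rw [h1.eq]; group
        _ = _ := by rw [← hhc]; group
    rw [← e1, e2]
    refine Commute.mul_left (Commute.mul_left (Commute.mul_left ?_ ?_) ?_) ((Commute.refl e).inv_left)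
    · exact hFcomm ⟨a, ha, by rw [hhc, hg]⟩ ra.2.2.1 ra.2.2.1
    · exact hFcomm ⟨a * a, mul_mem ha ha, hgg⟩ (inv_mem ra.2.2.1) ra.2.2.1
    · exact hFcomm ⟨a, ha, by rw [hhc, hg]⟩ ra.2.2.1 ra.2.2.1
  have hyg : Commute y g := by
    rw [hy, hg]
    refine Commute.mul_left ((Commute.refl a).mul_right hac.inv_right) ?_
    refine Commute.mul_left (Commute.mul_left ?_ ?_) ?_
    · exact (hac.symm.inv_left).mul_right (Commute.refl c).inv_left.inv_right
    · exact hac2.symm.mul_right hcc2.symm.inv_right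
    · exact (hac.symm.inv_left).mul_right (Commute.refl c).inv_left.inv_right
  have hyη : Commute y η := by
    rw [hη]
    exact hye.mul_right (((hyg.mul_right hye).mul_right hyg.inv_right).inv_right)
  -- `y` is a product of elements centralized by `E`
  have hu1 : Commute u c := commutator_eq_bot_iff.1 hEC u hu c rc.1
  have hu2 : Commute u c2 := commutator_eq_bot_iff.1 hEC2 u hu c2 hc2m
  have hu3 : Commute u (η * c2 * η⁻¹) :=
    commutator_eq_bot_iff.1 hEC3 u hu _ (conj_mem_conjBy hc2m)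
  have hyeq : a = c * (c2⁻¹ * (η * c2 * η⁻¹) * c2⁻¹) * (c⁻¹ * c2 * c⁻¹)⁻¹ := by
    have h1 : η * y * η⁻¹ = y := by rw [← hyη.eq, mul_inv_cancel_right]
    have h2 : η * y * η⁻¹ = (η * a * η⁻¹) * ((η * c * η⁻¹)⁻¹ * (η * c2 * η⁻¹) * (η * c * η⁻¹)⁻¹) := by
      rw [hy]; group
    rw [h1, hhc, ← hc2] at h2
    rw [← h2, hy, mul_inv_cancel_right]
  rw [hyeq]
  exact (hu1.mul_right ((hu2.inv_right.mul_right hu3).mul_right hu2.inv_right)).mul_right
    ((hu1.inv_right.mul_right hu2).mul_right hu1.inv_right).inv_right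

variable (hS : IsRootSubgroupClass S)
include hS

lemma class_not_central (hF : ∀ X ∈ S, HasPartner S X) {C : Subgroup G} (hC : C ∈ S)
    (h : (⊤ : Subgroup G) ≤ Subgroup.centralizer (C : Set G)) : False := by
  obtain ⟨D, hD, r⟩ := hF C hC
  refine r1_not_commute (r1_symm r) (commutator_eq_bot_iff.2 fun d _ c hc => ?_)
  exact (Subgroup.mem_centralizer_iff.1 (h (Subgroup.mem_top d)) c hc).symm

/-- A common rank one partner exists when the centralizing sets are nested. -/
lemma nested_common_partner (hnd : IsNondegenerateRootSet S) {A C : Subgroup G} (hA : A ∈ S)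
    (hC : C ∈ S) (hsub : centralizingMembers S A ⊆ centralizingMembers S C) {F : Subgroup G}
    (hF : F ∈ S) (rA : IsRankOnePair A F) : IsRankOnePair C F := by
  have hP := class_hasPartner hS hnd
  have hlp : ∀ L ∈ linePartners S A, ⁅L, C⁆ = ⊥ := fun L hL => (mem_centralizingMembers.1
    (hsub (mem_centralizingMembers.2 ⟨hL.1.1, commutator_bot_symm hL.1.2.2⟩))).2
  have hcentral : ∀ B ∈ S, IsRankOnePair A B → ⁅B, C⁆ ≠ ⊥ := by
    intro B hB r hBC
    refine class_not_central hS hP hC ?_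
    rw [← class_generated_by_line_partners hS hnd hA hB r]
    exact sup_le (iSup₂_le fun L hL => Subgroup.commutator_eq_bot_iff_le_centralizer.1 (hlp L hL))
      (Subgroup.commutator_eq_bot_iff_le_centralizer.1 hBC)
  have hAC : ⁅A, C⁆ = ⊥ :=
    (mem_centralizingMembers.1 (hsub (mem_centralizingMembers.2 ⟨hA, rs_self_commute hS.1 hA⟩))).2
  rcases hS.1.pair C hC F hF with h | h | h
  · exact absurd (commutator_bot_symm h) (hcentral F hF rA)
  · exact h
  · exfalso
    have hT := (cc_linePartner_symm hS.1 hC h (hP C hC)).1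
    have hCT : ⁅C, ⁅C, F⁆⁆ = ⊥ := hT.1.2.2
    rcases hS.1.pair A hA _ h.1 with h' | h' | h'
    · exact cc_not_rankOne_centralizer hS.1 hC h hAC h' rA
    · exact hcentral _ h.1 h' (commutator_bot_symm hCT)
    · obtain ⟨Z, hZ, -, -, r, hZlp, -⟩ := cc_opposite hS hnd hA h.1 h'
      exact linePartner_not_commute hS.1 hC hZ hT r (hlp Z hZlp)

/-- Nested centralizing sets are equal. -/
theorem centralizing_incomparable (hdn : IsDegenerateRootSet S ∨ IsNondegenerateRootSet S)
    {A C : Subgroup G} (hA : A ∈ S) (hC : C ∈ S)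
    (hsub : centralizingMembers S A ⊆ centralizingMembers S C) :
    centralizingMembers S A = centralizingMembers S C := by
  refine Set.Subset.antisymm hsub fun E hE => ?_
  obtain ⟨hES, hEC⟩ := mem_centralizingMembers.1 hE
  refine mem_centralizingMembers.2 ⟨hES, ?_⟩
  rcases hdn with hdeg | hnd
  · by_cases hall : ∃ F ∈ S, ⁅F, C⁆ ≠ ⊥
    · obtain ⟨F, hF, hFC⟩ := hall
      refine incomparable_core hS.1 hA hC hES hF hsub hEC ?_
        (r1_symm (deg_rankOne hS.1 hdeg hF hC hFC))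
      refine r1_symm (deg_rankOne hS.1 hdeg hF hA fun h => hFC ?_)
      exact (mem_centralizingMembers.1 (hsub (mem_centralizingMembers.2 ⟨hF, h⟩))).2
    · push Not at hall
      obtain ⟨g, rfl⟩ := hS.2.2 C hC A hA
      have hall' := hall (conjBy E g⁻¹) (hS.1.conj_mem E hES _)
      rw [← conjBy_commute_iff g, conjBy_conjBy_inv] at hall'
      exact hall'
  · obtain ⟨F, hF, rA⟩ := class_hasPartner hS hnd A hA
    exact incomparable_core hS.1 hA hC hES hF hsub hEC rA
      (nested_common_partner hS hnd hA hC hsub hF rA)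

/-- Nested sets of rank one partners. -/
theorem rankOne_incomparable (hdn : IsDegenerateRootSet S ∨ IsNondegenerateRootSet S)
    {A C : Subgroup G} (hA : A ∈ S) (hC : C ∈ S)
    (hsub : rankOnePartners S A ⊆ rankOnePartners S C) :
    ⁅A, C⁆ = ⊥ ∧ rankOnePartners S A = rankOnePartners S C := by
  have hirr : ¬ IsRankOnePair C C := fun r => r.ne rfl
  have hAC : ⁅A, C⁆ = ⊥ := by
    rcases hS.1.pair A hA C hC with h | h | h
    · exact h
    · exact absurd (hsub ⟨hC, h⟩).2 hirr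
    · rcases hdn with hdeg | hnd
      · exact absurd h (hdeg A hA C hC)
      · obtain ⟨Z, hZ, -, -, r, -, hCZ⟩ := cc_opposite hS hnd hC hA (cc_symm h)
        exact absurd hCZ (r1_not_commute (hsub ⟨hZ, r⟩).2)
  refine ⟨hAC, Set.Subset.antisymm hsub ?_⟩
  have hCA : centralizingMembers S C ⊆ centralizingMembers S A := by
    intro E hE
    obtain ⟨hES, hEC⟩ := mem_centralizingMembers.1 hE
    refine mem_centralizingMembers.2 ⟨hES, ?_⟩
    rcases hS.1.pair E hES A hA with h | h | h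
    · exact h
    · exact absurd (commutator_bot_symm hEC) (r1_not_commute (hsub ⟨hES, r1_symm h⟩).2)
    · rcases hdn with hdeg | hnd
      · exact absurd h (hdeg E hES A hA)
      · exfalso
        obtain ⟨Z, hZ, hcc, hcom, r, -, -⟩ := cc_opposite hS hnd hES hA h
        have hCR : ⁅C, ⁅E, A⁆⁆ = ⊥ := by
          rw [Subgroup.commutator_eq_bot_iff_le_centralizer]
          intro x hx
          rw [Subgroup.mem_centralizer_iff]
          intro w hw
          have h1 : ⁅E, A⁆ ≤ Subgroup.centralizer {x} := by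
            rw [Subgroup.commutator_le]
            intro p hp q hq
            rw [Subgroup.mem_centralizer_singleton_iff]
            have k1 : Commute p x := commutator_eq_bot_iff.1 hEC p hp x hx
            have k2 : Commute q x := commutator_eq_bot_iff.1 hAC q hq x hx
            exact (((k1.mul_left k2).mul_left k1.inv_left).mul_left k2.inv_left).eq
          exact Subgroup.mem_centralizer_singleton_iff.1 (h1 hw)
        refine cc_not_rankOne_centralizer hS.1 h.1 hcc hCR ?_ (hsub ⟨hZ, r⟩).2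
        rw [hcom]
        exact commutator_bot_symm hEC
  rintro B ⟨hB, rB⟩
  have hCB : ⁅B, C⁆ ≠ ⊥ := r1_not_commute (r1_symm rB)
  have heq := centralizing_incomparable hS hdn hC hA hCA
  rcases hS.1.pair A hA B hB with h | h | h
  · exact absurd (mem_centralizingMembers.1
      (heq.symm ▸ mem_centralizingMembers.2 ⟨hB, commutator_bot_symm h⟩)).2 hCB
  · exact ⟨hB, h⟩
  · exfalso
    rcases hdn with hdeg | hnd
    · exact hdeg A hA B hB h
    · have hT := (cc_linePartner_symm hS.1 hA h (class_hasPartner hS hnd A hA)).1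
      have hTC : ⁅C, ⁅A, B⁆⁆ = ⊥ := commutator_bot_symm (mem_centralizingMembers.1
        (heq.symm ▸ mem_centralizingMembers.2 ⟨h.1, commutator_bot_symm hT.1.2.2⟩)).2
      exact cc_not_rankOne_centralizer hS.1 hA h (commutator_bot_symm hAC) hTC rB

end CfsgLib.RootSub
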