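/-
Elementary facts on root involutions.
-/
import Mathlib
import Cfsg.Prelude.Def_RootSubgroups

set_option autoImplicit false

namespace CfsgLib.RootSub

open Cfsg

variable {G : Type*} [Group G] {D : Set G}

lemma ri_sq (hD : IsRootInvolutionSet D) {a : G} (ha : a ∈ D) : a * a = 1 := by
  have := pow_orderOf_eq_one a
  rwa [hD.orderOf_eq a ha, pow_two] at this

lemma ri_inv (hD : IsRootInvolutionSet D) {a : G} (ha : a ∈ D) : a⁻¹ = a :=
  inv_eq_of_mul_eq_one_left (ri_sq hD ha)

lemma ri_ne_one (hD : IsRootInvolutionSet D) {a : G} (ha : a ∈ D) : a ≠ 1 := by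
  rintro rfl
  simpa using hD.orderOf_eq 1 ha

lemma ri_mul_ne_one (hD : IsRootInvolutionSet D) {a b : G} (ha : a ∈ D) (hne : b ≠ a) :
    a * b ≠ 1 := fun h => hne ((eq_inv_of_mul_eq_one_right h).trans (ri_inv hD ha))

/-- Two odd transpositions commute or have product of odd order. -/
lemma odd_comm_or_odd (hD : IsOddTranspositionSet D) {a b : G} (ha : a ∈ D) (hb : b ∈ D) :
    a * b = b * a ∨ Odd (orderOf (a * b)) := by
  rcases hD.1.pair a ha b hb with h | h | ⟨h, -⟩
  · exact Or.inl h
  · exact Or.inr h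
  · exact absurd h (hD.2 a ha b hb)

/-- An element of a normal `2`-subgroup of odd order is trivial. -/
lemma eq_one_of_odd_of_isPGroup {Q : Subgroup G} (hQ : IsPGroup 2 Q) {x : G} (hx : x ∈ Q)
    (hodd : Odd (orderOf x)) : x = 1 := by
  obtain ⟨k, hk⟩ := hQ ⟨x, hx⟩
  have hd : orderOf x ∣ 2 ^ k := orderOf_dvd_of_pow_eq_one (congrArg Subtype.val hk)
  have : Nat.Coprime (orderOf x) (2 ^ k) := (Nat.coprime_two_right.2 hodd).pow_right k
  exact orderOf_eq_one_iff.1 (Nat.Coprime.eq_one_of_dvd this hd)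

/-- Congruent odd transpositions modulo a `2`-subgroup commute. -/
lemma odd_commute_of_mul_mem (hD : IsOddTranspositionSet D) {Q : Subgroup G} (hQ : IsPGroup 2 Q)
    {a b : G} (ha : a ∈ D) (hb : b ∈ D) (h : a * b ∈ Q) : a * b = b * a := by
  rcases odd_comm_or_odd hD ha hb with hc | hc
  · exact hc
  · have h1 := eq_one_of_odd_of_isPGroup hQ h hc
    rw [← eq_inv_of_mul_eq_one_left h1 |>.symm] at *
    group

/-- If `a, b` commute, `b` commutes with every odd transposition congruent to `a` modulo a normal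
`2`-subgroup. -/
lemma odd_commute_of_congr (hD : IsOddTranspositionSet D) {Q : Subgroup G} [Q.Normal]
    (hQ : IsPGroup 2 Q) {a a' e : G} (ha : a ∈ D) (ha' : a' ∈ D) (he : e ∈ D)
    (hea : e * a = a * e) (h : a' * a ∈ Q) : e * a' = a' * e := by
  rcases odd_comm_or_odd hD he ha' with hc | hc
  · exact hc
  · set π := QuotientGroup.mk' Q
    have hae : π a' = π a := by
      have h1 : π (a' * a) = 1 := (QuotientGroup.eq_one_iff _).2 h
      rw [map_mul] at h1
      rw [eq_inv_of_mul_eq_one_left h1, ← map_inv, ri_inv hD.1 ha]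
    have h2 : π (e * a') ^ 2 = 1 := by
      rw [map_mul, hae, ← map_mul, ← map_pow, pow_two,
        show e * a * (e * a) = e * (a * e) * a by group, ← hea,
        show e * (e * a) * a = (e * e) * (a * a) by group, ri_sq hD.1 he, ri_sq hD.1 ha, one_mul,
        map_one]
    have h3 : π (e * a') = 1 := by
      obtain ⟨k, hk⟩ := hc
      have h4 : π (e * a') ^ (2 * k + 1) = 1 := by rw [← map_pow, ← hk, pow_orderOf_eq_one, map_one]
      rwa [pow_succ, pow_mul, h2, one_pow, one_mul] at h4
    exact odd_commute_of_mul_mem hD hQ he ha' ((QuotientGroup.eq_one_iff _).1 h3)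

end CfsgLib.RootSub
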