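/-
The graph of odd products on a set of root involutions.
-/
import Cfsg.Agent.Lib.RootSub.Involutions
import Cfsg.Agent.Lib.Invol.Dihedral
import Cfsg.Agent.Lib.Invol.BaerSuzuki

set_option autoImplicit false

namespace CfsgLib.RootSub

open Cfsg

variable {G : Type*} [Group G]

/-- The finite quotients of the affine Weyl group of type `C₂` in which the Coxeter element has
odd order are trivial. -/
theorem two_four_not_odd {a f x : G} (ha : a * a = 1) (hf : f * f = 1) (hx : x * x = 1)
    (haf : a * f = f * a) (h1 : (a * x) ^ 4 = 1) (h2 : (f * x) ^ 4 = 1)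
    (hodd : Odd (orderOf (a * f * x))) : a * f * x = 1 := by
  have cancel : ∀ {u : G}, u * u = 1 → ∀ w, u * (u * w) = w := fun {u} hu w => by
    rw [← mul_assoc, hu, one_mul]
  have hia : a⁻¹ = a := inv_eq_of_mul_eq_one_left ha
  have hif : f⁻¹ = f := inv_eq_of_mul_eq_one_left hf
  have hix : x⁻¹ = x := inv_eq_of_mul_eq_one_left hx
  have bax : ∀ w, x * (a * (x * (a * w))) = a * (x * (a * (x * w))) := by
    intro w
    have h : ((a * x) ^ 2)⁻¹ = (a * x) ^ 2 := inv_eq_of_mul_eq_one_left (by rw [← pow_add]; exact h1)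
    simp only [pow_two, mul_inv_rev, hia, hix, mul_assoc] at h
    simpa only [mul_assoc] using congrArg (· * w) h
  have bfx : ∀ w, x * (f * (x * (f * w))) = f * (x * (f * (x * w))) := by
    intro w
    have h : ((f * x) ^ 2)⁻¹ = (f * x) ^ 2 := inv_eq_of_mul_eq_one_left (by rw [← pow_add]; exact h2)
    simp only [pow_two, mul_inv_rev, hif, hix, mul_assoc] at h
    simpa only [mul_assoc] using congrArg (· * w) h
  have baf : ∀ w, a * (f * w) = f * (a * w) := fun w => by rw [← mul_assoc, haf, mul_assoc]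
  obtain ⟨z, hz⟩ : ∃ z, z = (a * x * a * x) * (f * x * f * x) := ⟨_, rfl⟩
  obtain ⟨c, hc⟩ : ∃ c, c = a * f * x := ⟨_, rfl⟩
  rw [← hc] at hodd ⊢
  have hzi : z⁻¹ = f * (x * (f * (a * (x * a)))) := by
    calc z⁻¹ = x * (f * (x * (f * (x * (a * (x * a)))))) := by
          rw [hz]; simp only [mul_inv_rev, hia, hif, hix, mul_assoc]
      _ = f * (x * (f * (x * (x * (a * (x * a)))))) := bfx _
      _ = _ := by rw [cancel hx]
  have hxz : x * z * x = z := by
    calc x * z * x = x * (a * (x * (a * (x * (f * (x * (f * (x * x)))))))) := by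
          rw [hz]; simp only [mul_assoc]
      _ = a * (x * (a * (x * (x * (f * (x * f)))))) := by rw [hx, mul_one, bax]
      _ = a * (x * (a * (x * (f * (x * (f * x)))))) := by
          have := bfx 1
          simp only [mul_one] at this
          rw [← this, cancel hx]
      _ = z := by rw [hz]; simp only [mul_assoc]
  have hrev : c * z * c⁻¹ = z⁻¹ := by
    calc c * z * c⁻¹ = a * f * (x * z * x) * (f * a) := by
          rw [hc]; simp only [mul_inv_rev, hia, hif, hix, mul_assoc]
      _ = a * (f * (a * (x * (a * (x * (f * (x * (f * (x * (f * a)))))))))) := by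
          rw [hxz, hz]; simp only [mul_assoc]
      _ = a * (a * (f * (x * (a * (x * (f * (x * (f * (x * (f * a)))))))))) := by rw [baf (x * _)]
      _ = f * (x * (a * (x * (f * (x * (f * (x * (f * a)))))))) := cancel ha _
      _ = f * (x * (a * (f * (x * (f * (x * (x * (f * a)))))))) := by rw [bfx]
      _ = f * (x * (a * (f * (x * a)))) := by rw [cancel hx, cancel hf]
      _ = z⁻¹ := by rw [hzi, baf]
  have haza : a * z * a = (c⁻¹) ^ 2 := by
    calc a * z * a = a * (a * (x * (a * (x * (f * (x * (f * (x * a)))))))) := by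
          rw [hz]; simp only [mul_assoc]
      _ = x * (a * (x * (f * (x * (f * (x * a)))))) := cancel ha _
      _ = x * (a * (f * (x * (f * (x * (x * a)))))) := by rw [bfx]
      _ = x * (a * (f * (x * (f * a)))) := by rw [cancel hx]
      _ = (c⁻¹) ^ 2 := by
          rw [hc, baf]; simp only [mul_inv_rev, hia, hif, hix, pow_two, mul_assoc]
  have hc2 : Commute (c * c) z := by
    have h' : c * z⁻¹ * c⁻¹ = z := by rw [← conj_inv, hrev, inv_inv]
    show c * c * z = z * (c * c)
    calc c * c * z = c * (c * z * c⁻¹) * c⁻¹ * (c * c) := by group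
      _ = _ := by rw [hrev, h']
  obtain ⟨m, hm⟩ := hodd
  have hcc : c * (c * c) ^ m = 1 := by
    rw [← pow_two, ← pow_mul, ← pow_succ', ← hm, pow_orderOf_eq_one]
  have hcz : Commute c z := by
    rw [eq_inv_of_mul_eq_one_left hcc]
    exact (hc2.pow_left m).inv_left
  have hz2 : z * z = 1 := by
    have : z = z⁻¹ := by rw [← hrev, hcz.eq, mul_inv_cancel_right]
    nth_rewrite 2 [this]
    exact mul_inv_cancel z
  have h4 : c ^ 4 = 1 := by
    have : (a * z * a) ^ 2 = 1 := by
      rw [pow_two, show a * z * a * (a * z * a) = a * (z * ((a * a) * (z * a))) by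
        simp only [mul_assoc], ha, one_mul, ← mul_assoc z, hz2, one_mul, ha]
    rw [haza, ← pow_mul, inv_pow, inv_eq_one] at this
    exact this
  have hd : orderOf c ∣ 2 ^ 2 := orderOf_dvd_of_pow_eq_one (by norm_num [h4])
  have hcop : Nat.Coprime (orderOf c) (2 ^ 2) :=
    (Nat.coprime_two_right.2 ⟨m, hm⟩).pow_right 2
  exact orderOf_eq_one_iff.1 (Nat.Coprime.eq_one_of_dvd hcop hd)

variable {D : Set G}

lemma orderOf_mul_comm' (a b : G) : orderOf (a * b) = orderOf (b * a) := by
  rw [show a * b = MulAut.conj a (b * a) by simp [MulAut.conj_apply, mul_assoc], MulEquiv.orderOf_eq]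

lemma oddAdj_symm {a b : G} (h : OddAdj D a b) : OddAdj D b a :=
  ⟨h.2.1, h.1, Ne.symm h.2.2.1, orderOf_mul_comm' a b ▸ h.2.2.2⟩

lemma oddReach_symm {a b : G} (h : Relation.ReflTransGen (OddAdj D) a b) :
    Relation.ReflTransGen (OddAdj D) b a := by
  induction h with
  | refl => exact .refl
  | tail _ h ih => exact Relation.ReflTransGen.head (oddAdj_symm h) ih

variable (hD : IsRootInvolutionSet D)
include hD

lemma oddAdj_conj {a b : G} (h : OddAdj D a b) (g : G) :
    OddAdj D (g * a * g⁻¹) (g * b * g⁻¹) := by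
  refine ⟨hD.conj_mem a h.1 g, hD.conj_mem b h.2.1 g, fun e => h.2.2.1 ?_, ?_⟩
  · simpa using e
  · rw [show g * a * g⁻¹ * (g * b * g⁻¹) = MulAut.conj g (a * b) by simp [MulAut.conj_apply, mul_assoc],
      MulEquiv.orderOf_eq]
    exact h.2.2.2

/-- Non-adjacent members have product of order dividing four. -/
lemma pow_four_of_not_oddAdj {a b : G} (ha : a ∈ D) (hb : b ∈ D) (h : ¬ OddAdj D a b) :
    (a * b) ^ 4 = 1 := by
  by_cases hab : a = b
  · subst hab; rw [ri_sq hD ha, one_pow]
  rcases hD.pair a ha b hb with hc | hc | ⟨hc, -⟩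
  · rw [(show Commute a b from hc).mul_pow, show (4 : ℕ) = 2 * 2 from rfl, pow_mul, pow_mul,
      pow_two a, pow_two b, ri_sq hD ha, ri_sq hD hb, one_pow, one_mul]
  · exact absurd ⟨ha, hb, hab, hc⟩ h
  · rw [← hc, pow_orderOf_eq_one]

/-- A partner of `e` is a partner of `a` or of `a e` when these are commuting members. -/
theorem triple_adjacent {a e x : G} (ha : a ∈ D) (he : e ∈ D) (hae : a * e = e * a)
    (hf : e * a ∈ D) (hxe : OddAdj D e x) : OddAdj D a x ∨ OddAdj D (e * a) x := by
  by_contra hc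
  push Not at hc
  have hx := hxe.2.1
  have e1 : a * (e * a) = e := by
    rw [← mul_assoc, hae, mul_assoc, ri_sq hD ha, mul_one]
  have h := two_four_not_odd (ri_sq hD ha) (ri_sq hD hf) (ri_sq hD hx)
    (by rw [e1, mul_assoc, ri_sq hD ha, mul_one])
    (pow_four_of_not_oddAdj hD ha hx hc.1) (pow_four_of_not_oddAdj hD hf hx hc.2)
    (by rw [e1]; exact hxe.2.2.2)
  rw [e1] at h
  exact ri_mul_ne_one hD he (Ne.symm hxe.2.2.1) h

lemma not_isolated_exists {a : G} (ha : a ∈ D) (h : ¬ IsIsolatedElem (OddAdj D) D a) :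
    ∃ y, OddAdj D a y := by
  by_contra hc
  push Not at hc
  exact h ⟨ha, fun b => ⟨hc b, fun h' => hc b (oddAdj_symm h')⟩⟩

lemma isolated_conj {w : G} (hw : IsIsolatedElem (OddAdj D) D w) (g : G) :
    IsIsolatedElem (OddAdj D) D (g * w * g⁻¹) := by
  refine ⟨hD.conj_mem w hw.1 g, fun b => ⟨fun h => ?_, fun h => ?_⟩⟩
  · have := oddAdj_conj hD h g⁻¹
    rw [show g⁻¹ * (g * w * g⁻¹) * g⁻¹⁻¹ = w by group] at this
    exact (hw.2 _).1 this
  · have := oddAdj_conj hD h g⁻¹
    rw [show g⁻¹ * (g * w * g⁻¹) * g⁻¹⁻¹ = w by group] at this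
    exact (hw.2 _).2 this

/-- Product partners of a non-isolated member lie in its component or are isolated. -/
theorem productPartners_component {a e : G} (ha : a ∈ D) (hne : ∃ y, OddAdj D a y)
    (he : e ∈ productPartners D a) :
    Relation.ReflTransGen (OddAdj D) a e ∨ IsIsolatedElem (OddAdj D) D e := by
  obtain ⟨⟨heD, hcomm, -⟩, hfD⟩ := he
  by_cases hiso : IsIsolatedElem (OddAdj D) D e
  · exact Or.inr hiso
  left
  obtain ⟨x, hx⟩ := not_isolated_exists hD heD hiso
  obtain ⟨y, hy⟩ := hne
  rcases triple_adjacent hD ha heD hcomm.symm hfD hx with h | h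
  · exact (Relation.ReflTransGen.single h).tail (oddAdj_symm hx)
  · have hfe : Relation.ReflTransGen (OddAdj D) (e * a) e :=
      (Relation.ReflTransGen.single h).tail (oddAdj_symm hx)
    have e1 : a * e ∈ D := hcomm ▸ hfD
    rcases triple_adjacent hD heD ha hcomm e1 hy with h' | h'
    · exact (Relation.ReflTransGen.single hy).tail (oddAdj_symm h')
    · rw [← hcomm] at h'
      exact ((Relation.ReflTransGen.single hy).tail (oddAdj_symm h')).trans hfe

/-- The set of isolated members generates a normal two-group. -/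
theorem isolated_isPGroup [Finite G] :
    IsPGroup 2 ↥(Subgroup.closure {w | IsIsolatedElem (OddAdj D) D w}) := by
  haveI : Fact (Nat.Prime 2) := ⟨Nat.prime_two⟩
  refine CfsgLib.Invol.isPGroup_closure_of_pairs _ (fun g c hc => isolated_conj hD hc g) ?_
  intro u hu v hv
  have h4 := pow_four_of_not_oddAdj hD hu.1 hv.1 (hu.2 v).1
  obtain ⟨k, -, hk⟩ := (Nat.dvd_prime_pow Nat.prime_two).1
    (orderOf_dvd_of_pow_eq_one (show (u * v) ^ 2 ^ 2 = 1 by norm_num [h4]))
  exact CfsgLib.Invol.isPGroup_two_closure_pair (hD.orderOf_eq u hu.1) (hD.orderOf_eq v hv.1) hk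

lemma isolated_closure_normal :
    (Subgroup.closure {w | IsIsolatedElem (OddAdj D) D w}).Normal := by
  constructor
  intro x hx g
  induction hx using Subgroup.closure_induction with
  | mem y hy => exact Subgroup.subset_closure (isolated_conj hD hy g)
  | one => simp
  | mul y z _ _ hy hz =>
    rw [show g * (y * z) * g⁻¹ = g * y * g⁻¹ * (g * z * g⁻¹) by group]
    exact mul_mem hy hz
  | inv y _ hy =>
    rw [show g * y⁻¹ * g⁻¹ = (g * y * g⁻¹)⁻¹ by group]
    exact inv_mem hy

/-- A member in a normal two-group is isolated. -/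
lemma isolated_of_mem_normal_two {N : Subgroup G} (hN : N.Normal) (h2 : IsPGroup 2 N) {d : G}
    (hd : d ∈ D) (hdN : d ∈ N) : IsIsolatedElem (OddAdj D) D d := by
  by_contra hiso
  obtain ⟨y, hy⟩ := not_isolated_exists hD hd hiso
  obtain ⟨g, -, hg⟩ :=
    CfsgLib.Invol.exists_conj_of_odd (ri_sq hD hd) (ri_sq hD hy.2.1) hy.2.2.2
  have hmem : d * y ∈ N := mul_mem hdN (hg ▸ hN.conj_mem d hdN g)
  exact ri_mul_ne_one hD hd (Ne.symm hy.2.2.1) (eq_one_of_odd_of_isPGroup h2 hmem hy.2.2.2)

lemma component_nontrivial {a : G} (h : ∃ a' ∈ elemComponentOf (OddAdj D) D a, a' ≠ a) :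
    ∃ y, OddAdj D a y := by
  obtain ⟨a', ⟨-, hr⟩, hne⟩ := h
  rcases Relation.ReflTransGen.cases_head hr with h' | ⟨y, hy, -⟩
  · exact absurd h'.symm hne
  · exact ⟨y, hy⟩

/-- Members of different components commute modulo the isolated part. -/
theorem component_commutator {a b : G} (ha : a ∈ D) (hb : b ∈ D) (hay : ∃ y, OddAdj D a y)
    (hby : ∃ y, OddAdj D b y) (hne : ¬ Relation.ReflTransGen (OddAdj D) a b) :
    a * b * a⁻¹ * b⁻¹ ∈ Subgroup.closure {w | IsIsolatedElem (OddAdj D) D w} := by
  have hab : a ≠ b := fun e => hne (e ▸ Relation.ReflTransGen.refl)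
  rw [ri_inv hD ha, ri_inv hD hb]
  have hsq : a * b * a * b = (a * b) ^ 2 := by rw [pow_two]; group
  rcases hD.pair a ha b hb with h | h | ⟨h, hmem⟩
  · rw [hsq, (show Commute a b from h).mul_pow, pow_two, pow_two, ri_sq hD ha, ri_sq hD hb, one_mul]
    exact one_mem _
  · exact absurd (Relation.ReflTransGen.single ⟨ha, hb, hab, h⟩) hne
  · rw [hsq]
    obtain ⟨t, ht⟩ : ∃ t, t = (a * b) ^ 2 := ⟨_, rfl⟩
    rw [← ht] at hmem ⊢
    have htab : Commute t (a * b) := by rw [ht]; exact (Commute.refl _).pow_left 2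
    have hne1 : t ≠ 1 := fun e => by
      have : orderOf (a * b) ∣ 2 := orderOf_dvd_of_pow_eq_one (ht ▸ e)
      rw [h] at this
      norm_num at this
    have hti : t * t = 1 := by rw [ht, ← pow_add, show 2 + 2 = 4 from rfl, ← h, pow_orderOf_eq_one]
    have hat : t * a = a * t := by
      have h1 : a * t * a = t⁻¹ := by
        rw [ht, pow_two]
        simp only [mul_inv_rev, ri_inv hD ha, ri_inv hD hb, mul_assoc]
        rw [← mul_assoc a a, ri_sq hD ha, one_mul]
      rw [inv_eq_of_mul_eq_one_left hti] at h1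
      calc t * a = a * t * a * a := by rw [h1]
        _ = a * t * (a * a) := by group
        _ = _ := by rw [ri_sq hD ha, mul_one]
    have hbt : t * b = b * t := by
      have h2 : Commute t b := by
        have := (Commute.mul_right hat htab)
        rwa [← mul_assoc, ri_sq hD ha, one_mul] at this
      exact h2.eq
    have hta : t ≠ a := fun e => hab (by
      have h3 : a * (a * b) = (a * b) * a := e ▸ htab.eq
      rw [← mul_assoc, ri_sq hD ha, one_mul] at h3
      exact absurd (show (a * b) ^ 2 = 1 by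
        rw [pow_two, ← mul_assoc, ← h3, ri_sq hD hb]) (fun h' => hne1 (ht.trans h')))
    have htb : t ≠ b := fun e => hab (by
      subst e
      exact absurd (show (a * t) ^ 2 = 1 by
        rw [(show Commute a t from hat.symm).mul_pow, pow_two, pow_two, ri_sq hD ha, hti, one_mul])
        (fun h' => hne1 (ht.trans h')))
    have hpa : t ∈ productPartners D a := by
      refine ⟨⟨hmem, hat, hta⟩, ?_⟩
      have : t * a = b * a * b⁻¹ := by
        rw [hat, ht, pow_two, ri_inv hD hb]
        simp only [mul_assoc]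
        rw [← mul_assoc a a, ri_sq hD ha, one_mul]
      rw [this]
      exact hD.conj_mem a ha b
    have hpb : t ∈ productPartners D b := by
      refine ⟨⟨hmem, hbt, htb⟩, ?_⟩
      have : t * b = a * b * a⁻¹ := by
        rw [ht, pow_two, ri_inv hD ha]
        simp only [mul_assoc]
        rw [ri_sq hD hb, mul_one]
      rw [this]
      exact hD.conj_mem b hb a
    rcases productPartners_component hD ha hay hpa with h1 | h1
    · rcases productPartners_component hD hb hby hpb with h2 | h2
      · exact absurd (h1.trans (oddReach_symm h2)) hne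
      · exact Subgroup.subset_closure h2
    · exact Subgroup.subset_closure h1

end CfsgLib.RootSub
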