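/-
Elementary calculus of quadratically acting linear maps with fixed kernel and range.
-/
import Mathlib
import Cfsg.Prelude.Def_RootSubgroups

set_option autoImplicit false

namespace CfsgLib.RootSub

open Cfsg

universe u

variable {k : Type u} [Field k] {M : Type u} [AddCommGroup M] [Module k M]
variable {G : Subgroup (LinearMap.GeneralLinearGroup k M)}

local notation "GLkM" => LinearMap.GeneralLinearGroup k M

/-- The endomorphism `σ - 1`. -/
def qmove (σ : GLkM) : Module.End k M := (σ : M →ₗ[k] M) - 1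

lemma coe_eq_one_add_qmove (σ : GLkM) : (σ : Module.End k M) = 1 + qmove σ := by
  simp [qmove]

lemma qmove_injective {σ τ : GLkM} (h : qmove σ = qmove τ) : σ = τ :=
  Units.ext (sub_left_injective h)

lemma qmove_one : qmove (1 : GLkM) = 0 := by simp [qmove]

lemma qmove_mul (σ τ : GLkM) : qmove (σ * τ) = qmove σ + qmove τ + qmove σ * qmove τ := by
  simp only [qmove, Units.val_mul, mul_sub, sub_mul, mul_one, one_mul]
  abel

lemma qmove_mul_of_mul_eq_zero {σ τ : GLkM} (h : qmove σ * qmove τ = 0) :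
    qmove (σ * τ) = qmove σ + qmove τ := by rw [qmove_mul, h, add_zero]

lemma qmove_mul_eq_zero_of_le {σ τ : GLkM}
    (h : LinearMap.range (qmove τ) ≤ LinearMap.ker (qmove σ)) : qmove σ * qmove τ = 0 := by
  refine LinearMap.ext fun m => ?_
  exact h (LinearMap.mem_range_self (qmove τ) m)

lemma qmove_range_le_ker {σ : GLkM} (h : qmove σ * qmove σ = 0) :
    LinearMap.range (qmove σ) ≤ LinearMap.ker (qmove σ) := by
  rintro _ ⟨m, rfl⟩
  exact LinearMap.congr_fun h m

lemma qmove_inv {σ : GLkM} (h : qmove σ * qmove σ = 0) : qmove σ⁻¹ = - qmove σ := by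
  have h1 := qmove_mul σ⁻¹ σ
  rw [inv_mul_cancel, qmove_one] at h1
  have h2 : qmove σ⁻¹ * qmove σ = 0 := by
    have h3 := congrArg (· * qmove σ) h1
    simp only [zero_mul, add_mul, h, add_zero, mul_assoc, mul_zero] at h3
    exact h3.symm
  rw [h2, add_zero] at h1
  exact eq_neg_of_add_eq_zero_left h1.symm

lemma qmove_sq_iff {σ : GLkM} : IsQuadraticOn σ ↔ qmove σ * qmove σ = 0 ∧ qmove σ ≠ 0 := Iff.rfl

lemma scalarFamily_iff {σ τ : GLkM} : τ ∈ scalarFamily σ ↔ ∃ c : k, qmove τ = c • qmove σ := by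
  refine exists_congr fun c => ⟨fun h => ?_, fun h => ?_⟩
  · rw [qmove, h, add_sub_cancel_left]; rfl
  · exact sub_eq_iff_eq_add'.1 h

/-- The element `1 + c (σ - 1)` for quadratic `σ`. -/
def qscale (σ : GLkM) (h : qmove σ * qmove σ = 0) (c : k) : GLkM where
  val := 1 + c • qmove σ
  inv := 1 - c • qmove σ
  val_inv := by simp [mul_sub, add_mul, smul_smul, h]
  inv_val := by simp [mul_add, sub_mul, smul_smul, h]

lemma qmove_qscale (σ : GLkM) (h : qmove σ * qmove σ = 0) (c : k) :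
    qmove (qscale σ h c) = c • qmove σ := by
  show (1 + c • qmove σ) - 1 = _
  rw [add_sub_cancel_left]

lemma qscale_mem {σ : GLkM} (hσ : σ ∈ quadraticElements G) (c : k) :
    qscale σ hσ.2.1.1 c ∈ G :=
  hσ.2.2 (scalarFamily_iff.2 ⟨c, qmove_qscale _ _ _⟩)

variable [FiniteDimensional k M]

/-- Products in a class `E_σ` stay in it. -/
lemma sameActionClass_mul {σ τ₁ τ₂ : GLkM} (h1 : τ₁ ∈ sameActionClass G σ)
    (h2 : τ₂ ∈ sameActionClass G σ) : τ₁ * τ₂ ∈ sameActionClass G σ ∪ {1} := by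
  obtain ⟨⟨hq1, hm1⟩, k1, r1⟩ := h1
  obtain ⟨⟨hq2, hm2⟩, k2, r2⟩ := h2
  by_cases hne : qmove (τ₁ * τ₂) = 0
  · exact Or.inr (qmove_injective (hne.trans qmove_one.symm))
  left
  have hk : LinearMap.ker (qmove τ₁) = LinearMap.ker (qmove τ₂) := k1.trans k2.symm
  have hr : LinearMap.range (qmove τ₁) = LinearMap.range (qmove τ₂) := r1.trans r2.symm
  have e11 : qmove τ₁ * qmove τ₁ = 0 := hq1.2.1.1
  have e22 : qmove τ₂ * qmove τ₂ = 0 := hq2.2.1.1
  have s1 := qmove_range_le_ker e11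
  have h12 : qmove τ₁ * qmove τ₂ = 0 := qmove_mul_eq_zero_of_le (by rw [← hr]; exact s1)
  have h21 : qmove τ₂ * qmove τ₁ = 0 := qmove_mul_eq_zero_of_le (by rw [← hk]; exact s1)
  have hadd := qmove_mul_of_mul_eq_zero h12
  have hsq : qmove (τ₁ * τ₂) * qmove (τ₁ * τ₂) = 0 := by
    rw [hadd, add_mul, mul_add, mul_add, e11, e22, h12, h21]; simp
  have hquad : τ₁ * τ₂ ∈ quadraticElements G := by
    refine ⟨mul_mem hq1.1 hq2.1, ⟨hsq, hne⟩, fun τ hτ => ?_⟩
    obtain ⟨c, hc⟩ := scalarFamily_iff.1 hτ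
    have : τ = qscale τ₁ hq1.2.1.1 c * qscale τ₂ hq2.2.1.1 c := by
      refine qmove_injective ?_
      rw [qmove_mul_of_mul_eq_zero, qmove_qscale τ₁ e11, qmove_qscale τ₂ e22, hc, hadd, smul_add]
      rw [qmove_qscale τ₁ e11, qmove_qscale τ₂ e22, smul_mul_smul_comm, h12, smul_zero]
    rw [this]
    exact mul_mem (qscale_mem hq1 c) (qscale_mem hq2 c)
  have hle : LinearMap.range (qmove (τ₁ * τ₂)) ≤ LinearMap.range (qmove τ₁) := by
    rintro _ ⟨m, rfl⟩
    rw [hadd, LinearMap.add_apply]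
    exact add_mem (LinearMap.mem_range_self _ m) (hr ▸ LinearMap.mem_range_self _ m)
  have hker : LinearMap.ker (qmove τ₁) ≤ LinearMap.ker (qmove (τ₁ * τ₂)) := by
    intro m hm
    have hm' : m ∈ LinearMap.ker (qmove τ₂) := hk ▸ hm
    rw [LinearMap.mem_ker] at hm hm' ⊢
    rw [hadd, LinearMap.add_apply, hm, hm', add_zero]
  have hreq : LinearMap.range (qmove (τ₁ * τ₂)) = LinearMap.range (qmove τ₁) :=
    Submodule.eq_of_le_of_finrank_le hle (hm1 _ hquad)
  have hkeq : LinearMap.ker (qmove (τ₁ * τ₂)) = LinearMap.ker (qmove τ₁) := by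
    refine (Submodule.eq_of_le_of_finrank_le hker ?_).symm
    have e1 := LinearMap.finrank_range_add_finrank_ker (qmove (τ₁ * τ₂))
    have e2 := LinearMap.finrank_range_add_finrank_ker (qmove τ₁)
    rw [hreq] at e1
    omega
  refine ⟨⟨hquad, fun τ hτ => ?_⟩, hkeq.trans k1, hreq.trans r1⟩
  exact le_trans (Submodule.finrank_mono hle) (hm1 τ hτ)

omit [FiniteDimensional k M] in
lemma sameActionClass_inv {σ τ : GLkM} (h : τ ∈ sameActionClass G σ) :
    τ⁻¹ ∈ sameActionClass G σ := by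
  obtain ⟨⟨hq, hm⟩, hk, hr⟩ := h
  have hi := qmove_inv hq.2.1.1
  have hk' : LinearMap.ker (qmove τ⁻¹) = LinearMap.ker (qmove τ) := by
    rw [hi]; exact LinearMap.ker_neg _
  have hr' : LinearMap.range (qmove τ⁻¹) = LinearMap.range (qmove τ) := by
    rw [hi]; exact LinearMap.range_neg _
  refine ⟨⟨⟨inv_mem hq.1, ⟨?_, ?_⟩, fun ρ hρ => hq.2.2 ?_⟩, fun ρ hρ => ?_⟩, hk'.trans hk, hr'.trans hr⟩
  · show qmove τ⁻¹ * qmove τ⁻¹ = 0
    rw [hi, neg_mul_neg]; exact hq.2.1.1
  · show qmove τ⁻¹ ≠ 0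
    rw [hi]; exact neg_ne_zero.2 hq.2.1.2
  · obtain ⟨c, hc⟩ := scalarFamily_iff.1 hρ
    exact scalarFamily_iff.2 ⟨-c, by rw [hc, hi, smul_neg, neg_smul]⟩
  · show Module.finrank k (LinearMap.range (qmove τ⁻¹)) ≤ _
    rw [hr']
    exact hm ρ hρ

omit [FiniteDimensional k M] in
lemma sameActionClass_qmove_mul {σ τ₁ τ₂ : GLkM} (h1 : τ₁ ∈ sameActionClass G σ)
    (h2 : τ₂ ∈ sameActionClass G σ) : qmove τ₁ * qmove τ₂ = 0 := by
  refine qmove_mul_eq_zero_of_le ?_
  rw [show LinearMap.range (qmove τ₂) = LinearMap.range (qmove σ) from h2.2.2,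
    show LinearMap.ker (qmove τ₁) = LinearMap.ker (qmove σ) from h1.2.1]
  exact h1.2.2 ▸ h1.2.1 ▸ qmove_range_le_ker h1.1.1.2.1.1

/-- `E(σ)` consists of the class and the identity. -/
lemma sameActionSubgroup_eq (G : Subgroup GLkM) (σ : GLkM) :
    (sameActionSubgroup G σ : Set GLkM) = sameActionClass G σ ∪ {1} := by
  refine Set.Subset.antisymm (fun x hx => ?_) ?_
  · induction hx using Subgroup.closure_induction with
    | mem y hy => exact Or.inl hy
    | one => exact Or.inr rfl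
    | mul y z _ _ hy hz =>
      rcases hy with hy | rfl
      · rcases hz with hz | rfl
        · exact sameActionClass_mul hy hz
        · rw [mul_one]; exact Or.inl hy
      · rw [one_mul]; exact hz
    | inv y _ hy =>
      rcases hy with hy | rfl
      · exact Or.inl (sameActionClass_inv hy)
      · rw [inv_one]; exact Or.inr rfl
  · rintro x (hx | rfl)
    · exact Subgroup.subset_closure hx
    · exact one_mem _

end CfsgLib.RootSub
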