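/-
Unipotent linear groups, and Baer's argument for families with pairwise unipotent joins.
-/
import Cfsg.Agent.Lib.RootSub.RankOne

set_option autoImplicit false

namespace CfsgLib.RootSub

open Cfsg
open scoped commutatorElement Pointwise

variable {k : Type*} [Field k] {M : Type*} [AddCommGroup M] [Module k M]

local notation "GLkM" => LinearMap.GeneralLinearGroup k M

/-- The endomorphism `g - 1`. -/
def umove (g : GLkM) : Module.End k M := (g : M →ₗ[k] M) - 1

lemma umove_apply (g : GLkM) (m : M) : umove g m = (g : M →ₗ[k] M) m - m := rfl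

lemma gl_apply_eq (g : GLkM) (m : M) : (g : M →ₗ[k] M) m = m + umove g m := by
  rw [umove_apply, add_sub_cancel]

lemma gl_mul_apply (g h : GLkM) (m : M) :
    ((g * h : GLkM) : M →ₗ[k] M) m = (g : M →ₗ[k] M) ((h : M →ₗ[k] M) m) := rfl

lemma gl_one_apply (m : M) : ((1 : GLkM) : M →ₗ[k] M) m = m := rfl

lemma gl_inv_apply_cancel (g : GLkM) (m : M) :
    ((g⁻¹ : GLkM) : M →ₗ[k] M) ((g : M →ₗ[k] M) m) = m := by
  rw [← gl_mul_apply, inv_mul_cancel, gl_one_apply]

lemma gl_apply_inv_cancel (g : GLkM) (m : M) :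
    (g : M →ₗ[k] M) (((g⁻¹ : GLkM) : M →ₗ[k] M) m) = m := by
  rw [← gl_mul_apply, mul_inv_cancel, gl_one_apply]

/-- The fixed point series of a subgroup. -/
def fixSeries (H : Subgroup GLkM) : ℕ → Submodule k M
  | 0 => ⊥
  | i + 1 => ⨅ g ∈ H, (fixSeries H i).comap (umove g)

lemma mem_fixSeries_succ {H : Subgroup GLkM} {i : ℕ} {m : M} :
    m ∈ fixSeries H (i + 1) ↔ ∀ g ∈ H, umove g m ∈ fixSeries H i := by
  simp [fixSeries, Submodule.mem_iInf]

lemma fixSeries_le_succ (H : Subgroup GLkM) : ∀ i, fixSeries H i ≤ fixSeries H (i + 1)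
  | 0 => bot_le
  | i + 1 => fun _ hm => mem_fixSeries_succ.2 fun g hg =>
      fixSeries_le_succ H i (mem_fixSeries_succ.1 hm g hg)

lemma fixSeries_mono (H : Subgroup GLkM) : Monotone (fixSeries H) :=
  monotone_nat_of_le_succ (fixSeries_le_succ H)

lemma mem_fixSeries_iff {H : Subgroup GLkM} : ∀ {i : ℕ} {m : M}, m ∈ fixSeries H i ↔
    ∀ l : List GLkM, (∀ g ∈ l, g ∈ H) → l.length = i → (l.map umove).prod m = 0 := by
  intro i
  induction i with
  | zero =>
    intro m
    constructor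
    · intro hm l _ hl
      rw [List.length_eq_zero_iff.1 hl]
      simpa [fixSeries] using hm
    · intro h
      simpa [fixSeries] using h [] (by simp) rfl
  | succ i ih =>
    intro m
    rw [mem_fixSeries_succ]
    constructor
    · intro h l hl hlen
      rcases List.eq_nil_or_concat l with rfl | ⟨l', g, rfl⟩
      · simp at hlen
      simp only [List.concat_eq_append, List.length_append, List.length_cons, List.length_nil] at hlen
      rw [List.concat_eq_append, List.map_append, List.prod_append]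
      simp only [List.map_cons, List.map_nil, List.prod_cons, List.prod_nil, mul_one]
      refine ih.1 (h g (hl g (by simp))) l' (fun x hx => hl x (by simp [hx])) (by omega)
    · intro h g hg
      refine ih.2 fun l hl hlen => ?_
      have := h (l ++ [g]) (fun x hx => by
        rcases List.mem_append.1 hx with hx | hx
        · exact hl x hx
        · rwa [List.mem_singleton.1 hx]) (by simp [hlen])
      rw [List.map_append, List.prod_append] at this
      simpa using this

lemma coe_list_map_move (l : List GLkM) :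
    (List.map (fun g : Module.End k M => g - 1) (do let a ← l; pure (a : Module.End k M))) =
      l.map umove := by
  induction l with
  | nil => simp
  | cons a l ih => simp_all [umove]

lemma isUnipotentOn_iff {H : Subgroup GLkM} : IsUnipotentOn H ↔ ∃ n, fixSeries H n = ⊤ := by
  refine exists_congr fun n => ⟨fun h => eq_top_iff.2 fun m _ => mem_fixSeries_iff.2 ?_, ?_⟩
  · intro l hl hlen
    have := LinearMap.congr_fun (h l hl hlen) m
    rwa [coe_list_map_move] at this
  · intro h l hl hlen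
    refine LinearMap.ext fun m => ?_
    rw [coe_list_map_move]
    exact mem_fixSeries_iff.1 (h ▸ Submodule.mem_top : m ∈ fixSeries H n) l hl hlen

/-- A normalizing element preserves the series. -/
lemma fixSeries_invariant {H : Subgroup GLkM} {x : GLkM}
    (hx : ∀ h ∈ H, x⁻¹ * h * x ∈ H) : ∀ i, ∀ m ∈ fixSeries H i,
      (x : M →ₗ[k] M) m ∈ fixSeries H i
  | 0 => fun m hm => by
      simp only [fixSeries, Submodule.mem_bot] at hm ⊢
      rw [hm, map_zero]
  | i + 1 => fun m hm => mem_fixSeries_succ.2 fun h hh => by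
      have := fixSeries_invariant hx i _ (mem_fixSeries_succ.1 hm _ (hx h hh))
      convert this using 1
      simp only [umove_apply, map_sub, ← gl_mul_apply]
      rw [show x * (x⁻¹ * h * x) = h * x by group]

/-! ### The stabilizer of a series -/

/-- Elements acting trivially on the factors of a series. -/
def lowering (F : ℕ → Submodule k M) (h0 : F 0 = ⊥) (hF : Monotone F) : Subgroup GLkM where
  carrier := {g | ∀ r, ∀ m ∈ F (r + 1), umove g m ∈ F r}
  one_mem' := fun r m _ => by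
    show ((1 : GLkM) : M →ₗ[k] M) m - m ∈ F r
    rw [gl_one_apply, sub_self]; exact zero_mem _
  mul_mem' := fun {g h} hg hh r m hm => by
    have : umove (g * h) m = umove g ((h : M →ₗ[k] M) m) + umove h m := by
      simp only [umove_apply, gl_mul_apply]; abel
    rw [this]
    refine add_mem (hg r _ ?_) (hh r m hm)
    rw [gl_apply_eq]
    exact add_mem hm (hF (Nat.le_succ r) (hh r m hm))
  inv_mem' := fun {g} hg r => by
    have hpres : ∀ s, ∀ m ∈ F s, ((g⁻¹ : GLkM) : M →ₗ[k] M) m ∈ F s := by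
      intro s
      induction s with
      | zero => intro m hm; rw [h0, Submodule.mem_bot] at hm ⊢; rw [hm, map_zero]
      | succ s ih =>
        intro m hm
        have e : ((g⁻¹ : GLkM) : M →ₗ[k] M) m = m - ((g⁻¹ : GLkM) : M →ₗ[k] M) (umove g m) := by
          rw [umove_apply, map_sub, gl_inv_apply_cancel]; abel
        rw [e]
        exact sub_mem hm (hF (Nat.le_succ s) (ih _ (hg s m hm)))
    intro m hm
    have e : umove g⁻¹ m = - ((g⁻¹ : GLkM) : M →ₗ[k] M) (umove g m) := by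
      simp only [umove_apply, map_sub, gl_inv_apply_cancel]; abel
    rw [e]
    exact neg_mem (hpres r _ (hg r m hm))

lemma lowering_isUnipotentOn {F : ℕ → Submodule k M} {h0 : F 0 = ⊥} {hF : Monotone F} {n : ℕ}
    (hn : F n = ⊤) {H : Subgroup GLkM} (hH : H ≤ lowering F h0 hF) : IsUnipotentOn H := by
  refine isUnipotentOn_iff.2 ⟨n, eq_top_iff.2 (hn ▸ ?_)⟩
  clear hn
  induction n with
  | zero => rw [h0]; exact bot_le
  | succ n ih => exact fun m hm => mem_fixSeries_succ.2 fun g hg => ih (hH hg n m hm)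

lemma le_lowering (H : Subgroup GLkM) :
    H ≤ lowering (fixSeries H) rfl (fixSeries_mono H) :=
  fun g hg _ _ hm => mem_fixSeries_succ.1 hm g hg

lemma isUnipotentOn_bot : IsUnipotentOn (⊥ : Subgroup GLkM) :=
  isUnipotentOn_iff.2 ⟨1, eq_top_iff.2 fun m _ => mem_fixSeries_succ.2 fun g hg => by
    rw [Subgroup.mem_bot.1 hg, umove_apply, gl_one_apply, sub_self]; exact zero_mem _⟩

lemma isUnipotentOn_mono {H K : Subgroup GLkM} (h : H ≤ K) (hK : IsUnipotentOn K) :
    IsUnipotentOn H := by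
  obtain ⟨n, hn⟩ := isUnipotentOn_iff.1 hK
  exact lowering_isUnipotentOn hn (h.trans (le_lowering K))

/-- A unipotent group extended by a unipotent group normalizing it is unipotent. -/
theorem isUnipotentOn_sup {J X : Subgroup GLkM} (hJ : IsUnipotentOn J) (hX : IsUnipotentOn X)
    (hn : X ≤ Subgroup.normalizer (J : Set GLkM)) : IsUnipotentOn (J ⊔ X) := by
  obtain ⟨a, ha⟩ := isUnipotentOn_iff.1 hJ
  obtain ⟨b, hb⟩ := isUnipotentOn_iff.1 hX
  have hinv : ∀ x ∈ X, ∀ i, ∀ m ∈ fixSeries J i, (x : M →ₗ[k] M) m ∈ fixSeries J i := fun x hx =>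
    fixSeries_invariant fun h hh => (Subgroup.mem_normalizer_iff''.1 (hn hx) h).1 hh
  have hdec : ∀ u ∈ J ⊔ X, ∃ j ∈ J, ∃ x ∈ X, j * x = u := by
    intro u hu
    have : ((J ⊔ X : Subgroup GLkM) : Set GLkM) = (J : Set GLkM) * (X : Set GLkM) :=
      Subgroup.coe_mul_of_right_le_normalizer_left J X hn
    have hu' : u ∈ (J : Set GLkM) * (X : Set GLkM) := this ▸ hu
    obtain ⟨j, hj, x, hx, rfl⟩ := Set.mem_mul.1 hu'
    exact ⟨j, hj, x, hx, rfl⟩
  have main : ∀ i, fixSeries J i ≤ fixSeries (J ⊔ X) (i * b) := by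
    intro i
    induction i with
    | zero => exact bot_le
    | succ i ih =>
      have key : ∀ r, ∀ m ∈ fixSeries J (i + 1),
          (m ∈ fixSeries J i ∨ m ∈ fixSeries X r) → m ∈ fixSeries (J ⊔ X) (i * b + r) := by
        intro r
        induction r with
        | zero =>
          rintro m - (h | h)
          · exact ih h
          · rw [show m = 0 by simpa [fixSeries] using h]; exact zero_mem _
        | succ r ihr =>
          rintro m hm hcase
          rw [← Nat.add_assoc, mem_fixSeries_succ]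
          intro u hu
          obtain ⟨j, hj, x, hx, rfl⟩ := hdec u hu
          have e : umove (j * x) m = umove j ((x : M →ₗ[k] M) m) + umove x m := by
            simp only [umove_apply, gl_mul_apply]; abel
          rw [e]
          refine add_mem (ihr _ ?_ (Or.inl ?_)) (ihr _ ?_ ?_)
          · exact fixSeries_le_succ J i (mem_fixSeries_succ.1 (hinv x hx _ m hm) j hj)
          · exact mem_fixSeries_succ.1 (hinv x hx _ m hm) j hj
          · rw [umove_apply]; exact sub_mem (hinv x hx _ m hm) hm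
          · rcases hcase with h | h
            · exact Or.inl (by rw [umove_apply]; exact sub_mem (hinv x hx _ m h) h)
            · exact Or.inr (mem_fixSeries_succ.1 h x hx)
      intro m hm
      rw [Nat.succ_mul]
      exact key b m hm (Or.inr (hb ▸ Submodule.mem_top))
  exact isUnipotentOn_iff.2 ⟨a * b, eq_top_iff.2 (ha ▸ main a)⟩

/-- The normalizer condition in a unipotent group. -/
theorem unipotent_normalizer_condition {U K : Subgroup GLkM} (hU : IsUnipotentOn U) (hK : K ≤ U)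
    (hne : K ≠ U) : ∃ x ∈ U, x ∉ K ∧ x ∈ Subgroup.normalizer (K : Set GLkM) := by
  obtain ⟨n, hn⟩ := isUnipotentOn_iff.1 hU
  let L : ℕ → Set GLkM := fun i =>
    {g | g ∈ U ∧ ∀ r, ∀ m ∈ fixSeries U (r + i), umove g m ∈ fixSeries U r}
  have hstep : ∀ i, ∀ x ∈ L i, ∀ u ∈ U, ⁅x, u⁆ ∈ L (i + 1) := by
    rintro i x ⟨hxU, hx⟩ u hu
    refine ⟨mul_mem (mul_mem (mul_mem hxU hu) (inv_mem hxU)) (inv_mem hu), fun r m hm => ?_⟩
    obtain ⟨m', hm'⟩ : ∃ m', m' = (((x⁻¹ * u⁻¹) : GLkM) : M →ₗ[k] M) m := ⟨_, rfl⟩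
    have hm'F : m' ∈ fixSeries U (r + (i + 1)) := hm' ▸ fixSeries_invariant
      (fun h hh => mul_mem (mul_mem (inv_mem (mul_mem (inv_mem hxU) (inv_mem hu))) hh)
        (mul_mem (inv_mem hxU) (inv_mem hu))) _ m hm
    have e : umove ⁅x, u⁆ m = umove x (umove u m') - umove u (umove x m') := by
      have e1 : m = (((u * x) : GLkM) : M →ₗ[k] M) m' := by
        rw [hm', ← gl_mul_apply, show u * x * (x⁻¹ * u⁻¹) = 1 by group, gl_one_apply]
      conv_lhs => rw [e1, umove_apply, ← gl_mul_apply,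
        show ⁅x, u⁆ * (u * x) = x * u by rw [commutatorElement_def]; group]
      simp only [umove_apply, gl_mul_apply, map_sub]
      abel
    rw [e]
    refine sub_mem (hx r _ ?_) ?_
    · rw [← Nat.add_assoc] at hm'F
      exact mem_fixSeries_succ.1 hm'F u hu
    · refine mem_fixSeries_succ.1 (hx (r + 1) m' ?_) u hu
      rwa [Nat.add_right_comm, Nat.add_assoc]
  have htop : ∀ x ∈ L n, x = 1 := by
    rintro x ⟨-, hx⟩
    refine Units.ext (LinearMap.ext fun m => ?_)
    have := hx 0 m (by rw [Nat.zero_add, hn]; exact Submodule.mem_top)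
    simp only [fixSeries, Submodule.mem_bot, umove_apply, sub_eq_zero] at this
    exact this
  by_contra hc
  push Not at hc
  apply hne
  refine le_antisymm hK ?_
  have hdown : ∀ d, ∀ x ∈ L (n - d), x ∈ K := by
    intro d
    induction d with
    | zero => intro x hx; rw [htop x hx]; exact one_mem K
    | succ d ih =>
      intro x hx
      by_cases hd : n ≤ d
      · exact ih x (by rwa [show n - d = n - (d + 1) by omega])
      by_contra hxK
      refine hc x hx.1 hxK ?_
      have hcomm : ∀ u ∈ U, ⁅x, u⁆ ∈ K := fun u hu => ih _ (by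
        have := hstep _ x hx u hu
        rwa [show n - (d + 1) + 1 = n - d by omega] at this)
      rw [Subgroup.mem_normalizer_iff]
      intro h
      constructor
      · intro hh
        have := mul_mem (hcomm h (hK hh)) hh
        rwa [show ⁅x, h⁆ * h = x * h * x⁻¹ by rw [commutatorElement_def]; group] at this
      · intro hh
        have hhU : h ∈ U := by
          have := mul_mem (mul_mem (inv_mem hx.1) (hK hh)) hx.1
          rwa [show x⁻¹ * (x * h * x⁻¹) * x = h by group] at this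
        have := mul_mem (inv_mem (hcomm h hhU)) hh
        rwa [show ⁅x, h⁆⁻¹ * (x * h * x⁻¹) = h by rw [commutatorElement_def]; group] at this
  intro x hx
  refine hdown n x ⟨hx, fun r m hm => ?_⟩
  rw [Nat.sub_self, Nat.add_zero] at hm
  rw [umove_apply]
  exact sub_mem (fixSeries_invariant (fun h hh => mul_mem (mul_mem (inv_mem hx) hh) hx) r m hm) hm

/-! ### Baer's argument -/

/-- The span of the endomorphisms `g - 1`. -/
def moveSpan (H : Subgroup GLkM) : Submodule k (Module.End k M) :=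
  Submodule.span k (umove '' (H : Set GLkM))

lemma moveSpan_mono {H K : Subgroup GLkM} (h : H ≤ K) : moveSpan H ≤ moveSpan K :=
  Submodule.span_mono (Set.image_mono h)

lemma mem_lowering_of_moveSpan {H : Subgroup GLkM} {g : GLkM} (hg : umove g ∈ moveSpan H) :
    g ∈ lowering (fixSeries H) rfl (fixSeries_mono H) := by
  intro r m hm
  have : moveSpan H ≤ (fixSeries H r).comap (LinearMap.applyₗ m) := by
    refine Submodule.span_le.2 ?_
    rintro _ ⟨h, hh, rfl⟩
    exact mem_fixSeries_succ.1 hm h hh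
  exact this hg

variable [FiniteDimensional k M]

theorem baer_unipotent {G : Subgroup GLkM} {W : Set (Subgroup GLkM)} (hWG : ∀ A ∈ W, A ≤ G)
    (hWW : ∀ A ∈ W, ∀ B ∈ W, IsUnipotentOn (A ⊔ B)) (hWconj : ∀ A ∈ W, ∀ g ∈ G, conjBy A g ∈ W) :
    IsUnipotentOn (⨆ A ∈ W, A) := by
  classical
  let Uni : Set (Subgroup GLkM) → Prop := fun T => T ⊆ W ∧ IsUnipotentOn (⨆ A ∈ T, A)
  let Max : Set (Subgroup GLkM) → Prop := fun T => Uni T ∧ ∀ T', T ⊆ T' → Uni T' → T' ⊆ T
  let B := Module.finrank k (Module.End k M)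
  have hins : ∀ {T : Set (Subgroup GLkM)}, Uni T → ∀ {A : Subgroup GLkM}, A ∈ W →
      (∀ a ∈ A, umove a ∈ moveSpan (⨆ A ∈ T, A)) → Uni (insert A T) := by
    intro T hT A hA h
    refine ⟨Set.insert_subset hA hT.1, ?_⟩
    obtain ⟨n, hn⟩ := isUnipotentOn_iff.1 hT.2
    refine lowering_isUnipotentOn (h0 := rfl) (hF := fixSeries_mono _) hn (iSup₂_le fun C hC => ?_)
    rcases hC with rfl | hC
    · exact fun a ha => mem_lowering_of_moveSpan (h a ha)
    · exact (le_biSup (fun D : Subgroup GLkM => D) hC).trans (le_lowering _)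
  have hmax : ∀ T0, Uni T0 → ∃ T, T0 ⊆ T ∧ Max T := by
    intro T0 hT0
    let V : Set ℕ := {d | ∃ T, T0 ⊆ T ∧ Uni T ∧ d = Module.finrank k (moveSpan (⨆ A ∈ T, A))}
    have hV : BddAbove V := ⟨B, by rintro d ⟨T, -, -, rfl⟩; exact Submodule.finrank_le _⟩
    obtain ⟨T, hT0T, hT, hd⟩ := Nat.sSup_mem (s := V) ⟨_, T0, subset_rfl, hT0, rfl⟩ hV
    obtain ⟨T', hT'⟩ : ∃ T', T' = {A ∈ W | ∀ a ∈ A, umove a ∈ moveSpan (⨆ A ∈ T, A)} := ⟨_, rfl⟩
    have hTT' : T ⊆ T' := fun A hA => by
      rw [hT']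
      exact ⟨hT.1 hA, fun a ha => Submodule.subset_span ⟨a, (le_biSup (fun D : Subgroup GLkM => D) hA) ha, rfl⟩⟩
    have hT'U : Uni T' := by
      refine ⟨fun A hA => (hT' ▸ hA : A ∈ {A ∈ W | _}).1, ?_⟩
      obtain ⟨n, hn⟩ := isUnipotentOn_iff.1 hT.2
      refine lowering_isUnipotentOn (h0 := rfl) (hF := fixSeries_mono _) hn (iSup₂_le fun C hC a ha => mem_lowering_of_moveSpan ?_)
      rw [hT'] at hC
      exact hC.2 a ha
    refine ⟨T', hT0T.trans hTT', hT'U, fun T1 h1 hT1 A hA => ?_⟩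
    have hle : moveSpan (⨆ A ∈ T, A) ≤ moveSpan (⨆ A ∈ T1, A) :=
      moveSpan_mono (biSup_mono fun A hA => h1 (hTT' hA))
    have heq : moveSpan (⨆ A ∈ T, A) = moveSpan (⨆ A ∈ T1, A) :=
      Submodule.eq_of_le_of_finrank_le hle
        (hd ▸ le_csSup hV ⟨T1, hT0T.trans (hTT'.trans h1), hT1, rfl⟩)
    rw [hT']
    exact ⟨hT1.1 hA, fun a ha => heq ▸ Submodule.subset_span
      ⟨a, (le_biSup (fun D : Subgroup GLkM => D) hA) ha, rfl⟩⟩
  have hsingle : ∀ A ∈ W, Uni {A} := fun A hA =>
    ⟨Set.singleton_subset_iff.2 hA, by simpa using hWW A hA A hA⟩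
  have hext : ∀ {T}, Max T → ∀ {A}, A ∈ W → Uni (insert A T) → A ∈ T := fun hT _ _ h =>
    hT.2 _ (Set.subset_insert _ _) h (Set.mem_insert _ _)
  have hsat : ∀ {T}, Max T → ∀ {A}, A ∈ W → A ≤ (⨆ C ∈ T, C) → A ∈ T := fun hT _ hA hle =>
    hext hT hA (hins hT.1 hA fun a ha => Submodule.subset_span ⟨a, hle ha, rfl⟩)
  -- two maximal families coincide
  have huniq : ∀ T T', Max T → Max T' → T = T' := by
    by_contra hc
    push Not at hc
    obtain ⟨T1, T2, h1, h2, hne⟩ := hc
    let V : Set ℕ := {d | ∃ T T', Max T ∧ Max T' ∧ T ≠ T' ∧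
      d = Module.finrank k (moveSpan (⨆ A ∈ T ∩ T', A))}
    have hV : BddAbove V := ⟨B, by rintro d ⟨_, _, -, -, -, rfl⟩; exact Submodule.finrank_le _⟩
    obtain ⟨T, T', hT, hT', hTne, hd⟩ := Nat.sSup_mem (s := V) ⟨_, T1, T2, h1, h2, hne, rfl⟩ hV
    obtain ⟨J, hJ⟩ : ∃ J, J = ⨆ A ∈ T ∩ T', A := ⟨_, rfl⟩
    rw [← hJ] at hd
    have hmove : ∀ {T T'}, Max T → Max T' → T ≠ T' → ∃ A ∈ T, A ∉ T' ∧
        A ≤ Subgroup.normalizer ((⨆ C ∈ T ∩ T', C : Subgroup GLkM) : Set GLkM) := by
      intro T T' hT hT' hne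
      obtain ⟨U, hU⟩ : ∃ U, U = ⨆ C ∈ T, C := ⟨_, rfl⟩
      obtain ⟨I, hI⟩ : ∃ I, I = ⨆ C ∈ T ∩ T', C := ⟨_, rfl⟩
      rw [← hI]
      have hIU : I ≤ U := hI ▸ hU ▸ biSup_mono fun A hA => hA.1
      have hmem : ∀ {A : Subgroup GLkM}, A ∈ W → A ≤ I → A ∈ T' := fun hA hle =>
        hsat hT' hA (hle.trans (hI ▸ biSup_mono fun C hC => hC.2))
      have hUG : U ≤ G := hU ▸ iSup₂_le fun A hA => hWG A (hT.1.1 hA)
      obtain ⟨A0, hA0, hA0'⟩ : ∃ A ∈ T, A ∉ T' := by
        by_contra h
        push Not at h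
        exact hne (Set.Subset.antisymm h (hT.2 T' h hT'.1))
      by_cases hall : U ≤ Subgroup.normalizer (I : Set GLkM)
      · exact ⟨A0, hA0, hA0', (le_trans (hU ▸ le_biSup (fun D : Subgroup GLkM => D) hA0) hall)⟩
      obtain ⟨K, hK⟩ : ∃ K, K = U ⊓ Subgroup.normalizer (I : Set GLkM) := ⟨_, rfl⟩
      obtain ⟨x, hxU, hxK, hxn⟩ := unipotent_normalizer_condition (K := K) (hU ▸ hT.1.2)
        (hK ▸ inf_le_left) (fun h => hall (fun u hu => by
          have : u ∈ K := h.symm ▸ hu
          rw [hK] at this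
          exact this.2))
      have hIK : I ≤ K := hK ▸ le_inf hIU Subgroup.le_normalizer
      have hgood : ∀ y ∈ U, y ∈ Subgroup.normalizer (K : Set GLkM) →
          ¬ (∀ A ∈ T ∩ T', conjBy A y ∈ T') →
          ∃ A ∈ T, A ∉ T' ∧ A ≤ Subgroup.normalizer (I : Set GLkM) := by
        intro y hy hyn hex
        push Not at hex
        obtain ⟨A, hA, hAy⟩ := hex
        have hle : conjBy A y ≤ K := by
          rw [← conjBy_eq_iff_mem_normalizer.2 hyn]
          exact conjBy_le (le_trans (hI ▸ le_biSup (fun D : Subgroup GLkM => D) hA) hIK)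
        exact ⟨_, hsat hT (hWconj A (hT.1.1 hA.1) y (hUG hy))
          (hU ▸ hle.trans (hK ▸ inf_le_left)), hAy, hle.trans (hK ▸ inf_le_right)⟩
      by_cases h1 : ∀ A ∈ T ∩ T', conjBy A x ∈ T'
      · by_cases h2 : ∀ A ∈ T ∩ T', conjBy A x⁻¹ ∈ T'
        · exfalso
          apply hxK
          rw [hK]
          refine ⟨hxU, conjBy_eq_iff_mem_normalizer.1 ?_⟩
          have hle : ∀ y ∈ U, (∀ A ∈ T ∩ T', conjBy A y ∈ T') → conjBy I y ≤ I := by
            intro y hy h
            rw [hI, conjBy, Subgroup.map_iSup]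
            refine iSup_le fun A => ?_
            rw [Subgroup.map_iSup]
            refine iSup_le fun hA => le_biSup (fun D : Subgroup GLkM => D) ⟨?_, h A hA⟩
            refine hsat hT (hWconj A (hT.1.1 hA.1) y (hUG hy)) ?_
            rw [← hU]
            intro z hz
            rw [mem_conjBy] at hz
            have := mul_mem (mul_mem hy ((hU ▸ le_biSup (fun D : Subgroup GLkM => D) hA.1) hz)) (inv_mem hy)
            rwa [show y * (y⁻¹ * z * y) * y⁻¹ = z by group] at this
          refine le_antisymm (hle x hxU h1) ?_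
          have := conjBy_le (g := x) (hle x⁻¹ (inv_mem hxU) h2)
          rwa [conjBy_conjBy_inv] at this
        · exact hgood x⁻¹ (inv_mem hxU) (inv_mem hxn) h2
      · exact hgood x hxU hxn h1
    obtain ⟨A, hAT, hAT', hAn⟩ := hmove hT hT' hTne
    obtain ⟨C, hCT', hCT, hCn⟩ := hmove hT' hT (Ne.symm hTne)
    rw [Set.inter_comm T' T] at hCn
    rw [← hJ] at hAn hCn
    have hUni : Uni (T ∩ T' ∪ {A, C}) := by
      refine ⟨?_, ?_⟩
      · rintro X (hX | rfl | hX)
        · exact hT.1.1 hX.1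
        · exact hT.1.1 hAT
        · rw [Set.mem_singleton_iff.1 hX]; exact hT'.1.1 hCT'
      · rw [iSup_union, iSup_pair, ← hJ]
        exact isUnipotentOn_sup (hJ ▸ isUnipotentOn_mono (biSup_mono fun X hX => hX.1) hT.1.2)
          (hWW A (hT.1.1 hAT) C (hT'.1.1 hCT')) (sup_le hAn hCn)
    obtain ⟨T3, hsub, hT3⟩ := hmax _ hUni
    have hcase : ∀ {S1 : Set (Subgroup GLkM)}, Max S1 → T ∩ T' ⊆ S1 → ∀ {D}, D ∈ S1 → D ∈ W →
        D ∈ T3 → ¬ (D ∈ T ∧ D ∈ T') → T3 = S1 := by
      intro S1 hS1 hI1 D hD hDW hD3 hD'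
      by_contra hne3
      have hle : moveSpan J ≤ moveSpan (⨆ X ∈ T3 ∩ S1, X) := hJ ▸ moveSpan_mono
        (biSup_mono fun X hX => ⟨hsub (Or.inl hX), hI1 hX⟩)
      have heq : moveSpan J = moveSpan (⨆ X ∈ T3 ∩ S1, X) := Submodule.eq_of_le_of_finrank_le hle
        (hd ▸ le_csSup hV ⟨T3, S1, hT3, hS1, hne3, rfl⟩)
      have hm : ∀ d ∈ D, umove d ∈ moveSpan J := fun d hd' => heq ▸ Submodule.subset_span
        ⟨d, (le_biSup (fun X : Subgroup GLkM => X) (⟨hD3, hD⟩ : D ∈ T3 ∩ S1)) hd', rfl⟩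
      refine hD' ⟨hext hT hDW (hins hT.1 hDW fun d hd' => ?_),
        hext hT' hDW (hins hT'.1 hDW fun d hd' => ?_)⟩
      · exact moveSpan_mono (hJ ▸ biSup_mono fun X hX => hX.1) (hm d hd')
      · exact moveSpan_mono (hJ ▸ biSup_mono fun X hX => hX.2) (hm d hd')
    have e1 := hcase hT Set.inter_subset_left hAT (hT.1.1 hAT) (hsub (Or.inr (Or.inl rfl)))
      (fun h => hAT' h.2)
    have e2 := hcase hT' Set.inter_subset_right hCT' (hT'.1.1 hCT') (hsub (Or.inr (Or.inr rfl)))
      (fun h => hCT h.1)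
    exact hTne (e1.symm.trans e2)
  obtain ⟨T, -, hT⟩ := hmax ∅ ⟨Set.empty_subset _, by simpa using isUnipotentOn_bot⟩
  refine isUnipotentOn_mono (iSup₂_le fun A hA => ?_) hT.1.2
  obtain ⟨T', hA', hT'⟩ := hmax _ (hsingle A hA)
  exact le_biSup (fun D : Subgroup GLkM => D) (huniq T T' hT hT' ▸ hA' rfl)

omit [FiniteDimensional k M] in
lemma conjBy_iSup_invariant {G : Subgroup GLkM} {W : Set (Subgroup GLkM)}
    (hWconj : ∀ A ∈ W, ∀ g ∈ G, conjBy A g ∈ W) {g : GLkM} (hg : g ∈ G) :
    conjBy (⨆ A ∈ W, A) g = ⨆ A ∈ W, A := by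
  have hle : ∀ h ∈ G, conjBy (⨆ A ∈ W, A) h ≤ ⨆ A ∈ W, A := by
    intro h hh
    rw [conjBy, Subgroup.map_iSup]
    refine iSup_le fun A => ?_
    rw [Subgroup.map_iSup]
    exact iSup_le fun hA => le_biSup (fun D : Subgroup GLkM => D) (hWconj A hA h hh)
  refine le_antisymm (hle g hg) ?_
  have := conjBy_le (g := g) (hle g⁻¹ (inv_mem hg))
  rwa [conjBy_conjBy_inv] at this

end CfsgLib.RootSub
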