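/-
Quadratic pairs in endomorphism language: scalar families, minimal elements, classes.
-/
import Cfsg.Agent.Lib.RootSub.QuadraticBasic
import Cfsg.Agent.Lib.RootSub.Unipotent

set_option autoImplicit false

namespace CfsgLib.RootSub

open Cfsg

universe u

variable {k : Type u} [Field k] {M : Type u} [AddCommGroup M] [Module k M]
variable {G : Subgroup (LinearMap.GeneralLinearGroup k M)}

local notation "GLkM" => LinearMap.GeneralLinearGroup k M

lemma umove_eq_qmove (σ : GLkM) : umove σ = qmove σ := rfl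

/-! ### Scalar families -/

/-- All the maps `1 + c x` lie in `G`. -/
def QFam (G : Subgroup GLkM) (x : Module.End k M) : Prop := ∀ c : k, ∃ g ∈ G, qmove g = c • x

lemma QFam.exists_mem {x : Module.End k M} (h : QFam G x) : ∃ g ∈ G, qmove g = x := by
  simpa using h 1

lemma qfam_zero : QFam G (0 : Module.End k M) :=
  fun c => ⟨1, one_mem G, by rw [qmove_one, smul_zero]⟩

lemma QFam.smul {x : Module.End k M} (h : QFam G x) (a : k) : QFam G (a • x) := fun c => by
  obtain ⟨g, hg, e⟩ := h (c * a)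
  exact ⟨g, hg, by rw [e, smul_smul]⟩

lemma QFam.neg {x : Module.End k M} (h : QFam G x) : QFam G (-x) := by
  simpa using h.smul (-1)

lemma QFam.add {x y : Module.End k M} (h : x * y = 0) (hx : QFam G x) (hy : QFam G y) :
    QFam G (x + y) := fun c => by
  obtain ⟨g, hg, eg⟩ := hx c
  obtain ⟨g', hg', eg'⟩ := hy c
  refine ⟨g * g', mul_mem hg hg', ?_⟩
  rw [qmove_mul, eg, eg', smul_mul_smul_comm, h, smul_zero, add_zero, smul_add]

lemma qmove_conj (g σ : GLkM) :
    qmove (g * σ * g⁻¹) = (g : Module.End k M) * qmove σ * (g⁻¹ : GLkM) := by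
  simp only [qmove, Units.val_mul, mul_sub, sub_mul, mul_one]
  congr 1
  rw [← Units.val_mul, mul_inv_cancel, Units.val_one]

/-- Conjugation of an endomorphism. -/
def qconj (g : GLkM) (x : Module.End k M) : Module.End k M :=
  (g : Module.End k M) * x * (g⁻¹ : GLkM)

lemma qmove_conj' (g σ : GLkM) : qmove (g * σ * g⁻¹) = qconj g (qmove σ) := qmove_conj g σ

lemma qconj_mul (g : GLkM) (x y : Module.End k M) : qconj g x * qconj g y = qconj g (x * y) := by
  simp [qconj, mul_assoc]

lemma qconj_qconj (g h : GLkM) (x : Module.End k M) : qconj g (qconj h x) = qconj (g * h) x := by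
  simp [qconj, mul_assoc]

lemma qconj_one (x : Module.End k M) : qconj 1 x = x := by simp [qconj]

lemma qconj_zero (g : GLkM) : qconj g (0 : Module.End k M) = 0 := by simp [qconj]

lemma qconj_add (g : GLkM) (x y : Module.End k M) : qconj g (x + y) = qconj g x + qconj g y := by
  simp [qconj, mul_add, add_mul]

lemma qconj_smul (g : GLkM) (c : k) (x : Module.End k M) : qconj g (c • x) = c • qconj g x := by
  simp [qconj]

lemma QFam.conj {x : Module.End k M} (h : QFam G x) {g : GLkM} (hg : g ∈ G) :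
    QFam G (qconj g x) := fun c => by
  obtain ⟨g', hg', e⟩ := h c
  refine ⟨g * g' * g⁻¹, mul_mem (mul_mem hg hg') (inv_mem hg), ?_⟩
  rw [qmove_conj', e, qconj_smul]

lemma sq_zero_comm {R : Type*} [Ring R] {x y : R} (h1 : x * y * x = 0) (h2 : y * x * y = 0)
    (hxx : x * x = 0) (hyy : y * y = 0) : (x * y - y * x) * (x * y - y * x) = 0 := by
  have e : (x * y - y * x) * (x * y - y * x) =
      x * y * x * y - x * (y * y) * x - y * (x * x) * y + y * x * y * x := by noncomm_ring
  rw [e, h1, h2, hxx, hyy]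
  simp

lemma qmove_units_one_add {x : Module.End k M} {g : GLkM} (e : qmove g = x) :
    (g : Module.End k M) = 1 + x ∧ (x * x = 0 → ((g⁻¹ : GLkM) : Module.End k M) = 1 - x) := by
  subst e
  refine ⟨coe_eq_one_add_qmove g, fun h => ?_⟩
  rw [coe_eq_one_add_qmove g⁻¹, qmove_inv h, sub_eq_add_neg]

lemma QFam.comm {x y : Module.End k M} (hxx : x * x = 0) (hyy : y * y = 0) (h1 : x * y * x = 0)
    (h2 : y * x * y = 0) (hx : QFam G x) (hy : QFam G y) : QFam G (x * y - y * x) := fun c => by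
  obtain ⟨g, hg, eg⟩ := hx c
  obtain ⟨g', hg', eg'⟩ := hy.exists_mem
  have hcxx : (c • x) * (c • x) = 0 := by rw [smul_mul_smul_comm, hxx, smul_zero]
  refine ⟨g * g' * g⁻¹ * g'⁻¹, mul_mem (mul_mem (mul_mem hg hg') (inv_mem hg)) (inv_mem hg'), ?_⟩
  rw [qmove, Units.val_mul, Units.val_mul, Units.val_mul, (qmove_units_one_add eg).1,
    (qmove_units_one_add eg').1, (qmove_units_one_add eg).2 hcxx, (qmove_units_one_add eg').2 hyy]
  have h1' : (c • x) * y * (c • x) = 0 := by
    rw [smul_mul_assoc, smul_mul_smul_comm, h1, smul_zero]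
  have h2' : y * (c • x) * y = 0 := by rw [mul_smul_comm, smul_mul_assoc, h2, smul_zero]
  rw [smul_sub, ← smul_mul_assoc, ← mul_smul_comm]
  generalize c • x = u at *
  have e : (1 + u) * (1 + y) * (1 - u) * (1 - y) - 1 = (u * y - y * u)
      + (y * u * y - u * y * u + u * y * u * y) - u * u - y * y - u * (y * y) + u * u * y := by
    noncomm_ring
  rw [e, h1', h2', hcxx, hyy]
  simp

/-! ### Minimal elements -/

section
variable [FiniteDimensional k M]

/-- Rank of an endomorphism. -/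
noncomputable def qrk (x : Module.End k M) : ℕ := Module.finrank k (LinearMap.range x)

/-- `1 + x` is a quadratic element of least commutator rank. -/
structure QMin (G : Subgroup GLkM) (x : Module.End k M) : Prop where
  ne : x ≠ 0
  sq : x * x = 0
  fam : QFam G x
  min : ∀ u : Module.End k M, u ≠ 0 → u * u = 0 → QFam G u → qrk x ≤ qrk u

omit [FiniteDimensional k M] in
lemma quadraticElements_iff {σ : GLkM} :
    σ ∈ quadraticElements G ↔ qmove σ * qmove σ = 0 ∧ qmove σ ≠ 0 ∧ QFam G (qmove σ) := by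
  constructor
  · intro h
    exact ⟨h.2.1.1, h.2.1.2, fun c => ⟨qscale σ h.2.1.1 c, qscale_mem h c, qmove_qscale _ _ _⟩⟩
  · rintro ⟨h1, h2, h3⟩
    refine ⟨?_, ⟨h1, h2⟩, fun τ hτ => ?_⟩
    · obtain ⟨g, hg, e⟩ := h3.exists_mem
      exact qmove_injective e ▸ hg
    · obtain ⟨c, hc⟩ := scalarFamily_iff.1 hτ
      obtain ⟨g, hg, e⟩ := h3 c
      exact qmove_injective (hc.trans e.symm) ▸ hg

lemma qmin_iff {σ : GLkM} : σ ∈ minimalQuadraticElements G ↔ QMin G (qmove σ) := by
  constructor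
  · rintro ⟨hq, hm⟩
    obtain ⟨h1, h2, h3⟩ := quadraticElements_iff.1 hq
    refine ⟨h2, h1, h3, fun u hu huu hfam => ?_⟩
    obtain ⟨g, hg, e⟩ := hfam.exists_mem
    have := hm g (quadraticElements_iff.2 ⟨by rw [e]; exact huu, by rw [e]; exact hu,
      by rw [e]; exact hfam⟩)
    rw [← e]
    exact this
  · rintro ⟨h2, h1, h3, hm⟩
    exact ⟨quadraticElements_iff.2 ⟨h1, h2, h3⟩, fun τ hτ => by
      obtain ⟨t1, t2, t3⟩ := quadraticElements_iff.1 hτ
      exact hm _ t2 t1 t3⟩

lemma QMin.eq_zero_of_lt {x u : Module.End k M} (hx : QMin G x) (huu : u * u = 0)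
    (hu : QFam G u) (hlt : qrk u < qrk x) : u = 0 := by
  by_contra h
  exact absurd (hx.min u h huu hu) (not_le.2 hlt)

omit [FiniteDimensional k M] in
lemma range_le_ker_of_sq {x : Module.End k M} (h : x * x = 0) :
    LinearMap.range x ≤ LinearMap.ker x := by
  rintro _ ⟨m, rfl⟩
  exact LinearMap.congr_fun h m

omit [FiniteDimensional k M] in
lemma mul_eq_zero_of_range_le_ker {x y : Module.End k M}
    (h : LinearMap.range y ≤ LinearMap.ker x) : x * y = 0 :=
  LinearMap.ext fun m => h (LinearMap.mem_range_self y m)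

/-! ### Classes -/

/-- The endomorphisms belonging to the same class as `x`. -/
def qcls (G : Subgroup GLkM) (x : Module.End k M) (hx : x * x = 0) :
    Submodule k (Module.End k M) where
  carrier := {u | QFam G u ∧ LinearMap.range u ≤ LinearMap.range x ∧
    LinearMap.ker x ≤ LinearMap.ker u}
  zero_mem' := ⟨qfam_zero, by simp, by simp⟩
  add_mem' := fun {u v} hu hv => by
    refine ⟨QFam.add (mul_eq_zero_of_range_le_ker
      ((hv.2.1.trans (range_le_ker_of_sq hx)).trans hu.2.2)) hu.1 hv.1, ?_, ?_⟩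
    · rintro _ ⟨m, rfl⟩
      exact add_mem (hu.2.1 (LinearMap.mem_range_self u m)) (hv.2.1 (LinearMap.mem_range_self v m))
    · intro m hm
      rw [LinearMap.mem_ker, LinearMap.add_apply, LinearMap.mem_ker.1 (hu.2.2 hm),
        LinearMap.mem_ker.1 (hv.2.2 hm), add_zero]
  smul_mem' := fun a u hu => by
    refine ⟨hu.1.smul a, ?_, ?_⟩
    · rintro _ ⟨m, rfl⟩
      exact Submodule.smul_mem _ a (hu.2.1 (LinearMap.mem_range_self u m))
    · intro m hm
      rw [LinearMap.mem_ker, LinearMap.smul_apply, LinearMap.mem_ker.1 (hu.2.2 hm), smul_zero]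

omit [FiniteDimensional k M] in
lemma mem_qcls {x u : Module.End k M} {hx : x * x = 0} : u ∈ qcls G x hx ↔
    QFam G u ∧ LinearMap.range u ≤ LinearMap.range x ∧ LinearMap.ker x ≤ LinearMap.ker u :=
  Iff.rfl

variable {x u v : Module.End k M}

omit [FiniteDimensional k M] in
lemma qcls_mul {hx : x * x = 0} (hu : u ∈ qcls G x hx) (hv : v ∈ qcls G x hx) : u * v = 0 :=
  mul_eq_zero_of_range_le_ker ((hv.2.1.trans (range_le_ker_of_sq hx)).trans hu.2.2)

omit [FiniteDimensional k M] in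
lemma QMin.self_mem (hx : QMin G x) : x ∈ qcls G x hx.sq := ⟨hx.fam, le_rfl, le_rfl⟩

lemma qcls_range_ker (hx : QMin G x) (hu : u ∈ qcls G x hx.sq) (h0 : u ≠ 0) :
    LinearMap.range u = LinearMap.range x ∧ LinearMap.ker u = LinearMap.ker x := by
  have hr : LinearMap.range u = LinearMap.range x :=
    Submodule.eq_of_le_of_finrank_le hu.2.1 (hx.min u h0 (qcls_mul hu hu) hu.1)
  refine ⟨hr, (Submodule.eq_of_le_of_finrank_le hu.2.2 ?_).symm⟩
  have e1 := LinearMap.finrank_range_add_finrank_ker u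
  have e2 := LinearMap.finrank_range_add_finrank_ker x
  rw [hr] at e1
  omega

lemma qcls_qmin (hx : QMin G x) (hu : u ∈ qcls G x hx.sq) (h0 : u ≠ 0) : QMin G u :=
  ⟨h0, qcls_mul hu hu, hu.1, fun w hw hww hfw => by
    rw [qrk, (qcls_range_ker hx hu h0).1]
    exact hx.min w hw hww hfw⟩

lemma qcls_eq (hx : QMin G x) (hu : u ∈ qcls G x hx.sq) (h0 : u ≠ 0) :
    qcls G u (qcls_mul hu hu) = qcls G x hx.sq := by
  obtain ⟨e1, e2⟩ := qcls_range_ker hx hu h0
  ext w
  rw [mem_qcls, mem_qcls, e1, e2]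

lemma sameActionClass_iff {σ τ : GLkM} (hσ : QMin G (qmove σ)) :
    τ ∈ sameActionClass G σ ↔ qmove τ ∈ qcls G (qmove σ) hσ.sq ∧ qmove τ ≠ 0 := by
  constructor
  · rintro ⟨hm, hk, hr⟩
    have h := qmin_iff.1 hm
    exact ⟨⟨h.fam, hr.le, hk.ge⟩, h.ne⟩
  · rintro ⟨hu, h0⟩
    obtain ⟨e1, e2⟩ := qcls_range_ker hσ hu h0
    exact ⟨qmin_iff.2 (qcls_qmin hσ hu h0), e2, e1⟩

lemma mem_sas_iff {σ τ : GLkM} (hσ : QMin G (qmove σ)) :
    τ ∈ sameActionSubgroup G σ ↔ qmove τ ∈ qcls G (qmove σ) hσ.sq := by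
  rw [← SetLike.mem_coe, sameActionSubgroup_eq, Set.mem_union, Set.mem_singleton_iff,
    sameActionClass_iff hσ]
  constructor
  · rintro (h | rfl)
    · exact h.1
    · rw [qmove_one]; exact Submodule.zero_mem _
  · intro h
    by_cases h0 : qmove τ = 0
    · exact Or.inr (qmove_injective (h0.trans qmove_one.symm))
    · exact Or.inl ⟨h, h0⟩

lemma sas_le {σ : GLkM} (hσ : QMin G (qmove σ)) : sameActionSubgroup G σ ≤ G := by
  intro τ hτ
  obtain ⟨g, hg, e⟩ := ((mem_sas_iff hσ).1 hτ).1.exists_mem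
  exact qmove_injective e ▸ hg

lemma sas_exists {σ : GLkM} (hσ : QMin G (qmove σ)) (hu : u ∈ qcls G (qmove σ) hσ.sq) :
    ∃ τ ∈ sameActionSubgroup G σ, qmove τ = u := by
  obtain ⟨g, -, e⟩ := hu.1.exists_mem
  exact ⟨g, (mem_sas_iff hσ).2 (by rw [e]; exact hu), e⟩

lemma sas_commutative {σ : GLkM} (hσ : QMin G (qmove σ)) :
    IsMulCommutative (sameActionSubgroup G σ) := by
  refine ⟨⟨fun a b => Subtype.ext (qmove_injective ?_)⟩⟩
  have ha := (mem_sas_iff hσ).1 a.2
  have hb := (mem_sas_iff hσ).1 b.2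
  rw [Subgroup.coe_mul, Subgroup.coe_mul, qmove_mul, qmove_mul, qcls_mul ha hb, qcls_mul hb ha,
    add_comm (qmove (a : GLkM))]

lemma sas_eq_of_cls {σ τ : GLkM} (hσ : QMin G (qmove σ)) (hτ : QMin G (qmove τ))
    (h : qmove τ ∈ qcls G (qmove σ) hσ.sq) :
    sameActionSubgroup G τ = sameActionSubgroup G σ := by
  ext g
  rw [mem_sas_iff hσ, mem_sas_iff hτ, qcls_eq hσ h hτ.ne]

lemma sas_ne_bot {σ : GLkM} (hσ : QMin G (qmove σ)) : sameActionSubgroup G σ ≠ ⊥ := by
  intro h
  have h1 : σ ∈ sameActionSubgroup G σ := (mem_sas_iff hσ).2 hσ.self_mem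
  rw [h, Subgroup.mem_bot] at h1
  exact hσ.ne (by rw [h1, qmove_one])

lemma sas_isUnipotent {σ : GLkM} (hσ : QMin G (qmove σ)) :
    IsUnipotentOn (sameActionSubgroup G σ) := by
  refine isUnipotentOn_iff.2 ⟨2, eq_top_iff.2 fun m _ => mem_fixSeries_iff.2 ?_⟩
  intro l hl hlen
  obtain ⟨a, b, rfl⟩ := List.length_eq_two.1 hlen
  simp only [List.map_cons, List.map_nil, List.prod_cons, List.prod_nil, mul_one, umove_eq_qmove]
  rw [qcls_mul ((mem_sas_iff hσ).1 (hl a (by simp))) ((mem_sas_iff hσ).1 (hl b (by simp)))]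
  rfl

/-! ### Conjugation -/

omit [FiniteDimensional k M] in
lemma qconj_range (g : GLkM) (x : Module.End k M) :
    LinearMap.range (qconj g x) = (LinearMap.range x).map (g : Module.End k M) := by
  refine le_antisymm ?_ ?_
  · rintro _ ⟨m', rfl⟩
    exact ⟨_, LinearMap.mem_range_self x (((g⁻¹ : GLkM) : Module.End k M) m'), rfl⟩
  · rintro _ ⟨_, ⟨m', rfl⟩, rfl⟩
    refine ⟨(g : Module.End k M) m', ?_⟩
    show (g : Module.End k M) (x (((g⁻¹ : GLkM) : Module.End k M) ((g : Module.End k M) m'))) = _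
    rw [gl_inv_apply_cancel]

omit [FiniteDimensional k M] in
lemma qconj_ker (g : GLkM) (x : Module.End k M) :
    LinearMap.ker (qconj g x) = (LinearMap.ker x).comap ((g⁻¹ : GLkM) : Module.End k M) := by
  refine Submodule.ext fun m => ?_
  rw [LinearMap.mem_ker, Submodule.mem_comap, LinearMap.mem_ker]
  show (g : Module.End k M) (x (((g⁻¹ : GLkM) : Module.End k M) m)) = 0 ↔ _
  constructor
  · intro h
    have := congrArg ((g⁻¹ : GLkM) : Module.End k M) h
    rwa [gl_inv_apply_cancel, map_zero] at this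
  · intro h
    rw [h, map_zero]

omit [FiniteDimensional k M] in
lemma gl_apply_injective (g : GLkM) : Function.Injective (g : Module.End k M) :=
  Function.LeftInverse.injective (gl_inv_apply_cancel g)

omit [FiniteDimensional k M] in
lemma qconj_qrk (g : GLkM) (x : Module.End k M) : qrk (qconj g x) = qrk x := by
  rw [qrk, qconj_range]
  exact (Submodule.equivMapOfInjective _ (gl_apply_injective g) _).finrank_eq.symm

omit [FiniteDimensional k M] in
lemma qconj_cancel (g : GLkM) (x : Module.End k M) : qconj g⁻¹ (qconj g x) = x := by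
  rw [qconj_qconj, inv_mul_cancel, qconj_one]

omit [FiniteDimensional k M] in
lemma qconj_sq {x : Module.End k M} (hx : x * x = 0) (g : GLkM) : qconj g x * qconj g x = 0 := by
  rw [qconj_mul, hx, qconj_zero]

lemma QMin.conj (hx : QMin G x) {g : GLkM} (hg : g ∈ G) : QMin G (qconj g x) := by
  refine ⟨fun h => hx.ne ?_, qconj_sq hx.sq g, hx.fam.conj hg,
    fun u hu huu hfu => by rw [qconj_qrk]; exact hx.min u hu huu hfu⟩
  rw [← qconj_cancel g x, h, qconj_zero]

omit [FiniteDimensional k M] in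
lemma qcls_conj_mem {hx : x * x = 0} {g : GLkM} (hg : g ∈ G)
    {hx' : qconj g x * qconj g x = 0} (hu : u ∈ qcls G x hx) :
    qconj g u ∈ qcls G (qconj g x) hx' := by
  refine ⟨hu.1.conj hg, ?_, ?_⟩
  · rw [qconj_range, qconj_range]
    exact Submodule.map_mono hu.2.1
  · rw [qconj_ker, qconj_ker]
    exact Submodule.comap_mono hu.2.2

lemma sas_conj {σ g : GLkM} (hσ : QMin G (qmove σ)) (hg : g ∈ G) :
    conjBy (sameActionSubgroup G σ) g = sameActionSubgroup G (g * σ * g⁻¹) := by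
  have hσ' : QMin G (qmove (g * σ * g⁻¹)) := by rw [qmove_conj']; exact hσ.conj hg
  ext τ
  rw [mem_conjBy, mem_sas_iff hσ, mem_sas_iff hσ']
  have e : qmove (g⁻¹ * τ * g) = qconj g⁻¹ (qmove τ) := by rw [← qmove_conj', inv_inv]
  constructor
  · intro h
    have h2 := qcls_conj_mem (hx' := qconj_sq hσ.sq g) hg h
    rw [e, qconj_qconj, mul_inv_cancel, qconj_one] at h2
    simpa only [mem_qcls, qmove_conj'] using h2
  · intro h
    have h2 := qcls_conj_mem (hx' := qconj_sq hσ'.sq g⁻¹) (inv_mem hg) h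
    simpa only [mem_qcls, qmove_conj', qconj_cancel, e] using h2

end

end CfsgLib.RootSub
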