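/-
The two-by-two formal model of the algebra generated by two elements of square zero.
-/
import Mathlib

set_option autoImplicit false

namespace CfsgLib.RootSub

open Polynomial Matrix

universe u

variable {k : Type u} [Field k] {R : Type u} [Ring R] [Algebra k R] {x y : R}

lemma qp_swap_right (q : k[X]) : aeval (x * y) q * x = x * aeval (y * x) q := by
  induction q using Polynomial.induction_on' with
  | add p q hp hq => rw [map_add, map_add, add_mul, mul_add, hp, hq]
  | monomial n a =>
    rw [aeval_monomial, aeval_monomial, ← mul_assoc x, ← Algebra.commutes a x, mul_assoc, mul_assoc]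
    congr 1
    induction n with
    | zero => simp
    | succ n ih => rw [pow_succ, mul_assoc, mul_assoc x y x, ← mul_assoc _ x, ih, pow_succ, mul_assoc]

lemma qp_swap_left (q : k[X]) : y * aeval (x * y) q = aeval (y * x) q * y :=
  (qp_swap_right (x := y) (y := x) q).symm

lemma qp_divX_X_mul (q : k[X]) : (X * q).divX = q := by
  ext n
  rw [coeff_divX, coeff_X_mul]

lemma qp_divX_X : (X : k[X]).divX = 1 := by
  simpa using qp_divX_X_mul (1 : k[X])

/-- The image of a formal matrix given by its five coordinates. -/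
noncomputable def qp5 (x y : R) (s : k) (a b c d : k[X]) : R :=
  algebraMap k R s + x * y * aeval (x * y) a + aeval (x * y) b * x + y * aeval (x * y) c
    + y * x * aeval (y * x) d

lemma qp5_mul (hx : x * x = 0) (hy : y * y = 0) (s t : k) (a b c d a' b' c' d' : k[X]) :
    qp5 x y s a b c d * qp5 x y t a' b' c' d' =
      qp5 x y (s * t) (X * a * a' + C s * a' + C t * a + b * c')
        ((X * a + C s) * b' + b * (X * d' + C t)) (c * (X * a' + C t) + (X * d + C s) * c')
        (X * d * d' + C s * d' + C t * d + c * b') := by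
  have comP : ∀ q : k[X], x * y * aeval (x * y) q = aeval (x * y) q * (x * y) := fun q => by
    have h : aeval (x * y) (X * q) = aeval (x * y) (q * X) := by rw [mul_comm]
    rwa [map_mul, map_mul, aeval_X] at h
  have comQ : ∀ q : k[X], y * x * aeval (y * x) q = aeval (y * x) q * (y * x) := fun q => by
    have h : aeval (y * x) (X * q) = aeval (y * x) (q * X) := by rw [mul_comm]
    rwa [map_mul, map_mul, aeval_X] at h
  have sr : ∀ (q : k[X]) (z : R), aeval (x * y) q * (x * z) = x * (aeval (y * x) q * z) :=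
    fun q z => by rw [← mul_assoc, qp_swap_right, mul_assoc]
  have sl : ∀ (q : k[X]) (z : R), y * (aeval (x * y) q * z) = aeval (y * x) q * (y * z) :=
    fun q z => by rw [← mul_assoc, qp_swap_left, mul_assoc]
  obtain ⟨A, hA⟩ : ∃ A : k[X] →ₐ[k] R, A = aeval (x * y) := ⟨_, rfl⟩
  obtain ⟨B, hB⟩ : ∃ B : k[X] →ₐ[k] R, B = aeval (y * x) := ⟨_, rfl⟩
  simp only [qp5, ← hA, ← hB] at comP comQ sr sl ⊢
  have swr : ∀ q, A q * x = x * B q := fun q => by rw [hA, hB]; exact qp_swap_right q
  have swl : ∀ q, y * A q = B q * y := fun q => by rw [hA, hB]; exact qp_swap_left q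
  have eX : A X = x * y := by rw [hA, aeval_X]
  have eX' : B X = y * x := by rw [hB, aeval_X]
  -- products of the four kinds of terms
  have pp : x * y * A a * (x * y * A a') = x * y * A (X * a * a') := by
    rw [map_mul, map_mul, eX, mul_assoc _ (A a) (A a'), ← mul_assoc, mul_assoc (x*y) (A a) (x * y),
      ← comP a]
    simp only [mul_assoc]
  have pb : x * y * A a * (A b' * x) = A (X * a * b') * x := by
    rw [map_mul, map_mul, eX]; simp only [mul_assoc]
  have pc : x * y * A a * (y * A c') = 0 := by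
    rw [comP a, mul_assoc, mul_assoc x y, ← mul_assoc y y, hy]; simp
  have pd : x * y * A a * (y * x * B d') = 0 := by
    rw [comP a, mul_assoc, mul_assoc x y, mul_assoc y x (B d'), ← mul_assoc y y, hy]; simp
  have bp : A b * x * (x * y * A a') = 0 := by
    rw [mul_assoc, mul_assoc x y, ← mul_assoc x x, hx]; simp
  have bb : A b * x * (A b' * x) = 0 := by
    rw [swr b', mul_assoc, ← mul_assoc x x, hx]; simp
  have bc : A b * x * (y * A c') = x * y * A (b * c') := by
    rw [map_mul, ← mul_assoc (x * y), comP b]; simp only [mul_assoc]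
  have bd : A b * x * (y * x * B d') = A (b * X * d') * x := by
    rw [map_mul, map_mul, eX, mul_assoc _ (A d') x, swr d']; simp only [mul_assoc]
  have cp : y * A c * (x * y * A a') = y * A (c * X * a') := by
    rw [map_mul, map_mul, eX]; simp only [mul_assoc]
  have cb : y * A c * (A b' * x) = y * x * B (c * b') := by
    rw [mul_assoc, ← mul_assoc (A c), ← map_mul, swr]; simp only [mul_assoc]
  have cc : y * A c * (y * A c') = 0 := by
    rw [swl c, mul_assoc, ← mul_assoc y y, hy]; simp
  have cd : y * A c * (y * x * B d') = 0 := by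
    rw [swl c, mul_assoc, mul_assoc y x, ← mul_assoc y y, hy]; simp
  have dp : y * x * B d * (x * y * A a') = 0 := by
    rw [comQ d, mul_assoc, mul_assoc y x, mul_assoc x y (A a'), ← mul_assoc x x, hx]; simp
  have db : y * x * B d * (A b' * x) = 0 := by
    rw [comQ d, swr b', mul_assoc, mul_assoc y x, ← mul_assoc x x, hx]; simp
  have dc : y * x * B d * (y * A c') = y * A (X * d * c') := by
    rw [map_mul, map_mul, eX, mul_assoc (y * x), ← mul_assoc (B d), ← swl d]
    have h := comP d
    simp only [mul_assoc]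
  have dd : y * x * B d * (y * x * B d') = y * x * B (X * d * d') := by
    rw [map_mul, map_mul, eX', mul_assoc _ (B d) (B d'), ← mul_assoc, mul_assoc (y*x) (B d) (y * x),
      ← comQ d]
    simp only [mul_assoc]
  have eC : ∀ r : k, A (C r) = algebraMap k R r := fun r => by rw [hA, aeval_C]
  have eC' : ∀ r : k, B (C r) = algebraMap k R r := fun r => by rw [hB, aeval_C]
  rw [map_mul (algebraMap k R)]
  simp only [mul_add, add_mul, map_add, pp, pb, pc, pd,
    bp, bb, bc, bd, cp, cb, cc, cd, dp, db, dc, dd]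
  simp only [map_mul, eC, eC', eX, eX']
  simp only [Algebra.algebraMap_eq_smul_one, smul_mul_assoc, mul_smul_comm, smul_smul, one_mul,
    mul_one, ← mul_assoc]
  simp only [mul_comm t s]
  abel

variable (x y)

/-- The map from formal matrices. -/
noncomputable def qphi (g : Matrix (Fin 2) (Fin 2) k[X]) : R :=
  qp5 x y ((g 0 0).coeff 0) (g 0 0).divX (g 0 1) (g 1 0).divX (g 1 1).divX

/-- The subring of formal matrices on which `qphi` is multiplicative. -/
def QFormal (g : Matrix (Fin 2) (Fin 2) k[X]) : Prop :=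
  (g 1 0).coeff 0 = 0 ∧ (g 1 1).coeff 0 = (g 0 0).coeff 0

variable {x y}

lemma qformal_mul {g h : Matrix (Fin 2) (Fin 2) k[X]} (hg : QFormal g) (hh : QFormal h) :
    QFormal (g * h) ∧ ((g * h) 0 0).coeff 0 = (g 0 0).coeff 0 * (h 0 0).coeff 0 := by
  simp only [QFormal, Matrix.mul_apply, Fin.sum_univ_two, coeff_add, mul_coeff_zero, hg.1, hh.1,
    hg.2, hh.2]
  refine ⟨⟨by ring, by ring⟩, by ring⟩

lemma qformal_one : QFormal (1 : Matrix (Fin 2) (Fin 2) k[X]) := by simp [QFormal]

lemma qphi_mul (hx : x * x = 0) (hy : y * y = 0) {g h : Matrix (Fin 2) (Fin 2) k[X]}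
    (hg : QFormal g) (hh : QFormal h) : qphi x y (g * h) = qphi x y g * qphi x y h := by
  rw [qphi, qphi, qphi, qp5_mul hx hy]
  have e00 := (X_mul_divX_add (g 0 0)).symm
  have e10 : g 1 0 = X * (g 1 0).divX := by
    have := (X_mul_divX_add (g 1 0)).symm; rwa [hg.1, map_zero, add_zero] at this
  have e11 : g 1 1 = X * (g 1 1).divX + C ((g 0 0).coeff 0) := by
    have := (X_mul_divX_add (g 1 1)).symm; rwa [hg.2] at this
  have f00 := (X_mul_divX_add (h 0 0)).symm
  have f10 : h 1 0 = X * (h 1 0).divX := by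
    have := (X_mul_divX_add (h 1 0)).symm; rwa [hh.1, map_zero, add_zero] at this
  have f11 : h 1 1 = X * (h 1 1).divX + C ((h 0 0).coeff 0) := by
    have := (X_mul_divX_add (h 1 1)).symm; rwa [hh.2] at this
  have hdiv : ∀ (p q : k[X]) (r : k), p = X * q + C r → p.divX = q := by
    rintro p q r rfl
    rw [divX_add, divX_C, add_zero, qp_divX_X_mul]
  obtain ⟨-, hc⟩ := qformal_mul hg hh
  congr 1
  · refine hdiv _ _ ((g 0 0).coeff 0 * (h 0 0).coeff 0) ?_
    rw [Matrix.mul_apply, Fin.sum_univ_two]
    conv_lhs => rw [e00, f00, f10]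
    rw [map_mul]; ring
  · rw [Matrix.mul_apply, Fin.sum_univ_two]
    conv_lhs => rw [e00, f11]
  · refine hdiv _ _ 0 ?_
    rw [Matrix.mul_apply, Fin.sum_univ_two]
    conv_lhs => rw [e10, e11, f00, f10]
    rw [map_zero]; ring
  · refine hdiv _ _ ((g 0 0).coeff 0 * (h 0 0).coeff 0) ?_
    rw [Matrix.mul_apply, Fin.sum_univ_two]
    conv_lhs => rw [e10, e11, f11]
    rw [map_mul]; ring

lemma qphi_one : qphi x y (1 : Matrix (Fin 2) (Fin 2) k[X]) = 1 := by
  simp [qphi, qp5, divX_one]

lemma qphi_upper (q : k[X]) : qphi x y !![1, q; 0, 1] = 1 + aeval (x * y) q * x := by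
  simp [qphi, qp5, divX_one]

lemma qphi_lower (r : k) : qphi x y !![1, 0; C r * X, 1] = 1 + r • y := by
  simp [qphi, qp5, divX_one, divX_C_mul, qp_divX_X, Algebra.algebraMap_eq_smul_one]

lemma qphi_add (g h : Matrix (Fin 2) (Fin 2) k[X]) : qphi x y (g + h) = qphi x y g + qphi x y h := by
  simp only [qphi, qp5, Matrix.add_apply, coeff_add, map_add, divX_add, mul_add, add_mul]
  abel

/-- The zero criterion. -/
lemma qphi_eq_zero {f : k[X]} (hf : aeval (x * y) f * x = 0) {g : Matrix (Fin 2) (Fin 2) k[X]}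
    (h00 : X * f ∣ g 0 0) (h01 : f ∣ g 0 1) (h10 : X * (X * f) ∣ g 1 0) (h11 : X * f ∣ g 1 1) :
    qphi x y g = 0 := by
  have hmul : ∀ q, aeval (x * y) (f * q) * x = 0 := fun q => by
    rw [mul_comm, map_mul, mul_assoc, hf, mul_zero]
  obtain ⟨a, ha⟩ := h00
  obtain ⟨b, hb⟩ := h01
  obtain ⟨c, hc⟩ := h10
  obtain ⟨d, hd⟩ := h11
  rw [qphi, qp5, ha, hb, hc, hd, mul_assoc X f a, mul_assoc X (X * f) c, mul_assoc X f d,
    coeff_X_mul_zero, qp_divX_X_mul, qp_divX_X_mul, qp_divX_X_mul, hmul, map_zero]
  have e1 : x * y * aeval (x * y) (f * a) = 0 := by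
    have h : aeval (x * y) (X * (f * a)) = aeval (x * y) ((f * a) * X) := by rw [mul_comm]
    rw [map_mul _ X, map_mul _ (f * a) X, aeval_X] at h
    rw [h, ← mul_assoc, hmul, zero_mul]
  have e2 : y * aeval (x * y) (X * f * c) = 0 := by
    rw [mul_comm X f, mul_assoc, mul_comm X c, ← mul_assoc, map_mul, aeval_X, ← mul_assoc _ x y,
      hmul, zero_mul, mul_zero]
  have e3 : y * x * aeval (y * x) (f * d) = 0 := by
    rw [mul_assoc, ← qp_swap_right, hmul, mul_zero]
  rw [e1, e2, e3]
  simp

/-- Two ways to multiply by a polynomial in `x * y`. -/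
lemma qp_mid (hy : y * y = 0) (q : k[X]) : y * aeval (x * y) q * y = 0 := by
  rw [qp_swap_left, mul_assoc, hy, mul_zero]

lemma qp_left (hx : x * x = 0) (q : k[X]) : x * aeval (x * y) q * x = 0 := by
  rw [mul_assoc, qp_swap_right, ← mul_assoc, hx, zero_mul]

end CfsgLib.RootSub
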