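/-
Subgroups of SL₂ containing elementary matrices: conjugation calculus.
-/
import Cfsg.Agent.Lib.RootSub.SL2Model

set_option autoImplicit false

namespace CfsgLib.RootSub

open Cfsg Matrix

variable {F : Type*} [Field F]

local notation "SL2F" => Matrix.SpecialLinearGroup (Fin 2) F

lemma sl2_det_entries (g : SL2F) : g.1 0 0 * g.1 1 1 - g.1 0 1 * g.1 1 0 = 1 := by
  have := g.2
  rwa [Matrix.det_fin_two] at this

/-- An element fixing `∞` conjugates the upper root group with multiplier `a²`. -/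
lemma sl2_upper_conj (g : SL2F) (h : g.1 1 0 = 0) (x : F) :
    g * slU x * g⁻¹ = slU (g.1 0 0 ^ 2 * x) := by
  have hd := sl2_det_entries g
  rw [h] at hd
  rw [mul_inv_eq_iff_eq_mul]
  apply Subtype.ext
  show g.1 * !![1, x; 0, 1] = !![1, _; 0, 1] * g.1
  rw [Matrix.eta_fin_two g.1, h]
  simp [Matrix.mul_fin_two]
  linear_combination (-(g.1 0 0 * x)) * hd

/-- An element mapping `∞` to `0` swaps the root groups. -/
lemma sl2_swap_conj (g : SL2F) (h : g.1 0 0 = 0) (x : F) :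
    g * slU x * g⁻¹ = slL (-(g.1 1 0 ^ 2 * x)) := by
  have hd := sl2_det_entries g
  rw [h] at hd
  rw [mul_inv_eq_iff_eq_mul]
  apply Subtype.ext
  show g.1 * !![1, x; 0, 1] = !![1, 0; _, 1] * g.1
  rw [Matrix.eta_fin_two g.1, h]
  simp [Matrix.mul_fin_two]
  linear_combination (-(g.1 1 0 * x)) * hd

/-- All upper elementary matrices and one lower one generate. -/
theorem sl2_eq_top_of_upper {H : Subgroup SL2F} (hU : ∀ x, slU x ∈ H) {a : F} (ha : a ≠ 0)
    (hL : slL a ∈ H) : H = ⊤ := by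
  have hw : slU (-a⁻¹) * slL a * slU (-a⁻¹) ∈ H := mul_mem (mul_mem (hU _) hL) (hU _)
  have e : (slU (-a⁻¹) * slL a * slU (-a⁻¹) : SL2F).1 = !![0, -a⁻¹; a, 0] := by
    show !![1, -a⁻¹; 0, 1] * !![1, 0; a, 1] * !![1, -a⁻¹; 0, 1] = _
    simp [Matrix.mul_fin_two, ha]
  rw [eq_top_iff, ← sl2_sup_eq_top]
  refine sup_le (fun g hg => ?_) fun g hg => ?_
  · obtain ⟨y, rfl⟩ := mem_lowerUnipotent.1 hg
    have h1 := mul_mem (mul_mem hw (hU (-y / a ^ 2))) (inv_mem hw)
    rw [sl2_swap_conj _ (by rw [e]; simp), e] at h1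
    convert h1 using 2
    simp
    field_simp
  · obtain ⟨y, rfl⟩ := mem_upperUnipotent.1 hg
    exact hU y

end CfsgLib.RootSub
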