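/-
Generation of SL₂ over a simple extension of a finite field by two twisted root groups.
-/
import Cfsg.Agent.Lib.RootSub.SL2GenCore
import Cfsg.Agent.Lib.PSL2Sub.Generation

set_option autoImplicit false

namespace CfsgLib.RootSub

open Cfsg Matrix

variable {F : Type*} [Field F]

lemma sl2Gen_genLower : (CfsgLib.PSL2Sub.genLower : SpecialLinearGroup (Fin 2) F) = slL 1 :=
  Subtype.ext (by rw [slL_val]; rfl)

lemma sl2Gen_genUpper (a : F) :
    (CfsgLib.PSL2Sub.genUpper a : SpecialLinearGroup (Fin 2) F) = slU a :=
  Subtype.ext (by rw [slU_val]; rfl)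

variable {k : Type*} [Field k] [Algebra k F]

theorem sl2_gen_finite_aux [Finite F] (hF2 : (2 : F) ≠ 0) (hk3 : Nat.card k ≠ 3) {α : F}
    (hα : α ≠ 0) (hgen : Algebra.adjoin k ({α} : Set F) = ⊤)
    (H : Subgroup (SpecialLinearGroup (Fin 2) F))
    (hU : ∀ c : k, slU (algebraMap k F c * α) ∈ H)
    (hL : ∀ c : k, slL (algebraMap k F c) ∈ H) : H = ⊤ := by
  haveI : Finite k := Finite.of_injective _ (algebraMap k F).injective
  -- multipliers of the upper root group
  obtain ⟨T, hT⟩ : ∃ T : Subring F, ∀ y, y ∈ T ↔ ∀ x, slU x ∈ H → slU (y * x) ∈ H :=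
    ⟨{ carrier := {y | ∀ x, slU x ∈ H → slU (y * x) ∈ H}
       one_mem' := fun x hx => by rwa [one_mul]
       mul_mem' := fun {a b} ha hb x hx => by rw [mul_assoc]; exact ha _ (hb _ hx)
       zero_mem' := fun x _ => by rw [zero_mul, slU_zero]; exact one_mem _
       add_mem' := fun {a b} ha hb x hx => by
         rw [add_mul, slU_add]; exact mul_mem (ha _ hx) (hb _ hx)
       neg_mem' := fun {a} ha x hx => by rw [neg_mul, slU_neg]; exact inv_mem (ha _ hx) },
      fun _ => Iff.rfl⟩
  have hTinv : ∀ x ∈ T, x⁻¹ ∈ T := by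
    intro x hx
    by_cases hx0 : x = 0
    · simp [hx0]
    have h1 : x⁻¹ ∈ Submonoid.powers x := by
      have h2 : IsOfFinOrder (Units.mk0 x hx0) := isOfFinOrder_of_finite _
      obtain ⟨n, hn⟩ := (Submonoid.mem_powers_iff _ _).1
        (h2.mem_powers_iff_mem_zpowers.2 (Subgroup.inv_mem _ (Subgroup.mem_zpowers _)))
      exact ⟨n, by simpa using congrArg Units.val hn⟩
    obtain ⟨n, hn⟩ := h1
    rw [← hn]
    exact pow_mem hx n
  have hgood : ∀ d : k, d ≠ 0 → (algebraMap k F d * α) ^ 2 ≠ -1 → algebraMap k F d * α ∈ T := by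
    intro d hd hsq
    obtain ⟨lam, hlam⟩ : ∃ l, l = algebraMap k F d * α := ⟨_, rfl⟩
    have hlam0 : lam ≠ 0 := by
      rw [hlam]; exact mul_ne_zero ((map_ne_zero _).2 hd) hα
    rw [← hlam] at hsq ⊢
    let L : Subfield F := Subfield.closure {lam}
    have hlamL : lam ∈ L := Subfield.subset_closure rfl
    have hgenL : Subfield.closure ({⟨lam, hlamL⟩} : Set L) = ⊤ := by
      refine eq_top_iff.2 fun y _ => ?_
      have hle : L ≤ (Subfield.closure ({⟨lam, hlamL⟩} : Set L)).map L.subtype := by
        rw [Subfield.closure_le]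
        intro z hz
        rw [Set.mem_singleton_iff.1 hz]
        exact ⟨⟨lam, hlamL⟩, Subfield.subset_closure rfl, rfl⟩
      obtain ⟨z, hz, e⟩ := hle y.2
      have : z = y := Subtype.ext e
      exact this ▸ hz
    have htop := CfsgLib.PSL2Sub.closure_eq_top (F := L)
      (fun h => hF2 (by have := congrArg L.subtype h; rwa [map_ofNat, map_zero] at this)) ⟨lam, hlamL⟩
      (fun h => hlam0 (congrArg Subtype.val h)) hgenL
      (fun h => hsq (by simpa using congrArg L.subtype h.2))
    let f := SpecialLinearGroup.map (n := Fin 2) L.subtype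
    have hf : ∀ g, f g ∈ H := by
      intro g
      have hg : g ∈ Subgroup.closure ({CfsgLib.PSL2Sub.genLower,
          CfsgLib.PSL2Sub.genUpper ⟨lam, hlamL⟩} : Set (SpecialLinearGroup (Fin 2) L)) := by
        rw [htop]; exact Subgroup.mem_top g
      induction hg using Subgroup.closure_induction with
      | mem x hx =>
        rcases hx with rfl | rfl
        · have e : f CfsgLib.PSL2Sub.genLower = slL (algebraMap k F 1) := by
            rw [sl2Gen_genLower]
            apply Subtype.ext
            ext i j
            fin_cases i <;> fin_cases j <;> simp [f, slL_val]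
          rw [e]; exact hL 1
        · have e : f (CfsgLib.PSL2Sub.genUpper ⟨lam, hlamL⟩) = slU (algebraMap k F d * α) := by
            rw [sl2Gen_genUpper]
            apply Subtype.ext
            ext i j
            fin_cases i <;> fin_cases j <;> simp [f, slU_val, hlam]
          rw [e]; exact hU d
      | one => rw [map_one]; exact one_mem _
      | mul x y _ _ hx hy => rw [map_mul]; exact mul_mem hx hy
      | inv x _ hx => rw [map_inv]; exact inv_mem hx
    have hsqT : ∀ t : L, (t : F) ^ 2 ∈ T := by
      intro t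
      rw [hT]
      intro x hx
      by_cases ht : t = 0
      · subst ht; simp [slU_zero]
      let g : SpecialLinearGroup (Fin 2) L := ⟨!![t, 0; 0, t⁻¹], by simp [det_fin_two, ht]⟩
      have h1 := mul_mem (mul_mem (hf g) hx) (inv_mem (hf g))
      have e00 : (f g).1 0 0 = (t : F) := by
        show L.subtype (!![t, 0; 0, t⁻¹] 0 0) = (t : F); simp
      have e10 : (f g).1 1 0 = 0 := by
        show L.subtype (!![t, 0; 0, t⁻¹] 1 0) = 0; simp
      rw [sl2_upper_conj _ e10, e00] at h1
      exact h1
    have h2L : (2 : L) ≠ 0 := fun h => hF2 (by have := congrArg L.subtype h; rwa [map_ofNat, map_zero] at this)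
    let y : L := ⟨lam, hlamL⟩
    have e : lam = (((y + 1) / 2 : L) : F) ^ 2 - (((y - 1) / 2 : L) : F) ^ 2 := by
      have : y = ((y + 1) / 2) ^ 2 - ((y - 1) / 2) ^ 2 := by field_simp; ring
      simpa [y] using congrArg L.subtype this
    rw [e]
    exact sub_mem (hsqT _) (hsqT _)
  -- the scalars lie in `T`
  classical
  letI := Fintype.ofFinite k
  obtain ⟨Bad, hBad⟩ : ∃ B : Finset k,
      B = (Finset.univ : Finset k).filter fun d => (algebraMap k F d * α) ^ 2 = -1 := ⟨_, rfl⟩
  have hBadCard : Bad.card ≤ 2 := by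
    by_cases hne : Bad.Nonempty
    · obtain ⟨d0, hd0⟩ := hne
      refine le_trans (Finset.card_le_card (t := {d0, -d0}) fun d hd => ?_) Finset.card_le_two
      rw [hBad, Finset.mem_filter] at hd hd0
      have : algebraMap k F (d * d) = algebraMap k F (d0 * d0) := by
        refine mul_right_cancel₀ (mul_ne_zero hα hα) ?_
        rw [map_mul, map_mul]
        linear_combination hd.2 - hd0.2
      rcases mul_self_eq_mul_self_iff.1 ((algebraMap k F).injective this) with h | h <;> simp [h]
    · simp [Finset.not_nonempty_iff_eq_empty.1 hne]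
  have hgood' : ∀ d : k, d ≠ 0 → d ∉ Bad → algebraMap k F d * α ∈ T := fun d hd hb =>
    hgood d hd (fun e => hb (by rw [hBad]; simp [e]))
  have hkcard : 5 ≤ Fintype.card k := by
    have h2 : 2 ≤ Fintype.card k := Fintype.one_lt_card
    obtain ⟨p, n, hp, hcard⟩ : ∃ p n, Nat.Prime p ∧ Fintype.card k = p ^ n := by
      obtain ⟨p, hp⟩ := CharP.exists k
      obtain ⟨n, h1, h2⟩ := FiniteField.card k p
      exact ⟨p, n, h1, h2⟩
    have hk2 : Fintype.card k ≠ 2 ∧ Fintype.card k ≠ 4 := by
      have : ∀ m : ℕ, Fintype.card k = 2 ^ m → False := fun m hm => by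
        have h0 : ((2 : k)) ^ m = 0 := by
          have := FiniteField.cast_card_eq_zero k
          rw [hm] at this
          simpa using this
        have h20 : (2 : k) = 0 := by
          rcases m with _ | m
          · simp at h0
          · exact eq_zero_of_pow_eq_zero h0
        exact hF2 (by have := congrArg (algebraMap k F) h20; rwa [map_ofNat, map_zero] at this)
      exact ⟨fun h => this 1 h, fun h => this 2 h⟩
    rw [Nat.card_eq_fintype_card] at hk3
    omega
  have hone : ∃ d : k, d ≠ 0 ∧ d ∉ Bad := by
    by_contra hc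
    push Not at hc
    have : (Finset.univ : Finset k) ⊆ insert 0 Bad := fun x _ => by
      by_cases hx : x = 0
      · simp [hx]
      · exact Finset.mem_insert_of_mem (hc x hx)
    have := (Finset.card_le_card this).trans (Finset.card_insert_le _ _)
    simp at this
    omega
  have hk : ∀ x : k, algebraMap k F x ∈ T := by
    by_cases h5 : Fintype.card k = 5
    · intro x
      haveI : Fact (Nat.card k).Prime := ⟨by rw [Nat.card_eq_fintype_card, h5]; decide⟩
      let Q : AddSubgroup k := T.toAddSubgroup.comap (algebraMap k F).toAddMonoidHom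
      rcases AddSubgroup.eq_bot_or_eq_top_of_prime_card Q with h | h
      · exfalso
        have : (1 : k) ∈ Q := by
          show algebraMap k F 1 ∈ T
          rw [map_one]; exact one_mem T
        rw [h] at this
        exact one_ne_zero (AddSubgroup.mem_bot.1 this)
      · have : x ∈ Q := h ▸ AddSubgroup.mem_top x
        exact this
    · intro x
      by_cases hx : x = 0
      · rw [hx, map_zero]; exact zero_mem T
      obtain ⟨d, hd, hd1, hd2⟩ : ∃ d : k, d ≠ 0 ∧ d ∉ Bad ∧ x * d ∉ Bad := by
        by_contra hc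
        push Not at hc
        have : (Finset.univ : Finset k) ⊆ insert 0 (Bad ∪ Bad.image fun b => x⁻¹ * b) := fun y _ => by
          by_cases hy : y = 0
          · simp [hy]
          refine Finset.mem_insert_of_mem (Finset.mem_union.2 ?_)
          by_cases hyb : y ∈ Bad
          · exact Or.inl hyb
          · exact Or.inr (Finset.mem_image.2 ⟨x * y, hc y hy hyb, by rw [inv_mul_cancel_left₀ hx]⟩)
        have h1 := (Finset.card_le_card this).trans (Finset.card_insert_le _ _)
        have h2 : (Bad ∪ Bad.image fun b => x⁻¹ * b).card ≤ Bad.card + Bad.card :=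
          (Finset.card_union_le _ _).trans (Nat.add_le_add_left Finset.card_image_le _)
        simp at h1
        omega
      have h1 := hgood' d hd hd1
      have h2 := hgood' (x * d) (mul_ne_zero hx hd) hd2
      have h3 := mul_mem h2 (hTinv _ h1)
      have hne : algebraMap k F d * α ≠ 0 := mul_ne_zero ((map_ne_zero _).2 hd) hα
      rwa [map_mul, mul_assoc (algebraMap k F x), mul_inv_cancel_right₀ hne] at h3
  have hαT : α ∈ T := by
    obtain ⟨d, hd, hd1⟩ := hone
    have h1 := mul_mem (hk d⁻¹) (hgood' d hd hd1)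
    rwa [map_inv₀, inv_mul_cancel_left₀ ((map_ne_zero _).2 hd)] at h1
  let A : Subalgebra k F := { T with algebraMap_mem' := hk }
  have hAtop : ∀ y, y ∈ T := by
    intro y
    have h1 : Algebra.adjoin k ({α} : Set F) ≤ A := Algebra.adjoin_le (by simpa [A] using hαT)
    rw [hgen] at h1
    exact h1 (Algebra.mem_top (x := y))
  refine sl2_eq_top_of_upper (fun x => ?_) one_ne_zero (by simpa using hL 1)
  have := (hT (x * α⁻¹)).1 (hAtop _) (1 * α) (by simpa using hU 1)
  rwa [one_mul, mul_assoc, inv_mul_cancel₀ hα, mul_one] at this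

end CfsgLib.RootSub
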