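/-
Generation of SL₂ over a simple extension of an infinite field by two twisted root groups:
continued fractions attached to a generic linear functional.
-/
import Cfsg.Agent.Lib.RootSub.SL2GenCore

set_option autoImplicit false

namespace CfsgLib.RootSub

open Cfsg Matrix

variable {k F : Type*} [Field k] [Field F] [Algebra k F]

/-- Combinations of `1, α, …, α^(j-1)`. -/
noncomputable def powSpan (α : F) (j : ℕ) : (Fin j → k) →ₗ[k] F :=
  Fintype.linearCombination k fun a : Fin j => α ^ (a : ℕ)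

lemma powSpan_apply (α : F) {j : ℕ} (c : Fin j → k) :
    powSpan α j c = ∑ a, c a • α ^ (a : ℕ) := Fintype.linearCombination_apply ..

/-- The subspace of combinations of `1, α, …, α^(j-1)`. -/
def powW (k : Type*) {F : Type*} [Field k] [Field F] [Algebra k F] (α : F) (j : ℕ) : Submodule k F :=
  Submodule.span k (Set.range fun a : Fin j => α ^ (a : ℕ))

lemma range_powSpan (α : F) (j : ℕ) : LinearMap.range (powSpan (k := k) α j) = powW k α j :=
  Fintype.range_linearCombination ..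

lemma pow_mem_powW (α : F) {a j : ℕ} (h : a < j) : α ^ a ∈ powW k α j :=
  Submodule.subset_span ⟨⟨a, h⟩, rfl⟩

lemma powW_mono (α : F) {i j : ℕ} (h : i ≤ j) : powW k α i ≤ powW k α j := by
  refine Submodule.span_le.2 ?_
  rintro _ ⟨a, rfl⟩
  exact pow_mem_powW α (lt_of_lt_of_le a.2 h)

lemma mul_mem_powW (α : F) {j : ℕ} {x : F} (h : x ∈ powW k α j) : α * x ∈ powW k α (j + 1) := by
  have : powW k α j ≤ (powW k α (j + 1)).comap (LinearMap.mulLeft k α) := by
    refine Submodule.span_le.2 ?_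
    rintro _ ⟨a, rfl⟩
    show α * α ^ (a : ℕ) ∈ powW k α (j + 1)
    rw [← pow_succ']
    exact pow_mem_powW α (Nat.succ_lt_succ a.2)
  exact this h

/-- The functional `φ` is non-degenerate on the combinations of length `j`. -/
def Nondeg (φ : F →ₗ[k] k) (α : F) (j : ℕ) : Prop :=
  ∀ x ∈ powW k α j, (∀ i < j, φ (x * α ^ i) = 0) → x = 0

/-- `P` is a monic orthogonal element of degree `j`. -/
def IsOrth (φ : F →ₗ[k] k) (α : F) (j : ℕ) (P : F) : Prop :=
  P - α ^ j ∈ powW k α j ∧ ∀ i < j, φ (P * α ^ i) = 0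

lemma exists_orth {φ : F →ₗ[k] k} {α : F} {j : ℕ} (hn : Nondeg φ α j)
    (hli : Function.Injective (powSpan (k := k) α j)) : ∃ P, IsOrth φ α j P := by
  let L : (Fin j → k) →ₗ[k] (Fin j → k) :=
    LinearMap.pi fun i : Fin j => φ ∘ₗ LinearMap.mulRight k (α ^ (i : ℕ)) ∘ₗ powSpan α j
  have hinj : Function.Injective L := by
    rw [← LinearMap.ker_eq_bot, LinearMap.ker_eq_bot']
    intro c hc
    apply hli
    rw [map_zero]
    refine hn _ ?_ fun i hi => congrFun hc ⟨i, hi⟩
    rw [← range_powSpan]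
    exact LinearMap.mem_range_self _ c
  obtain ⟨c, hc⟩ := LinearMap.injective_iff_surjective.1 hinj
    (fun i : Fin j => - φ (α ^ j * α ^ (i : ℕ)))
  refine ⟨α ^ j + powSpan α j c, ?_, fun i hi => ?_⟩
  · rw [add_sub_cancel_left, ← range_powSpan]; exact LinearMap.mem_range_self _ c
  · rw [add_mul, map_add]
    have := congrFun hc ⟨i, hi⟩
    simp only [L, LinearMap.pi_apply, LinearMap.comp_apply, LinearMap.mulRight_apply] at this
    rw [this, add_neg_cancel]

lemma powW_succ_decomp (α : F) {j : ℕ} {D : F} (hD : D ∈ powW k α (j + 1)) :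
    ∃ a : k, D - a • α ^ j ∈ powW k α j := by
  have hle : powW k α (j + 1) ≤ powW k α j ⊔ Submodule.span k {α ^ j} := by
    refine Submodule.span_le.2 ?_
    rintro _ ⟨a, rfl⟩
    rcases Nat.lt_succ_iff_lt_or_eq.1 a.2 with h | h
    · exact Submodule.mem_sup_left (pow_mem_powW α h)
    · exact Submodule.mem_sup_right (Submodule.mem_span_singleton.2 ⟨1, by simp [h]⟩)
  obtain ⟨u, hu, v, hv, e⟩ := Submodule.mem_sup.1 (hle hD)
  obtain ⟨a, rfl⟩ := Submodule.mem_span_singleton.1 hv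
  exact ⟨a, by rw [← e, add_sub_cancel_right]; exact hu⟩

lemma orth_line {φ : F →ₗ[k] k} {α : F} {j : ℕ} (hn : Nondeg φ α j) {P D : F}
    (hP : IsOrth φ α j P) (hD : D ∈ powW k α (j + 1)) (h0 : ∀ i < j, φ (D * α ^ i) = 0) :
    ∃ a : k, D = a • P := by
  obtain ⟨a, ha⟩ := powW_succ_decomp α hD
  refine ⟨a, sub_eq_zero.1 (hn _ ?_ fun i hi => ?_)⟩
  · rw [show D - a • P = D - a • α ^ j - a • (P - α ^ j) by rw [smul_sub]; abel]
    exact sub_mem ha (Submodule.smul_mem _ a hP.1)
  · rw [sub_mul, map_sub, h0 i hi, smul_mul_assoc, map_smul, hP.2 i hi, smul_zero, sub_zero]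

lemma orth_mem_succ {φ : F →ₗ[k] k} {α : F} {j : ℕ} {P : F} (hP : IsOrth φ α j P) :
    P ∈ powW k α (j + 1) := by
  have := add_mem (powW_mono α (Nat.le_succ j) hP.1) (pow_mem_powW (k := k) α (Nat.lt_succ_self j))
  rwa [sub_add_cancel] at this

lemma orth_ne_zero {φ : F →ₗ[k] k} {α : F} {j : ℕ} {P : F} (hP : IsOrth φ α j P)
    (hj : α ^ j ∉ powW k α j) : P ≠ 0 := fun h => hj (by simpa [h] using hP.1)

variable {H : Subgroup (SpecialLinearGroup (Fin 2) F)} {α : F}
  (hU : ∀ c : k, slU (algebraMap k F c) ∈ H) (hL : ∀ c : k, slL (algebraMap k F c * α) ∈ H)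
include hU hL

/-- A continued fraction reaching `0`. -/
theorem exists_swap_elem {m : ℕ} (hm : 0 < m) (hα : α ≠ 0) (htop : powW k α m = ⊤)
    (hli : ∀ j ≤ m, Function.Injective (powSpan (k := k) α j))
    (hnp : ∀ j < m, α ^ j ∉ powW k α j) (φ : F →ₗ[k] k) (h1 : ∀ j ≤ m, Nondeg φ α j)
    (h2 : ∀ j ≤ m, Nondeg (φ ∘ₗ LinearMap.mulLeft k α) α j) :
    ∃ g ∈ H, g.1 0 0 = 0 ∧ ∃ (ζ : k) (P : F), ζ ≠ 0 ∧ P ≠ 0 ∧
      (∀ i < m - 1, φ (P * α ^ i) = 0) ∧ g.1 1 0 = algebraMap k F ζ * P := by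
  obtain ⟨φ', hφ'⟩ : ∃ φ', φ' = φ ∘ₗ LinearMap.mulLeft k α := ⟨_, rfl⟩
  rw [← hφ'] at h2
  have hφ'' : ∀ x i, φ' (x * α ^ i) = φ (x * α ^ (i + 1)) := fun x i => by
    rw [hφ', LinearMap.comp_apply, LinearMap.mulLeft_apply]
    congr 1; ring
  have eP : ∀ j, ∃ P, j ≤ m → IsOrth φ α j P := fun j => by
    by_cases hj : j ≤ m
    · obtain ⟨P, hP⟩ := exists_orth (h1 j hj) (hli j hj); exact ⟨P, fun _ => hP⟩
    · exact ⟨0, fun h => absurd h hj⟩
  have eQ : ∀ j, ∃ P, j ≤ m → IsOrth φ' α j P := fun j => by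
    by_cases hj : j ≤ m
    · obtain ⟨P, hP⟩ := exists_orth (h2 j hj) (hli j hj); exact ⟨P, fun _ => hP⟩
    · exact ⟨0, fun h => absurd h hj⟩
  choose P hP using eP
  choose Q hQ using eQ
  -- first recurrence
  have rec1 : ∀ j, j < m → ∃ a : k, a ≠ 0 ∧ α * Q j - P (j + 1) = a • P j := by
    intro j hj
    have hp := hP (j + 1) hj
    have hq := hQ j hj.le
    have hD : α * Q j - P (j + 1) ∈ powW k α (j + 1) := by
      rw [show α * Q j - P (j + 1) = α * (Q j - α ^ j) - (P (j + 1) - α ^ (j + 1)) by ring]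
      exact sub_mem (mul_mem_powW α hq.1) hp.1
    have horth : ∀ i < j, φ ((α * Q j - P (j + 1)) * α ^ i) = 0 := fun i hi => by
      rw [sub_mul, map_sub, hp.2 i (hi.trans (Nat.lt_succ_self j)), sub_zero,
        show α * Q j * α ^ i = Q j * α ^ (i + 1) by ring, ← hφ'']
      exact hq.2 i hi
    obtain ⟨a, ha⟩ := orth_line (h1 j hj.le) (hP j hj.le) hD horth
    refine ⟨a, fun ha0 => ?_, ha⟩
    rw [ha0, zero_smul, sub_eq_zero] at ha
    refine orth_ne_zero hq (hnp j hj) (h2 (j + 1) hj _ (orth_mem_succ hq) fun i hi => ?_)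
    rw [hφ'', show Q j * α ^ (i + 1) = α * Q j * α ^ i by ring, ha]
    exact hp.2 i hi
  -- second recurrence
  have rec2 : ∀ j, j + 1 < m → ∃ b : k, b ≠ 0 ∧ P (j + 1) - Q (j + 1) = b • Q j := by
    intro j hj
    have hp := hP (j + 1) hj.le
    have hq := hQ (j + 1) hj.le
    have hD : P (j + 1) - Q (j + 1) ∈ powW k α (j + 1) := by
      rw [show P (j + 1) - Q (j + 1) =
        (P (j + 1) - α ^ (j + 1)) - (Q (j + 1) - α ^ (j + 1)) by ring]
      exact sub_mem hp.1 hq.1
    have horth : ∀ i < j, φ' ((P (j + 1) - Q (j + 1)) * α ^ i) = 0 := fun i hi => by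
      rw [sub_mul, map_sub, hq.2 i (hi.trans (Nat.lt_succ_self j)), sub_zero, hφ'']
      exact hp.2 (i + 1) (Nat.succ_lt_succ hi)
    obtain ⟨b, hb⟩ := orth_line (h2 j (by omega)) (hQ j (by omega)) hD horth
    refine ⟨b, fun hb0 => ?_, hb⟩
    rw [hb0, zero_smul, sub_eq_zero] at hb
    refine orth_ne_zero hp (hnp (j + 1) hj) (h1 (j + 2) (by omega) _ (orth_mem_succ hp) fun i hi => ?_)
    rcases i with _ | i
    · exact hp.2 0 (Nat.succ_pos _)
    · rw [hb, ← hφ'']
      exact hq.2 i (by omega)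
  have hP0 : P 0 = 1 := by
    have := (hP 0 (Nat.zero_le m)).1
    rw [powW, Set.range_eq_empty, Submodule.span_empty, Submodule.mem_bot, sub_eq_zero] at this
    simpa using this
  have hQ0 : Q 0 = 1 := by
    have := (hQ 0 (Nat.zero_le m)).1
    rw [powW, Set.range_eq_empty, Submodule.span_empty, Submodule.mem_bot, sub_eq_zero] at this
    simpa using this
  have main : ∀ j, j < m → ∃ g ∈ H, ∃ s t : k, s ≠ 0 ∧ t ≠ 0 ∧
      g.1 0 0 = algebraMap k F s * P j ∧ g.1 1 0 = algebraMap k F t * (α * Q j) := by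
    intro j
    induction j with
    | zero =>
      intro _
      exact ⟨slL (algebraMap k F 1 * α), hL 1, 1, 1, one_ne_zero, one_ne_zero,
        by simp [slL_val, hP0], by simp [slL_val, hQ0]⟩
    | succ j ih =>
      intro hj
      obtain ⟨g, hg, s, t, hs, ht, g0, g1⟩ := ih (Nat.lt_of_succ_lt hj)
      obtain ⟨a, ha, ea⟩ := rec1 j (Nat.lt_of_succ_lt hj)
      obtain ⟨b, hb, eb⟩ := rec2 j hj
      obtain ⟨s', hs'⟩ : ∃ s' : k, s' = -s / a := ⟨_, rfl⟩
      obtain ⟨t', ht'⟩ : ∃ t' : k, t' = -t / b := ⟨_, rfl⟩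
      have hs0 : s' ≠ 0 := hs' ▸ div_ne_zero (neg_ne_zero.2 hs) ha
      have ht0 : t' ≠ 0 := ht' ▸ div_ne_zero (neg_ne_zero.2 ht) hb
      refine ⟨slL (algebraMap k F (t' / s') * α) * (slU (algebraMap k F (s' / t)) * g),
        mul_mem (hL _) (mul_mem (hU _) hg), s', t', hs0, ht0, ?_, ?_⟩
      · show (!![1, 0; _, 1] * (!![1, _; 0, 1] * g.1) : Matrix (Fin 2) (Fin 2) F) 0 0 = _
        rw [Matrix.eta_fin_two g.1]
        simp [Matrix.mul_fin_two, g0, g1]
        rw [Algebra.smul_def] at ea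
        have e1 : algebraMap k F s' * algebraMap k F a = - algebraMap k F s := by
          rw [← map_mul, ← map_neg]; congr 1; rw [hs']; field_simp
        have ht0' : algebraMap k F t ≠ 0 := (map_ne_zero _).2 ht
        field_simp
        linear_combination (algebraMap k F s') * ea + P j * e1
      · show (!![1, 0; _, 1] * (!![1, _; 0, 1] * g.1) : Matrix (Fin 2) (Fin 2) F) 1 0 = _
        rw [Matrix.eta_fin_two g.1]
        simp [Matrix.mul_fin_two, g0, g1]
        rw [Algebra.smul_def] at ea eb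
        have e1 : algebraMap k F s' * algebraMap k F a = - algebraMap k F s := by
          rw [← map_mul, ← map_neg]; congr 1; rw [hs']; field_simp
        have e2 : algebraMap k F t' * algebraMap k F b = - algebraMap k F t := by
          rw [← map_mul, ← map_neg]; congr 1; rw [ht']; field_simp
        have hs0' : algebraMap k F s' ≠ 0 := (map_ne_zero _).2 hs0
        have ht0' : algebraMap k F t ≠ 0 := (map_ne_zero _).2 ht
        field_simp
        linear_combination (algebraMap k F s' * algebraMap k F t') * eb +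
          (algebraMap k F t') * (algebraMap k F s') * ea + (algebraMap k F t' * P j) * e1 +
          (algebraMap k F s' * Q j) * e2
  obtain ⟨n, rfl⟩ : ∃ n, m = n + 1 := ⟨m - 1, by omega⟩
  obtain ⟨g, hg, s, t, hs, ht, g0, g1⟩ := main n (Nat.lt_succ_self n)
  obtain ⟨a, ha, ea⟩ := rec1 n (Nat.lt_succ_self n)
  have ht' : algebraMap k F t ≠ 0 := (map_ne_zero _).2 ht
  have ha' : algebraMap k F a ≠ 0 := (map_ne_zero _).2 ha
  have hPm : P (n + 1) = 0 := h1 (n + 1) le_rfl _ (htop ▸ Submodule.mem_top) (hP (n + 1) le_rfl).2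
  rw [hPm, sub_zero, Algebra.smul_def] at ea
  refine ⟨slU (algebraMap k F (-(s / (t * a)))) * g, mul_mem (hU _) hg, ?_, t * a, P n,
    mul_ne_zero ht ha, orth_ne_zero (hP n (Nat.le_succ n)) (hnp n (Nat.lt_succ_self n)),
    fun i hi => (hP n (Nat.le_succ n)).2 i hi, ?_⟩
  · show (!![1, _; 0, 1] * g.1 : Matrix (Fin 2) (Fin 2) F) 0 0 = 0
    rw [Matrix.eta_fin_two g.1]
    simp [Matrix.mul_fin_two, g0, g1, ea]
    field_simp
    ring
  · show (!![1, _; 0, 1] * g.1 : Matrix (Fin 2) (Fin 2) F) 1 0 = _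
    rw [Matrix.eta_fin_two g.1]
    simp [Matrix.mul_fin_two, g1, ea, mul_assoc]

omit hU hL in
open Polynomial in
/-- Over an algebraic closure the Hankel forms become non-degenerate. -/
lemma exists_hankel_point (f : k[X]) (hf : f.Monic) (h0 : f.coeff 0 ≠ 0) {j : ℕ}
    (hj : j ≤ f.natDegree) (sh : ℕ) :
    ∃ φ : (AlgebraicClosure k)[X] →ₗ[AlgebraicClosure k] AlgebraicClosure k,
      (∀ g : k[X], f ∣ g → φ (g.map (algebraMap k _)) = 0) ∧
      ∀ c : Fin j → AlgebraicClosure k,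
        (∀ a : Fin j, ∑ b : Fin j, φ (Polynomial.X ^ ((a : ℕ) + b + sh)) * c b = 0) → c = 0 := by
  classical
  let kk := AlgebraicClosure k
  let f' : kk[X] := f.map (algebraMap k kk)
  have hs : f'.Splits := IsAlgClosed.splits _
  obtain ⟨t, ht, htc⟩ : ∃ t ≤ f'.roots, Multiset.card t = j := by
    have : j ≤ Multiset.card f'.roots := by
      rw [← hs.natDegree_eq_card_roots, Polynomial.natDegree_map]; exact hj
    revert this
    refine Quotient.inductionOn f'.roots fun l this => ?_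
    exact ⟨(l.take j : Multiset kk), (List.take_sublist j l).subperm,
      by simpa [Multiset.quot_mk_to_coe] using this⟩
  let q : kk[X] := (t.map fun a => Polynomial.X - Polynomial.C a).prod
  have hq : q.Monic := Polynomial.monic_multiset_prod_of_monic _ _ fun a _ => Polynomial.monic_X_sub_C a
  have hqd : q ∣ f' := (Multiset.prod_dvd_prod_of_le (Multiset.map_le_map ht)).trans
    f'.prod_multiset_X_sub_C_dvd
  have hqdeg : q.natDegree = j := by
    rw [Polynomial.natDegree_multiset_prod_X_sub_C_eq_card, htc]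
  have hcop : IsCoprime (Polynomial.X ^ sh) q := by
    refine IsCoprime.pow_left ((Polynomial.irreducible_X.coprime_iff_not_dvd).2 fun h => h0 ?_)
    have h1 := Polynomial.X_dvd_iff.1 (h.trans hqd)
    simpa [f', Polynomial.coeff_map] using h1
  obtain ⟨u, v, huv⟩ := hcop
  refine ⟨(Polynomial.lcoeff kk (j - 1)) ∘ₗ (Polynomial.modByMonicHom q) ∘ₗ
    LinearMap.mulLeft kk u, fun g hg => ?_, fun c hc => ?_⟩
  · have : q ∣ u * g.map (algebraMap k kk) :=
      dvd_mul_of_dvd_right (hqd.trans (Polynomial.map_dvd _ hg)) u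
    show ((u * g.map (algebraMap k kk)) %ₘ q).coeff (j - 1) = 0
    rw [(Polynomial.modByMonic_eq_zero_iff_dvd hq).2 this, Polynomial.coeff_zero]
  by_contra hne
  obtain ⟨b0, hb0⟩ : ∃ b, c b ≠ 0 := by
    by_contra h
    push Not at h
    exact hne (funext h)
  let p : kk[X] := ∑ b : Fin j, Polynomial.C (c b) * Polynomial.X ^ (b : ℕ)
  have hpc : ∀ b : Fin j, p.coeff b = c b := fun b => by
    simp [p, Polynomial.coeff_C_mul, Polynomial.coeff_X_pow, Fin.val_inj, Finset.sum_ite_eq]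
  have hp0 : p ≠ 0 := fun h => hb0 (by rw [← hpc b0, h, Polynomial.coeff_zero])
  have hpd : p.natDegree < j := by
    have h1 : p.natDegree ≤ j - 1 := Polynomial.natDegree_sum_le_of_forall_le _ _ fun b _ =>
      (Polynomial.natDegree_C_mul_X_pow_le _ _).trans (by omega)
    have := b0.2
    omega
  have hkey : ∀ i < j, ((p * Polynomial.X ^ i) %ₘ q).coeff (j - 1) = 0 := by
    intro i hi
    have h1 := hc ⟨i, hi⟩
    have e : (p * Polynomial.X ^ i) %ₘ q = (u * (p * Polynomial.X ^ (i + sh))) %ₘ q := by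
      rw [← sub_eq_zero, ← Polynomial.sub_modByMonic,
        Polynomial.modByMonic_eq_zero_iff_dvd hq]
      exact ⟨v * (p * Polynomial.X ^ i), by linear_combination (-(p * Polynomial.X ^ i)) * huv⟩
    rw [e]
    have e2 : u * (p * Polynomial.X ^ (i + sh)) =
        ∑ b : Fin j, c b • (u * Polynomial.X ^ (i + (b : ℕ) + sh)) := by
      simp only [p, Finset.sum_mul, Finset.mul_sum, Polynomial.smul_eq_C_mul]
      refine Finset.sum_congr rfl fun b _ => ?_
      ring
    rw [e2, ← Polynomial.modByMonicHom_apply, map_sum, Polynomial.finsetSum_coeff]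
    rw [← h1]
    refine Finset.sum_congr rfl fun b _ => ?_
    simp [Polynomial.modByMonicHom, Polynomial.smul_modByMonic, mul_comm]
  have h2 := hkey (j - 1 - p.natDegree) (by omega)
  have hdeg : (p * Polynomial.X ^ (j - 1 - p.natDegree)).natDegree = j - 1 := by
    rw [Polynomial.natDegree_mul_X_pow _ hp0]; omega
  rw [(Polynomial.modByMonic_eq_self_iff hq).2 (Polynomial.degree_lt_degree (by omega))] at h2
  rw [Polynomial.coeff_mul_X_pow', if_pos (by omega),
    show j - 1 - (j - 1 - p.natDegree) = p.natDegree by omega] at h2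
  exact hp0 (Polynomial.leadingCoeff_eq_zero.1 h2)

end CfsgLib.RootSub
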