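/-
SL₂ over a simple extension of an infinite field is generated by two twisted root groups.
-/
import Cfsg.Agent.Lib.RootSub.SL2GenInfinite

set_option autoImplicit false

namespace CfsgLib.RootSub

open Cfsg Matrix

variable {k F : Type*} [Field k] [Field F] [Algebra k F]

theorem sl2_gen_infinite [Infinite k] (h2 : (2 : k) ≠ 0) (pb : PowerBasis k F) (hα : pb.gen ≠ 0)
    {H : Subgroup (SpecialLinearGroup (Fin 2) F)}
    (hU : ∀ c : k, slU (algebraMap k F c) ∈ H)
    (hL : ∀ c : k, slL (algebraMap k F c * pb.gen) ∈ H) : H = ⊤ := by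
  classical
  haveI : FiniteDimensional k F := pb.finite
  obtain ⟨n, hn⟩ : ∃ n, pb.dim = n + 1 := ⟨pb.dim - 1, by have := pb.dim_pos; omega⟩
  let α := pb.gen
  have hbas : ∀ l : Fin pb.dim, pb.basis l = α ^ (l : ℕ) := fun l => pb.basis_eq_pow l
  have htop : powW k α pb.dim = ⊤ := by
    rw [eq_top_iff, ← pb.basis.span_eq, Submodule.span_le]
    rintro _ ⟨l, rfl⟩
    rw [hbas]
    exact pow_mem_powW α l.2
  have hli : ∀ j ≤ pb.dim, Function.Injective (powSpan (k := k) α j) := by
    intro j hj
    have h1 : LinearIndependent k fun a : Fin j => α ^ (a : ℕ) := by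
      have := pb.basis.linearIndependent.comp (Fin.castLE hj) (Fin.castLE_injective hj)
      have e : (fun a : Fin j => α ^ (a : ℕ)) = pb.basis ∘ Fin.castLE hj :=
        funext fun a => by simp only [Function.comp_apply, hbas]; rfl
      rw [e]
      exact this
    exact linearIndependent_iff_injective_fintypeLinearCombination.1 h1
  have hnp : ∀ j < pb.dim, α ^ j ∉ powW k α j := by
    intro j hj
    have hnm := pb.basis.linearIndependent.notMem_span_image
      (s := {l : Fin pb.dim | (l : ℕ) < j}) (x := ⟨j, hj⟩) (by simp)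
    rw [hbas] at hnm
    refine fun hmem => hnm ?_
    refine (Submodule.span_le.2 ?_ : powW k α j ≤ _) hmem
    rintro _ ⟨a, rfl⟩
    exact Submodule.subset_span ⟨⟨a, a.2.trans hj⟩, a.2, hbas _⟩
  -- the trace-like functional and the dual basis
  let last : Fin pb.dim := ⟨n, by omega⟩
  let τ : F →ₗ[k] k := pb.basis.coord last
  have hτ : ∀ i, i ≤ n → τ (α ^ i) = if i = n then 1 else 0 := by
    intro i hi
    have := hbas ⟨i, by omega⟩
    simp only at this
    rw [← this]
    simp only [τ, last, Module.Basis.coord_apply, Module.Basis.repr_self, Finsupp.single_apply,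
      Fin.ext_iff]
  let Θ : F →ₗ[k] (F →ₗ[k] k) := (LinearMap.mul k F).compr₂ τ
  have hΘ : ∀ z y, Θ z y = τ (z * y) := fun z y => rfl
  have hinj : Function.Injective Θ := by
    rw [← LinearMap.ker_eq_bot, LinearMap.ker_eq_bot']
    intro z hz
    by_contra hz0
    have := LinearMap.congr_fun hz (z⁻¹ * α ^ n)
    rw [hΘ, mul_inv_cancel_left₀ hz0, hτ n le_rfl, if_pos rfl, LinearMap.zero_apply] at this
    exact one_ne_zero this
  have hsurj : Function.Surjective Θ :=
    (LinearMap.injective_iff_surjective_of_finrank_eq_finrank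
      Subspace.dual_finrank_eq.symm).1 hinj
  choose zb hzb using fun l => hsurj (pb.basis.coord l)
  let zz : (Fin pb.dim → k) → F := fun s => ∑ l, s l • zb l
  have hzzsurj : ∀ z, ∃ s, zz s = z := by
    intro z
    refine ⟨fun l => τ (z * pb.basis l), hinj (pb.basis.ext fun l' => ?_)⟩
    simp only [zz, map_sum, map_smul, hzb, LinearMap.sum_apply, LinearMap.smul_apply, hΘ,
      Module.Basis.coord_apply, Module.Basis.repr_self, Finsupp.single_apply]
    simp
  -- Hankel determinants
  let Ent : ℕ → MvPolynomial (Fin pb.dim) k := fun i =>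
    ∑ l, MvPolynomial.C (pb.basis.repr (α ^ i) l) * MvPolynomial.X l
  have hEnt : ∀ s i, MvPolynomial.eval s (Ent i) = τ (zz s * α ^ i) := by
    intro s i
    simp only [Ent, zz, map_sum, map_mul, MvPolynomial.eval_C, MvPolynomial.eval_X, Finset.sum_mul,
      smul_mul_assoc, map_smul, smul_eq_mul, ← hΘ, hzb, Module.Basis.coord_apply]
    exact Finset.sum_congr rfl fun l _ => mul_comm _ _
  let D : ℕ → ℕ → MvPolynomial (Fin pb.dim) k := fun j sh =>
    (Matrix.of fun a b : Fin j => Ent ((a : ℕ) + b + sh)).det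
  have hD : ∀ j ≤ pb.dim, ∀ sh, D j sh ≠ 0 := by
    intro j hj sh h0
    have hint : IsIntegral k α := pb.isIntegral_gen
    have hfdeg : (minpoly k α).natDegree = pb.dim := pb.natDegree_minpoly
    obtain ⟨φ, hφ, hker⟩ := exists_hankel_point (minpoly k α) (minpoly.monic hint)
      (minpoly.coeff_zero_ne_zero hint hα) (j := j) (hfdeg.symm ▸ hj) sh
    let s : Fin pb.dim → AlgebraicClosure k := fun l => φ (Polynomial.X ^ (l : ℕ))
    have hE : ∀ i, MvPolynomial.aeval s (Ent i) = φ (Polynomial.X ^ i) := by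
      intro i
      obtain ⟨g, hg⟩ : ∃ g : Polynomial k, g = Polynomial.X ^ i -
          ∑ l : Fin pb.dim, Polynomial.C (pb.basis.repr (α ^ i) l) * Polynomial.X ^ (l : ℕ) :=
        ⟨_, rfl⟩
      have hdvd : minpoly k α ∣ g := minpoly.dvd k α (by
        have e1 := pb.basis.sum_repr (α ^ i)
        simp only [hbas, Algebra.smul_def] at e1
        simp [hg, map_sum, e1])
      have := hφ g hdvd
      simp only [hg, Polynomial.map_sub, Polynomial.map_pow, Polynomial.map_X, Polynomial.map_sum,
        Polynomial.map_mul, Polynomial.map_C, map_sub, map_sum, sub_eq_zero] at this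
      rw [this]
      simp only [Ent, map_sum, map_mul, MvPolynomial.aeval_C, MvPolynomial.aeval_X]
      refine Finset.sum_congr rfl fun l _ => ?_
      rw [← Polynomial.smul_eq_C_mul, map_smul, smul_eq_mul]
    have h1 := congrArg (MvPolynomial.aeval s) h0
    rw [map_zero] at h1
    simp only [D, AlgHom.map_det] at h1
    obtain ⟨c, hc0, hc⟩ := Matrix.exists_mulVec_eq_zero_iff.2 h1
    refine hc0 (hker c fun a => ?_)
    have := congrFun hc a
    simpa [Matrix.mulVec, dotProduct, hE] using this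
  have hnondeg : ∀ s j sh, MvPolynomial.eval s (D j sh) ≠ 0 → ∀ x ∈ powW k α j,
      (∀ i < j, τ (zz s * (x * α ^ (i + sh))) = 0) → x = 0 := by
    intro s j sh hd x hx h
    rw [← range_powSpan] at hx
    obtain ⟨c, rfl⟩ := hx
    have hdet : ((Matrix.of fun a b : Fin j => Ent ((a : ℕ) + b + sh)).map
        (MvPolynomial.eval s)).det ≠ 0 := by
      rw [← RingHom.mapMatrix_apply, ← RingHom.map_det]; exact hd
    have hc : c = 0 := Matrix.eq_zero_of_mulVec_eq_zero hdet (funext fun a => by
      have := h a a.2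
      simp only [Matrix.mulVec, dotProduct, Matrix.map_apply, Matrix.of_apply, hEnt]
      revert this
      generalize zz s = z
      intro this
      rw [powSpan_apply, Finset.sum_mul, Finset.mul_sum, map_sum] at this
      rw [Pi.zero_apply, ← this]
      refine Finset.sum_congr rfl fun b _ => ?_
      rw [smul_mul_assoc, mul_smul_comm, map_smul, smul_eq_mul, mul_comm, ← pow_add,
        show (a : ℕ) + b + sh = b + (a + sh) by omega])
    rw [hc, map_zero]
  let Pall : MvPolynomial (Fin pb.dim) k := ∏ j ∈ Finset.range (pb.dim + 1), (D j 0 * D j 1)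
  have hPall : Pall ≠ 0 := Finset.prod_ne_zero_iff.2 fun j hj => by
    rw [Finset.mem_range] at hj
    exact mul_ne_zero (hD j (by omega) 0) (hD j (by omega) 1)
  -- the swap elements
  have hswap : ∀ s, MvPolynomial.eval s Pall ≠ 0 → zz s ≠ 0 ∧
      ∃ g ∈ H, g.1 0 0 = 0 ∧ ∃ ξ : k, ξ ≠ 0 ∧ g.1 1 0 * zz s = algebraMap k F ξ := by
    intro s hs
    rw [map_prod, Finset.prod_ne_zero_iff] at hs
    have hd : ∀ j ≤ pb.dim, MvPolynomial.eval s (D j 0) ≠ 0 ∧ MvPolynomial.eval s (D j 1) ≠ 0 :=
      fun j hj => by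
        have := hs j (Finset.mem_range.2 (by omega))
        rw [map_mul] at this
        exact ⟨left_ne_zero_of_mul this, right_ne_zero_of_mul this⟩
    have hz0 : zz s ≠ 0 := fun h => one_ne_zero (α := F) (hnondeg s 1 0 (hd 1 pb.dim_pos).1 1
      (by simpa using pow_mem_powW (k := k) α (a := 0) (j := 1) Nat.zero_lt_one)
      (fun i _ => by rw [h, zero_mul, map_zero]))
    refine ⟨hz0, ?_⟩
    obtain ⟨φ, hφ⟩ : ∃ φ : F →ₗ[k] k, φ = τ ∘ₗ LinearMap.mulLeft k (zz s) := ⟨_, rfl⟩
    obtain ⟨g, hg, g00, ζ, P, hζ, hP, horth, g10⟩ := exists_swap_elem hU hL pb.dim_pos hα htop hli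
      hnp φ
      (fun j hj x hx h => hnondeg s j 0 (hd j hj).1 x hx fun i hi => by
        have := h i hi; rw [hφ] at this; simpa using this)
      (fun j hj x hx h => hnondeg s j 1 (hd j hj).2 x hx fun i hi => by
        have := h i hi
        rw [hφ] at this
        simp only [LinearMap.comp_apply, LinearMap.mulLeft_apply] at this
        rw [← this]
        congr 1; ring)
    obtain ⟨c, hc⟩ : ∃ c, c = τ (zz s * P * α ^ n) := ⟨_, rfl⟩
    have hzero : Θ (zz s * P - algebraMap k F c) = 0 := pb.basis.ext fun l => by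
      have hl : (l : ℕ) ≤ n := by have := l.2; omega
      rw [hΘ, hbas, sub_mul, map_sub, ← Algebra.smul_def, map_smul, hτ _ hl, LinearMap.zero_apply]
      rcases eq_or_lt_of_le hl with h | h
      · rw [if_pos h, h, smul_eq_mul, mul_one, hc, sub_self]
      · rw [if_neg h.ne, smul_zero, sub_zero]
        have := horth l (by omega)
        rw [hφ] at this
        simpa [mul_assoc] using this
    have he : zz s * P = algebraMap k F c := sub_eq_zero.1 (hinj (hzero.trans (map_zero Θ).symm))
    have hc0 : c ≠ 0 := fun h => mul_ne_zero hz0 hP (by rw [he, h, map_zero])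
    refine ⟨g, hg, g00, ζ * c, mul_ne_zero hζ hc0, ?_⟩
    rw [g10, map_mul, ← he]; ring
  obtain ⟨s₀, hs₀⟩ : ∃ s, MvPolynomial.eval s Pall ≠ 0 := by
    by_contra hc
    push Not at hc
    exact hPall (MvPolynomial.funext fun x => by rw [hc x, map_zero])
  obtain ⟨hz₀, g₀, hg₀, g₀00, ξ₀, hξ₀, g₀10⟩ := hswap s₀ hs₀
  -- the multipliers
  let R : Submodule k F :=
    { carrier := {x | ∀ c : k, slU (algebraMap k F c * x) ∈ H}
      zero_mem' := fun c => by rw [mul_zero, slU_zero]; exact one_mem H
      add_mem' := fun {a b} ha hb c => by rw [mul_add, slU_add]; exact mul_mem (ha c) (hb c)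
      smul_mem' := fun d {x} hx c => by
        rw [Algebra.smul_def, ← mul_assoc, ← map_mul]; exact hx (c * d) }
  let T : Submodule k F :=
    { carrier := {y | ∀ x ∈ R, y * x ∈ R}
      zero_mem' := fun x _ => by rw [zero_mul]; exact zero_mem R
      add_mem' := fun {a b} ha hb x hx => by rw [add_mul]; exact add_mem (ha x hx) (hb x hx)
      smul_mem' := fun d {y} hy x hx => by rw [smul_mul_assoc]; exact R.smul_mem d (hy x hx) }
  have hsqT : ∀ s, MvPolynomial.eval s Pall ≠ 0 → (zz s / zz s₀) ^ 2 ∈ T := by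
    intro s hs x hx c
    obtain ⟨hz, g, hg, g00, ξ, hξ, g10⟩ := hswap s hs
    have hh := mul_mem (inv_mem hg) hg₀
    have e10 : (g⁻¹ * g₀).1 1 0 = 0 := by
      rw [Matrix.SpecialLinearGroup.coe_mul, Matrix.SpecialLinearGroup.coe_inv,
        Matrix.adjugate_fin_two, Matrix.mul_apply, Fin.sum_univ_two]
      simp [g00, g₀00]
    have hξ0 : algebraMap k F ξ ≠ 0 := (map_ne_zero _).2 hξ
    have hξ₀0 : algebraMap k F ξ₀ ≠ 0 := (map_ne_zero _).2 hξ₀
    have e00 : (g⁻¹ * g₀).1 0 0 = algebraMap k F (ξ₀ / ξ) * (zz s / zz s₀) := by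
      have hd := sl2_det_entries g
      rw [g00] at hd
      rw [Matrix.SpecialLinearGroup.coe_mul, Matrix.SpecialLinearGroup.coe_inv,
        Matrix.adjugate_fin_two, Matrix.mul_apply, Fin.sum_univ_two]
      simp [g₀00]
      field_simp
      linear_combination g₀.1 1 0 * zz s₀ * g.1 0 1 * g10 + zz s * g₀.1 1 0 * zz s₀ * hd +
        zz s * g₀10
    have h1 := mul_mem (mul_mem hh (hx (c * (ξ / ξ₀) ^ 2))) (inv_mem hh)
    rw [sl2_upper_conj _ e10, e00] at h1
    convert h1 using 2
    simp only [map_mul, map_pow, map_div₀]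
    field_simp
  have hTtop : T = ⊤ := by
    by_contra hT
    obtain ⟨ψ, hψ0, hψ⟩ := Submodule.exists_dual_map_eq_bot_of_lt_top (lt_top_iff_ne_top.2 hT) inferInstance
    have hψT : ∀ y ∈ T, ψ y = 0 := fun y hy => by
      have : ψ y ∈ T.map ψ := Submodule.mem_map_of_mem hy
      rwa [hψ, Submodule.mem_bot] at this
    let Qp : MvPolynomial (Fin pb.dim) k := ∑ a, ∑ b,
      MvPolynomial.C (ψ (zb a * zb b / zz s₀ ^ 2)) * MvPolynomial.X a * MvPolynomial.X b
    have hQ : ∀ s, MvPolynomial.eval s Qp = ψ ((zz s / zz s₀) ^ 2) := by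
      intro s
      have : (zz s / zz s₀) ^ 2 = ∑ a, ∑ b, (s a * s b) • (zb a * zb b / zz s₀ ^ 2) := by
        rw [div_pow, pow_two (zz s)]
        simp only [zz, Finset.sum_mul_sum, Finset.sum_div, smul_mul_smul_comm, smul_div_assoc]
      rw [this]
      simp only [Qp, map_sum, map_mul, MvPolynomial.eval_C, MvPolynomial.eval_X, map_smul,
        smul_eq_mul]
      refine Finset.sum_congr rfl fun a _ => Finset.sum_congr rfl fun b _ => ?_
      ring
    have hQ0 : Qp = 0 := by
      refine (mul_eq_zero.1 ?_).resolve_left hPall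
      refine MvPolynomial.funext fun s => ?_
      rw [map_mul, map_zero]
      by_cases hs : MvPolynomial.eval s Pall = 0
      · rw [hs, zero_mul]
      · rw [hQ, hψT _ (hsqT s hs), mul_zero]
    have hall : ∀ z, ψ ((z / zz s₀) ^ 2) = 0 := fun z => by
      obtain ⟨s, rfl⟩ := hzzsurj z
      rw [← hQ, hQ0, map_zero]
    apply hψ0
    refine LinearMap.ext fun w => ?_
    have e1 := hall (zz s₀ * (w + 1))
    have e2 := hall (zz s₀ * w)
    have e3 := hall (zz s₀ * 1)
    rw [mul_div_cancel_left₀ _ hz₀] at e1 e2 e3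
    rw [show (w + 1) ^ 2 = w ^ 2 + (2 : k) • w + 1 ^ 2 by
      rw [Algebra.smul_def, map_ofNat]; ring, map_add, map_add, e2, e3, map_smul, zero_add,
      add_zero, smul_eq_mul] at e1
    rw [LinearMap.zero_apply]
    exact (mul_eq_zero.1 e1).resolve_left h2
  refine sl2_eq_top_of_upper (fun x => ?_) hα (by simpa using hL 1)
  have h1 : (1 : F) ∈ R := fun c => by rw [mul_one]; exact hU c
  have := (hTtop ▸ Submodule.mem_top : x ∈ T) 1 h1 1
  simpa using this

end CfsgLib.RootSub
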