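/-
The congruence filtration of the formal group of a quadratic pair, and generation of SL2.
-/
import Cfsg.Agent.Lib.RootSub.QPBasic
import Cfsg.Agent.Lib.RootSub.QPFormal
import Cfsg.Agent.Lib.RootSub.SL2GenSimple
import Cfsg.Agent.Lib.RootSub.SL2GenFinite
import Cfsg.Agent.Lib.Linear.DicksonSL
import Cfsg.Agent.Lib.Linear.Transvection

set_option autoImplicit false

namespace CfsgLib.RootSub

open Polynomial Matrix
open scoped commutatorElement

universe u

variable {k : Type u} [Field k]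

lemma qp_exists_sq_ne_one (hk2 : (2 : k) ≠ 0) (hk3 : Nat.card k ≠ 3) :
    ∃ t : k, t ≠ 0 ∧ t ^ 2 ≠ 1 := by
  classical
  by_contra hc
  push Not at hc
  refine hk3 ?_
  have hne : (1 : k) ≠ -1 := fun h => hk2 (by linear_combination h)
  have huniv : (Set.univ : Set k) = {0, 1, -1} := by
    refine Set.eq_univ_of_forall (fun t => ?_) |>.symm
    by_cases ht : t = 0
    · simp [ht]
    · rcases sq_eq_one_iff.1 (hc t ht) with h | h <;> simp [h]
  rw [← Nat.card_univ, huniv, Nat.card_coe_set_eq]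
  rw [Set.ncard_insert_of_notMem (by simp) (Set.toFinite _), Set.ncard_pair hne]

lemma slv_mul (g h : SpecialLinearGroup (Fin 2) k[X]) : (g * h).1 = g.1 * h.1 := rfl

lemma slv_one : (1 : SpecialLinearGroup (Fin 2) k[X]).1 = 1 := rfl

lemma slv_inv (g : SpecialLinearGroup (Fin 2) k[X]) : (g⁻¹).1 = Matrix.adjugate g.1 := rfl

/-- Upper elementary formal matrix. -/
noncomputable def slU' (q : k[X]) : SpecialLinearGroup (Fin 2) k[X] :=
  ⟨!![1, q; 0, 1], by simp [Matrix.det_fin_two]⟩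

/-- Lower elementary formal matrix. -/
noncomputable def slL' (q : k[X]) : SpecialLinearGroup (Fin 2) k[X] :=
  ⟨!![1, 0; q, 1], by simp [Matrix.det_fin_two]⟩

/-- Two twisted root groups generate SL₂ of a simple extension. -/
theorem sl2_gen_simple {F : Type*} [Field F] [Algebra k F] (hk2 : (2 : k) ≠ 0)
    (hk3 : Nat.card k ≠ 3) (pb : PowerBasis k F) (hgen : pb.gen ≠ 0)
    {H : Subgroup (SpecialLinearGroup (Fin 2) F)} (hU : ∀ c : k, slU (algebraMap k F c) ∈ H)
    (hL : ∀ c : k, slL (algebraMap k F c * pb.gen) ∈ H) : H = ⊤ := by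
  classical
  haveI : FiniteDimensional k F := pb.finite
  rcases finite_or_infinite k with hk | hk
  · haveI := hk
    haveI : Finite F := Module.finite_of_finite k
    let D : SpecialLinearGroup (Fin 2) F ≃* SpecialLinearGroup (Fin 2) F :=
      CfsgLib.Linear.Dickson.dilate (Units.mk0 pb.gen hgen)
    have hDU : ∀ a : F, D (slU (a * pb.gen)) = slU a := fun a => by
      apply Subtype.ext
      ext i j
      fin_cases i <;> fin_cases j <;>
        simp [D, CfsgLib.Linear.Dickson.dilate, CfsgLib.SL2Trace.coe_mk2, slU_val, hgen]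
    have hDL : ∀ a : F, D (slL a) = slL (a * pb.gen) := fun a => by
      apply Subtype.ext
      ext i j
      fin_cases i <;> fin_cases j <;>
        simp [D, CfsgLib.Linear.Dickson.dilate, CfsgLib.SL2Trace.coe_mk2, slL_val]
    have h1 : H.comap D.toMonoidHom = ⊤ := by
      refine sl2_gen_finite_aux (k := k) ?_ hk3 hgen pb.adjoin_gen_eq_top _ (fun c => ?_) (fun c => ?_)
      · intro h
        apply hk2
        have h' : algebraMap k F 2 = algebraMap k F 0 := by rw [map_ofNat, map_zero]; exact h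
        exact (algebraMap k F).injective h'
      · show D _ ∈ H
        rw [hDU]; exact hU c
      · show D _ ∈ H
        rw [hDL]; exact hL c
    rw [eq_top_iff]
    intro a _
    obtain ⟨b, rfl⟩ := D.surjective a
    have : b ∈ H.comap D.toMonoidHom := h1 ▸ Subgroup.mem_top b
    exact this
  · exact sl2_gen_infinite hk2 pb hgen hU hL


variable {M : Type u} [AddCommGroup M] [Module k M]
variable {G : Subgroup (LinearMap.GeneralLinearGroup k M)} {x y : Module.End k M}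

local notation "GLkM" => LinearMap.GeneralLinearGroup k M

/-- The formal congruence invariant. -/
noncomputable def qpsi (g : Matrix (Fin 2) (Fin 2) k[X]) : Matrix (Fin 2) (Fin 2) k[X] :=
  !![expand k 2 (g 0 0), X * expand k 2 (g 0 1);
     X * expand k 2 (g 1 0).divX, expand k 2 (g 1 1)]

lemma qpsi_mul {g h : Matrix (Fin 2) (Fin 2) k[X]} (hg : QFormal g) (hh : QFormal h) :
    qpsi (g * h) = qpsi g * qpsi h := by
  have e10 : g 1 0 = X * (g 1 0).divX := by
    have := (X_mul_divX_add (g 1 0)).symm; rwa [hg.1, map_zero, add_zero] at this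
  have f10 : h 1 0 = X * (h 1 0).divX := by
    have := (X_mul_divX_add (h 1 0)).symm; rwa [hh.1, map_zero, add_zero] at this
  ext i j : 1
  fin_cases i <;> fin_cases j <;> simp [qpsi, Matrix.mul_apply, Fin.sum_univ_two]
  · conv_lhs => rw [f10, map_mul, expand_X]
    ring
  · ring
  · have e : (g 1 0 * h 0 0 + g 1 1 * h 1 0).divX =
        (g 1 0).divX * h 0 0 + g 1 1 * (h 1 0).divX := by
      conv_lhs => rw [e10, f10, show X * (g 1 0).divX * h 0 0 + g 1 1 * (X * (h 1 0).divX) =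
        X * ((g 1 0).divX * h 0 0 + g 1 1 * (h 1 0).divX) by ring, qp_divX_X_mul]
    rw [e, map_add, map_mul, map_mul]
    ring
  · conv_lhs => rw [e10, map_mul, expand_X]
    ring

lemma qpsi_one : qpsi (1 : Matrix (Fin 2) (Fin 2) k[X]) = 1 := by
  ext i j : 1
  fin_cases i <;> fin_cases j <;> simp [qpsi]

/-- The group of formal matrices of level `i` realised in `G`. -/
noncomputable def qgam (G : Subgroup GLkM) {x y : Module.End k M} (hx : x * x = 0) (hy : y * y = 0)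
    (i : ℕ) : Subgroup (SpecialLinearGroup (Fin 2) k[X]) where
  carrier := {g | QFormal g.1 ∧ (g.1 0 0).coeff 0 = 1 ∧
    (∃ σ ∈ G, (σ : Module.End k M) = qphi x y g.1) ∧
    ∃ A, qpsi g.1 = 1 + (X : k[X]) ^ i • A}
  one_mem' := ⟨qformal_one, by simp, ⟨1, one_mem G, by simp [qphi_one]⟩, 0, by simp [qpsi_one]⟩
  mul_mem' := fun {g h} hg hh => by
    obtain ⟨hg1, hg2, ⟨σ, hσ, eσ⟩, A, hA⟩ := hg
    obtain ⟨hh1, hh2, ⟨τ, hτ, eτ⟩, B, hB⟩ := hh
    obtain ⟨hm1, hm2⟩ := qformal_mul hg1 hh1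
    refine ⟨hm1, ?_, ⟨σ * τ, mul_mem hσ hτ, ?_⟩, A + B + (X : k[X]) ^ i • (A * B), ?_⟩
    · rw [slv_mul, hm2, hg2, hh2, mul_one]
    · rw [Units.val_mul, slv_mul, qphi_mul hx hy hg1 hh1, eσ, eτ]
    · rw [slv_mul, qpsi_mul hg1 hh1, hA, hB]
      simp only [mul_add, add_mul, one_mul, mul_one, smul_add, smul_mul_assoc, mul_smul_comm]
      abel
  inv_mem' := fun {g} hg => by
    obtain ⟨hg1, hg2, ⟨σ, hσ, eσ⟩, A, hA⟩ := hg
    have h1 : QFormal (g⁻¹).1 := by
      simp [QFormal, slv_inv, Matrix.adjugate_fin_two, hg1.1, hg1.2]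
    have hinv : g.1 * (g⁻¹).1 = 1 := by
      rw [← slv_mul, mul_inv_cancel, slv_one]
    have hinv' : (g⁻¹).1 * g.1 = 1 := by
      rw [← slv_mul, inv_mul_cancel, slv_one]
    refine ⟨h1, ?_, ⟨σ⁻¹, inv_mem hσ, ?_⟩, -(qpsi (g⁻¹).1 * A), ?_⟩
    · simp [slv_inv, Matrix.adjugate_fin_two, hg1.2, hg2]
    · refine Units.inv_eq_of_mul_eq_one_right ?_
      rw [eσ, ← qphi_mul hx hy hg1 h1, hinv, qphi_one]
    · have e := qpsi_mul h1 hg1
      rw [hinv', qpsi_one, hA, mul_add, mul_one, mul_smul_comm] at e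
      rw [smul_neg, ← sub_eq_add_neg]
      exact eq_sub_of_add_eq e.symm

lemma mem_qgam_one {hx : x * x = 0} {hy : y * y = 0} {g : SpecialLinearGroup (Fin 2) k[X]}
    (h1 : QFormal g.1) (h2 : (g.1 0 0).coeff 0 = 1) {σ : GLkM} (hσ : σ ∈ G)
    (e : (σ : Module.End k M) = qphi x y g.1) : g ∈ qgam G hx hy 1 := by
  refine ⟨h1, h2, ⟨σ, hσ, e⟩, !![(expand k 2 (g.1 0 0)).divX, expand k 2 (g.1 0 1);
    expand k 2 (g.1 1 0).divX, (expand k 2 (g.1 1 1)).divX], ?_⟩
  have hd : ∀ p : k[X], p.coeff 0 = 1 → expand k 2 p = 1 + X * (expand k 2 p).divX := by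
    intro p hp
    conv_lhs => rw [← X_mul_divX_add (expand k 2 p)]
    rw [show (expand k 2 p).coeff 0 = 1 by
      rw [coeff_expand (by norm_num)]; simp [hp], C_1, add_comm]
  have h00 := hd _ h2
  have h11 := hd _ (h1.2.trans h2)
  ext i j : 1
  fin_cases i <;> fin_cases j <;> simp [qpsi, Matrix.one_apply]
  · exact h00
  · exact h11

lemma qgam_commutator (hx : x * x = 0) (hy : y * y = 0) (i : ℕ) :
    ⁅qgam G hx hy i, qgam G hx hy 1⁆ ≤ qgam G hx hy (i + 1) := by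
  refine Subgroup.commutator_le.2 fun g hg h hh => ?_
  have hgh : g * h * (h * g)⁻¹ = ⁅g, h⁆ := by rw [commutatorElement_def]; group
  obtain ⟨hg1, hg2, ⟨σ, hσ, eσ⟩, A, hA⟩ := hg
  obtain ⟨hh1, hh2, ⟨τ, hτ, eτ⟩, B, hB⟩ := hh
  have hf : ∀ {a : SpecialLinearGroup (Fin 2) k[X]}, QFormal a.1 → QFormal (a⁻¹).1 := fun ha => by
    simp [QFormal, slv_inv, Matrix.adjugate_fin_two, ha.1, ha.2]
  obtain ⟨m1, n1⟩ := qformal_mul hg1 hh1
  obtain ⟨m2, n2⟩ := qformal_mul hh1 hg1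
  have m2' : QFormal ((h * g)⁻¹).1 := hf (by rw [slv_mul]; exact m2)
  have hmem : ⁅g, h⁆ ∈ qgam G hx hy 0 := by
    have a : ∀ {u : SpecialLinearGroup (Fin 2) k[X]}, QFormal u.1 → (u.1 0 0).coeff 0 = 1 →
        ∀ {ρ : GLkM}, ρ ∈ G → (ρ : Module.End k M) = qphi x y u.1 → u ∈ qgam G hx hy 0 :=
      fun {u} h1 h2 {ρ} hρ e => ⟨h1, h2, ⟨ρ, hρ, e⟩, qpsi u.1 - 1, by
        rw [pow_zero, one_smul, add_sub_cancel]⟩
    rw [commutatorElement_def]
    exact mul_mem (mul_mem (mul_mem (a hg1 hg2 hσ eσ) (a hh1 hh2 hτ eτ))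
      (inv_mem (a hg1 hg2 hσ eσ))) (inv_mem (a hh1 hh2 hτ eτ))
  refine ⟨hmem.1, hmem.2.1, hmem.2.2.1, (A * B - B * A) * qpsi ((h * g)⁻¹).1, ?_⟩
  rw [← hgh]
  simp only [slv_mul (g * h)]
  rw [qpsi_mul (by rw [slv_mul]; exact m1) m2', slv_mul,
    qpsi_mul hg1 hh1]
  have e : qpsi g.1 * qpsi h.1 = qpsi h.1 * qpsi g.1 + (X : k[X]) ^ (i + 1) • (A * B - B * A) := by
    rw [hA, hB, pow_one, pow_succ]
    simp only [mul_add, add_mul, one_mul, mul_one, smul_sub, smul_add, smul_mul_assoc, mul_smul_comm,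
      smul_smul, mul_comm (X : k[X]) (X ^ i)]
    abel
  rw [e, add_mul, smul_mul_assoc, ← qpsi_mul hh1 hg1, ← qpsi_mul m2 m2',
    ← slv_mul h g, ← slv_mul, mul_inv_cancel,
    slv_one, qpsi_one]

lemma qgam_le_one {hx : x * x = 0} {hy : y * y = 0} {i : ℕ} {g : SpecialLinearGroup (Fin 2) k[X]}
    (hg : g ∈ qgam G hx hy i) : g ∈ qgam G hx hy 1 := by
  obtain ⟨h1, h2, ⟨σ, hσ, e⟩, -⟩ := hg
  exact mem_qgam_one h1 h2 hσ e

lemma qgam_dvd {hx : x * x = 0} {hy : y * y = 0} {m : ℕ} {g : SpecialLinearGroup (Fin 2) k[X]}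
    (hg : g ∈ qgam G hx hy (2 * m)) : (X : k[X]) ^ m ∣ g.1 1 0 := by
  obtain ⟨h1, -, -, A, hA⟩ := hg
  have e := congrFun (congrFun hA 1) 0
  simp only [qpsi, Matrix.of_apply, Matrix.cons_val', Matrix.cons_val_zero, Matrix.cons_val_one,
    Matrix.add_apply, Matrix.smul_apply, smul_eq_mul, Matrix.one_apply_ne (by decide : (1 : Fin 2) ≠ 0),
    zero_add] at e
  rw [X_pow_dvd_iff]
  intro d hd
  rcases d with - | d
  · exact h1.1
  have := congrArg (fun p => p.coeff (2 * d + 1)) e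
  simp only [coeff_X_mul, coeff_X_pow_mul', if_neg (show ¬ 2 * m ≤ 2 * d + 1 by omega)] at this
  rw [mul_comm 2 d, coeff_expand_mul (by norm_num), coeff_divX] at this
  exact this

end CfsgLib.RootSub
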