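/-
Annihilating polynomials of a pair of quadratic maps; the nilpotent case.
-/
import Cfsg.Agent.Lib.RootSub.QPBasic
import Cfsg.Agent.Lib.RootSub.QPFormal

set_option autoImplicit false

namespace CfsgLib.RootSub

open Polynomial Matrix
open scoped commutatorElement

universe u

variable {k : Type u} [Field k]

variable {M : Type u} [AddCommGroup M] [Module k M]
variable {G : Subgroup (LinearMap.GeneralLinearGroup k M)} {x y : Module.End k M}

local notation "GLkM" => LinearMap.GeneralLinearGroup k M

variable [FiniteDimensional k M]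

lemma qp_exists_annPoly (x y : Module.End k M) :
    ∃ f : k[X], f.Monic ∧ ∀ q, aeval (x * y) q * x = 0 ↔ f ∣ q := by
  classical
  let I : Ideal k[X] := {
    carrier := {q | aeval (x * y) q * x = 0}
    zero_mem' := by simp
    add_mem' := fun {a b} ha hb => by
      simp only [Set.mem_setOf_eq, map_add, add_mul] at ha hb ⊢
      rw [ha, hb, add_zero]
    smul_mem' := fun c {a} ha => by
      simp only [Set.mem_setOf_eq, smul_eq_mul, map_mul] at ha ⊢
      rw [mul_assoc, ha, mul_zero] }
  have hI : minpoly k (x * y) ∈ I := by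
    show aeval (x * y) (minpoly k (x * y)) * x = 0
    rw [minpoly.aeval, zero_mul]
  let g := Submodule.IsPrincipal.generator I
  have hg0 : g ≠ 0 := fun h => by
    have := (Submodule.IsPrincipal.mem_iff_generator_dvd I).1 hI
    rw [show Submodule.IsPrincipal.generator I = 0 from h, zero_dvd_iff] at this
    exact minpoly.ne_zero (IsIntegral.of_finite k _) this
  refine ⟨normalize g, monic_normalize hg0, fun q => ?_⟩
  rw [normalize_dvd_iff]
  exact Submodule.IsPrincipal.mem_iff_generator_dvd I

lemma qp_coprime_or_dvd (hx : QMin G x) {f q : k[X]}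
    (hf : ∀ q, aeval (x * y) q * x = 0 ↔ f ∣ q) (hq : QFam G (aeval (x * y) q * x))
    {p : k[X]} (hp : Irreducible p) (hpf : p ∣ f) (hpq : p ∣ q) : f ∣ q := by
  by_contra hnd
  have hu : aeval (x * y) q * x ∈ qcls G x hx.sq := by
    refine ⟨hq, ?_, ?_⟩
    · rintro _ ⟨m, rfl⟩
      rw [qp_swap_right]
      exact LinearMap.mem_range_self x _
    · intro m hm
      rw [LinearMap.mem_ker, Module.End.mul_apply, LinearMap.mem_ker.1 hm, map_zero]
  obtain ⟨-, hk⟩ := qcls_range_ker hx hu (fun h => hnd ((hf q).1 h))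
  obtain ⟨h, rfl⟩ := hpf
  have hh : ¬ (p * h ∣ h) := by
    intro hd
    by_cases hh0 : h = 0
    · have h0 := (hf 0).2 (dvd_zero _)
      subst hh0
      exact hnd ((hf q).1 (by
        have := minpoly.aeval k (x * y)
        have h1 := (hf (minpoly k (x * y))).1 (by rw [this, zero_mul])
        rw [mul_zero, zero_dvd_iff] at h1
        exact absurd h1 (minpoly.ne_zero (IsIntegral.of_finite k _))))
    · have : p * h ∣ 1 * h := by rwa [one_mul]
      exact hp.not_isUnit (isUnit_of_dvd_one ((mul_dvd_mul_iff_right hh0).1 this))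
  refine hh ((hf h).1 ?_)
  refine LinearMap.ext fun m => ?_
  have hm : aeval (y * x) h m ∈ LinearMap.ker (aeval (x * y) q * x) := by
    rw [LinearMap.mem_ker, ← Module.End.mul_apply, mul_assoc, ← qp_swap_right, ← mul_assoc,
      ← map_mul, (hf (q * h)).2 (mul_dvd_mul_right hpq h)]
    rfl
  rw [hk, LinearMap.mem_ker] at hm
  rw [qp_swap_right, Module.End.mul_apply, hm, LinearMap.zero_apply]

/-- Nilpotent case. -/
lemma qp_nilpotent (hk2 : (2 : k) ≠ 0) : ∀ (m : ℕ) (x y : Module.End k M), QMin G x →
    y * y = 0 → QFam G y → (x * y) ^ m * x = 0 → x * y * x = 0 := by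
  intro m
  induction m using Nat.strong_induction_on with
  | _ m ih =>
  intro x y hx hyy hy hm
  obtain ⟨σ, hσ, eσ⟩ := hy.exists_mem
  have hxx := hx.sq
  have hpow : ∀ n, m ≤ n → (x * y) ^ n * x = 0 := fun n hn => by
    obtain ⟨j, rfl⟩ := Nat.exists_eq_add_of_le hn
    rw [add_comm, pow_add, mul_assoc, hm, mul_zero]
  rcases Nat.lt_or_ge m 3 with h3 | h3
  · have h2 : (x * y) ^ 2 * x = 0 := hpow 2 (by omega)
    rcases Nat.lt_or_ge m 2 with h | h
    · simpa using hpow 1 (by omega)
    clear ih hm hpow h h3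
    obtain ⟨P, hP⟩ : ∃ P, P = x * y := ⟨_, rfl⟩
    obtain ⟨Q, hQ⟩ : ∃ Q, Q = y * x := ⟨_, rfl⟩
    have key : ∀ d : k, QFam G ((2 * d) • (x * y * x) - (d * d) • (P * P - Q * Q)) := by
      intro d
      obtain ⟨τ, hτ, eτ⟩ := hy d
      obtain ⟨z, hz⟩ : ∃ z, z = qconj τ x := ⟨_, rfl⟩
      have hzz : z * z = 0 := hz ▸ qconj_sq hxx τ
      have hdd : (d • y) * (d • y) = 0 := by rw [smul_mul_smul_comm, hyy, smul_zero]
      have ez : z = x + d • (y * x) - d • (x * y) - (d * d) • (y * x * y) := by
        rw [hz, qconj, (qmove_units_one_add eτ).1, (qmove_units_one_add eτ).2 hdd]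
        simp only [add_mul, mul_sub, one_mul, mul_one, smul_mul_assoc, mul_smul_comm, mul_assoc,
          smul_sub, smul_add, smul_smul]
        abel
      have hxzx : x * z * x = 0 := by
        rw [ez]
        simp only [mul_add, mul_sub, add_mul, sub_mul, mul_smul_comm, smul_mul_assoc]
        rw [hxx, zero_mul, ← mul_assoc x x y, hxx, zero_mul, zero_mul]
        have e1 : x * (y * x) * x = 0 := by rw [mul_assoc, mul_assoc y, hxx, mul_zero, mul_zero]
        have e2 : x * (y * x * y) * x = 0 := by rw [pow_two] at h2; rw [← h2]; simp only [mul_assoc]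
        rw [e1, e2]
        simp
      have hzxz : z * x * z = 0 := by
        have h' : x * qconj τ⁻¹ x * x = 0 := by
          rw [qconj, inv_inv, (qmove_units_one_add eτ).1, (qmove_units_one_add eτ).2 hdd]
          simp only [sub_mul, mul_sub, mul_add, add_mul, one_mul, mul_one, mul_smul_comm,
            smul_mul_assoc]
          rw [hxx, zero_mul, ← mul_assoc x x y, hxx, zero_mul, zero_mul]
          have e1 : x * (y * x) * x = 0 := by rw [mul_assoc, mul_assoc y, hxx, mul_zero, mul_zero]
          have e2 : x * (y * x * y) * x = 0 := by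
            rw [pow_two] at h2; rw [← h2]; simp only [mul_assoc]
          rw [e1, e2]
          simp
        have h'' := congrArg (qconj τ) h'
        rwa [qconj_zero, ← qconj_mul, ← qconj_mul, qconj_qconj, mul_inv_cancel, qconj_one, ← hz] at h''
      have hfam := QFam.comm hxx hzz hxzx hzxz hx.fam (hz ▸ hx.fam.conj hτ)
      refine (congrArg (QFam G) ?_).mp hfam
      rw [ez, hP, hQ]
      simp only [mul_add, mul_sub, add_mul, sub_mul, mul_smul_comm, smul_mul_assoc, mul_assoc,
        hxx, mul_zero, smul_zero, sub_zero, add_zero, smul_sub]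
      simp only [← mul_assoc, hxx, zero_mul, smul_zero, sub_zero, add_zero, zero_sub]
      rw [show (2 : k) * d = d + d by ring, add_smul]
      abel
    have k1 := key 1
    have k2 := (key (-1)).neg
    simp only [mul_one, one_smul, mul_neg, neg_neg, one_mul, neg_sub, neg_smul, sub_neg_eq_add] at k1 k2
    obtain ⟨W, hW⟩ : ∃ W, W = P * P - Q * Q := ⟨_, rfl⟩
    rw [← hW] at k1 k2
    have hp2 : P * P * x = 0 := by rw [hP, ← pow_two]; exact h2
    have a1 : x * y * x * (x * y * x) = 0 := by
      rw [mul_assoc (x * y) x, ← mul_assoc x (x * y), ← mul_assoc x x, hxx]; simp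
    have a2 : x * y * x * W = 0 := by
      have e1 : x * y * x * (P * P) = 0 := by
        rw [hP, mul_assoc (x * y), ← mul_assoc x (x * y) (x * y), ← mul_assoc x x, hxx]; simp
      have e2 : x * y * x * (Q * Q) = P * (P * P * x) := by rw [hP, hQ]; simp only [mul_assoc]
      rw [hW, mul_sub, e1, e2, hp2, mul_zero, sub_zero]
    have a3 : W * (x * y * x) = 0 := by
      have e1 : P * P * (x * y * x) = P * (P * P * x) := by rw [hP]; simp only [mul_assoc]
      have e2 : Q * Q * (x * y * x) = 0 := by
        rw [hQ, mul_assoc (y * x), mul_assoc y x (x * y * x), ← mul_assoc x (x * y), ← mul_assoc x x, hxx]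
        simp
      rw [hW, sub_mul, e1, e2, hp2, mul_zero, sub_zero]
    have a4 : W * W = 0 := by
      have e1 : P * P * (P * P) = P * (P * P * x) * y := by rw [hP]; simp only [mul_assoc]
      have e2 : Q * Q * (Q * Q) = y * (P * P * x) * (Q) := by rw [hP, hQ]; simp only [mul_assoc]
      have e3 : P * P * (Q * Q) = 0 := by
        rw [hP, hQ, mul_assoc (x * y), mul_assoc x y (y * x * (y * x)), ← mul_assoc y (y * x),
          ← mul_assoc y y, hyy]; simp
      have e4 : Q * Q * (P * P) = 0 := by
        rw [hP, hQ, mul_assoc (y * x), mul_assoc y x (x * y * (x * y)), ← mul_assoc x (x * y),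
          ← mul_assoc x x, hxx]; simp
      rw [hW, sub_mul, mul_sub, mul_sub, e1, e2, e3, e4, hp2]
      simp
    have hsum := QFam.add ?_ k1 k2
    · have e4 : (2 : k) • (x * y * x) - W + ((2 : k) • (x * y * x) + W) = (4 : k) • (x * y * x) := by
        rw [show (4 : k) = 2 + 2 by norm_num, add_smul]; abel
      have h4 : (4 : k) ≠ 0 := by rw [show (4 : k) = 2 * 2 by norm_num]; exact mul_ne_zero hk2 hk2
      have hfam := hsum.smul ((4 : k)⁻¹)
      rw [show ((2 : k) • (x * y * x) - W + (W + (2 : k) • (x * y * x))) = (4 : k) • (x * y * x) by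
        rw [← e4]; abel, smul_smul, inv_mul_cancel₀ h4, one_smul] at hfam
      refine hx.eq_zero_of_lt a1 hfam ?_
      have hle : LinearMap.range (x * y * x) ≤ (LinearMap.range x).map (x * y) := by
        rintro _ ⟨n, rfl⟩; exact ⟨x n, LinearMap.mem_range_self x n, rfl⟩
      by_contra hnlt
      push Not at hnlt
      have hsub : LinearMap.range (x * y * x) = LinearMap.range x :=
        Submodule.eq_of_le_of_finrank_le (by rintro _ ⟨n, rfl⟩; exact LinearMap.mem_range_self x _) hnlt
      refine hx.ne (LinearMap.ext fun n => ?_)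
      obtain ⟨n1, e1⟩ := hsub ▸ LinearMap.mem_range_self x n
      obtain ⟨n2, e2⟩ := hsub ▸ LinearMap.mem_range_self x n1
      have := LinearMap.congr_fun h2 n2
      rw [pow_two] at this
      simp only [Module.End.mul_apply, LinearMap.zero_apply] at this e1 e2 ⊢
      rw [← e1, ← e2]
      exact this
    · simp only [mul_add, sub_mul, mul_smul_comm, smul_mul_assoc, a1, a2, a3, a4, smul_zero]
      simp
  · obtain ⟨z, hz⟩ : ∃ z, z = qconj σ x := ⟨_, rfl⟩
    have hzz : z * z = 0 := hz ▸ qconj_sq hxx σ
    have hzf : QFam G z := hz ▸ hx.fam.conj hσ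
    have ez : z = x + y * x - x * y - y * x * y := by
      rw [hz, qconj, (qmove_units_one_add eσ).1, (qmove_units_one_add eσ).2 hyy]
      noncomm_ring
    have hxzx : x * z * x = -((x * y) ^ 2 * x) := by
      rw [ez, pow_two]
      have e : x * (x + y * x - x * y - y * x * y) * x = x * x * x + x * y * (x * x)
          - x * x * y * x - x * y * x * y * x := by noncomm_ring
      rw [e, hxx]
      simp [mul_assoc]
    have hind : ∀ j, (x * z) ^ j * x = (-1 : k) ^ j • ((x * y) ^ (2 * j) * x) := by
      intro j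
      induction j with
      | zero => simp
      | succ j ihj =>
        have hsw : (x * y) ^ (2 * j) * x = x * (y * x) ^ (2 * j) := by
          simpa using qp_swap_right (x := x) (y := y) ((X : k[X]) ^ (2 * j))
        rw [pow_succ', mul_assoc, ihj, mul_smul_comm, hsw, ← mul_assoc, hxzx, neg_mul, mul_assoc,
          ← hsw, ← mul_assoc, ← pow_add, show 2 + 2 * j = 2 * (j + 1) by ring, pow_succ' (-1 : k),
          neg_one_mul, neg_smul, smul_neg]
    have h1 : x * z * x = 0 := ih (m / 2 + 1) (by omega) x z hx hzz hzf (by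
      rw [hind, hpow _ (by omega), smul_zero])
    rw [hxzx, neg_eq_zero] at h1
    exact ih 2 (by omega) x y hx hyy hy h1

end CfsgLib.RootSub
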