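/-
For a minimal quadratic element and any quadratic element the annihilating polynomial of their
product on the commutator space is irreducible.
-/
import Cfsg.Agent.Lib.RootSub.QPCongruence
import Cfsg.Agent.Lib.RootSub.QPNilpotent

set_option autoImplicit false

namespace CfsgLib.RootSub

open Polynomial Matrix
open scoped commutatorElement

universe u

variable {k : Type u} [Field k]

variable {M : Type u} [AddCommGroup M] [Module k M]
variable {G : Subgroup (LinearMap.GeneralLinearGroup k M)} {x y : Module.End k M}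

local notation "GLkM" => LinearMap.GeneralLinearGroup k M

variable [FiniteDimensional k M]

/-- The dichotomy. -/
theorem qp_main (hk2 : (2 : k) ≠ 0) (hk3 : Nat.card k ≠ 3) : ∀ (x y : Module.End k M),
    QMin G x → y * y = 0 → QFam G y → ∀ f : k[X], f.Monic →
      (∀ q : k[X], aeval (x * y) q * x = 0 ↔ f ∣ q) →
      Irreducible f ∧ ∀ q : k[X], QFam G (aeval (x * y) q * x) := by
  classical
  obtain ⟨N, hN⟩ : ∃ N, N = Module.finrank k M + 1 := ⟨_, rfl⟩
  suffices H : ∀ (μ : ℕ) (x y : Module.End k M), qrk ((x * y) ^ N * x) = μ →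
      QMin G x → y * y = 0 → QFam G y → ∀ f : k[X], f.Monic →
      (∀ q : k[X], aeval (x * y) q * x = 0 ↔ f ∣ q) →
      Irreducible f ∧ ∀ q : k[X], QFam G (aeval (x * y) q * x) from
    fun x y => H _ x y rfl
  intro μ
  induction μ using Nat.strong_induction_on with
  | _ μ ih =>
  intro x y hμ hx hyy hy f hfm hf
  have hxx := hx.sq
  have hR1 : QFam G (aeval (x * y) (1 : k[X]) * x) := by simpa using hx.fam
  have hRf : ∀ q, f ∣ q → QFam G (aeval (x * y) q * x) := fun q hq => by
    rw [(hf q).2 hq]; exact qfam_zero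
  have hRadd : ∀ q r : k[X], QFam G (aeval (x * y) q * x) → QFam G (aeval (x * y) r * x) →
      QFam G (aeval (x * y) (q + r) * x) := fun q r hq hr => by
    rw [map_add, add_mul]
    refine QFam.add ?_ hq hr
    rw [qp_swap_right r, mul_assoc, ← mul_assoc x x, hxx]
    simp
  have hRsmul : ∀ (c : k) (q : k[X]), QFam G (aeval (x * y) q * x) →
      QFam G (aeval (x * y) (C c * q) * x) := fun c q hq => by
    rw [← smul_eq_C_mul, map_smul, smul_mul_assoc]; exact hq.smul c
  have hf1ne : ¬ IsUnit f := fun h => hx.ne (by simpa using (hf 1).2 (h.dvd))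
  by_cases hnil : ∀ p : k[X], p.Monic → Irreducible p → p ∣ f → p = X
  · -- `f` is a power of `X`
    have hfX : ∃ m, f ∣ X ^ m := by
      refine ⟨(UniqueFactorizationMonoid.normalizedFactors f).card, ?_⟩
      have he := UniqueFactorizationMonoid.prod_normalizedFactors hfm.ne_zero
      have hall : ∀ p ∈ UniqueFactorizationMonoid.normalizedFactors f, p = X := fun p hp => by
        have hirr := UniqueFactorizationMonoid.irreducible_of_normalized_factor p hp
        refine hnil p ?_ hirr (UniqueFactorizationMonoid.dvd_of_mem_normalizedFactors hp)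
        rw [← UniqueFactorizationMonoid.normalize_normalized_factor p hp]
        exact monic_normalize hirr.ne_zero
      rw [← Multiset.prod_replicate, ← Multiset.eq_replicate_card.2 hall]
      exact he.symm.dvd
    obtain ⟨m, hm⟩ := hfX
    have hPx := qp_nilpotent hk2 m x y hx hyy hy (by simpa using (hf _).2 hm)
    have hfd : f ∣ X := (hf X).1 (by rwa [aeval_X])
    have hirr : Irreducible f := by
      rcases (irreducible_X (R := k)).dvd_iff.1 hfd with h | h
      · exact absurd h hf1ne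
      · exact h.irreducible irreducible_X
    refine ⟨hirr, fun q => ?_⟩
    rw [← X_mul_divX_add q]
    refine hRadd _ _ (hRf _ (hfd.mul_right _)) ?_
    simpa using hRsmul (q.coeff 0) 1 hR1
  push Not at hnil
  obtain ⟨f1, hf1m, hf1, hf1f, hf1X⟩ := hnil
  haveI : Fact (Irreducible f1) := ⟨hf1⟩
  obtain ⟨N', hN'⟩ : ∃ n, N = n + 1 := ⟨_, hN⟩
  have hcop : IsCoprime f1 X := (hf1.coprime_iff_not_dvd).2 fun h => hf1X (by
    exact eq_of_monic_of_associated hf1m monic_X
      ((hf1.dvd_irreducible_iff_associated irreducible_X).1 h))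
  let Γ := qgam G hxx hyy
  let π : SpecialLinearGroup (Fin 2) k[X] →* SpecialLinearGroup (Fin 2) (AdjoinRoot f1) :=
    Matrix.SpecialLinearGroup.map (AdjoinRoot.mk f1)
  have hπ : ∀ (g : SpecialLinearGroup (Fin 2) k[X]) i j, (π g).1 i j = AdjoinRoot.mk f1 (g.1 i j) :=
    fun g i j => rfl
  have hUmem : ∀ q : k[X], QFam G (aeval (x * y) q * x) → slU' q ∈ Γ 1 := fun q hq => by
    obtain ⟨σ, hσ, e⟩ := hq.exists_mem
    refine mem_qgam_one (σ := σ) ?_ ?_ hσ ?_ <;> simp [slU', QFormal, qphi_upper]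
    rw [(qmove_units_one_add e).1]
  have hLmem : ∀ r : k, slL' (C r * X) ∈ Γ 1 := fun r => by
    obtain ⟨σ, hσ, e⟩ := hy r
    refine mem_qgam_one (σ := σ) ?_ ?_ hσ ?_ <;> simp [slL', QFormal, qphi_lower]
    rw [(qmove_units_one_add e).1]
  have hroot : AdjoinRoot.root f1 ≠ 0 := fun h => by
    rw [← AdjoinRoot.mk_X, AdjoinRoot.mk_eq_zero] at h
    exact hf1X (eq_of_monic_of_associated hf1m monic_X
      ((hf1.dvd_irreducible_iff_associated irreducible_X).1 h))
  have hsurj : (Γ 1).map π = ⊤ := by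
    refine sl2_gen_simple hk2 hk3 (AdjoinRoot.powerBasis hf1.ne_zero)
      (by rwa [AdjoinRoot.powerBasis_gen]) (fun c => ?_) (fun c => ?_)
    · refine ⟨slU' (C c), hUmem _ (by simpa using hRsmul c 1 hR1), ?_⟩
      apply Subtype.ext
      show (slU' (C c)).1.map (AdjoinRoot.mk f1) = _
      ext i j
      fin_cases i <;> fin_cases j <;> simp [slU', slU_val, AdjoinRoot.algebraMap_eq]
    · refine ⟨slL' (C c * X), hLmem c, ?_⟩
      apply Subtype.ext
      show (slL' (C c * X)).1.map (AdjoinRoot.mk f1) = _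
      ext i j
      fin_cases i <;> fin_cases j <;> simp [slL', slL_val, AdjoinRoot.algebraMap_eq]
  obtain ⟨t, ht0, ht1⟩ := qp_exists_sq_ne_one hk2 hk3
  have hperf : commutator (SpecialLinearGroup (Fin 2) (AdjoinRoot f1)) = ⊤ := by
    refine CfsgLib.Linear.commutator_SL_eq_top (Or.inr ⟨algebraMap k _ t, ?_, ?_⟩)
    · exact (_root_.map_ne_zero _).2 ht0
    · rw [← map_pow, ← map_one (algebraMap k (AdjoinRoot f1))]
      exact fun h => ht1 ((algebraMap k _).injective h)
  have hlevel : ∀ i, (Γ (i + 1)).map π = ⊤ := by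
    intro i
    induction i with
    | zero => exact hsurj
    | succ i ihi =>
      rw [eq_top_iff, ← hperf, commutator_def]
      calc ⁅(⊤ : Subgroup (SpecialLinearGroup (Fin 2) (AdjoinRoot f1))), ⊤⁆
          = ⁅(Γ (i + 1)).map π, (Γ 1).map π⁆ := by rw [ihi, hsurj]
        _ = ⁅Γ (i + 1), Γ 1⁆.map π := (Subgroup.map_commutator _ _ _).symm
        _ ≤ _ := Subgroup.map_mono (qgam_commutator hxx hyy (i + 1))
  -- the conjugates of root elements
  have hconj : ∀ {g : SpecialLinearGroup (Fin 2) k[X]}, g ∈ Γ 1 → ∀ q : k[X],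
      QFam G (aeval (x * y) q * x) → ∃ z : Module.End k M, QFam G z ∧ z * z = 0 ∧
        z = qphi x y !![-(g.1 0 0 * q * g.1 1 0), g.1 0 0 * q * g.1 0 0;
          -(g.1 1 0 * q * g.1 1 0), g.1 1 0 * q * g.1 0 0] := by
    intro g hg q hq
    obtain ⟨h1, h2, ⟨σ, hσ, e⟩, -⟩ := hg
    have hsq : (aeval (x * y) q * x) * (aeval (x * y) q * x) = 0 := by
      rw [mul_assoc, ← mul_assoc x, qp_left hxx, mul_zero]
    refine ⟨qconj σ (aeval (x * y) q * x), hq.conj hσ, qconj_sq hsq σ, ?_⟩
    obtain ⟨hi1, -, ⟨σ', -, e'⟩, -⟩ := inv_mem (show g ∈ Γ 1 from ⟨h1, h2, ⟨σ, hσ, e⟩,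
      (qgam_le_one (i := 0) (hx := hxx) (hy := hyy) (G := G)
        ⟨h1, h2, ⟨σ, hσ, e⟩, qpsi g.1 - 1, by simp⟩).2.2.2⟩)
    have es : σ' = σ⁻¹ := by
      refine eq_inv_of_mul_eq_one_left (Units.ext ?_)
      rw [Units.val_mul, e, e', ← qphi_mul hxx hyy hi1 h1, ← slv_mul,
        inv_mul_cancel, slv_one, qphi_one, Units.val_one]
    have hE : QFormal !![(0 : k[X]), q; 0, 0] := by simp [QFormal]
    have ephi : qphi x y !![(0 : k[X]), q; 0, 0] = aeval (x * y) q * x := by simp [qphi, qp5]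
    rw [qconj, e, ← es, e', ← ephi, ← qphi_mul hxx hyy h1 hE,
      ← qphi_mul hxx hyy (qformal_mul h1 hE).1 hi1]
    congr 1
    ext i j : 1
    fin_cases i <;> fin_cases j <;>
      simp [Matrix.mul_apply, Fin.sum_univ_two, slv_inv, Matrix.adjugate_fin_two] <;> ring
  have hdet : ∀ g : SpecialLinearGroup (Fin 2) k[X],
      g.1 0 0 * g.1 1 1 - g.1 0 1 * g.1 1 0 = 1 := fun g => by
    have := g.2
    rwa [Matrix.det_fin_two] at this
  -- stretching of multipliers
  have hsq : ∀ {g : SpecialLinearGroup (Fin 2) k[X]}, g ∈ Γ 1 → X * f ∣ g.1 1 0 → ∀ r : k[X],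
      QFam G (aeval (x * y) r * x) → QFam G (aeval (x * y) (g.1 0 0 * g.1 0 0 * r) * x) := by
    intro g hg hd r hr
    obtain ⟨z, hz, -, ez⟩ := hconj hg r hr
    refine (congrArg (QFam G) ?_).mp hz
    obtain ⟨a, ha⟩ : ∃ a, a = g.1 0 0 := ⟨_, rfl⟩
    obtain ⟨c, hc⟩ : ∃ c, c = g.1 1 0 := ⟨_, rfl⟩
    rw [ez, ← ha, ← hc]
    rw [← hc] at hd
    have e : !![-(a * r * c), a * r * a; -(c * r * c), c * r * a] =
        !![-(a * r * c), 0; -(c * r * c), c * r * a] + !![(0 : k[X]), a * a * r; 0, 0] := by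
      ext i j : 1
      fin_cases i <;> fin_cases j <;> simp [mul_comm, mul_left_comm]
    rw [e, qphi_add, qphi_eq_zero ((hf f).2 dvd_rfl), zero_add]
    · simp [qphi, qp5]
    · simpa using hd.mul_left (a * r)
    · simp
    · have : X * (X * f) ∣ c * c := mul_dvd_mul ((dvd_mul_right X f).trans hd) hd
      simpa [mul_assoc, mul_comm, mul_left_comm] using this.mul_right r
    · simpa [mul_assoc] using hd.mul_right (r * a)
  obtain ⟨n, f', hf'eq, hf'X⟩ : ∃ (n : ℕ) (f' : k[X]), f = X ^ n * f' ∧ ¬ X ∣ f' := by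
    obtain ⟨f', e, h⟩ := exists_eq_pow_rootMultiplicity_mul_and_not_dvd f hfm.ne_zero 0
    exact ⟨_, f', by simpa using e, by simpa using h⟩
  have hlift : ∀ q, f ∣ q → X ^ (n + 2) ∣ q → X * (X * f) ∣ q := fun q h1 h2 => by
    have hc : IsCoprime (X ^ (n + 2) : k[X]) f' :=
      ((irreducible_X (R := k)).coprime_iff_not_dvd.2 hf'X).pow_left
    have := hc.mul_dvd h2 (dvd_trans (hf'eq ▸ dvd_mul_left f' (X ^ n)) h1)
    rwa [show X * (X * f) = X ^ (n + 2) * f' by rw [hf'eq]; ring]
  -- the key step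
  have hstep : ∀ {g : SpecialLinearGroup (Fin 2) k[X]}, g ∈ Γ 1 → f1 ∣ g.1 1 0 →
      X ^ (n + 2) ∣ g.1 1 0 * g.1 1 0 → f ∣ g.1 1 0 := by
    intro g hg hc1 hX2
    obtain ⟨z, hzf, hzz, ez⟩ := hconj hg 1 hR1
    obtain ⟨a, ha⟩ : ∃ a, a = g.1 0 0 := ⟨_, rfl⟩
    obtain ⟨c, hc⟩ : ∃ c, c = g.1 1 0 := ⟨_, rfl⟩
    have hc0 : c.coeff 0 = 0 := hc ▸ hg.1.1
    rw [← hc] at hc1 hX2 ⊢
    simp only [mul_one, ← ha, ← hc] at ez
    obtain ⟨E, hE⟩ : ∃ E, E = !![(0 : k[X]), 1; 0, 0] := ⟨_, rfl⟩
    obtain ⟨Z, hZ⟩ : ∃ Z, Z = !![-(a * c), a * a; -(c * c), c * a] := ⟨_, rfl⟩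
    rw [← hZ] at ez
    have hEf : QFormal E := by simp [hE, QFormal]
    have hEx : qphi x y E = x := by simp [hE, qphi, qp5]
    have hZf : QFormal Z := by simp [hZ, QFormal, mul_coeff_zero, hc0]
    have hxzx : x * z * x = aeval (x * y) (-(c * c)) * x := by
      have e : E * Z * E = !![(0 : k[X]), -(c * c); 0, 0] := by
        ext i j : 1
        fin_cases i <;> fin_cases j <;> simp [hE, hZ, Matrix.mul_apply, Fin.sum_univ_two]
      rw [← hEx, ez, ← qphi_mul hxx hyy hEf hZf, ← qphi_mul hxx hyy (qformal_mul hEf hZf).1 hEf, e,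
        hEx]
      simp [qphi, qp5]
    have hzxz : z * x * z = qphi x y (Z * E * Z) := by
      rw [ez, qphi_mul hxx hyy (qformal_mul hZf hEf).1 hZf, qphi_mul hxx hyy hZf hEf, hEx]
    have hcomp : ∀ q : k[X], aeval (x * z) q * x = aeval (x * y) (q.comp (-(c * c))) * x := by
      intro q
      induction q using Polynomial.induction_on' with
      | add p q hp hq => rw [map_add, add_comp, map_add, add_mul, add_mul, hp, hq]
      | monomial i r =>
        rw [monomial_comp, map_mul, aeval_C, aeval_monomial, map_pow, mul_assoc, mul_assoc]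
        congr 1
        induction i with
        | zero => simp
        | succ i ihi =>
          have hsw := qp_swap_right (x := x) (y := y) ((-(c * c)) ^ i)
          rw [map_pow] at hsw
          rw [pow_succ' (x * z), mul_assoc, ihi, hsw, ← mul_assoc, hxzx, mul_assoc, ← hsw,
            ← mul_assoc, ← pow_succ']
    by_cases hcc : f ∣ c * c
    · have hcc' := hlift _ hcc hX2
      have h1 : x * z * x = 0 := by rw [hxzx]; exact (hf _).2 hcc.neg_right
      have h2 : z * x * z = 0 := by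
        rw [hzxz]
        refine qphi_eq_zero ((hf f).2 dvd_rfl) ?_ ?_ ?_ ?_
        · refine (dvd_trans (Dvd.intro_left X rfl) hcc').trans ?_
          exact ⟨a * c, by simp [hE, hZ, Matrix.mul_apply, Fin.sum_univ_two]; ring⟩
        · refine hcc.trans ?_
          exact ⟨-(a * a), by simp [hE, hZ, Matrix.mul_apply, Fin.sum_univ_two]; ring⟩
        · refine hcc'.trans ?_
          exact ⟨c * c, by simp [hE, hZ, Matrix.mul_apply, Fin.sum_univ_two]⟩
        · refine (dvd_trans (Dvd.intro_left X rfl) hcc').trans ?_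
          exact ⟨-(a * c), by simp [hE, hZ, Matrix.mul_apply, Fin.sum_univ_two]; left; ring⟩
      have hfam := QFam.comm hxx hzz h1 h2 hx.fam hzf
      have hex : x * z - z * x = aeval (x * y) (C 2 * (a * c)) * x := by
        have e : E * Z = Z * E + (!![-(c * c), 0; 0, c * c] +
            !![(0 : k[X]), C 2 * (a * c); 0, 0]) := by
          ext i j : 1
          fin_cases i <;> fin_cases j <;>
            simp [hE, hZ, Matrix.mul_apply, Fin.sum_univ_two, map_ofNat] <;> ring
        have e1 : qphi x y (E * Z) = x * z := by rw [qphi_mul hxx hyy hEf hZf, hEx, ← ez]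
        have e2 : qphi x y (Z * E) = z * x := by rw [qphi_mul hxx hyy hZf hEf, hEx, ← ez]
        rw [sub_eq_iff_eq_add', ← e1, ← e2, e, qphi_add, qphi_add,
          qphi_eq_zero (g := !![-(c * c), 0; 0, c * c]) ((hf f).2 dvd_rfl)]
        · simp [qphi, qp5]
        · simpa using dvd_trans (Dvd.intro_left X rfl) hcc'
        · simp
        · simp
        · simpa using dvd_trans (Dvd.intro_left X rfl) hcc'
      rw [hex] at hfam
      have h3 := hRsmul ((2 : k)⁻¹) _ hfam
      rw [← mul_assoc, ← map_mul C, inv_mul_cancel₀ hk2, C_1, one_mul] at h3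
      have h4 : f ∣ a * c := qp_coprime_or_dvd hx hf h3 hf1 hf1f (hc1.mul_left a)
      have e : c = a * c * g.1 1 1 - g.1 0 1 * (c * c) := by
        conv_lhs => rw [← mul_one c, ← hdet g, ← ha, ← hc]
        ring
      rw [e]
      exact dvd_sub (h4.mul_right _) (hcc.mul_left _)
    · exfalso
      obtain ⟨fz, hfzm, hfz⟩ := qp_exists_annPoly x z
      have hlt : qrk ((x * z) ^ N * x) < μ := by
        obtain ⟨Zp, hZp⟩ : ∃ Zp, Zp = (X : k[X]) ^ N * (-(c.divX * c.divX)) ^ N := ⟨_, rfl⟩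
        have hcX : c = X * c.divX := by
          have := (X_mul_divX_add c).symm; rwa [hc0, map_zero, add_zero] at this
        have e : (x * z) ^ N * x = aeval (x * y) Zp * ((x * y) ^ N * x) := by
          have h := hcomp (X ^ N)
          rw [map_pow, aeval_X, X_pow_comp] at h
          rw [h, ← mul_assoc, show (x * y) ^ N = aeval (x * y) ((X : k[X]) ^ N) by simp, ← map_mul]
          congr 2
          rw [hZp]
          conv_lhs => rw [hcX]
          rw [← mul_pow, ← mul_pow]
          ring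
        obtain ⟨h, hh⟩ := hf1f
        have hh0 : aeval (x * y) h * x ≠ 0 := fun h0 => by
          have hd := (hf h).1 h0
          have hne : h ≠ 0 := fun e0 => hfm.ne_zero (by rw [hh, e0, mul_zero])
          rw [hh] at hd
          exact hf1.not_isUnit (isUnit_of_dvd_one ((mul_dvd_mul_iff_right hne).1
            (show f1 * h ∣ 1 * h by rwa [one_mul])))
        obtain ⟨m, hm⟩ : ∃ m, (aeval (x * y) h * x : Module.End k M) m ≠ 0 := by
          by_contra hall
          push Not at hall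
          exact hh0 (LinearMap.ext hall)
        obtain ⟨W, hW⟩ : ∃ W, W = LinearMap.range ((x * y) ^ N * x) := ⟨_, rfl⟩
        obtain ⟨v, hv⟩ : ∃ v, v = ((x * y) ^ N * (aeval (x * y) h * x) : Module.End k M) m :=
          ⟨_, rfl⟩
        have hvW : v ∈ W := by
          rw [hW, hv, qp_swap_right, ← mul_assoc]
          exact LinearMap.mem_range_self _ _
        have hkill : ∀ q, f1 ∣ q → aeval (x * y) q * (aeval (x * y) h * x) = 0 := fun q hq => by
          rw [← mul_assoc, ← map_mul]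
          exact (hf _).2 (hh ▸ mul_dvd_mul_right hq h)
        have hv0 : v ≠ 0 := by
          intro hv0
          obtain ⟨a', b', hab⟩ := hcop.pow_right (n := N)
          apply hm
          have e1 : aeval (x * y) h * x = (aeval (x * y) (a' * f1) + aeval (x * y) b' *
              (x * y) ^ N) * (aeval (x * y) h * x) := by
            rw [show (x * y) ^ N = aeval (x * y) ((X : k[X]) ^ N) by simp, ← map_mul, ← map_add,
              hab, map_one, one_mul]
          rw [e1, add_mul, hkill _ (dvd_mul_left f1 a'), zero_add, mul_assoc, Module.End.mul_apply,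
            ← hv, hv0, map_zero]
        have hker : (aeval (x * y) Zp : Module.End k M) v = 0 := by
          rw [hv, ← Module.End.mul_apply, ← mul_assoc,
            show (x * y) ^ N = aeval (x * y) ((X : k[X]) ^ N) by simp, ← map_mul, hkill]
          · rfl
          · refine dvd_mul_of_dvd_left ?_ _
            rw [hZp]
            refine dvd_mul_of_dvd_right (dvd_pow ?_ (by omega)) _
            refine dvd_neg.2 (dvd_mul_of_dvd_left ?_ _)
            exact hcop.dvd_of_dvd_mul_left (by rwa [← hcX])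
        have hmap : LinearMap.range ((x * z) ^ N * x) =
            LinearMap.range ((aeval (x * y) Zp : Module.End k M).domRestrict W) := by
          rw [LinearMap.range_domRestrict, hW, e, Module.End.mul_eq_comp, LinearMap.range_comp]
        rw [qrk, hmap, ← hμ, qrk, ← hW]
        have hrn := LinearMap.finrank_range_add_finrank_ker
          ((aeval (x * y) Zp : Module.End k M).domRestrict W)
        have hpos : 0 < Module.finrank k
            (LinearMap.ker ((aeval (x * y) Zp : Module.End k M).domRestrict W)) := by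
          refine Module.finrank_pos_iff_exists_ne_zero.2 ⟨⟨⟨v, hvW⟩, ?_⟩, ?_⟩
          · rw [LinearMap.mem_ker]; exact hker
          · exact fun h => hv0 (congrArg (fun a => a.1.1) h)
        omega
      obtain ⟨hirr, -⟩ := ih _ hlt x z rfl hx hzz hzf fz hfzm hfz
      have hdv : f1 ∣ fz.comp (-(c * c)) :=
        hf1f.trans ((hf _).1 (by rw [← hcomp]; exact (hfz _).2 dvd_rfl))
      have h0 : fz.coeff 0 = 0 := by
        rw [← X_mul_divX_add fz, add_comp, mul_comp, X_comp, C_comp] at hdv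
        have := (dvd_add_right ((hc1.mul_right c).neg_right.mul_right _)).1 hdv
        by_contra hne
        exact hf1.not_isUnit (isUnit_of_dvd_unit this (isUnit_C.2 (isUnit_iff_ne_zero.2 hne)))
      have hfzX : fz = X := eq_of_monic_of_associated hfzm monic_X
        ((irreducible_X.dvd_irreducible_iff_associated hirr).1 (X_dvd_iff.2 h0)).symm
      apply hcc
      have := (hfz X).2 (by rw [hfzX])
      rw [hcomp, X_comp] at this
      exact (dvd_neg).1 ((hf _).1 this)
  -- lifting diagonal elements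
  have hdiag : ∀ (i : ℕ) (a : AdjoinRoot f1), a ≠ 0 →
      ∃ g ∈ Γ (i + 1), AdjoinRoot.mk f1 (g.1 0 0) = a ∧ f1 ∣ g.1 1 0 := by
    intro i a ha
    let d : SpecialLinearGroup (Fin 2) (AdjoinRoot f1) :=
      ⟨!![a, 0; 0, a⁻¹], by simp [Matrix.det_fin_two, ha]⟩
    obtain ⟨g, hg, e⟩ : d ∈ (Γ (i + 1)).map π := (hlevel i).symm ▸ Subgroup.mem_top d
    refine ⟨g, hg, ?_, ?_⟩
    · rw [← hπ, e]; rfl
    · rw [← AdjoinRoot.mk_eq_zero, ← hπ, e]; rfl
  -- `X` does not divide `f`
  have hn0 : n = 0 := by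
    by_contra hn
    obtain ⟨g, hg, hga, hgc⟩ := hdiag (2 * (n + 2) - 1) (algebraMap k _ t) ((_root_.map_ne_zero _).2 ht0)
    rw [show 2 * (n + 2) - 1 + 1 = 2 * (n + 2) by omega] at hg
    have hXc := qgam_dvd hg
    have hg1 := qgam_le_one hg
    have hfc := hstep hg1 hgc (hXc.mul_right _)
    have hXf : X * f ∣ g.1 1 0 := (Dvd.intro_left X rfl).trans (hlift _ hfc hXc)
    have h2 := hsq hg1 hXf 1 hR1
    have h3 := hRadd _ _ h2 (hRsmul (-1) 1 hR1)
    obtain ⟨q, hq⟩ : ∃ q, q = g.1 0 0 * g.1 0 0 * 1 + C (-1 : k) * 1 := ⟨_, rfl⟩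
    rw [← hq] at h3
    have hXf0 : X ∣ f := hf'eq ▸ dvd_mul_of_dvd_left (dvd_pow_self X hn) _
    have hXq : X ∣ q := X_dvd_iff.2 (by
      simp [hq, mul_coeff_zero, hg1.2.1])
    have hfq := qp_coprime_or_dvd hx hf h3 irreducible_X hXf0 hXq
    have : AdjoinRoot.mk f1 q = 0 := AdjoinRoot.mk_eq_zero.2 (hf1f.trans hfq)
    rw [hq, map_add, map_mul, map_mul, map_mul, hga, AdjoinRoot.mk_C, map_one, mul_one, mul_one,
      ← AdjoinRoot.algebraMap_eq, ← map_mul, map_neg, map_one, ← sub_eq_add_neg, sub_eq_zero,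
      ← map_one (algebraMap k (AdjoinRoot f1)), ← pow_two] at this
    exact ht1 ((algebraMap k _).injective this)
  subst hn0
  have hXcf : IsCoprime (X : k[X]) f := by
    rw [hf'eq, pow_zero, one_mul]
    exact (irreducible_X (R := k)).coprime_iff_not_dvd.2 hf'X
  let T : Subalgebra k k[X] :=
    { carrier := {q | ∀ r : k[X], QFam G (aeval (x * y) r * x) → QFam G (aeval (x * y) (q * r) * x)}
      one_mem' := fun r hr => by rwa [one_mul]
      mul_mem' := fun {a b} ha hb r hr => by rw [mul_assoc]; exact ha _ (hb _ hr)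
      zero_mem' := fun r _ => by rw [zero_mul]; exact hRf _ (dvd_zero _)
      add_mem' := fun {a b} ha hb r hr => by
        rw [add_mul]; exact hRadd _ _ (ha _ hr) (hb _ hr)
      algebraMap_mem' := fun c r hr => by
        show QFam G (aeval (x * y) (C c * r) * x)
        exact hRsmul c r hr }
  have hTR : ∀ q ∈ T, QFam G (aeval (x * y) q * x) := fun q hq => by simpa using hq 1 hR1
  have hTf : ∀ q, f ∣ q → q ∈ T := fun q hq r _ => hRf _ (hq.mul_right r)
  have hTinj : ∀ q ∈ T, f1 ∣ q → f ∣ q := fun q hq h =>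
    qp_coprime_or_dvd hx hf (hTR q hq) hf1 hf1f h
  have hTimg : T.map (AdjoinRoot.mkₐ f1) = ⊤ := by
    have hsqr : ∀ a : AdjoinRoot f1, a * a ∈ T.map (AdjoinRoot.mkₐ f1) := by
      intro a
      by_cases ha : a = 0
      · rw [ha, mul_zero]; exact zero_mem _
      obtain ⟨g, hg, hga, hgc⟩ := hdiag 0 a ha
      have hX1 : X ∣ g.1 1 0 := X_dvd_iff.2 hg.1.1
      have hfc := hstep hg hgc (by rw [pow_two]; exact mul_dvd_mul hX1 hX1)
      exact ⟨g.1 0 0 * g.1 0 0, hsq hg (hXcf.mul_dvd hX1 hfc), by simp [hga]⟩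
    refine eq_top_iff.2 fun a _ => ?_
    have h2 : (2 : AdjoinRoot f1) ≠ 0 := fun h => hk2 ((algebraMap k (AdjoinRoot f1)).injective (by
      rw [map_ofNat, map_zero]; exact h))
    have e : a = (4 : k)⁻¹ • ((1 + a) * (1 + a) - (1 - a) * (1 - a)) := by
      rw [Algebra.smul_def, map_inv₀, map_ofNat]
      have h4 : (4 : AdjoinRoot f1) ≠ 0 := by
        rw [show (4 : AdjoinRoot f1) = 2 * 2 by norm_num]; exact mul_ne_zero h2 h2
      field_simp
      ring
    rw [e]
    exact Subalgebra.smul_mem _ (sub_mem (hsqr _) (hsqr _)) _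
  have hTsurj : ∀ a : AdjoinRoot f1, ∃ q ∈ T, AdjoinRoot.mk f1 q = a := fun a => by
    obtain ⟨q, hq, e⟩ : a ∈ T.map (AdjoinRoot.mkₐ f1) := hTimg.symm ▸ Algebra.mem_top
    exact ⟨q, hq, e⟩
  obtain ⟨r, hrT, hr⟩ := hTsurj (-2 / AdjoinRoot.root f1)
  have hgmem : slL' (C (1 : k) * X) * slU' r * slL' (C (1 : k) * X) ∈ Γ 1 :=
    mul_mem (mul_mem (hLmem 1) (hUmem r (hTR r hrT))) (hLmem 1)
  obtain ⟨g, hg⟩ : ∃ g, g = slL' (C (1 : k) * X) * slU' r * slL' (C (1 : k) * X) := ⟨_, rfl⟩
  rw [← hg] at hgmem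
  have hgc : g.1 1 0 = X * (2 + r * X) := by
    rw [hg, slv_mul, slv_mul]; simp [slL', slU', Matrix.mul_apply, Fin.sum_univ_two]; ring
  have hf1c : f1 ∣ g.1 1 0 := by
    rw [hgc]
    refine dvd_mul_of_dvd_right ?_ _
    rw [← AdjoinRoot.mk_eq_zero, map_add, map_mul, hr, AdjoinRoot.mk_X, map_ofNat]
    field_simp
    ring
  have hfc := hstep hgmem hf1c (by
    rw [hgc, pow_two]; exact mul_dvd_mul (dvd_mul_right _ _) (dvd_mul_right _ _))
  rw [hgc] at hfc
  have hfrX : f ∣ 2 + r * X := hXcf.symm.dvd_of_dvd_mul_left hfc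
  obtain ⟨s, hsT, hs⟩ := hTsurj (AdjoinRoot.mk f1 r)⁻¹
  have hsr : f ∣ s * r - 1 := hTinj _ (sub_mem (mul_mem hsT hrT) (one_mem T)) (by
    rw [← AdjoinRoot.mk_eq_zero, map_sub, map_mul, hs, map_one, inv_mul_cancel₀, sub_self]
    rw [hr]
    refine div_ne_zero (neg_ne_zero.2 ?_) hroot
    exact fun h => hk2 ((algebraMap k (AdjoinRoot f1)).injective (by
      rw [map_ofNat, map_zero]; exact h)))
  have hXT : X ∈ T := by
    have e : (X : k[X]) = (s * (2 + r * X) - (s * r - 1) * X) - C 2 * s := by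
      rw [map_ofNat]; ring
    rw [e]
    exact sub_mem (hTf _ (dvd_sub (hfrX.mul_left _) (hsr.mul_right _)))
      (mul_mem (T.algebraMap_mem 2) hsT)
  have hTtop : ∀ q, q ∈ T := fun q => by
    have h1 : (⊤ : Subalgebra k k[X]) ≤ T := by
      rw [← Polynomial.adjoin_X, Algebra.adjoin_le_iff, Set.singleton_subset_iff]
      exact hXT
    exact h1 Algebra.mem_top
  refine ⟨?_, fun q => hTR q (hTtop q)⟩
  have : f ∣ f1 := hTinj f1 (hTtop f1) dvd_rfl
  rwa [eq_of_monic_of_associated hfm hf1m (associated_of_dvd_dvd this hf1f)]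

/-- A pair of minimal elements with `x y x ≠ 0` has mutually inverse members. -/
theorem qp_exists_inverse (hk2 : (2 : k) ≠ 0) (hk3 : Nat.card k ≠ 3) (hx : QMin G x)
    (hy : QMin G y) (h : x * y * x ≠ 0) :
    ∃ z ∈ qcls G y hy.sq, x * z * x = x ∧ z * x * z = z := by
  obtain ⟨f, hfm, hf⟩ := qp_exists_annPoly x y
  obtain ⟨hirr, -⟩ := qp_main hk2 hk3 x y hx hy.sq hy.fam f hfm hf
  have hcop : IsCoprime f X := hirr.coprime_iff_not_dvd.2 fun hd => h (by
    simpa using (hf X).2 hd)
  obtain ⟨a, b, hab⟩ := hcop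
  obtain ⟨q, hq⟩ : ∃ q, q = X * (b * b) := ⟨_, rfl⟩
  obtain ⟨f', hfm', hf'⟩ := qp_exists_annPoly y x
  obtain ⟨-, hR⟩ := qp_main hk2 hk3 y x hy hx.sq hx.fam f' hfm' hf'
  refine ⟨y * aeval (x * y) q, ⟨?_, ?_, ?_⟩, ?_, ?_⟩
  · rw [qp_swap_left]; exact hR q
  · rintro _ ⟨m, rfl⟩; exact LinearMap.mem_range_self y _
  · intro m hm
    rw [LinearMap.mem_ker, qp_swap_left, Module.End.mul_apply, LinearMap.mem_ker.1 hm, map_zero]
  · have hd : f ∣ X * q - 1 := ⟨-(a * (1 + b * X)), by rw [hq]; linear_combination (1 + b * X) * hab⟩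
    have := (hf _).2 hd
    rw [map_sub, map_mul, map_one, aeval_X, sub_mul, one_mul, sub_eq_zero, mul_assoc] at this
    simpa only [mul_assoc] using this
  · have hd : f ∣ b * b * (X * q - 1) :=
      Dvd.dvd.mul_left ⟨-(a * (1 + b * X)), by rw [hq]; linear_combination (1 + b * X) * hab⟩ _
    have h0 := congrArg (fun w => y * (w * y)) ((hf _).2 hd)
    simp only [zero_mul, mul_zero] at h0
    have e : y * aeval (x * y) q * x * (y * aeval (x * y) q) =
        y * aeval (x * y) (q * X * q) := by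
      rw [map_mul, map_mul, aeval_X]; simp only [mul_assoc]
    rw [e, ← sub_eq_zero, ← mul_sub, ← map_sub, ← h0,
      show q * X * q - q = b * b * (X * q - 1) * X by rw [hq]; ring, map_mul _ _ X, aeval_X]
    simp only [mul_assoc]

end CfsgLib.RootSub
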