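/-
Pairs of classes of minimal quadratic elements: the opposite, commuting and class two cases.
-/
import Cfsg.Agent.Lib.RootSub.QPDichotomy

set_option autoImplicit false

namespace CfsgLib.RootSub

universe u

variable {k : Type u} [Field k] {M : Type u} [AddCommGroup M] [Module k M] [FiniteDimensional k M]
variable {G : Subgroup (LinearMap.GeneralLinearGroup k M)} {x y z u v : Module.End k M}

local notation "GLkM" => LinearMap.GeneralLinearGroup k M

lemma qp_map_finrank (f : Module.End k M) (W : Submodule k M) :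
    Module.finrank k (W.map f) + Module.finrank k (W ⊓ LinearMap.ker f : Submodule k M) =
      Module.finrank k W := by
  have e := LinearMap.finrank_range_add_finrank_ker (f.domRestrict W)
  rw [LinearMap.range_domRestrict] at e
  have e2 : LinearMap.ker (f.domRestrict W) =
      (W ⊓ LinearMap.ker f : Submodule k M).comap W.subtype := by
    refine Submodule.ext fun m => ?_
    simp
  rw [e2, (Submodule.comapSubtypeEquivOfLe inf_le_left).finrank_eq] at e
  exact e

lemma qmin_qrk_eq (hx : QMin G x) (hy : QMin G y) : qrk x = qrk y :=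
  le_antisymm (hx.min y hy.ne hy.sq hy.fam) (hy.min x hx.ne hx.sq hx.fam)

omit [FiniteDimensional k M] in
lemma qp_inverse_inf (h : x * z * x = x) : LinearMap.range x ⊓ LinearMap.ker z = ⊥ := by
  rw [eq_bot_iff]
  rintro _ ⟨⟨n, rfl⟩, hn⟩
  rw [Submodule.mem_bot, ← h]
  show x (z (x n)) = 0
  rw [LinearMap.mem_ker.1 hn, map_zero]

variable (hk2 : (2 : k) ≠ 0) (hk3 : Nat.card k ≠ 3)
include hk2 hk3

/-- Vanishing of `x y x` only depends on the classes. -/
theorem qp_indep (hx : QMin G x) (hy : QMin G y) (h : x * y * x = 0) (hu : u ∈ qcls G x hx.sq)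
    (hv : v ∈ qcls G y hy.sq) : u * v * u = 0 ∧ v * u * v = 0 := by
  have key : ∀ {u v : Module.End k M}, u ∈ qcls G x hx.sq → v ∈ qcls G y hy.sq →
      u * v * u = 0 := by
    intro u v hu hv
    by_contra hne
    have hu0 : u ≠ 0 := fun e => hne (by rw [e, mul_zero])
    have hv0 : v ≠ 0 := fun e => hne (by rw [e, mul_zero, zero_mul])
    obtain ⟨w, hw, hinv, -⟩ :=
      qp_exists_inverse hk2 hk3 (qcls_qmin hx hu hu0) (qcls_qmin hy hv hv0) hne
    have hw0 : w ≠ 0 := fun e => hu0 (by rw [← hinv, e, mul_zero, zero_mul])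
    have hb := qp_inverse_inf hinv
    rw [(qcls_range_ker hx hu hu0).1, (qcls_range_ker (qcls_qmin hy hv hv0) hw hw0).2,
      (qcls_range_ker hy hv hv0).2] at hb
    have e := qp_map_finrank y (LinearMap.range x)
    rw [hb, finrank_bot, add_zero] at e
    have hle : (LinearMap.range x).map y ≤ LinearMap.range y := LinearMap.map_le_range
    have heq := Submodule.eq_of_le_of_finrank_le hle (by rw [e]; exact (qmin_qrk_eq hy hx).le)
    have hBK : LinearMap.range v ≤ LinearMap.ker u := by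
      refine (hv.2.1.trans ?_).trans hu.2.2
      rw [← heq]
      rintro _ ⟨_, ⟨n, rfl⟩, rfl⟩
      exact LinearMap.congr_fun h n
    exact hne (by rw [mul_eq_zero_of_range_le_ker hBK, zero_mul])
  refine ⟨key hu hv, ?_⟩
  by_contra hne
  have hu0 : u ≠ 0 := fun e => hne (by rw [e, mul_zero, zero_mul])
  have hv0 : v ≠ 0 := fun e => hne (by rw [e, mul_zero])
  obtain ⟨w, hw, h1, h2⟩ :=
    qp_exists_inverse hk2 hk3 (qcls_qmin hy hv hv0) (qcls_qmin hx hu hu0) hne
  rw [qcls_eq hx hu hu0] at hw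
  have := key hw hv
  rw [h2] at this
  exact hv0 (by rw [← h1, this, mul_zero, zero_mul])

lemma qp_opp_symm (hx : QMin G x) (hy : QMin G y) (h : x * y * x ≠ 0) (hu : u ∈ qcls G x hx.sq)
    (hv : v ∈ qcls G y hy.sq) (hu0 : u ≠ 0) (hv0 : v ≠ 0) : u * v * u ≠ 0 ∧ v * u * v ≠ 0 := by
  have hu' := qcls_qmin hx hu hu0
  have hv' := qcls_qmin hy hv hv0
  constructor
  · intro e
    refine h (qp_indep hk2 hk3 hu' hv' e ?_ ?_).1
    · rw [qcls_eq hx hu hu0]; exact hx.self_mem
    · rw [qcls_eq hy hv hv0]; exact hy.self_mem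
  · intro e
    refine h (qp_indep hk2 hk3 hv' hu' e ?_ ?_).2
    · rw [qcls_eq hy hv hv0]; exact hy.self_mem
    · rw [qcls_eq hx hu hu0]; exact hx.self_mem

omit hk2 hk3 in
/-- Data of a class two pair. -/
structure QTwo (G : Subgroup (LinearMap.GeneralLinearGroup k M)) (x y : Module.End k M) : Prop where
  left : QMin G x
  right : QMin G y
  zero : x * y * x = 0
  comm : x * y ≠ y * x

lemma QTwo.symm (h : QTwo G x y) : QTwo G y x :=
  ⟨h.right, h.left,
    (qp_indep hk2 hk3 h.left h.right h.zero h.left.self_mem h.right.self_mem).2, fun e => h.comm e.symm⟩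

/-- Range and kernel of the commutator of a class two pair. -/
theorem qp_two_main (h : QTwo G x y) :
    QMin G (x * y - y * x) ∧
    LinearMap.range x ⊓ LinearMap.ker y ≤ LinearMap.range (x * y - y * x) ∧
    LinearMap.range y ⊓ LinearMap.ker x ≤ LinearMap.range (x * y - y * x) ∧
    LinearMap.range (x * y - y * x) =
      (LinearMap.range x ⊓ LinearMap.ker y) ⊔ (LinearMap.range y ⊓ LinearMap.ker x) ∧
    (∀ m, (x * y - y * x) m = 0 →
      (m ∈ LinearMap.range x ⊔ LinearMap.ker y) ∧ (m ∈ LinearMap.range y ⊔ LinearMap.ker x)) ∧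
    Disjoint (LinearMap.range x ⊓ LinearMap.ker y) (LinearMap.range y ⊓ LinearMap.ker x) := by
  obtain ⟨hx, hy, h0, hne⟩ := h
  have h0' : y * x * y = 0 := (qp_indep hk2 hk3 hx hy h0 hx.self_mem hy.self_mem).2
  obtain ⟨P, hP⟩ : ∃ P, P = LinearMap.range x ⊓ LinearMap.ker y := ⟨_, rfl⟩
  obtain ⟨Q, hQ⟩ : ∃ Q, Q = LinearMap.range y ⊓ LinearMap.ker x := ⟨_, rfl⟩
  obtain ⟨h', hh⟩ : ∃ h', h' = x * y - y * x := ⟨_, rfl⟩
  rw [← hP, ← hQ, ← hh]
  obtain ⟨S, hS⟩ : ∃ S, S = (LinearMap.range y).map x := ⟨_, rfl⟩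
  obtain ⟨T, hT⟩ : ∃ T, T = (LinearMap.range x).map y := ⟨_, rfl⟩
  have eS := qp_map_finrank x (LinearMap.range y)
  have eT := qp_map_finrank y (LinearMap.range x)
  rw [← hS, ← hQ] at eS
  rw [← hT, ← hP] at eT
  have hSP : S ≤ P := by
    rw [hS, hP]
    rintro _ ⟨_, ⟨n, rfl⟩, rfl⟩
    exact ⟨LinearMap.mem_range_self x _, LinearMap.congr_fun h0' n⟩
  have hTQ : T ≤ Q := by
    rw [hT, hQ]
    rintro _ ⟨_, ⟨n, rfl⟩, rfl⟩
    exact ⟨LinearMap.mem_range_self y _, LinearMap.congr_fun h0 n⟩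
  have hsq : h' * h' = 0 := hh ▸ sq_zero_comm h0 h0' hx.sq hy.sq
  have hfam : QFam G h' := hh ▸ QFam.comm hx.sq hy.sq h0 h0' hx.fam hy.fam
  have hne0 : h' ≠ 0 := hh ▸ sub_ne_zero.2 hne
  have hrle : LinearMap.range h' ≤ S ⊔ T := by
    rw [hh, hS, hT]
    rintro _ ⟨m, rfl⟩
    exact sub_mem (Submodule.mem_sup_left ⟨_, LinearMap.mem_range_self y m, rfl⟩)
      (Submodule.mem_sup_right ⟨_, LinearMap.mem_range_self x m, rfl⟩)
  have hd : qrk x ≤ qrk h' := hx.min h' hne0 hsq hfam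
  have hxy := qmin_qrk_eq hx hy
  have hST := Submodule.finrank_sup_add_finrank_inf_eq S T
  have hle1 := Submodule.finrank_mono hrle
  have hle2 := Submodule.finrank_mono hSP
  have hle3 := Submodule.finrank_mono hTQ
  simp only [qrk] at hd hxy
  have hSeq : S = P := Submodule.eq_of_le_of_finrank_le hSP (by omega)
  have hTeq : T = Q := Submodule.eq_of_le_of_finrank_le hTQ (by omega)
  have hreq : LinearMap.range h' = S ⊔ T := Submodule.eq_of_le_of_finrank_le hrle (by omega)
  have hdis : S ⊓ T = ⊥ := Submodule.finrank_eq_zero.1 (by omega)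
  have hmin : QMin G h' := ⟨hne0, hsq, hfam, fun w hw hww hfw => le_trans (by simp only [qrk]; omega)
    (hx.min w hw hww hfw)⟩
  rw [hSeq, hTeq] at hreq hdis
  refine ⟨hmin, hreq ▸ le_sup_left, hreq ▸ le_sup_right, hreq, fun m hm => ?_, disjoint_iff.2 hdis⟩
  have hmS : x (y m) ∈ S := hS ▸ ⟨_, LinearMap.mem_range_self y m, rfl⟩
  have hmT : y (x m) ∈ T := hT ▸ ⟨_, LinearMap.mem_range_self x m, rfl⟩
  have heq : x (y m) = y (x m) := by
    rw [hh, LinearMap.sub_apply, sub_eq_zero] at hm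
    exact hm
  have hzero : x (y m) = 0 := by
    have : x (y m) ∈ S ⊓ T := ⟨hmS, heq ▸ hmT⟩
    rwa [hSeq, hTeq, hdis, Submodule.mem_bot] at this
  constructor
  · have : y m ∈ T := hTeq ▸ hQ ▸ ⟨LinearMap.mem_range_self y m, hzero⟩
    rw [hT] at this
    obtain ⟨a, ha, e⟩ := this
    rw [show m = a + (m - a) by abel]
    refine Submodule.add_mem_sup ha ?_
    rw [LinearMap.mem_ker, map_sub, e, sub_self]
  · have : x m ∈ S := hSeq ▸ hP ▸ ⟨LinearMap.mem_range_self x m, LinearMap.mem_ker.2 (heq.symm.trans hzero)⟩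
    rw [hS] at this
    obtain ⟨b, hb, e⟩ := this
    rw [show m = b + (m - b) by abel]
    refine Submodule.add_mem_sup hb ?_
    rw [LinearMap.mem_ker, map_sub, e, sub_self]

lemma QTwo.qmin (h : QTwo G x y) : QMin G (x * y - y * x) := (qp_two_main hk2 hk3 h).1

lemma QTwo.mem (h : QTwo G x y) (hu : u ∈ qcls G x h.left.sq) (hv : v ∈ qcls G y h.right.sq) :
    u * v - v * u ∈ qcls G (x * y - y * x) (h.qmin hk2 hk3).sq := by
  obtain ⟨h1, h2⟩ := qp_indep hk2 hk3 h.left h.right h.zero hu hv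
  by_cases hu0 : u = 0
  · simp [hu0]
  by_cases hv0 : v = 0
  · simp [hv0]
  obtain ⟨hru, hku⟩ := qcls_range_ker h.left hu hu0
  obtain ⟨hrv, hkv⟩ := qcls_range_ker h.right hv hv0
  obtain ⟨-, hP, hQ, -, hK, -⟩ := qp_two_main hk2 hk3 h
  refine ⟨QFam.comm (qcls_mul hu hu) (qcls_mul hv hv) h1 h2 hu.1 hv.1, ?_, ?_⟩
  · rintro _ ⟨m, rfl⟩
    refine sub_mem (hP ?_) (hQ ?_)
    · rw [← hru, ← hkv]
      exact ⟨LinearMap.mem_range_self u _, LinearMap.congr_fun h2 m⟩
    · rw [← hku, ← hrv]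
      exact ⟨LinearMap.mem_range_self v _, LinearMap.congr_fun h1 m⟩
  · intro m hm
    obtain ⟨ha, hb⟩ := hK m hm
    rw [← hru, ← hkv] at ha
    rw [← hrv, ← hku] at hb
    obtain ⟨_, ⟨n, rfl⟩, p, hp, e⟩ := Submodule.mem_sup.1 ha
    obtain ⟨_, ⟨n', rfl⟩, p', hp', e'⟩ := Submodule.mem_sup.1 hb
    have e1 : u (v m) = 0 := by
      rw [← e, map_add, LinearMap.mem_ker.1 hp, add_zero]
      exact LinearMap.congr_fun h1 n
    have e2 : v (u m) = 0 := by
      rw [← e', map_add, LinearMap.mem_ker.1 hp', add_zero]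
      exact LinearMap.congr_fun h2 n'
    show u (v m) - v (u m) = 0
    rw [e1, e2, sub_zero]

/-- All commutators are non-trivial. -/
lemma QTwo.not_commute (h : QTwo G x y) (hu : u ∈ qcls G x h.left.sq) (hv : v ∈ qcls G y h.right.sq)
    (hu0 : u ≠ 0) (hv0 : v ≠ 0) : u * v ≠ v * u := by
  intro e
  obtain ⟨h1, h2⟩ := qp_indep hk2 hk3 h.left h.right h.zero hu hv
  obtain ⟨hru, hku⟩ := qcls_range_ker h.left hu hu0
  obtain ⟨hrv, hkv⟩ := qcls_range_ker h.right hv hv0
  obtain ⟨-, -, -, -, -, hdis⟩ := qp_two_main hk2 hk3 h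
  have huv : ∀ m, u (v m) = 0 := fun m => by
    refine (Submodule.mem_bot k).1 (hdis.eq_bot ▸ ⟨?_, ?_⟩)
    · rw [← hru, ← hkv]
      exact ⟨LinearMap.mem_range_self u _, LinearMap.congr_fun h2 m⟩
    · rw [← hku, ← hrv, show u (v m) = v (u m) from LinearMap.congr_fun e m]
      exact ⟨LinearMap.mem_range_self v _, LinearMap.congr_fun h1 m⟩
  refine h.comm ?_
  have ex : x * y = 0 := mul_eq_zero_of_range_le_ker (by
    rw [← hku, ← hrv]
    rintro _ ⟨m, rfl⟩
    exact huv m)
  have ey : y * x = 0 := mul_eq_zero_of_range_le_ker (by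
    rw [← hru, ← hkv]
    rintro _ ⟨m, rfl⟩
    rw [LinearMap.mem_ker, ← Module.End.mul_apply, ← e]
    exact huv m)
  rw [ex, ey]

/-- The commutator class annihilates both members. -/
lemma QTwo.mul_eq_zero (h : QTwo G x y)
    {d : Module.End k M} (hd : d ∈ qcls G (x * y - y * x) (h.qmin hk2 hk3).sq)
    (hu : u ∈ qcls G x h.left.sq) : d * u = 0 ∧ u * d = 0 := by
  have h0' := (h.symm hk2 hk3).zero
  have e1 : (x * y - y * x) * x = 0 := by
    rw [sub_mul, h.zero, mul_assoc, h.left.sq, mul_zero, sub_zero]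
  have e2 : x * (x * y - y * x) = 0 := by
    rw [mul_sub, ← mul_assoc, ← mul_assoc, h.left.sq, zero_mul, h.zero, sub_zero]
  constructor
  · refine mul_eq_zero_of_range_le_ker ((hu.2.1.trans ?_).trans hd.2.2)
    rintro _ ⟨m, rfl⟩
    exact LinearMap.congr_fun e1 m
  · refine mul_eq_zero_of_range_le_ker ((hd.2.1.trans ?_).trans hu.2.2)
    rintro _ ⟨m, rfl⟩
    exact LinearMap.congr_fun e2 m

/-- The commutator pairing with a fixed right member. -/
lemma QTwo.finrank_le (h : QTwo G x y) :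
    Module.finrank k (qcls G x h.left.sq) ≤
      Module.finrank k (qcls G (x * y - y * x) (h.qmin hk2 hk3).sq) := by
  let L : qcls G x h.left.sq →ₗ[k] qcls G (x * y - y * x) (h.qmin hk2 hk3).sq :=
    { toFun := fun u => ⟨u.1 * y - y * u.1, h.mem hk2 hk3 u.2 h.right.self_mem⟩
      map_add' := fun a b => Subtype.ext (by
        simp only [Submodule.coe_add, add_mul, mul_add]; abel)
      map_smul' := fun c a => Subtype.ext (by
        simp only [SetLike.val_smul, smul_mul_assoc, mul_smul_comm, smul_sub, RingHom.id_apply]) }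
  refine LinearMap.finrank_le_finrank_of_injective (f := L) ?_
  rw [← LinearMap.ker_eq_bot, LinearMap.ker_eq_bot']
  intro a ha
  by_contra hne
  have ha' : (L a).1 = 0 := by rw [ha]; rfl
  exact h.not_commute hk2 hk3 a.2 h.right.self_mem (fun e => hne (Subtype.ext e)) h.right.ne
    (sub_eq_zero.1 ha')

lemma QTwo.surjective_of_finrank (h : QTwo G x y)
    (hdim : Module.finrank k (qcls G x h.left.sq) =
      Module.finrank k (qcls G (x * y - y * x) (h.qmin hk2 hk3).sq))
    (hv : v ∈ qcls G y h.right.sq) (hv0 : v ≠ 0) {d : Module.End k M}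
    (hd : d ∈ qcls G (x * y - y * x) (h.qmin hk2 hk3).sq) :
    ∃ u ∈ qcls G x h.left.sq, u * v - v * u = d := by
  let L : qcls G x h.left.sq →ₗ[k] qcls G (x * y - y * x) (h.qmin hk2 hk3).sq :=
    { toFun := fun u => ⟨u.1 * v - v * u.1, h.mem hk2 hk3 u.2 hv⟩
      map_add' := fun a b => Subtype.ext (by
        simp only [Submodule.coe_add, add_mul, mul_add]; abel)
      map_smul' := fun c a => Subtype.ext (by
        simp only [SetLike.val_smul, smul_mul_assoc, mul_smul_comm, smul_sub, RingHom.id_apply]) }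
  have hinj : Function.Injective L := by
    rw [← LinearMap.ker_eq_bot, LinearMap.ker_eq_bot']
    intro a ha
    by_contra hne
    have ha' : (L a).1 = 0 := by rw [ha]; rfl
    exact h.not_commute hk2 hk3 a.2 hv (fun e => hne (Subtype.ext e)) hv0 (sub_eq_zero.1 ha')
  obtain ⟨a, ha⟩ := (LinearMap.injective_iff_surjective_of_finrank_eq_finrank hdim).1 hinj ⟨d, hd⟩
  exact ⟨a.1, a.2, congrArg Subtype.val ha⟩

omit hk2 hk3 in
lemma qcls_finrank_congr {hxx : x * x = 0} {hyy : y * y = 0}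
    (h : qcls G x hxx = qcls G y hyy) :
    Module.finrank k (qcls G x hxx) = Module.finrank k (qcls G y hyy) := by
  exact (LinearEquiv.ofEq _ _ h).finrank_eq

omit hk2 hk3 in
lemma qcls_finrank_conj_le {g : GLkM} (hg : g ∈ G) {hxx : x * x = 0}
    {hyy : qconj g x * qconj g x = 0} :
    Module.finrank k (qcls G x hxx) ≤ Module.finrank k (qcls G (qconj g x) hyy) := by
  let L : qcls G x hxx →ₗ[k] qcls G (qconj g x) hyy :=
    { toFun := fun a => ⟨qconj g a.1, qcls_conj_mem hg a.2⟩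
      map_add' := fun a b => Subtype.ext (qconj_add g _ _)
      map_smul' := fun c a => Subtype.ext (qconj_smul g c _) }
  refine LinearMap.finrank_le_finrank_of_injective (f := L) fun a b e => Subtype.ext ?_
  have e' : qconj g a.1 = qconj g b.1 := congrArg Subtype.val e
  rw [← qconj_cancel g a.1, e', qconj_cancel]

omit hk2 hk3 in
lemma qcls_congr (e : x = y) {hxx : x * x = 0} {hyy : y * y = 0} :
    qcls G x hxx = qcls G y hyy := by
  subst e
  rfl

omit hk2 hk3 in
lemma qcls_finrank_conj {g : GLkM} (hg : g ∈ G) {hxx : x * x = 0}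
    (h : qconj g x = y) {hyy : y * y = 0} :
    Module.finrank k (qcls G y hyy) = Module.finrank k (qcls G x hxx) := by
  subst h
  refine le_antisymm ?_ (qcls_finrank_conj_le hg)
  have e : qconj g⁻¹ (qconj g x) = x := qconj_cancel g x
  have h2 := qcls_finrank_conj_le (x := qconj g x) (hxx := hyy) (inv_mem hg)
    (hyy := by rw [e]; exact hxx)
  exact h2.trans (qcls_finrank_congr (qcls_congr e)).le

omit hk2 hk3 [FiniteDimensional k M] in
/-- The involution of an opposite pair. -/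
lemma qp_involution {H : Subgroup GLkM} (hxx : x * x = 0) (hzz : z * z = 0) (h1 : x * z * x = x)
    (h2 : z * x * z = z) {a b : GLkM} (ha : a ∈ H) (hb : b ∈ H) (ea : qmove a = x)
    (eb : qmove b = z) :
    ∃ i ∈ H, (i : Module.End k M) = 1 - (2 : k) • (x * z + z * x) ∧ i * i = 1 := by
  refine ⟨a * b⁻¹ * a * (a * b⁻¹ * a), mul_mem (mul_mem (mul_mem ha (inv_mem hb)) ha)
    (mul_mem (mul_mem ha (inv_mem hb)) ha), ?_⟩
  obtain ⟨J, hJ⟩ : ∃ J, J = x * z + z * x := ⟨_, rfl⟩
  have hs : ((a * b⁻¹ * a : GLkM) : Module.End k M) = 1 - J + x - z := by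
    rw [Units.val_mul, Units.val_mul, (qmove_units_one_add ea).1, (qmove_units_one_add eb).2 hzz,
      show (1 + x) * (1 - z) * (1 + x) = 1 + x + x + x * x - z - z * x - x * z - x * z * x by
        noncomm_ring, hxx, h1, hJ]
    abel
  have eJ : J * J = J := by
    rw [hJ, show (x * z + z * x) * (x * z + z * x) = x * z * x * z + x * (z * z) * x +
      z * (x * x) * z + z * x * z * x by noncomm_ring, hxx, hzz, h1, h2]
    simp
  have eJx : J * x = x := by rw [hJ, add_mul, mul_assoc z, hxx, h1, mul_zero, add_zero]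
  have eJz : J * z = z := by rw [hJ, add_mul, mul_assoc x, hzz, h2, mul_zero, zero_add]
  have exJ : x * J = x := by rw [hJ, mul_add, ← mul_assoc, ← mul_assoc, hxx, h1, zero_mul, zero_add]
  have ezJ : z * J = z := by rw [hJ, mul_add, ← mul_assoc, ← mul_assoc, hzz, h2, zero_mul, add_zero]
  have hsq : (1 - J + x - z) * (1 - J + x - z) = 1 - (J + J) := by
    have e : (1 - J + x - z) * (1 - J + x - z) =
        1 - J - J + J * J + (x - J * x) + (x - x * J) - (z - J * z) - (z - z * J)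
          + x * x + z * z - (x * z + z * x) := by noncomm_ring
    rw [e, eJ, eJx, exJ, eJz, ezJ, hxx, hzz, ← hJ]
    abel
  have hi : ((a * b⁻¹ * a * (a * b⁻¹ * a) : GLkM) : Module.End k M) = 1 - (2 : k) • J := by
    rw [Units.val_mul, hs, hsq, two_smul]
  refine ⟨hJ ▸ hi, Units.ext ?_⟩
  rw [Units.val_mul, hi, Units.val_one, two_smul,
    show (1 - (J + J)) * (1 - (J + J)) =
      1 - (J + J + (J + J)) + (J * J + J * J + (J * J + J * J)) by noncomm_ring, eJ]
  abel

omit hk2 hk3 [FiniteDimensional k M] in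
lemma qp_weight_decomp {e h w : Module.End k M} (eh : e * h = 0) (he : h * e = 0) :
    e * (h * w) = 0 ∧ w * h * e = 0 := by
  rw [← mul_assoc, eh, zero_mul, mul_assoc, he, mul_zero]
  exact ⟨rfl, rfl⟩

/-- Splitting a member of a class two pair along the weights of the commutator. -/
theorem qp_two_split (hpart : ∀ a : Module.End k M, QMin G a → ∃ b, QMin G b ∧ a * b * a ≠ 0)
    (h : QTwo G x y) :
    ∃ e1 : Module.End k M, ∃ he1 : QMin G e1, x - e1 ∈ qcls G (x * y - y * x) (h.qmin hk2 hk3).sq ∧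
      Module.finrank k (qcls G (x * y - y * x) (h.qmin hk2 hk3).sq) ≤
        Module.finrank k (qcls G e1 he1.sq) := by
  have hh := h.qmin hk2 hk3
  obtain ⟨-, hP, -, -, hK, -⟩ := qp_two_main hk2 hk3 h
  obtain ⟨he, eh⟩ := h.mul_eq_zero hk2 hk3 hh.self_mem h.left.self_mem
  obtain ⟨H, hH⟩ : ∃ H, H = x * y - y * x := ⟨_, rfl⟩
  obtain ⟨b, hb, hbne⟩ := hpart _ hh
  obtain ⟨w, hwb, hw1, hw2⟩ := qp_exists_inverse hk2 hk3 hh hb hbne
  have hw0 : w ≠ 0 := fun e => hh.ne (by rw [← hw1, e, mul_zero, zero_mul])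
  have hw := qcls_qmin hb hwb hw0
  simp only [← hH] at hP hK he eh hw1 hw2 ⊢
  have hh' : QMin G H := hH ▸ hh
  obtain ⟨A, hA⟩ : ∃ A, A = H * w := ⟨_, rfl⟩
  obtain ⟨B, hB⟩ : ∃ B, B = w * H := ⟨_, rfl⟩
  obtain ⟨C, hC⟩ : ∃ C : Module.End k M, C = 1 - (A + B) := ⟨_, rfl⟩
  have xA : x * A = 0 := by rw [hA]; exact (qp_weight_decomp eh he).1
  have Bx : B * x = 0 := by rw [hB]; exact (qp_weight_decomp eh he).2
  have AA : A * A = A := by rw [hA, ← mul_assoc, hw1]
  have BB : B * B = B := by rw [hB, ← mul_assoc, hw2]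
  have AB : A * B = 0 := by rw [hA, hB, mul_assoc, ← mul_assoc w, hw.sq, zero_mul, mul_zero]
  have BA : B * A = 0 := by rw [hA, hB, mul_assoc, ← mul_assoc H, hh'.sq, zero_mul, mul_zero]
  have AC : A * C = 0 := by rw [hC, mul_sub, mul_one, mul_add, AA, AB, add_zero, sub_self]
  have CA : C * A = 0 := by rw [hC, sub_mul, one_mul, add_mul, AA, BA, add_zero, sub_self]
  have BC : B * C = 0 := by rw [hC, mul_sub, mul_one, mul_add, BB, BA, zero_add, sub_self]
  have CB : C * B = 0 := by rw [hC, sub_mul, one_mul, add_mul, BB, AB, zero_add, sub_self]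
  have CC : C * C = C := by
    conv_lhs => arg 1; rw [hC]
    rw [sub_mul, one_mul, add_mul, AC, BC, add_zero, sub_zero]
  have CH : C * H = 0 := by
    rw [hC, sub_mul, one_mul, add_mul, hA, hB, hw1, mul_assoc w, hh'.sq, mul_zero, add_zero, sub_self]
  have HC : H * C = 0 := by
    rw [hC, mul_sub, mul_one, mul_add, hA, hB, ← mul_assoc, ← mul_assoc, hw1, hh'.sq, zero_mul,
      zero_add, sub_self]
  have Cw : C * w = 0 := by
    rw [hC, sub_mul, one_mul, add_mul, hA, hB, hw2, mul_assoc H, hw.sq, mul_zero, zero_add, sub_self]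
  have wC : w * C = 0 := by
    rw [hC, mul_sub, mul_one, mul_add, hA, hB, ← mul_assoc, ← mul_assoc, hw2, hw.sq, zero_mul,
      add_zero, sub_self]
  have CxC : C * x * C = 0 := by
    refine LinearMap.ext fun m => ?_
    obtain ⟨hm1, hm2⟩ := hK (C m) (LinearMap.congr_fun HC m)
    obtain ⟨_, ⟨n, rfl⟩, p, hp, e⟩ := Submodule.mem_sup.1 hm2
    have hxm : x (C m) ∈ LinearMap.range x ⊓ LinearMap.ker y := by
      refine ⟨LinearMap.mem_range_self x _, ?_⟩
      show y (x (C m)) = 0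
      rw [← e, map_add, LinearMap.mem_ker.1 hp, add_zero]
      exact LinearMap.congr_fun (h.symm hk2 hk3).zero n
    obtain ⟨q, hq⟩ := hP hxm
    show C (x (C m)) = 0
    rw [← hq]
    exact LinearMap.congr_fun CH q
  obtain ⟨e1, he1def⟩ : ∃ e1, e1 = A * x * C + C * x * B := ⟨_, rfl⟩
  have hdec : x = e1 + A * x * B := by
    have e : x = (A + B + C) * x * (A + B + C) := by rw [hC, add_sub_cancel, one_mul, mul_one]
    conv_lhs => rw [e]
    simp only [add_mul, mul_add, Bx, zero_mul, mul_assoc _ x A, xA, mul_zero, CxC, he1def]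
    abel
  obtain ⟨e2, he2def⟩ : ∃ e2, e2 = A * x * B := ⟨_, rfl⟩
  rw [← he2def] at hdec
  -- the involution
  obtain ⟨σa, hσa, ea⟩ := hh'.fam.exists_mem
  obtain ⟨σb, hσb, eb⟩ := hw.fam.exists_mem
  obtain ⟨i, hi, ei, hii⟩ := qp_involution hh'.sq hw.sq hw1 hw2 hσa hσb ea eb
  rw [← hA, ← hB] at ei
  have hconj : qconj i x = -e1 + e2 := by
    have eI : (1 : Module.End k M) - (2 : k) • (A + B) = C - A - B := by rw [hC, two_smul]; abel
    rw [qconj, inv_eq_of_mul_eq_one_right hii, ei, eI]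
    simp only [sub_mul, mul_sub, Bx, zero_mul, mul_assoc _ x A, xA, mul_zero, CxC, he1def, he2def]
    abel
  have hmul2 : e1 * e2 = 0 ∧ e2 * e1 = 0 ∧ e2 * e2 = 0 := by
    refine ⟨?_, ?_, ?_⟩ <;> simp only [he1def, he2def, add_mul, mul_add, mul_assoc] <;>
      simp only [← mul_assoc C A, CA, ← mul_assoc B A, BA, ← mul_assoc B C, BC, zero_mul, mul_zero,
        add_zero]
  obtain ⟨e12, e21, e22⟩ := hmul2
  have e11 : e1 * e1 = 0 := by
    have h3 : x * x = e1 * e1 := by rw [hdec, add_mul, mul_add, mul_add, e12, e21, e22]; abel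
    rw [← h3, h.left.sq]
  have hfi := h.left.fam.conj hi
  rw [hconj] at hfi
  have hF2 : QFam G e2 := by
    have h3 := QFam.add ?_ h.left.fam hfi
    · have h4 := h3.smul (2 : k)⁻¹
      rwa [hdec, show e1 + e2 + (-e1 + e2) = (2 : k) • e2 by rw [two_smul]; abel, smul_smul,
        inv_mul_cancel₀ hk2, one_smul] at h4
    · rw [hdec, add_mul, mul_add, mul_add, mul_neg, mul_neg, e12, e21, e22, e11]
      simp
  have hF1 : QFam G e1 := by
    have h3 := QFam.add (x := x) (y := -e2) ?_ h.left.fam hF2.neg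
    · rwa [hdec, add_neg_cancel_right] at h3
    · rw [hdec, mul_neg, add_mul, e12, e22]; simp
  have he2H : e2 ∈ qcls G H hh'.sq := by
    refine ⟨hF2, ?_, ?_⟩
    · rintro _ ⟨m, rfl⟩
      rw [he2def, hA, mul_assoc, mul_assoc, Module.End.mul_apply]
      exact LinearMap.mem_range_self H _
    · intro m hm
      rw [LinearMap.mem_ker, he2def, hB, Module.End.mul_apply, Module.End.mul_apply,
        Module.End.mul_apply, LinearMap.mem_ker.1 hm, map_zero, map_zero, map_zero]
  have he10 : e1 ≠ 0 := by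
    intro e0
    rw [e0, zero_add] at hdec
    subst hH
    have hdm : -e2 ∈ qcls G (y * x - x * y) ((h.symm hk2 hk3).qmin hk2 hk3).sq := by
      have hd := Submodule.neg_mem _ he2H
      have hne : y * x - x * y ≠ 0 := sub_ne_zero.2 (Ne.symm h.comm)
      have hneg : y * x - x * y ∈ qcls G (x * y - y * x) hh.sq :=
        neg_sub (x * y) (y * x) ▸ Submodule.neg_mem _ hh.self_mem
      rw [qcls_eq hh hneg hne]
      exact hd
    obtain ⟨d1, d2⟩ := (h.symm hk2 hk3).mul_eq_zero hk2 hk3 hdm (h.symm hk2 hk3).left.self_mem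
    rw [neg_mul, neg_eq_zero] at d1
    rw [mul_neg, neg_eq_zero] at d2
    exact h.comm (by rw [hdec, d1, d2])
  have hrk : qrk e1 ≤ qrk x := by
    have h1 : LinearMap.range e1 ≤ LinearMap.range (x * C) ⊔ LinearMap.range (C * x) := by
      rintro _ ⟨m, rfl⟩
      rw [he1def, LinearMap.add_apply]
      refine Submodule.add_mem_sup ⟨m, ?_⟩ ⟨B m, rfl⟩
      have e : x * C = A * x * C := by
        have e' : x * C = (A + B + C) * (x * C) := by rw [hC, add_sub_cancel, one_mul]
        rw [add_mul, add_mul, ← mul_assoc B, Bx, zero_mul, add_zero, ← mul_assoc C, CxC, add_zero,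
          ← mul_assoc] at e'
        exact e'
      rw [e]
    have h2 := qp_map_finrank C (LinearMap.range x)
    rw [← LinearMap.range_comp, ← Module.End.mul_eq_comp] at h2
    have h3 : LinearMap.range (x * C) ≤ LinearMap.range x ⊓ LinearMap.ker C := by
      rintro _ ⟨m, rfl⟩
      exact ⟨LinearMap.mem_range_self x _, LinearMap.congr_fun CxC m⟩
    have h4 := Submodule.finrank_mono h1
    have h5 := Submodule.finrank_mono h3
    have h6 := Submodule.finrank_sup_add_finrank_inf_eq (LinearMap.range (x * C))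
      (LinearMap.range (C * x))
    simp only [qrk] at h2 h4 h5 h6 ⊢
    omega
  have he1 : QMin G e1 := ⟨he10, e11, hF1, fun a ha haa hfa =>
    hrk.trans (h.left.min a ha haa hfa)⟩
  subst hH
  refine ⟨e1, he1, (sub_eq_of_eq_add' hdec).symm ▸ he2H, ?_⟩
  obtain ⟨He, eH⟩ : (x * y - y * x) * e1 = 0 ∧ e1 * (x * y - y * x) = 0 := by
    obtain ⟨H2, H2'⟩ : (x * y - y * x) * e2 = 0 ∧ e2 * (x * y - y * x) = 0 :=
      ⟨qcls_mul hh.self_mem he2H, qcls_mul he2H hh.self_mem⟩
    rw [show e1 = x - e2 by rw [hdec, add_sub_cancel_right], mul_sub _ x e2, sub_mul x e2, he, eh, H2, H2']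
    simp
  -- the pair `e1, w`
  have hew : e1 * w * e1 = 0 := by
    refine qp_nilpotent hk2 2 e1 w he1 hw.sq hw.fam ?_
    have e : e1 * w = C * x * B * w := by
      rw [he1def, add_mul, mul_assoc (A * x) C w, Cw, mul_zero, zero_add]
    rw [pow_two, e, he1def, hB]
    simp only [mul_assoc, mul_add, ← mul_assoc w C, wC, zero_mul, mul_zero, add_zero]
  obtain ⟨w1, hw1def⟩ : ∃ w1, w1 = e1 * w - w * e1 := ⟨_, rfl⟩
  have hneg : (x * y - y * x) * w1 - w1 * (x * y - y * x) = -e1 := by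
    have e : (x * y - y * x) * w1 - w1 * (x * y - y * x) = (x * y - y * x) * e1 * w - A * e1
        - e1 * B + w * (e1 * (x * y - y * x)) := by
      rw [hw1def, hA, hB]; noncomm_ring
    rw [e, He, eH, he1def]
    simp only [mul_add, add_mul, ← mul_assoc, AA, AC, zero_mul, mul_zero, mul_assoc _ C B, CB,
      mul_assoc _ B B, BB, add_zero, zero_add]
    abel
  have hew_ne : e1 * w ≠ w * e1 := by
    intro e
    rw [hw1def, e, sub_self, mul_zero, zero_mul, sub_self] at hneg
    exact he10 (neg_eq_zero.1 hneg.symm)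
  have hq2 : QTwo G e1 w := ⟨he1, hw, hew, hew_ne⟩
  have hw1m : QMin G w1 := hw1def ▸ hq2.qmin hk2 hk3
  have hq3 : QTwo G (x * y - y * x) w1 := by
    refine ⟨hh, hw1m, ?_, fun e => ?_⟩
    · rw [hw1def, mul_sub _ (e1 * w) (w * e1), sub_mul (_ * (e1 * w)), ← mul_assoc, He, zero_mul, zero_mul, mul_assoc _ (w * e1),
        mul_assoc w, eH, mul_zero, mul_zero, sub_zero]
    · rw [e, sub_self] at hneg
      exact he10 (neg_eq_zero.1 hneg.symm)
  refine (hq3.finrank_le hk2 hk3).trans (le_of_eq ?_)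
  refine qcls_finrank_congr ?_
  simp only [hneg]
  exact qcls_eq he1 (Submodule.neg_mem _ he1.self_mem) (neg_ne_zero.2 he10)

/-- In a class two pair all three classes have the same dimension. -/
theorem qp_two_dim (hpart : ∀ a : Module.End k M, QMin G a → ∃ b, QMin G b ∧ a * b * a ≠ 0)
    (h : QTwo G x y) :
    Module.finrank k (qcls G x h.left.sq) =
      Module.finrank k (qcls G (x * y - y * x) (h.qmin hk2 hk3).sq) := by
  have hh := h.qmin hk2 hk3
  have h' := h.symm hk2 hk3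
  obtain ⟨e1, he1, hd1, hle1⟩ := qp_two_split hk2 hk3 hpart h
  obtain ⟨f1, hf1, hd2, hle2⟩ := qp_two_split hk2 hk3 hpart h'
  have hswap : qcls G (y * x - x * y) (h'.qmin hk2 hk3).sq = qcls G (x * y - y * x) hh.sq := by
    have hm : y * x - x * y ∈ qcls G (x * y - y * x) hh.sq :=
      neg_sub (x * y) (y * x) ▸ Submodule.neg_mem _ hh.self_mem
    exact qcls_eq hh hm (sub_ne_zero.2 (Ne.symm h.comm))
  rw [qcls_finrank_congr hswap] at hle2
  rw [hswap] at hd2
  obtain ⟨d, hd⟩ : ∃ d, d = x - e1 := ⟨_, rfl⟩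
  obtain ⟨d', hd'⟩ : ∃ d', d' = y - f1 := ⟨_, rfl⟩
  rw [← hd] at hd1
  rw [← hd'] at hd2
  have ex : e1 = x - d := by rw [hd, sub_sub_cancel]
  have ey : f1 = y - d' := by rw [hd', sub_sub_cancel]
  obtain ⟨z1, z2⟩ := h.mul_eq_zero hk2 hk3 hd1 h.left.self_mem
  obtain ⟨z3, z4⟩ := h.mul_eq_zero hk2 hk3 hd2 h.left.self_mem
  obtain ⟨z5, z6⟩ := h'.mul_eq_zero hk2 hk3 (hswap ▸ hd1) h'.left.self_mem
  have z7 := qcls_mul hd1 hd2
  have z8 := qcls_mul hd2 hd1
  have e12 : e1 * f1 = x * y := by rw [ex, ey, sub_mul, mul_sub, mul_sub, z4, z5, z7]; simp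
  have e21 : f1 * e1 = y * x := by rw [ex, ey, sub_mul, mul_sub, mul_sub, z3, z6, z8]; simp
  have hzero : e1 * f1 * e1 = 0 := by
    rw [e12, ex, mul_sub, h.zero, mul_assoc, z6, mul_zero, sub_zero]
  have hq : QTwo G e1 f1 := ⟨he1, hf1, hzero, by rw [e12, e21]; exact h.comm⟩
  have hq' := hq.symm hk2 hk3
  have hcl : qcls G (f1 * e1 - e1 * f1) (hq'.qmin hk2 hk3).sq = qcls G (x * y - y * x) hh.sq := by
    simp only [e12, e21]
    exact hswap
  have hcl' : qcls G (e1 * f1 - f1 * e1) (hq.qmin hk2 hk3).sq = qcls G (x * y - y * x) hh.sq := by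
    simp only [e12, e21]
  have hdim : Module.finrank k (qcls G f1 hf1.sq) =
      Module.finrank k (qcls G (f1 * e1 - e1 * f1) (hq'.qmin hk2 hk3).sq) :=
    le_antisymm (hq'.finrank_le hk2 hk3) (by rw [qcls_finrank_congr hcl]; exact hle2)
  obtain ⟨f', hf', ef'⟩ := hq'.surjective_of_finrank hk2 hk3 hdim he1.self_mem he1.ne
    (d := d) (by rw [hcl]; exact hd1)
  obtain ⟨g, hg, eg⟩ := hf'.1.exists_mem
  have hz := (qp_indep hk2 hk3 he1 hf1 hzero he1.self_mem hf').2
  have hconj : qconj g e1 = x := by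
    rw [qconj, (qmove_units_one_add eg).1, (qmove_units_one_add eg).2 (qcls_mul hf' hf'),
      show (1 + f') * e1 * (1 - f') = e1 + (f' * e1 - e1 * f') - f' * e1 * f' by noncomm_ring,
      ef', hz, hd]
    abel
  rw [qcls_finrank_conj hg hconj (hxx := he1.sq)]
  exact le_antisymm ((hq.finrank_le hk2 hk3).trans (qcls_finrank_congr hcl').le) hle1

/-- Commutation with a non-zero member of one class is onto the commutator class. -/
theorem qp_two_surjective (hpart : ∀ a : Module.End k M, QMin G a → ∃ b, QMin G b ∧ a * b * a ≠ 0)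
    (h : QTwo G x y) (hv : v ∈ qcls G y h.right.sq) (hv0 : v ≠ 0) {d : Module.End k M}
    (hd : d ∈ qcls G (x * y - y * x) (h.qmin hk2 hk3).sq) :
    ∃ u ∈ qcls G x h.left.sq, u * v - v * u = d :=
  h.surjective_of_finrank hk2 hk3 (qp_two_dim hk2 hk3 hpart h) hv hv0 hd

end CfsgLib.RootSub
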