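/-
Pairs of root subgroups of a quadratic pair: unipotent pairs, the commutator case, rank one pairs.
-/
import Cfsg.Agent.Lib.RootSub.QPPair
import Cfsg.Agent.Lib.RootSub.SL2Model

set_option autoImplicit false

namespace CfsgLib.RootSub

open Cfsg
open scoped commutatorElement

universe u

variable {k : Type u} [Field k] {M : Type u} [AddCommGroup M] [Module k M] [FiniteDimensional k M]
variable {G : Subgroup (LinearMap.GeneralLinearGroup k M)}
variable {σ τ : LinearMap.GeneralLinearGroup k M}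

local notation "GLkM" => LinearMap.GeneralLinearGroup k M

omit [FiniteDimensional k M] in
lemma qmove_commutator (hσ : qmove σ * qmove σ = 0) (hτ : qmove τ * qmove τ = 0)
    (h1 : qmove σ * qmove τ * qmove σ = 0) (h2 : qmove τ * qmove σ * qmove τ = 0) :
    qmove (σ * τ * σ⁻¹ * τ⁻¹) = qmove σ * qmove τ - qmove τ * qmove σ := by
  rw [qmove, Units.val_mul, Units.val_mul, Units.val_mul,
    (qmove_units_one_add (g := σ) rfl).1, (qmove_units_one_add (g := τ) rfl).1,
    (qmove_units_one_add (g := σ) rfl).2 hσ, (qmove_units_one_add (g := τ) rfl).2 hτ]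
  generalize qmove σ = u at *
  generalize qmove τ = v at *
  have e : (1 + u) * (1 + v) * (1 - u) * (1 - v) - 1 = (u * v - v * u)
      + (v * u * v - u * v * u + u * v * u * v) - u * u - v * v - u * (v * v) + u * u * v := by
    noncomm_ring
  rw [e, h1, h2, hσ, hτ]
  simp

omit [FiniteDimensional k M] in
lemma qp_commute_iff : σ * τ = τ * σ ↔ qmove σ * qmove τ = qmove τ * qmove σ := by
  constructor
  · intro e
    have h := congrArg qmove e
    rw [qmove_mul, qmove_mul] at h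
    calc qmove σ * qmove τ = qmove σ + qmove τ + qmove σ * qmove τ - (qmove σ + qmove τ) := by abel
      _ = qmove τ * qmove σ := by rw [h]; abel
  · intro e
    refine qmove_injective ?_
    rw [qmove_mul, qmove_mul, e, add_comm (qmove σ)]

variable (hk2 : (2 : k) ≠ 0) (hk3 : Nat.card k ≠ 3)
include hk2 hk3

lemma qp_commute_all {x y u v : Module.End k M} (hx : QMin G x) (hy : QMin G y) (e : x * y = y * x)
    (hu : u ∈ qcls G x hx.sq) (hv : v ∈ qcls G y hy.sq) : u * v = v * u := by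
  have h0 : x * y * x = 0 := by rw [e, mul_assoc, hx.sq, mul_zero]
  by_contra hne
  have hu0 : u ≠ 0 := fun h => hne (by rw [h, zero_mul, mul_zero])
  have hv0 : v ≠ 0 := fun h => hne (by rw [h, zero_mul, mul_zero])
  have hQ : QTwo G u v :=
    ⟨qcls_qmin hx hu hu0, qcls_qmin hy hv hv0, (qp_indep hk2 hk3 hx hy h0 hu hv).1, hne⟩
  refine hQ.not_commute hk2 hk3 ?_ ?_ hx.ne hy.ne e
  · rw [qcls_eq hx hu hu0]; exact hx.self_mem
  · rw [qcls_eq hy hv hv0]; exact hy.self_mem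

lemma sas_commute (hσ : QMin G (qmove σ)) (hτ : QMin G (qmove τ))
    (e : qmove σ * qmove τ = qmove τ * qmove σ) :
    ⁅sameActionSubgroup G σ, sameActionSubgroup G τ⁆ = ⊥ :=
  CfsgLib.RootSub.commutator_eq_bot_iff.2 fun _ ha _ hb => qp_commute_iff.2
    (qp_commute_all hk2 hk3 hσ hτ e ((mem_sas_iff hσ).1 ha) ((mem_sas_iff hτ).1 hb))

/-! ### The class two case -/

section Two

variable (hσ : QMin G (qmove σ)) (hτ : QMin G (qmove τ))
  (h0 : qmove σ * qmove τ * qmove σ = 0)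
include hσ hτ h0

lemma qp_pair_qmove_commutator {a b : GLkM} (ha : a ∈ sameActionSubgroup G σ)
    (hb : b ∈ sameActionSubgroup G τ) :
    qmove (a * b * a⁻¹ * b⁻¹) = qmove a * qmove b - qmove b * qmove a := by
  have ha' := (mem_sas_iff hσ).1 ha
  have hb' := (mem_sas_iff hτ).1 hb
  obtain ⟨h1, h2⟩ := qp_indep hk2 hk3 hσ hτ h0 ha' hb'
  exact qmove_commutator (qcls_mul ha' ha') (qcls_mul hb' hb') h1 h2

variable (hne : qmove σ * qmove τ ≠ qmove τ * qmove σ)
include hne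

lemma qp_root_qmove :
    qmove (σ * τ * σ⁻¹ * τ⁻¹) = qmove σ * qmove τ - qmove τ * qmove σ :=
  qp_pair_qmove_commutator hk2 hk3 hσ hτ h0 ((mem_sas_iff hσ).2 hσ.self_mem)
    ((mem_sas_iff hτ).2 hτ.self_mem)

lemma qp_root_qmin : QMin G (qmove (σ * τ * σ⁻¹ * τ⁻¹)) := by
  rw [qp_root_qmove hk2 hk3 hσ hτ h0 hne]
  exact (QTwo.qmin hk2 hk3 ⟨hσ, hτ, h0, hne⟩)

lemma mem_root_sas_iff {d : GLkM} : d ∈ sameActionSubgroup G (σ * τ * σ⁻¹ * τ⁻¹) ↔
    qmove d ∈ qcls G (qmove σ * qmove τ - qmove τ * qmove σ)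
      (QTwo.qmin hk2 hk3 ⟨hσ, hτ, h0, hne⟩).sq := by
  rw [mem_sas_iff (qp_root_qmin hk2 hk3 hσ hτ h0 hne),
    qcls_congr (qp_root_qmove hk2 hk3 hσ hτ h0 hne)]

lemma qp_root_le : ⁅sameActionSubgroup G σ, sameActionSubgroup G τ⁆ ≤
    sameActionSubgroup G (σ * τ * σ⁻¹ * τ⁻¹) := by
  refine Subgroup.commutator_le.2 fun a ha b hb => ?_
  rw [mem_root_sas_iff hk2 hk3 hσ hτ h0 hne, commutatorElement_def,
    qp_pair_qmove_commutator hk2 hk3 hσ hτ h0 ha hb]
  exact QTwo.mem hk2 hk3 ⟨hσ, hτ, h0, hne⟩ ((mem_sas_iff hσ).1 ha) ((mem_sas_iff hτ).1 hb)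

lemma qp_root_commutes {d : GLkM} (hd : d ∈ sameActionSubgroup G (σ * τ * σ⁻¹ * τ⁻¹)) {g : GLkM}
    (hg : g ∈ sameActionSubgroup G σ ⊔ sameActionSubgroup G τ) : d * g = g * d := by
  have hd' := (mem_root_sas_iff hk2 hk3 hσ hτ h0 hne).1 hd
  have hQ : QTwo G (qmove σ) (qmove τ) := ⟨hσ, hτ, h0, hne⟩
  have hQ' := hQ.symm hk2 hk3
  have hd'' : qmove d ∈ qcls G (qmove τ * qmove σ - qmove σ * qmove τ) (hQ'.qmin hk2 hk3).sq := by
    have hm : qmove τ * qmove σ - qmove σ * qmove τ ∈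
        qcls G (qmove σ * qmove τ - qmove τ * qmove σ) (hQ.qmin hk2 hk3).sq :=
      neg_sub (qmove σ * qmove τ) (qmove τ * qmove σ) ▸
        Submodule.neg_mem _ (hQ.qmin hk2 hk3).self_mem
    rw [qcls_eq (hQ.qmin hk2 hk3) hm (sub_ne_zero.2 (Ne.symm hne))]
    exact hd'
  have hle : sameActionSubgroup G σ ⊔ sameActionSubgroup G τ ≤ Subgroup.centralizer {d} := by
    refine sup_le (fun a ha => ?_) (fun a ha => ?_) <;>
      rw [Subgroup.mem_centralizer_singleton_iff]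
    · obtain ⟨e1, e2⟩ := hQ.mul_eq_zero hk2 hk3 hd' ((mem_sas_iff hσ).1 ha)
      exact qp_commute_iff.2 (e2.trans e1.symm)
    · obtain ⟨e1, e2⟩ := hQ'.mul_eq_zero hk2 hk3 hd'' ((mem_sas_iff hτ).1 ha)
      exact qp_commute_iff.2 (e2.trans e1.symm)
  exact (Subgroup.mem_centralizer_singleton_iff.1 (hle hg)).symm

end Two

/-- A pair with `x y x = 0` generates a unipotent group. -/
theorem qp_pair_unipotent (hσ : QMin G (qmove σ)) (hτ : QMin G (qmove τ))
    (h0 : qmove σ * qmove τ * qmove σ = 0) :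
    IsUnipotentOn (sameActionSubgroup G σ ⊔ sameActionSubgroup G τ) := by
  by_cases hne : qmove σ * qmove τ = qmove τ * qmove σ
  · refine isUnipotentOn_sup (sas_isUnipotent hσ) (sas_isUnipotent hτ) fun b hb => ?_
    exact conjBy_eq_iff_mem_normalizer.1 (conjBy_of_commutes fun a ha =>
      (commutator_eq_bot_iff.1 (sas_commute hk2 hk3 hσ hτ hne) a ha b hb).symm)
  have hD := qp_root_qmin hk2 hk3 hσ hτ h0 hne
  obtain ⟨D, hDdef⟩ : ∃ D, D = sameActionSubgroup G (σ * τ * σ⁻¹ * τ⁻¹) := ⟨_, rfl⟩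
  have hDun : IsUnipotentOn (D ⊔ sameActionSubgroup G σ) := by
    refine isUnipotentOn_sup (hDdef ▸ sas_isUnipotent hD) (sas_isUnipotent hσ) fun a ha => ?_
    refine conjBy_eq_iff_mem_normalizer.1 (conjBy_of_commutes fun d hd => ?_)
    exact (qp_root_commutes hk2 hk3 hσ hτ h0 hne (hDdef ▸ hd) (Subgroup.mem_sup_left ha)).symm
  have hle : ∀ b ∈ sameActionSubgroup G τ,
      conjBy (D ⊔ sameActionSubgroup G σ) b ≤ D ⊔ sameActionSubgroup G σ := by
    intro b hb
    rw [conjBy, Subgroup.map_sup]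
    refine sup_le ?_ ?_
    · rintro _ ⟨d, hd, rfl⟩
      have : b * d * b⁻¹ = d := by
        rw [← (qp_root_commutes hk2 hk3 hσ hτ h0 hne (hDdef ▸ hd) (Subgroup.mem_sup_right hb))]
        group
      show b * d * b⁻¹ ∈ _
      rw [this]
      exact Subgroup.mem_sup_left hd
    · rintro _ ⟨a, ha, rfl⟩
      have hmem : a * b * a⁻¹ * b⁻¹ ∈ D := hDdef ▸ qp_root_le hk2 hk3 hσ hτ h0 hne
        (Subgroup.commutator_mem_commutator ha hb)
      show b * a * b⁻¹ ∈ _
      rw [show b * a * b⁻¹ = (a * b * a⁻¹ * b⁻¹)⁻¹ * a by group]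
      exact mul_mem (Subgroup.mem_sup_left (inv_mem hmem)) (Subgroup.mem_sup_right ha)
  refine isUnipotentOn_mono (sup_le_sup_right le_sup_right _)
    (isUnipotentOn_sup hDun (sas_isUnipotent hτ) fun b hb => conjBy_eq_iff_mem_normalizer.1
      (le_antisymm (hle b hb) ?_))
  have h2 := conjBy_le (g := b) (hle b⁻¹ (inv_mem hb))
  rwa [conjBy_conjBy_inv] at h2

omit hk2 hk3 [FiniteDimensional k M] in
lemma qp_umove_prod_replicate (i : GLkM) (n : ℕ) :
    ((List.replicate n i).map umove).prod = qmove i ^ n := by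
  rw [List.map_replicate, List.prod_replicate, umove_eq_qmove]

/-- A pair with `x y x ≠ 0` generates a group which is not unipotent. -/
theorem qp_pair_not_unipotent (hσ : QMin G (qmove σ)) (hτ : QMin G (qmove τ))
    (h : qmove σ * qmove τ * qmove σ ≠ 0) :
    ¬ IsUnipotentOn (sameActionSubgroup G σ ⊔ sameActionSubgroup G τ) := by
  intro hu
  obtain ⟨z, hz, h1, h2⟩ := qp_exists_inverse hk2 hk3 hσ hτ h
  obtain ⟨b, hb, eb⟩ := sas_exists hτ hz
  obtain ⟨i, hi, ei, -⟩ := qp_involution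
    (H := sameActionSubgroup G σ ⊔ sameActionSubgroup G τ) hσ.sq (qcls_mul hz hz) h1 h2
    (Subgroup.mem_sup_left ((mem_sas_iff hσ).2 hσ.self_mem)) (Subgroup.mem_sup_right hb) rfl eb
  obtain ⟨n, hn⟩ := isUnipotentOn_iff.1 hu
  obtain ⟨J, hJ⟩ : ∃ J, J = qmove σ * z + z * qmove σ := ⟨_, rfl⟩
  have eJ : J * J = J := by
    rw [hJ, show (qmove σ * z + z * qmove σ) * (qmove σ * z + z * qmove σ) =
      qmove σ * z * qmove σ * z + qmove σ * (z * z) * qmove σ + z * (qmove σ * qmove σ) * z +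
        z * qmove σ * z * qmove σ by noncomm_ring, hσ.sq, qcls_mul hz hz, h1, h2]
    simp
  have eq : qmove i = (-2 : k) • J := by
    rw [qmove, ei, sub_sub_cancel_left, neg_smul, hJ]
  have hJx : J * qmove σ = qmove σ := by
    rw [hJ, add_mul, mul_assoc z, hσ.sq, h1, mul_zero, add_zero]
  have hz : qmove i ^ (n + 1) = 0 := by
    refine LinearMap.ext fun m => ?_
    rw [pow_succ', Module.End.mul_apply, LinearMap.zero_apply]
    have := mem_fixSeries_iff.1 (hn ▸ Submodule.mem_top : m ∈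
      fixSeries (sameActionSubgroup G σ ⊔ sameActionSubgroup G τ) n) (List.replicate n i)
      (fun g hg => List.eq_of_mem_replicate hg ▸ hi) (List.length_replicate ..)
    rw [qp_umove_prod_replicate] at this
    rw [this, map_zero]
  rw [eq, smul_pow, IsIdempotentElem.pow_succ_eq n eJ] at hz
  have hJ0 : J = 0 := (smul_eq_zero.1 hz).resolve_left (pow_ne_zero _ (neg_ne_zero.2 hk2))
  exact hσ.ne (by rw [← hJx, hJ0, zero_mul])

/-- Opposite root subgroups form a special rank one pair. -/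
theorem qp_special (hσ : QMin G (qmove σ)) (hτ : QMin G (qmove τ))
    (h : qmove σ * qmove τ * qmove σ ≠ 0) :
    IsSpecialRankOnePair (sameActionSubgroup G σ) (sameActionSubgroup G τ) := by
  have key : ∀ {σ τ : GLkM}, QMin G (qmove σ) → QMin G (qmove τ) →
      qmove σ * qmove τ * qmove σ ≠ 0 →
      RankOneCondition (sameActionSubgroup G σ) (sameActionSubgroup G τ) := by
    intro σ τ hσ hτ h a ha ha1
    have ha' := (mem_sas_iff hσ).1 ha
    have ha0 : qmove a ≠ 0 := fun e => ha1 (qmove_injective (e.trans qmove_one.symm))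
    have hu := qcls_qmin hσ ha' ha0
    have hne := (qp_opp_symm hk2 hk3 hσ hτ h ha' hτ.self_mem ha0 hτ.ne).1
    obtain ⟨v, hv, h1, h2⟩ := qp_exists_inverse hk2 hk3 hu hτ hne
    have hv0 : v ≠ 0 := fun e => hu.ne (by rw [← h1, e, mul_zero, zero_mul])
    obtain ⟨b, hb, eb⟩ := sas_exists hτ hv
    refine ⟨b, hb, fun e => hv0 (by rw [← eb, e, qmove_one]), ?_⟩
    have haG : a ∈ G := sas_le hσ ha
    have hbG : b ∈ G := sas_le hτ hb
    have hbm : QMin G (qmove b) := by rw [eb]; exact qcls_qmin hτ hv hv0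
    have e1 : sameActionSubgroup G σ = sameActionSubgroup G a :=
      (sas_eq_of_cls hσ hu ha').symm
    have e2 : sameActionSubgroup G τ = sameActionSubgroup G b :=
      (sas_eq_of_cls hτ hbm (by rw [eb]; exact hv)).symm
    rw [e1, e2, sas_conj hu (inv_mem hbG), sas_conj hbm (inv_mem haG)]
    have hm1 : QMin G (qmove (b⁻¹ * a * b⁻¹⁻¹)) := by rw [qmove_conj']; exact hu.conj (inv_mem hbG)
    have hm2 : QMin G (qmove (a⁻¹ * b * a⁻¹⁻¹)) := by rw [qmove_conj']; exact hbm.conj (inv_mem haG)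
    refine (sas_eq_of_cls hm2 hm1 ?_)
    have e : qmove (b⁻¹ * a * b⁻¹⁻¹) = -qmove (a⁻¹ * b * a⁻¹⁻¹) := by
      rw [qmove_conj', qmove_conj', qconj, qconj, inv_inv, inv_inv,
        (qmove_units_one_add (g := a) rfl).1, (qmove_units_one_add (g := b) rfl).1,
        (qmove_units_one_add (g := a) rfl).2 (qcls_mul ha' ha'),
        (qmove_units_one_add (g := b) rfl).2 hbm.sq, eb]
      have ea : (1 - v) * qmove a * (1 + v) =
          qmove a + qmove a * v - v * qmove a - v * qmove a * v := by noncomm_ring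
      have ea' : (1 - qmove a) * v * (1 + qmove a) =
          v + v * qmove a - qmove a * v - qmove a * v * qmove a := by noncomm_ring
      rw [ea, ea', h1, h2]
      abel
    rw [e]
    exact Submodule.neg_mem _ hm2.self_mem
  have h' : qmove τ * qmove σ * qmove τ ≠ 0 :=
    (qp_opp_symm hk2 hk3 hσ hτ h hσ.self_mem hτ.self_mem hσ.ne hτ.ne).2
  obtain ⟨z, hz, hzx, -⟩ := qp_exists_inverse hk2 hk3 hσ hτ h
  have hz0 : z ≠ 0 := fun e => hσ.ne (by rw [← hzx, e, mul_zero, zero_mul])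
  have hdis : LinearMap.range (qmove σ) ⊓ LinearMap.range (qmove τ) = ⊥ := by
    have hb := qp_inverse_inf hzx
    rw [(qcls_range_ker hτ hz hz0).2] at hb
    exact le_bot_iff.1 (hb ▸ inf_le_inf_left _ (range_le_ker_of_sq hτ.sq))
  refine ⟨⟨fun e => ?_, nilpotent_of_commutative (sas_commutative hσ),
    nilpotent_of_commutative (sas_commutative hτ), key hσ hτ h, key hτ hσ h'⟩, ?_⟩
  · have hm : qmove σ ∈ qcls G (qmove τ) hτ.sq :=
      (mem_sas_iff hτ).1 (e ▸ (mem_sas_iff hσ).2 hσ.self_mem)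
    refine hσ.ne ?_
    have hr := (qcls_range_ker hτ hm hσ.ne).1
    rw [← LinearMap.range_eq_bot, ← le_bot_iff, ← hdis]
    exact le_inf le_rfl hr.le
  intro a ha ha1 b hb hb1 e
  have ha' := (mem_sas_iff hσ).1 ha
  have hb' := (mem_sas_iff hτ).1 hb
  have ha0 : qmove a ≠ 0 := fun e => ha1 (qmove_injective (e.trans qmove_one.symm))
  have hb0 : qmove b ≠ 0 := fun e => hb1 (qmove_injective (e.trans qmove_one.symm))
  obtain ⟨u, hu⟩ : ∃ u, u = qmove a := ⟨_, rfl⟩
  obtain ⟨v, hv⟩ : ∃ v, v = qmove b := ⟨_, rfl⟩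
  have hum := qcls_qmin hσ ha' ha0
  have hvm := qcls_qmin hτ hb' hb0
  have haG : a ∈ G := sas_le hσ ha
  have hbG : b ∈ G := sas_le hτ hb
  rw [← sas_eq_of_cls hσ hum ha', ← sas_eq_of_cls hτ hvm hb', sas_conj hum (inv_mem hbG),
    sas_conj hvm (inv_mem haG)] at e
  have hm1 : QMin G (qmove (b⁻¹ * a * b⁻¹⁻¹)) := by rw [qmove_conj']; exact hum.conj (inv_mem hbG)
  have hm2 : QMin G (qmove (a⁻¹ * b * a⁻¹⁻¹)) := by rw [qmove_conj']; exact hvm.conj (inv_mem haG)
  have hmem := (mem_sas_iff hm2).1 (e ▸ (mem_sas_iff hm1).2 hm1.self_mem)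
  have hr := (qcls_range_ker hm2 hmem hm1.ne).1
  rw [qmove_conj', qmove_conj', qconj_range, qconj_range] at hr
  rw [← (qcls_range_ker hσ ha' ha0).1, ← (qcls_range_ker hτ hb' hb0).1] at hdis
  have key2 : ∀ {a b : GLkM}, (LinearMap.range (qmove a)).map ((b⁻¹ : GLkM) : Module.End k M) =
      (LinearMap.range (qmove b)).map ((a⁻¹ : GLkM) : Module.End k M) →
      qmove a * qmove a = 0 → qmove b * qmove b = 0 →
      LinearMap.range (qmove a) ⊓ LinearMap.range (qmove b) = ⊥ →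
      qmove a * qmove b * qmove a = qmove a := by
    intro a b hr haa hbb hd
    refine LinearMap.ext fun m => ?_
    have hmem : ((b⁻¹ : GLkM) : Module.End k M) (qmove a m) ∈
        (LinearMap.range (qmove b)).map ((a⁻¹ : GLkM) : Module.End k M) :=
      hr ▸ Submodule.mem_map_of_mem (LinearMap.mem_range_self _ m)
    obtain ⟨_, ⟨n, rfl⟩, e⟩ := hmem
    rw [(qmove_units_one_add (g := a) rfl).2 haa, (qmove_units_one_add (g := b) rfl).2 hbb] at e
    simp only [LinearMap.sub_apply, Module.End.one_apply] at e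
    have e1 : qmove a m + qmove a (qmove b n) = qmove b n + qmove b (qmove a m) := by
      rw [← sub_eq_zero] at e ⊢
      rw [← neg_eq_zero, ← e]
      abel
    have h0 : qmove a m + qmove a (qmove b n) ∈
        LinearMap.range (qmove a) ⊓ LinearMap.range (qmove b) :=
      ⟨add_mem (LinearMap.mem_range_self _ _) (LinearMap.mem_range_self _ _),
        e1 ▸ add_mem (LinearMap.mem_range_self _ _) (LinearMap.mem_range_self _ _)⟩
    rw [hd, Submodule.mem_bot] at h0
    have h3 : qmove b n + qmove b (qmove a m) = 0 := e1 ▸ h0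
    show qmove a (qmove b (qmove a m)) = qmove a m
    rw [eq_neg_of_add_eq_zero_right h3, map_neg, eq_neg_of_add_eq_zero_left h0]
  have h1 := key2 hr hum.sq hvm.sq hdis
  have h2 := key2 hr.symm hvm.sq hum.sq (by rwa [inf_comm])
  refine qmove_injective ?_
  have e1 := qmove_conj' b⁻¹ a
  have e2 := qmove_conj' a⁻¹ b⁻¹
  rw [inv_inv] at e1 e2
  rw [e1, e2, qconj, qconj, inv_inv, inv_inv, qmove_inv hvm.sq,
    (qmove_units_one_add (g := a) rfl).1, (qmove_units_one_add (g := b) rfl).1,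
    (qmove_units_one_add (g := a) rfl).2 hum.sq, (qmove_units_one_add (g := b) rfl).2 hvm.sq]
  rw [← hu, ← hv] at h1 h2 ⊢
  have ea : (1 - v) * u * (1 + v) = u + u * v - v * u - v * u * v := by noncomm_ring
  have ea' : (1 - u) * (-v) * (1 + u) = -(v + v * u - u * v - u * v * u) := by noncomm_ring
  rw [ea, ea', h1, h2]
  abel

/-- Every minimal element has a partner. -/
theorem qp_partner (hG : IsQuadraticPair G) :
    ∀ a : Module.End k M, QMin G a → ∃ b, QMin G b ∧ a * b * a ≠ 0 := by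
  intro a ha
  by_contra hc
  push Not at hc
  obtain ⟨s, hs, es⟩ := ha.fam.exists_mem
  subst es
  obtain ⟨W, hW⟩ : ∃ W, W = (fun g => conjBy (sameActionSubgroup G s) g) '' (G : Set GLkM) :=
    ⟨_, rfl⟩
  have hWG : ∀ A ∈ W, A ≤ G := by
    intro A hA
    rw [hW] at hA
    obtain ⟨g, hg, rfl⟩ := hA
    show conjBy (sameActionSubgroup G s) g ≤ G
    rw [sas_conj ha hg]
    exact sas_le (by rw [qmove_conj']; exact ha.conj hg)
  have hWW : ∀ A ∈ W, ∀ B ∈ W, IsUnipotentOn (A ⊔ B) := by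
    intro A hA B hB
    rw [hW] at hA hB
    obtain ⟨g, hg, rfl⟩ := hA
    obtain ⟨g', hg', rfl⟩ := hB
    show IsUnipotentOn (conjBy (sameActionSubgroup G s) g ⊔ conjBy (sameActionSubgroup G s) g')
    rw [sas_conj ha hg, sas_conj ha hg']
    refine qp_pair_unipotent hk2 hk3 (by rw [qmove_conj']; exact ha.conj hg)
      (by rw [qmove_conj']; exact ha.conj hg') ?_
    have h3 := hc _ (ha.conj (mul_mem (inv_mem hg) hg'))
    rw [qmove_conj', qmove_conj']
    have h4 := congrArg (qconj g) h3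
    rwa [qconj_zero, ← qconj_mul, ← qconj_mul, qconj_qconj, mul_inv_cancel_left] at h4
  have hWconj : ∀ A ∈ W, ∀ g ∈ G, conjBy A g ∈ W := by
    intro A hA g hg
    rw [hW] at hA ⊢
    obtain ⟨g', hg', rfl⟩ := hA
    exact ⟨g * g', mul_mem hg hg', (conjBy_conjBy _ _ _).symm⟩
  obtain ⟨U, hUdef⟩ : ∃ U, U = ⨆ A ∈ W, A := ⟨_, rfl⟩
  have hU : IsUnipotentOn U := hUdef ▸ baer_unipotent hWG hWW hWconj
  obtain ⟨n, hn⟩ := isUnipotentOn_iff.1 hU
  obtain ⟨⟨m, hm⟩, hirr⟩ := hG.1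
  rcases hirr (fixSeries U 1) (fun g hg w hw => by
    refine fixSeries_invariant (fun h hh => ?_) 1 w hw
    have e := conjBy_iSup_invariant hWconj hg
    rw [← hUdef] at e
    rw [← e, mem_conjBy] at hh
    exact hh) with h1 | h1
  · have hall : ∀ i, fixSeries U i = ⊥ := by
      intro i
      induction i with
      | zero => rfl
      | succ i ih =>
        refine eq_bot_iff.2 fun w hw => h1 ▸ mem_fixSeries_succ.2 fun g hg => ?_
        have h5 := mem_fixSeries_succ.1 hw g hg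
        rw [ih] at h5
        exact h5
    rw [hall] at hn
    exact hm ((Submodule.mem_bot k).1 (hn.symm ▸ Submodule.mem_top))
  · refine ha.ne (LinearMap.ext fun w => ?_)
    have hs' : s ∈ U := hUdef ▸ (le_biSup (fun D : Subgroup GLkM => D)
      (hW ▸ ⟨1, one_mem G, rfl⟩ : conjBy (sameActionSubgroup G s) 1 ∈ W)) (by
        rw [conjBy_one]; exact (mem_sas_iff ha).2 ha.self_mem)
    have h5 := mem_fixSeries_succ.1 (h1 ▸ Submodule.mem_top : w ∈ fixSeries U 1) s hs'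
    exact (Submodule.mem_bot k).1 h5

/-- The commutator case. -/
theorem qp_root_case (hG : IsQuadraticPair G) (hσ : QMin G (qmove σ)) (hτ : QMin G (qmove τ))
    (h0 : qmove σ * qmove τ * qmove σ = 0) (hne : qmove σ * qmove τ ≠ qmove τ * qmove σ) :
    ⁅sameActionSubgroup G σ, sameActionSubgroup G τ⁆ =
        sameActionSubgroup G (σ * τ * σ⁻¹ * τ⁻¹) ∧
      (∀ a ∈ sameActionSubgroup G σ, a ≠ 1 → Subgroup.closure ((fun b : GLkM =>
        a * b * a⁻¹ * b⁻¹) '' (sameActionSubgroup G τ : Set GLkM)) =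
          ⁅sameActionSubgroup G σ, sameActionSubgroup G τ⁆) ∧
      (∀ b ∈ sameActionSubgroup G τ, b ≠ 1 → Subgroup.closure ((fun a : GLkM =>
        a * b * a⁻¹ * b⁻¹) '' (sameActionSubgroup G σ : Set GLkM)) =
          ⁅sameActionSubgroup G σ, sameActionSubgroup G τ⁆) := by
  have hQ : QTwo G (qmove σ) (qmove τ) := ⟨hσ, hτ, h0, hne⟩
  have hQ' := hQ.symm hk2 hk3
  have hpart := qp_partner hk2 hk3 hG
  have h2 : ∀ b ∈ sameActionSubgroup G τ, b ≠ 1 → sameActionSubgroup G (σ * τ * σ⁻¹ * τ⁻¹) ≤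
      Subgroup.closure ((fun a : GLkM => a * b * a⁻¹ * b⁻¹) ''
        (sameActionSubgroup G σ : Set GLkM)) := by
    intro b hb hb1 d hd
    obtain ⟨w, hw, e⟩ := qp_two_surjective hk2 hk3 hpart hQ ((mem_sas_iff hτ).1 hb)
      (fun e => hb1 (qmove_injective (e.trans qmove_one.symm)))
      ((mem_root_sas_iff hk2 hk3 hσ hτ h0 hne).1 hd)
    obtain ⟨a, ha, ea⟩ := sas_exists hσ hw
    refine Subgroup.subset_closure ⟨a, ha, qmove_injective ?_⟩
    show qmove (a * b * a⁻¹ * b⁻¹) = _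
    rw [qp_pair_qmove_commutator hk2 hk3 hσ hτ h0 ha hb, ea, e]
  have h1 : ∀ a ∈ sameActionSubgroup G σ, a ≠ 1 → sameActionSubgroup G (σ * τ * σ⁻¹ * τ⁻¹) ≤
      Subgroup.closure ((fun b : GLkM => a * b * a⁻¹ * b⁻¹) ''
        (sameActionSubgroup G τ : Set GLkM)) := by
    intro a ha ha1 d hd
    have hd2 := Submodule.neg_mem _ ((mem_root_sas_iff hk2 hk3 hσ hτ h0 hne).1 hd)
    have hm : qmove τ * qmove σ - qmove σ * qmove τ ∈
        qcls G (qmove σ * qmove τ - qmove τ * qmove σ) (hQ.qmin hk2 hk3).sq :=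
      neg_sub (qmove σ * qmove τ) (qmove τ * qmove σ) ▸
        Submodule.neg_mem _ (hQ.qmin hk2 hk3).self_mem
    rw [← qcls_eq (hQ.qmin hk2 hk3) hm (sub_ne_zero.2 (Ne.symm hne))] at hd2
    obtain ⟨w, hw, e⟩ := qp_two_surjective hk2 hk3 hpart hQ' ((mem_sas_iff hσ).1 ha)
      (fun e => ha1 (qmove_injective (e.trans qmove_one.symm))) hd2
    obtain ⟨b, hb, eb⟩ := sas_exists hτ hw
    refine Subgroup.subset_closure ⟨b, hb, qmove_injective ?_⟩
    show qmove (a * b * a⁻¹ * b⁻¹) = _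
    rw [qp_pair_qmove_commutator hk2 hk3 hσ hτ h0 ha hb, eb, ← neg_sub, e, neg_neg]
  have hle := qp_root_le hk2 hk3 hσ hτ h0 hne
  have hle1 : ∀ a ∈ sameActionSubgroup G σ, Subgroup.closure ((fun b : GLkM =>
      a * b * a⁻¹ * b⁻¹) '' (sameActionSubgroup G τ : Set GLkM)) ≤
        ⁅sameActionSubgroup G σ, sameActionSubgroup G τ⁆ := fun a ha => by
    rw [Subgroup.closure_le]
    rintro _ ⟨b, hb, rfl⟩
    exact Subgroup.commutator_mem_commutator ha hb
  have hσ1 : σ ≠ 1 := fun e => hσ.ne (by rw [e, qmove_one])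
  have hge := (h1 σ ((mem_sas_iff hσ).2 hσ.self_mem) hσ1).trans
    (hle1 σ ((mem_sas_iff hσ).2 hσ.self_mem))
  refine ⟨le_antisymm hle hge,
    fun a ha ha1 => le_antisymm (hle1 a ha) (hle.trans (h1 a ha ha1)),
    fun b hb hb1 => le_antisymm ?_ (hle.trans (h2 b hb hb1))⟩
  rw [Subgroup.closure_le]
  rintro _ ⟨a, ha, rfl⟩
  exact Subgroup.commutator_mem_commutator ha hb

/-- The three cases for a pair of root subgroups. -/
theorem qp_trichotomy (hG : IsQuadraticPair G) {E F : Subgroup GLkM}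
    (hE : E ∈ quadraticRootSubgroups G) (hF : F ∈ quadraticRootSubgroups G) :
    (⁅E, F⁆ = ⊥ ∧ IsUnipotentOn (E ⊔ F)) ∨
    (IsSpecialRankOnePair E F ∧ ¬ IsUnipotentOn (E ⊔ F)) ∨
    (⁅E, F⁆ ≠ ⊥ ∧ RootCommutatorCase (quadraticRootSubgroups G) E F ∧ IsUnipotentOn (E ⊔ F)) := by
  obtain ⟨σ, hσ', rfl⟩ := hE
  obtain ⟨τ, hτ', rfl⟩ := hF
  have hσ := qmin_iff.1 hσ'
  have hτ := qmin_iff.1 hτ'
  by_cases h0 : qmove σ * qmove τ * qmove σ = 0
  · by_cases hne : qmove σ * qmove τ = qmove τ * qmove σ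
    · exact Or.inl ⟨sas_commute hk2 hk3 hσ hτ hne, qp_pair_unipotent hk2 hk3 hσ hτ h0⟩
    · obtain ⟨e, h1, h2⟩ := qp_root_case hk2 hk3 hG hσ hτ h0 hne
      refine Or.inr (Or.inr ⟨?_, ⟨⟨_, qmin_iff.2 (qp_root_qmin hk2 hk3 hσ hτ h0 hne), e⟩,
        fun c hc g hg => qp_root_commutes hk2 hk3 hσ hτ h0 hne (e ▸ hc) hg, h1, h2⟩,
        qp_pair_unipotent hk2 hk3 hσ hτ h0⟩)
      rw [e]
      exact sas_ne_bot (qp_root_qmin hk2 hk3 hσ hτ h0 hne)
  · exact Or.inr (Or.inl ⟨qp_special hk2 hk3 hσ hτ h0, qp_pair_not_unipotent hk2 hk3 hσ hτ h0⟩)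

end CfsgLib.RootSub
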