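/-
The group generated by two opposite minimal scalar families is SL2 over a simple extension.
-/
import Cfsg.Agent.Lib.RootSub.QPGroup

set_option autoImplicit false

namespace CfsgLib.RootSub

open Cfsg Polynomial Matrix

universe u

variable {k : Type u} [Field k]

lemma qp_enat_card_gt {K : Type*} [Field K] [Algebra k K] (hk2 : (2 : k) ≠ 0)
    (hk3 : Nat.card k ≠ 3) : 3 < ENat.card K := by
  obtain ⟨t, ht0, ht1⟩ := qp_exists_sq_ne_one hk2 hk3
  have hne : (1 : k) ≠ -1 := fun h => hk2 (by linear_combination h)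
  have hinj : Function.Injective (![(0 : k), 1, -1, t] : Fin 4 → k) := by
    have h1 : t ≠ 1 := fun h => ht1 (by rw [h]; ring)
    have h2 : t ≠ -1 := fun h => ht1 (by rw [h]; ring)
    intro i j h
    fin_cases i <;> fin_cases j <;>
      simp_all [eq_comm, zero_eq_neg, eq_neg_iff_add_eq_zero] 
  have := ((algebraMap k K).injective.comp hinj)
  have h4 : ENat.card (Fin 4) ≤ ENat.card K := ENat.card_le_card_of_injective this
  rw [ENat.card_eq_coe_fintype_card, Fintype.card_fin] at h4
  exact lt_of_lt_of_le (by norm_num) h4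

variable {M : Type u} [AddCommGroup M] [Module k M]
variable {G : Subgroup (LinearMap.GeneralLinearGroup k M)}
variable {σ τ : LinearMap.GeneralLinearGroup k M}

local notation "GLkM" => LinearMap.GeneralLinearGroup k M

lemma scalarFamily_le_sas [FiniteDimensional k M] (hσ : QMin G (qmove σ)) :
    scalarFamily σ ⊆ (sameActionSubgroup G σ : Set GLkM) := by
  intro g hg
  obtain ⟨c, hc⟩ := scalarFamily_iff.1 hg
  exact (mem_sas_iff hσ).2 (by rw [hc]; exact Submodule.smul_mem _ c hσ.self_mem)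

variable [FiniteDimensional k M]

theorem qp_sl2_model (hk2 : (2 : k) ≠ 0) (hk3 : Nat.card k ≠ 3) (hσ : QMin G (qmove σ))
    (hτ : QMin G (qmove τ)) (h : qmove σ * qmove τ * qmove σ ≠ 0) :
    ∃ (K : Type u) (_ : Field K) (_ : Algebra k K) (lam : K), IsAlgebraic k lam ∧
      IntermediateField.adjoin k ({lam} : Set K) = ⊤ ∧ 3 < ENat.card K ∧
      ∃ φ : SpecialLinearGroup (Fin 2) K →* GLkM, Function.Injective φ ∧
        φ.range = Subgroup.closure (scalarFamily σ ∪ scalarFamily τ) ∧
        (upperUnipotentSL2 K).map φ ≤ sameActionSubgroup G σ ∧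
        (lowerUnipotentSL2 K).map φ ≤ sameActionSubgroup G τ := by
  classical
  obtain ⟨z, hz, h1, h2⟩ := qp_exists_inverse hk2 hk3 hσ hτ h
  obtain ⟨f, hfm, hf⟩ := qp_exists_annPoly (qmove σ) (qmove τ)
  obtain ⟨hirr, hR⟩ := qp_main hk2 hk3 _ _ hσ hτ.sq hτ.fam f hfm hf
  haveI : Fact (Irreducible f) := ⟨hirr⟩
  have hxx := hσ.sq
  have hzz := qcls_mul hz hz
  have hz0 : z ≠ 0 := fun e => hσ.ne (by rw [← h1, e, mul_zero, zero_mul])
  obtain ⟨hzr, hzk⟩ := qcls_range_ker hτ hz hz0
  obtain ⟨x, hx⟩ : ∃ x, x = qmove σ := ⟨_, rfl⟩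
  obtain ⟨y, hy⟩ : ∃ y, y = qmove τ := ⟨_, rfl⟩
  rw [← hx] at h1 h2 hxx hf hR h
  rw [← hy] at hzr hzk hf hR h
  have hyz : z * x * y * x * z = y := by
    have e1 : z * x * y = y := by
      refine LinearMap.ext fun m => ?_
      obtain ⟨n, hn⟩ : y m ∈ LinearMap.range z := hzr ▸ LinearMap.mem_range_self y m
      show (z * x) (y m) = y m
      rw [← hn, ← Module.End.mul_apply, h2]
    have e2 : y * x * z = y := by
      refine LinearMap.ext fun m => ?_
      have hm : m - (x * z) m ∈ LinearMap.ker y := by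
        rw [← hzk, LinearMap.mem_ker, map_sub, ← Module.End.mul_apply, ← mul_assoc, h2, sub_self]
      rw [LinearMap.mem_ker, map_sub, sub_eq_zero] at hm
      rw [mul_assoc, Module.End.mul_apply]
      exact hm.symm
    rw [e1, e2]
  have hroot : (AdjoinRoot.root f) ≠ 0 := fun e => by
    rw [← AdjoinRoot.mk_X, AdjoinRoot.mk_eq_zero] at e
    have := (hf X).2 e
    rw [aeval_X] at this
    exact h this
  -- the embedding of the field into the corner
  have hcongr : ∀ q q' : k[X], AdjoinRoot.mk f q = AdjoinRoot.mk f q' →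
      aeval (x * y) q * x * z = aeval (x * y) q' * x * z := by
    intro q q' e
    rw [AdjoinRoot.mk_eq_mk] at e
    have := (hf _).2 e
    rw [map_sub, sub_mul, sub_eq_zero] at this
    rw [this]
  obtain ⟨θ, hθ⟩ : ∃ θ : AdjoinRoot f → Module.End k M, ∀ q : k[X],
      θ (AdjoinRoot.mk f q) = aeval (x * y) q * x * z :=
    ⟨fun a => aeval (x * y) (Function.surjInv AdjoinRoot.mk_surjective a) * x * z, fun q =>
      hcongr _ _ (Function.surjInv_eq AdjoinRoot.mk_surjective _)⟩
  have hsurj : ∀ a : AdjoinRoot f, ∃ q, AdjoinRoot.mk f q = a := AdjoinRoot.mk_surjective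
  have θadd : ∀ a b, θ (a + b) = θ a + θ b := by
    intro a b
    obtain ⟨p, rfl⟩ := hsurj a
    obtain ⟨q, rfl⟩ := hsurj b
    rw [← map_add, hθ, hθ, hθ, map_add, add_mul, add_mul]
  have θmul : ∀ a b, θ a * θ b = θ (a * b) := by
    intro a b
    obtain ⟨p, rfl⟩ := hsurj a
    obtain ⟨q, rfl⟩ := hsurj b
    rw [← map_mul, hθ, hθ, hθ, map_mul, qp_swap_right q, mul_assoc (aeval (x * y) p) _ _,
      ← qp_swap_right q]
    calc aeval (x * y) p * x * z * (aeval (x * y) q * x * z)
        = aeval (x * y) p * (x * z * x) * (aeval (y * x) q * z) := by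
          rw [qp_swap_right q]; simp only [mul_assoc]
      _ = aeval (x * y) p * (aeval (x * y) q * x * z) := by
          rw [h1, qp_swap_right q]; simp only [mul_assoc]
      _ = _ := by simp only [mul_assoc]
  have θone : θ 1 = x * z := by rw [← map_one (AdjoinRoot.mk f), hθ, map_one, one_mul]
  have θsmul : ∀ c : k, θ (algebraMap k _ c) = c • (x * z) := by
    intro c
    rw [AdjoinRoot.algebraMap_eq, ← AdjoinRoot.mk_C, hθ, aeval_C, Algebra.algebraMap_eq_smul_one,
      smul_mul_assoc, smul_mul_assoc, one_mul]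
  have θinj : ∀ a, θ a = 0 → a = 0 := by
    intro a
    obtain ⟨p, rfl⟩ := hsurj a
    intro e
    rw [AdjoinRoot.mk_eq_zero, ← hf]
    rw [hθ] at e
    have := congrArg (· * x) e
    rw [zero_mul, mul_assoc (aeval (x * y) p) x z, mul_assoc, h1] at this
    exact this
  obtain ⟨C, hC⟩ : ∃ C : Module.End k M, C = 1 - (x * z + z * x) := ⟨_, rfl⟩
  -- rules
  have xθ : ∀ a, x * θ a = 0 := by
    intro a
    obtain ⟨p, rfl⟩ := hsurj a
    rw [hθ, ← mul_assoc, ← mul_assoc, qp_left hxx, zero_mul]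
  have θz : ∀ a, θ a * z = 0 := by
    intro a
    obtain ⟨p, rfl⟩ := hsurj a
    rw [hθ, mul_assoc, hzz, mul_zero]
  have xzθ : ∀ a, x * (z * θ a) = θ a := by
    intro a
    obtain ⟨p, rfl⟩ := hsurj a
    rw [hθ, qp_swap_right, ← mul_assoc, ← mul_assoc, ← mul_assoc, h1]
  have θxz : ∀ a, θ a * (x * z) = θ a := by
    intro a
    obtain ⟨p, rfl⟩ := hsurj a
    rw [hθ, mul_assoc, mul_assoc, ← mul_assoc z x z, h2, mul_assoc]
  have Cx : C * x = 0 := by
    rw [hC, sub_mul, one_mul, add_mul, h1, mul_assoc z, hxx, mul_zero, add_zero, sub_self]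
  have Cz : C * z = 0 := by
    rw [hC, sub_mul, one_mul, add_mul, h2, mul_assoc x, hzz, mul_zero, zero_add, sub_self]
  have xC : x * C = 0 := by
    rw [hC, mul_sub, mul_one, mul_add, ← mul_assoc, ← mul_assoc, h1, hxx, zero_mul, zero_add, sub_self]
  have zC : z * C = 0 := by
    rw [hC, mul_sub, mul_one, mul_add, ← mul_assoc, ← mul_assoc, h2, hzz, zero_mul, add_zero, sub_self]
  have Cθ : ∀ a, C * θ a = 0 := fun a => by rw [← xzθ a, ← mul_assoc, Cx, zero_mul]
  have θC : ∀ a, θ a * C = 0 := fun a => by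
    rw [← θxz a, mul_assoc, mul_assoc, zC, mul_zero, mul_zero]
  have CC : C * C = C := by
    conv_lhs => arg 1; rw [hC]
    rw [sub_mul, one_mul, add_mul, mul_assoc, zC, mul_assoc, xC, mul_zero, mul_zero, add_zero,
      sub_zero]
  let Φ : SpecialLinearGroup (Fin 2) (AdjoinRoot f) →* Module.End k M :=
    { toFun := fun g => C + θ (g 0 0) + θ (g 0 1) * x + z * θ (g 1 0) + z * (θ (g 1 1) * x)
      map_one' := by
        have θ0 : θ 0 = 0 := by
          have := θadd 0 0
          rw [add_zero] at this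
          simpa using this
        simp [θ0, θone]
        rw [hC, h1]
        abel
      map_mul' := fun g g' => by
        have hent : ∀ i j, (g * g') i j = g i 0 * g' 0 j + g i 1 * g' 1 j := fun i j => by
          show (g.1 * g'.1) i j = _
          rw [Matrix.mul_apply, Fin.sum_univ_two]
        simp only [hent, θadd]
        have r1 : ∀ a w, x * (θ a * w) = 0 := fun a w => by rw [← mul_assoc, xθ, zero_mul]
        have r2 : ∀ a w, θ a * (z * w) = 0 := fun a w => by rw [← mul_assoc, θz, zero_mul]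
        have r3 : ∀ a w, x * (z * (θ a * w)) = θ a * w := fun a w => by
          rw [← mul_assoc z, ← mul_assoc, xzθ]
        have r4 : ∀ a b w, θ a * (θ b * w) = θ (a * b) * w := fun a b w => by
          rw [← mul_assoc, θmul]
        have r5 : ∀ a w, C * (θ a * w) = 0 := fun a w => by rw [← mul_assoc, Cθ, zero_mul]
        have r6 : ∀ w, C * (z * w) = 0 := fun w => by rw [← mul_assoc, Cz, zero_mul]
        simp only [mul_add, add_mul, mul_assoc, r1, r2, r3, r4, r5, r6, xθ, xC, θC, Cθ, CC, xzθ,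
          θmul, mul_zero, zero_mul, add_zero, zero_add]
        abel }
  have hΦ : ∀ g : SpecialLinearGroup (Fin 2) (AdjoinRoot f),
      Φ g = C + θ (g 0 0) + θ (g 0 1) * x + z * θ (g 1 0) + z * (θ (g 1 1) * x) := fun g => rfl
  have θ0 : θ 0 = 0 := by
    have := θadd 0 0
    rw [add_zero] at this
    simpa using this
  let φ : SpecialLinearGroup (Fin 2) (AdjoinRoot f) →* GLkM := Φ.toHomUnits
  have hφ : ∀ g, (φ g : Module.End k M) = Φ g := fun g => rfl
  have hφU : ∀ a, qmove (φ (slU a)) = θ a * x := by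
    intro a
    rw [qmove, hφ, hΦ]
    have e : C + x * z + z * x = 1 := by rw [hC]; abel
    simp [slU_val, θone, θ0]
    rw [h1]
    calc C + x * z + θ a * x + z * x - 1 = θ a * x + (C + x * z + z * x - 1) := by abel
      _ = θ a * x := by rw [e, sub_self, add_zero]
  have hφL : ∀ a, qmove (φ (slL a)) = z * θ a := by
    intro a
    rw [qmove, hφ, hΦ]
    have e : C + x * z + z * x = 1 := by rw [hC]; abel
    simp [slL_val, θone, θ0]
    rw [h1]
    calc C + x * z + z * θ a + z * x - 1 = z * θ a + (C + x * z + z * x - 1) := by abel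
      _ = z * θ a := by rw [e, sub_self, add_zero]
  have θx : ∀ q : k[X], θ (AdjoinRoot.mk f q) * x = aeval (x * y) q * x := fun q => by
    rw [hθ, mul_assoc, mul_assoc, ← mul_assoc x z x, h1]
  have hU1 : ∀ c : k, qmove (φ (slU (algebraMap k _ c))) = c • x := fun c => by
    rw [hφU, θsmul, smul_mul_assoc, h1]
  have hL1 : ∀ c : k, qmove (φ (slL (algebraMap k _ c * AdjoinRoot.root f))) = c • y := fun c => by
    rw [hφL, AdjoinRoot.algebraMap_eq, ← AdjoinRoot.mk_C, ← AdjoinRoot.mk_X, ← map_mul, hθ, map_mul,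
      aeval_C, aeval_X, Algebra.algebraMap_eq_smul_one, smul_mul_assoc, one_mul, smul_mul_assoc,
      smul_mul_assoc, mul_smul_comm]
    conv_rhs => rw [← hyz]
    simp only [mul_assoc]
  have hrange : φ.range = Subgroup.closure (scalarFamily σ ∪ scalarFamily τ) := by
    refine le_antisymm ?_ ?_
    · rw [MonoidHom.range_eq_map, Subgroup.map_le_iff_le_comap]
      refine le_of_eq (sl2_gen_simple hk2 hk3 (AdjoinRoot.powerBasis hirr.ne_zero)
        (by rwa [AdjoinRoot.powerBasis_gen]) (fun c => ?_) (fun c => ?_)).symm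
      · exact Subgroup.subset_closure (Or.inl (scalarFamily_iff.2 ⟨c, by rw [hU1, hx]⟩))
      · rw [AdjoinRoot.powerBasis_gen]
        exact Subgroup.subset_closure (Or.inr (scalarFamily_iff.2 ⟨c, by rw [hL1, hy]⟩))
    · rw [Subgroup.closure_le]
      rintro g (hg | hg) <;> obtain ⟨c, hc⟩ := scalarFamily_iff.1 hg
      · exact ⟨slU (algebraMap k _ c), qmove_injective (by rw [hU1, hc, hx])⟩
      · exact ⟨slL (algebraMap k _ c * AdjoinRoot.root f), qmove_injective (by rw [hL1, hc, hy])⟩
  refine ⟨AdjoinRoot f, inferInstance, inferInstance, AdjoinRoot.root f, ?_, ?_,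
    qp_enat_card_gt hk2 hk3, φ, ?_, hrange, ?_, ?_⟩
  · exact ⟨f, hirr.ne_zero, by rw [AdjoinRoot.aeval_eq, AdjoinRoot.mk_self]⟩
  · rw [eq_top_iff]
    intro a _
    have ha : a ∈ Algebra.adjoin k ({AdjoinRoot.root f} : Set (AdjoinRoot f)) := by
      rw [AdjoinRoot.adjoinRoot_eq_top]; exact Algebra.mem_top
    exact IntermediateField.algebra_adjoin_le_adjoin k _ ha
  · rw [injective_iff_map_eq_one]
    intro g hg
    have e : Φ g = 1 := by rw [← hφ, hg, Units.val_one]
    rw [hΦ] at e
    have r1 : ∀ a w, x * (θ a * w) = 0 := fun a w => by rw [← mul_assoc, xθ, zero_mul]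
    have r2 : ∀ a w, θ a * (z * w) = 0 := fun a w => by rw [← mul_assoc, θz, zero_mul]
    have r3 : ∀ a w, x * (z * (θ a * w)) = θ a * w := fun a w => by
      rw [← mul_assoc z, ← mul_assoc, xzθ]
    have rz : ∀ w, z * (z * w) = 0 := fun w => by rw [← mul_assoc, hzz, zero_mul]
    have rx : ∀ w, x * (x * w) = 0 := fun w => by rw [← mul_assoc, hxx, zero_mul]
    have rC : ∀ w, x * (C * w) = 0 := fun w => by rw [← mul_assoc, xC, zero_mul]
    have rC' : ∀ w, z * (C * w) = 0 := fun w => by rw [← mul_assoc, zC, zero_mul]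
    have h1' : x * (z * x) = x := by rw [← mul_assoc, h1]
    have e00 := congrArg (fun w => x * z * w * (x * z)) e
    have e01 := congrArg (fun w => x * z * w * z) e
    have e10 := congrArg (fun w => x * w * (x * z)) e
    have e11 := congrArg (fun w => x * w * z) e
    simp only [mul_add, add_mul, mul_assoc, r1, r2, r3, rz, rx, rC, rC', h1', xθ, θz, xzθ, θxz,
      hzz, hxx, mul_zero, zero_mul, add_zero, zero_add, mul_one, one_mul] at e00 e01 e10 e11
    have hxz : x * (z * (x * z)) = θ 1 := by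
      rw [θone, ← mul_assoc, ← mul_assoc, h1]
    rw [hxz] at e00
    rw [← θone] at e11
    have inj : ∀ a b, θ a = θ b → a = b := by
      intro a b hab
      refine sub_eq_zero.1 (θinj _ ?_)
      have := θadd (a - b) b
      rw [sub_add_cancel, hab] at this
      exact left_eq_add.1 (this.trans (add_comm _ _))
    have a00 : g 0 0 = 1 := inj _ _ e00
    have a11 : g 1 1 = 1 := inj _ _ e11
    have a01 : g 0 1 = 0 := θinj _ e01
    have a10 : g 1 0 = 0 := θinj _ e10
    apply Subtype.ext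
    ext i j
    fin_cases i <;> fin_cases j <;> simp [a00, a11, a01, a10]
  · rw [Subgroup.map_le_iff_le_comap, upperUnipotent_eq]
    rintro _ ⟨a, rfl⟩
    rw [Subgroup.mem_comap, mem_sas_iff hσ]
    obtain ⟨p, hp⟩ := hsurj a.toAdd
    show qmove (φ (slU a.toAdd)) ∈ _
    rw [hφU, ← hp, θx]
    refine ⟨hR p, ?_, ?_⟩
    · rintro _ ⟨m, rfl⟩
      rw [← hx, qp_swap_right]
      exact LinearMap.mem_range_self x _
    · intro m hm
      rw [← hx] at hm
      rw [LinearMap.mem_ker, Module.End.mul_apply, LinearMap.mem_ker.1 hm, map_zero]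
  · rw [Subgroup.map_le_iff_le_comap, lowerUnipotent_eq]
    rintro _ ⟨a, rfl⟩
    rw [Subgroup.mem_comap, mem_sas_iff hτ]
    show qmove (φ (slL a.toAdd)) ∈ _
    rw [hφL]
    have hG' : ∀ g, φ g ∈ G := by
      intro g
      have hg : φ g ∈ φ.range := ⟨g, rfl⟩
      rw [hrange] at hg
      refine (Subgroup.closure_le G).2 ?_ hg
      rintro w (hw | hw)
      · exact sas_le hσ (scalarFamily_le_sas hσ hw)
      · exact sas_le hτ (scalarFamily_le_sas hτ hw)
    refine ⟨fun c => ⟨φ (slL (algebraMap k _ c * a.toAdd)), hG' _, ?_⟩, ?_, ?_⟩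
    · rw [hφL, ← θmul, θsmul, smul_mul_assoc, mul_assoc x z, xzθ, mul_smul_comm]
    · rw [← hy, ← hzr]
      rintro _ ⟨m, rfl⟩
      exact LinearMap.mem_range_self z _
    · rw [← hy, ← hzk]
      intro m hm
      rw [LinearMap.mem_ker, ← θxz, Module.End.mul_apply, Module.End.mul_apply,
        Module.End.mul_apply, LinearMap.mem_ker.1 hm, map_zero, map_zero, map_zero]

end CfsgLib.RootSub
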