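/-
The quasisimplicity criterion for groups generated by abstract root subgroups.
-/
import Cfsg.Agent.Lib.RootSub.Graph
import Cfsg.Agent.Lib.RootSub.Special

set_option autoImplicit false

namespace CfsgLib.RootSub

open Cfsg
open scoped commutatorElement

variable {G : Type*} [Group G] {A B : Subgroup G}

/-- A non-central element of a subgroup normalized by a rank one group yields a conjugating
element in that subgroup. -/
lemma r1_exists_moving (h : IsRankOnePair A B) {H : Subgroup G}
    (hH : ∀ x ∈ A ⊔ B, ∀ y ∈ H, x * y * x⁻¹ ∈ H) {z w : G} (hz : z ∈ A ⊔ B) (hzH : z ∈ H)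
    (hw : w ∈ A ⊔ B) (hne : z * w ≠ w * z) : ∃ m ∈ A ⊔ B, m ∈ H ∧ B = conjBy A m := by
  obtain ⟨C, hC, hmove⟩ : ∃ C ∈ unipotentSubgroups A B, conjBy C z ≠ C := by
    by_contra hc
    push Not at hc
    exact hne (r1_kernel_central h hz hc w hw)
  obtain ⟨x, hx, e1, e2⟩ := unipotent_pair_map h hC (unipotent_conj hC hz) (Ne.symm hmove)
  refine ⟨x⁻¹ * z * x, mul_mem (mul_mem (inv_mem hx) hz) hx, ?_, ?_⟩
  · have := hH x⁻¹ (inv_mem hx) z hzH
    rwa [inv_inv] at this
  · have := congrArg (fun E => conjBy E x⁻¹) e2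
    simp only [conjBy_inv_conjBy] at this
    rw [← this, e1, conjBy_conjBy, conjBy_conjBy, mul_assoc]

/-- The commutator of non-identity elements of a rank one pair is never central. -/
lemma r1_commutator_not_central (h : IsRankOnePair A B) {a b : G} (ha : a ∈ A) (ha1 : a ≠ 1)
    (hb : b ∈ B) (hb1 : b ≠ 1) : ∃ w ∈ A ⊔ B, ⁅a, b⁆ * w ≠ w * ⁅a, b⁆ := by
  by_contra hc
  push Not at hc
  have hfix : conjBy A (b * a⁻¹ * b⁻¹) = A := by
    have e : b * a⁻¹ * b⁻¹ = a⁻¹ * ⁅a, b⁆ := by rw [commutatorElement_def]; group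
    rw [e, ← conjBy_conjBy, conjBy_of_commutes fun x hx => hc x (Subgroup.mem_sup_left hx),
      conjBy_of_mem (inv_mem ha)]
  have hne : conjBy A b ≠ A := fun e => hb1 (r1_eq_one_of_normalizes (r1_symm h) hb e)
  have := r1_eq_one_of_normalizes
    (unipotent_isRankOnePair h (unipotent_conj (unipotent_self A B) (Subgroup.mem_sup_right hb))
      (unipotent_self A B) hne) (conj_mem_conjBy (inv_mem ha)) hfix
  exact ha1 (by simpa using this)

variable {S : Set (Subgroup G)} (hS : IsRootSubgroupSet S)
include hS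

lemma rs_commutator_eq_top (hcl : IsConjClassOfSubgroups S)
    (h3 : IsDegenerateRootSet S → ∀ A ∈ S, 3 < ENat.card A)
    (h4 : ∀ A ∈ S, ∀ B ∈ rankOnePartners S A, IsSpecialRankOnePair A B)
    (hF : ∀ A ∈ S, HasPartner S A) : commutator G = ⊤ := by
  have key : ∀ A ∈ S, A ≤ commutator G := by
    by_cases hd : IsDegenerateRootSet S
    · intro A hA
      obtain ⟨B, hB, r⟩ := hF A hA
      rw [← spec_left_eq_commutator_diag (h4 A hA B ⟨hB, r⟩)
        ⟨hS.commutative A hA, hS.commutative B hB⟩ (h3 hd A hA), commutator_def]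
      exact Subgroup.commutator_mono le_top le_top
    · simp only [IsDegenerateRootSet] at hd
      push Not at hd
      obtain ⟨P, hP, Q, hQ, h⟩ := hd
      intro A hA
      obtain ⟨g, rfl⟩ := hcl.2 _ h.1 A hA
      rw [conjBy_commutator, commutator_def]
      exact Subgroup.commutator_mono le_top le_top
  rw [eq_top_iff, ← hS.generates]
  exact iSup₂_le key

theorem rs_normal_dichotomy (hcl : IsConjClassOfSubgroups S)
    (h2' : ∀ A ∈ S, ∀ C ∈ S, A ≠ C → centralizingMembers S A ≠ centralizingMembers S C)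
    (h3 : IsDegenerateRootSet S → ∀ A ∈ S, 3 < ENat.card A)
    (h4 : ∀ A ∈ S, ∀ B ∈ rankOnePartners S A, IsSpecialRankOnePair A B)
    (hF : ∀ A ∈ S, HasPartner S A) (N : Subgroup G) (hN : N.Normal) :
    N = ⊤ ∨ N ≤ Subgroup.center G := by
  by_cases hmem : ∃ E ∈ S, E ≤ N
  · left
    obtain ⟨E, hE, hle⟩ := hmem
    rw [eq_top_iff, ← hS.generates]
    refine iSup₂_le fun A hA => ?_
    obtain ⟨g, rfl⟩ := hcl.2 E hE A hA
    intro x hx
    rw [mem_conjBy] at hx
    have := hN.conj_mem _ (hle hx) g
    simpa [mul_assoc] using this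
  right
  obtain ⟨π, hπ⟩ : ∃ π : G →* G ⧸ N, π = QuotientGroup.mk' N := ⟨_, rfl⟩
  have hker : ∀ {x : G}, π x = 1 ↔ x ∈ N := by
    intro x; rw [hπ]; exact QuotientGroup.eq_one_iff x
  have hcommN : ∀ {x y : G}, Commute (π x) (π y) → ⁅x, y⁆ ∈ N := by
    intro x y h
    rw [← hker, map_commutatorElement]
    exact commutatorElement_eq_one_iff_mul_comm.2 h
  have hNcomm : ∀ {x y : G}, ⁅x, y⁆ ∈ N → Commute (π x) (π y) := by
    intro x y h
    rw [← hker, map_commutatorElement] at h
    exact commutatorElement_eq_one_iff_mul_comm.1 h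
  have hconj : ∀ {A : Subgroup G} {n : G}, n ∈ N → ∀ x ∈ conjBy A n, ∃ a ∈ A, π x = π a := by
    intro A n hn x hx
    rw [mem_conjBy] at hx
    refine ⟨_, hx, ?_⟩
    simp [hker.2 hn]
  have hnoR : ∀ {E F : Subgroup G}, RootCommutatorCase S E F →
      ¬ (∀ e ∈ E, ∀ f ∈ F, Commute (π e) (π f)) := by
    intro E F h hc
    exact hmem ⟨_, h.1, Subgroup.commutator_le.2 fun e he f hf => hcommN (hc e he f hf)⟩
  -- if `E, F` are partners whose images commute then `F` is a conjugate of `E` under `N`
  have hmove : ∀ {E F : Subgroup G}, E ∈ S → F ∈ S → IsRankOnePair E F →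
      (∀ e ∈ E, ∀ f ∈ F, Commute (π e) (π f)) → ∃ m ∈ N, F = conjBy E m := by
    intro E F hE hF' r hc
    obtain ⟨e, he, he1⟩ := rs_exists_ne_one hS hE
    obtain ⟨f, hf, hf1⟩ := rs_exists_ne_one hS hF'
    obtain ⟨w, hw, hne⟩ := r1_commutator_not_central r he he1 hf hf1
    obtain ⟨m, -, hm, e'⟩ := r1_exists_moving r (H := N) (fun x _ y hy => hN.conj_mem y hy x)
      (Subgroup.commutator_le_sup _ _ (Subgroup.commutator_mem_commutator he hf))
      (hcommN (hc e he f hf)) hw hne
    exact ⟨m, hm, e'⟩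
  -- no member is a partner of one of its conjugates under `N`
  have case1 : ∀ A ∈ S, ∀ n ∈ N, ¬ IsRankOnePair A (conjBy A n) := by
    intro A hA n hn r
    have hB := hS.conj_mem A hA n
    generalize hBdef : conjBy A n = B at r hB
    have hab : ∀ b ∈ B, ∃ a ∈ A, π b = π a := hBdef ▸ hconj hn
    by_cases hd : IsDegenerateRootSet S
    · apply hmem ⟨A, hA, ?_⟩
      have himg : ∀ x ∈ A ⊔ B, π x ∈ A.map π := by
        intro x hx
        have : A ⊔ B ≤ (A.map π).comap π := sup_le (Subgroup.le_comap_map π A) (fun b hb => by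
          obtain ⟨a, ha, e⟩ := hab b hb
          exact ⟨a, ha, e.symm⟩)
        exact this hx
      intro a ha
      rw [← spec_left_eq_commutator_diag (h4 A hA B ⟨hB, r⟩)
        ⟨hS.commutative A hA, hS.commutative B hB⟩ (h3 hd A hA)] at ha
      refine (Subgroup.commutator_le.2 fun x hx y hy => ?_) ha
      obtain ⟨a1, ha1, e1⟩ := himg x (Subgroup.mem_sup_left hx)
      obtain ⟨a2, ha2, e2⟩ := himg y hy.1.1
      apply hcommN
      rw [← e1, ← e2]
      exact (show Commute a1 a2 from rs_comm hS hA ha1 ha2).map π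
    · simp only [IsDegenerateRootSet] at hd
      push Not at hd
      obtain ⟨P, hP, Q, hQ, hcc⟩ := hd
      obtain ⟨g, hg⟩ := hcl.2 P hP A hA
      obtain ⟨D, hD, h⟩ : ∃ D ∈ S, RootCommutatorCase S A D := by
        refine ⟨conjBy Q g, hS.conj_mem Q hQ g, rs_cc_of_mem hS hA (hS.conj_mem Q hQ g) ?_⟩
        rw [hg, ← conjBy_commutator]
        exact hS.conj_mem _ hcc.1 g
      have haB : ∀ a ∈ A, ∃ b ∈ B, π a = π b := by
        intro a ha
        refine ⟨n * a * n⁻¹, hBdef ▸ conj_mem_conjBy ha, ?_⟩
        simp [hker.2 hn]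
      rcases hS.pair B hB D hD with h' | h' | h'
      · refine hnoR h fun a ha d hd => ?_
        obtain ⟨b, hb, e⟩ := haB a ha
        rw [e]
        exact (show Commute b d from commutator_eq_bot_iff.1 h' b hb d hd).map π
      · refine hnoR h fun a ha d hd => ?_
        by_contra hne
        obtain ⟨b, hb, e⟩ := haB a ha
        have hb1 : b ≠ 1 := by
          rintro rfl
          exact hne (by rw [e, map_one]; exact Commute.one_left _)
        have hd1 : d ≠ 1 := by
          rintro rfl
          exact hne (by rw [map_one]; exact Commute.one_right _)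
        let H : Subgroup G :=
          { carrier := {x | x ∈ B ⊔ D ∧ ∀ y ∈ B ⊔ D, Commute (π x) (π y)}
            one_mem' := ⟨one_mem _, fun y _ => by rw [map_one]; exact Commute.one_left _⟩
            mul_mem' := fun hx hx' => ⟨mul_mem hx.1 hx'.1, fun y hy => by
              rw [map_mul]; exact (hx.2 y hy).mul_left (hx'.2 y hy)⟩
            inv_mem' := fun hx => ⟨inv_mem hx.1, fun y hy => by
              rw [map_inv]; exact (hx.2 y hy).inv_left⟩ }
        have hnH : ∀ x ∈ B ⊔ D, ∀ y ∈ H, x * y * x⁻¹ ∈ H := by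
          intro x hx y hy
          refine ⟨mul_mem (mul_mem hx hy.1) (inv_mem hx), fun u hu => ?_⟩
          have := hy.2 x hx
          have e' : π (x * y * x⁻¹) = π y := by
            rw [map_mul, map_mul, map_inv, ← this.eq, mul_inv_cancel_right]
          rw [e']; exact hy.2 u hu
        obtain ⟨w, hw, hne'⟩ := r1_commutator_not_central h' hb hb1 hd hd1
        have hzH : ⁅b, d⁆ ∈ H := by
          refine ⟨Subgroup.commutator_le_sup _ _ (Subgroup.commutator_mem_commutator hb hd),
            fun u hu => ?_⟩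
          rw [map_commutatorElement, ← e, ← map_commutatorElement]
          have : B ⊔ D ≤ (Subgroup.centralizer {π ⁅a, d⁆}).comap π := by
            refine sup_le (fun v hv => ?_) (fun v hv => ?_)
            · obtain ⟨a', ha', e'⟩ := hab v hv
              rw [Subgroup.mem_comap, Subgroup.mem_centralizer_singleton_iff, e', ← map_mul,
                ← map_mul, cc_central_left h (Subgroup.commutator_mem_commutator ha hd) ha']
            · rw [Subgroup.mem_comap, Subgroup.mem_centralizer_singleton_iff, ← map_mul,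
                ← map_mul, cc_central_right h (Subgroup.commutator_mem_commutator ha hd) hv]
          exact (Subgroup.mem_centralizer_singleton_iff.1 (this hu)).symm
        obtain ⟨m, hm, hmH, eD⟩ := r1_exists_moving h' hnH
          (Subgroup.commutator_le_sup _ _ (Subgroup.commutator_mem_commutator hb hd)) hzH hw hne'
        rw [eD, mem_conjBy] at hd
        apply hne
        have ed : π d = π (m⁻¹ * d * m) := by
          have := hmH.2 _ (Subgroup.mem_sup_left (T := D) hd)
          calc π d = π m * π (m⁻¹ * d * m) * (π m)⁻¹ := by simp [mul_assoc]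
            _ = _ := by rw [this.eq, mul_inv_cancel_right]
        rw [e, ed]
        exact (show Commute b (m⁻¹ * d * m) from rs_comm hS hB hb hd).map π
      · -- both in the commutator case
        obtain ⟨R, hR⟩ : ∃ R, R = ⁅A, D⁆ := ⟨_, rfl⟩
        have hRS : R ∈ S := hR ▸ h.1
        have hRB : ∀ x ∈ R, ∀ b ∈ B, Commute (π x) (π b) := by
          intro x hx b hb
          obtain ⟨a, ha, e⟩ := hab b hb
          rw [e]
          exact (show Commute x a from cc_central_left h (hR ▸ hx) ha).map π
        rcases hS.pair R hRS B hB with h'' | h'' | h''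
        · obtain ⟨a, ha, ha1⟩ := rs_exists_ne_one hS hA
          obtain ⟨z, hz, hz1⟩ := rs_exists_ne_one hS hRS
          obtain ⟨d, hd, ed⟩ := cc_mem_conj hS hA h ha ha1 (hR ▸ hz)
          exact rs_central_translate hS hA hB (hS.conj_mem A hA d) r
            (fun x hx => cc_central_left h (hR ▸ hz) hx)
            (fun x hx => commutator_eq_bot_iff.1 h'' z hz x hx) hz1 ha ha1
            (ed ▸ conj_mem_conjBy ha)
        · obtain ⟨m, hm, eB⟩ := hmove hRS hB h'' hRB
          refine hnoR h fun a ha d hd => ?_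
          obtain ⟨b, hb, e⟩ := haB a ha
          rw [eB] at hb
          obtain ⟨z, hz, e'⟩ := hconj hm b hb
          rw [e, e']
          exact (show Commute z d from cc_central_right h (hR ▸ hz) hd).map π
        · exact hnoR h'' hRB
  have hcomm : ∀ A ∈ S, ∀ n ∈ N, ⁅A, conjBy A n⁆ = ⊥ := by
    intro A hA n hn
    rcases hS.pair A hA _ (hS.conj_mem A hA n) with h | h | h
    · exact h
    · exact absurd h (case1 A hA n hn)
    · refine absurd (fun a ha b hb => ?_) (hnoR h)
      obtain ⟨a', ha', e⟩ := hconj hn b hb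
      rw [e]
      exact (show Commute a a' from rs_comm hS hA ha ha').map π
  have hsub : ∀ A ∈ S, ∀ n ∈ N,
      centralizingMembers S A ⊆ centralizingMembers S (conjBy A n) := by
    intro A hA n hn E hE
    refine ⟨hE.1, ?_⟩
    have himg : ∀ e ∈ E, ∀ b ∈ conjBy A n, Commute (π e) (π b) := by
      intro e he b hb
      obtain ⟨a, ha, e'⟩ := hconj hn b hb
      rw [e']
      exact (show Commute e a from (Subgroup.mem_centralizer_iff.1 (hE.2 he) a ha).symm).map π
    rcases hS.pair E hE.1 _ (hS.conj_mem A hA n) with h | h | h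
    · exact fun e he => Subgroup.mem_centralizer_iff.2 fun b hb =>
        (commutator_eq_bot_iff.1 h e he b hb).symm
    · obtain ⟨m, hm, e⟩ := hmove hE.1 (hS.conj_mem A hA n) h himg
      rw [e] at h
      exact absurd h (case1 E hE.1 m hm)
    · exact absurd himg (hnoR h)
  intro n hn
  have hfix : ∀ A ∈ S, ∀ m ∈ N, conjBy A m = A := by
    intro A hA m hm
    by_contra hne
    refine h2' A hA _ (hS.conj_mem A hA m) (Ne.symm hne) (Set.Subset.antisymm (hsub A hA m hm) ?_)
    have := hsub _ (hS.conj_mem A hA m) m⁻¹ (inv_mem hm)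
    rwa [conjBy_inv_conjBy] at this
  have hcen : ∀ A ∈ S, A ≤ Subgroup.centralizer {n} := by
    intro A hA a ha
    rw [Subgroup.mem_centralizer_singleton_iff]
    obtain ⟨B, hB, r⟩ := hF A hA
    have h1 : ⁅a, n⁆ ∈ A := by
      rw [commutatorElement_def, mul_assoc, mul_assoc]
      refine mul_mem ha ?_
      have := conj_mem_conjBy (g := n) (inv_mem ha)
      rw [hfix A hA n hn] at this
      simpa [mul_assoc] using this
    have h2 : ⁅a, n⁆ ∈ N := by
      rw [commutatorElement_def]
      exact mul_mem (hN.conj_mem n hn a) (inv_mem hn)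
    exact commutatorElement_eq_one_iff_mul_comm.1
      (r1_eq_one_of_normalizes r h1 (hfix B hB _ h2))
  rw [Subgroup.mem_center_iff]
  intro g
  exact Subgroup.mem_centralizer_singleton_iff.1
    ((iSup₂_le hcen : (⨆ A ∈ S, A) ≤ _) (hS.generates ▸ Subgroup.mem_top g))

end CfsgLib.RootSub
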