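/-
Root sets inside the group they generate, and their connectivity components.
-/
import Cfsg.Agent.Lib.RootSub.Simple
import Cfsg.Agent.Lib.RootSub.Transfer
import Cfsg.Agent.Lib.RootSub.EGraph

set_option autoImplicit false

namespace CfsgLib.RootSub

open Cfsg
open scoped commutatorElement

variable {G : Type*} [Group G]

lemma commutator_subgroupOf_eq_bot {H A B : Subgroup G} (hA : A ≤ H) (hB : B ≤ H) :
    ⁅A.subgroupOf H, B.subgroupOf H⁆ = ⊥ ↔ ⁅A, B⁆ = ⊥ := by
  rw [← (Subgroup.map_injective H.subtype_injective).eq_iff, Subgroup.map_commutator,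
    Subgroup.map_subgroupOf_eq_of_le hA, Subgroup.map_subgroupOf_eq_of_le hB, Subgroup.map_bot]

lemma commutator_le_of_le {H A B : Subgroup G} (hA : A ≤ H) (hB : B ≤ H) : ⁅A, B⁆ ≤ H :=
  Subgroup.commutator_le.2 fun _ ha _ hb => by
    rw [commutatorElement_def]
    exact mul_mem (mul_mem (mul_mem (hA ha) (hB hb)) (inv_mem (hA ha))) (inv_mem (hB hb))

lemma commutator_subgroupOf {H A B : Subgroup G} (hA : A ≤ H) (hB : B ≤ H) :
    ⁅A.subgroupOf H, B.subgroupOf H⁆ = ⁅A, B⁆.subgroupOf H := by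
  apply Subgroup.map_injective H.subtype_injective
  rw [Subgroup.map_commutator, Subgroup.map_subgroupOf_eq_of_le hA,
    Subgroup.map_subgroupOf_eq_of_le hB, Subgroup.map_subgroupOf_eq_of_le (commutator_le_of_le hA hB)]

lemma r1_subgroupOf_iff {H A B : Subgroup G} (hA : A ≤ H) (hB : B ≤ H) :
    IsRankOnePair (A.subgroupOf H) (B.subgroupOf H) ↔ IsRankOnePair A B := by
  rw [← r1_map_iff H.subtype_injective, Subgroup.map_subgroupOf_eq_of_le hA,
    Subgroup.map_subgroupOf_eq_of_le hB]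

lemma special_subgroupOf_iff {H A B : Subgroup G} (hA : A ≤ H) (hB : B ≤ H) :
    IsSpecialRankOnePair (A.subgroupOf H) (B.subgroupOf H) ↔ IsSpecialRankOnePair A B := by
  rw [← special_map_iff H.subtype_injective, Subgroup.map_subgroupOf_eq_of_le hA,
    Subgroup.map_subgroupOf_eq_of_le hB]

variable {T : Set (Subgroup G)} {H : Subgroup G}

lemma cc_subgroupOf (hle : ∀ A ∈ T, A ≤ H) {A B : Subgroup G} (hA : A ∈ T) (hB : B ∈ T)
    (h : RootCommutatorCase T A B) :
    RootCommutatorCase ((fun A : Subgroup G => A.subgroupOf H) '' T) (A.subgroupOf H)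
      (B.subgroupOf H) := by
  have hD := commutator_subgroupOf (hle A hA) (hle B hB)
  refine ⟨⟨_, h.1, hD.symm⟩, ?_, ?_, ?_⟩
  · intro c hc x hx
    rw [hD, Subgroup.mem_subgroupOf] at hc
    refine Subtype.ext (h.2.1 _ hc _ ?_)
    have : (x : G) ∈ (A.subgroupOf H ⊔ B.subgroupOf H).map H.subtype := ⟨x, hx, rfl⟩
    rwa [Subgroup.map_sup, Subgroup.map_subgroupOf_eq_of_le (hle A hA),
      Subgroup.map_subgroupOf_eq_of_le (hle B hB)] at this
  · intro a ha ha1
    apply Subgroup.map_injective H.subtype_injective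
    rw [hD, Subgroup.map_subgroupOf_eq_of_le (commutator_le_of_le (hle A hA) (hle B hB)),
      MonoidHom.map_closure, Set.image_image, ← h.2.2.1 a ha (fun e => ha1 (Subtype.ext e))]
    congr 1
    ext w
    simp only [Set.mem_image, SetLike.mem_coe, Subgroup.mem_subgroupOf]
    constructor
    · rintro ⟨b, hb, rfl⟩; exact ⟨b, hb, rfl⟩
    · rintro ⟨b, hb, rfl⟩; exact ⟨⟨b, hle B hB hb⟩, hb, rfl⟩
  · intro b hb hb1
    apply Subgroup.map_injective H.subtype_injective
    rw [hD, Subgroup.map_subgroupOf_eq_of_le (commutator_le_of_le (hle A hA) (hle B hB)),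
      MonoidHom.map_closure, Set.image_image, ← h.2.2.2 b hb (fun e => hb1 (Subtype.ext e))]
    congr 1
    ext w
    simp only [Set.mem_image, SetLike.mem_coe, Subgroup.mem_subgroupOf]
    constructor
    · rintro ⟨a, ha, rfl⟩; exact ⟨a, ha, rfl⟩
    · rintro ⟨a, ha, rfl⟩; exact ⟨⟨a, hle A hA ha⟩, ha, rfl⟩

/-- A family closed under conjugation by the group it generates, with the three cases for every
pair, is a root set of that group. -/
theorem rootSet_restrict (hgen : (⨆ A ∈ T, A) = H) (hcomm : ∀ A ∈ T, IsMulCommutative A)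
    (hbot : ∀ A ∈ T, A ≠ ⊥) (hconj : ∀ A ∈ T, ∀ g ∈ H, conjBy A g ∈ T)
    (hpair : ∀ A ∈ T, ∀ B ∈ T, ⁅A, B⁆ = ⊥ ∨ IsRankOnePair A B ∨ RootCommutatorCase T A B) :
    IsRootSubgroupSet ((fun A : Subgroup G => A.subgroupOf H) '' T) := by
  have hle : ∀ A ∈ T, A ≤ H := fun A hA => hgen ▸ le_biSup (fun A : Subgroup G => A) hA
  refine ⟨?_, ?_, ?_, ?_, ?_⟩
  · rintro _ ⟨A, hA, rfl⟩
    exact commutative_restrict (hcomm A hA) H
  · rintro _ ⟨A, hA, rfl⟩ e
    refine hbot A hA ?_
    have e' : A.subgroupOf H = ⊥ := e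
    rw [← Subgroup.map_subgroupOf_eq_of_le (hle A hA), e', Subgroup.map_bot]
  · apply Subgroup.map_injective H.subtype_injective
    rw [← MonoidHom.range_eq_map, Subgroup.range_subtype, iSup_image, Subgroup.map_iSup]
    refine le_antisymm (iSup_le fun A => ?_) ?_
    · rw [Subgroup.map_iSup]
      exact iSup_le fun hA => (Subgroup.map_subgroupOf_eq_of_le (hle A hA)).trans_le (hle A hA)
    · conv_lhs => rw [← hgen]
      refine iSup₂_le fun A hA => le_iSup_of_le A ?_
      rw [Subgroup.map_iSup]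
      exact le_iSup_of_le hA (Subgroup.map_subgroupOf_eq_of_le (hle A hA)).ge
  · rintro _ ⟨A, hA, rfl⟩ g
    refine ⟨_, hconj A hA g g.2, ?_⟩
    apply Subgroup.map_injective H.subtype_injective
    show ((conjBy A (g : G)).subgroupOf H).map H.subtype = _
    rw [Subgroup.map_subgroupOf_eq_of_le (hle _ (hconj A hA g g.2)), map_conjBy,
      Subgroup.map_subgroupOf_eq_of_le (hle A hA)]
    rfl
  · rintro _ ⟨A, hA, rfl⟩ _ ⟨B, hB, rfl⟩
    rcases hpair A hA B hB with h | h | h
    · exact Or.inl ((commutator_subgroupOf_eq_bot (hle A hA) (hle B hB)).2 h)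
    · exact Or.inr (Or.inl ((r1_subgroupOf_iff (hle A hA) (hle B hB)).2 h))
    · exact Or.inr (Or.inr (cc_subgroupOf hle hA hB h))

/-! ### Connectivity in a root set in which every member has a partner -/

variable {S : Set (Subgroup G)} (hS : IsRootSubgroupSet S) (hF : ∀ A ∈ S, HasPartner S A)
include hS hF

lemma rs_reach_conjBy (g : G) : ∀ A ∈ S, FReach S A (conjBy A g) := by
  let K : Subgroup G :=
    { carrier := {g | ∀ A ∈ S, FReach S A (conjBy A g)}
      one_mem' := fun A _ => by rw [conjBy_one]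
      mul_mem' := fun {g h} hg hh A hA => by
        rw [← conjBy_conjBy]
        exact (hh A hA).trans (hg _ (hS.conj_mem A hA h))
      inv_mem' := fun {g} hg A hA => by
        have := hg (conjBy A g⁻¹) (hS.conj_mem A hA g⁻¹)
        rw [conjBy_conjBy_inv] at this
        exact freach_symm this }
  have : (⊤ : Subgroup G) ≤ K := by
    rw [← hS.generates]
    exact iSup₂_le fun E hE e he A hA => rs_reach_conj hS hA (hF A hA) hE he
  exact this (Subgroup.mem_top g)

/-- The commutator of a pair in the commutator case is connected to its members. -/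
lemma rs_cc_reach {X Y : Subgroup G} (hX : X ∈ S) (h : RootCommutatorCase S X Y) :
    FReach S X ⁅X, Y⁆ := by
  obtain ⟨e1, -⟩ := cc_linePartner_symm hS hX h (hF X hX)
  have hne : X ≠ ⁅X, Y⁆ := Ne.symm e1.1.2.1
  obtain ⟨x, -, hx, -⟩ := line_two_transitive hS hF hX e1 X ⟨hX, le_sup_left⟩ ⁅X, Y⁆
    ⟨h.1, le_sup_right⟩ ⁅X, Y⁆ ⟨h.1, le_sup_right⟩ X ⟨hX, le_sup_left⟩ hne (Ne.symm hne)
  rw [← hx]
  exact rs_reach_conjBy hS hF x X hX

/-- Members which do not commute are connected. -/
lemma rs_noncommute_reach {X Y : Subgroup G} (hX : X ∈ S) (hY : Y ∈ S) (h : ⁅X, Y⁆ ≠ ⊥) :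
    FReach S X Y := by
  rcases hS.pair X hX Y hY with h' | h' | h'
  · exact absurd h' h
  · exact Relation.ReflTransGen.single ⟨hX, hY, h'⟩
  · have h2 := rs_cc_reach hS hF hY (cc_symm h')
    rw [Subgroup.commutator_comm] at h2
    exact (rs_cc_reach hS hF hX h').trans (freach_symm h2)

omit hS hF in
/-- The quasisimplicity criterion for a class in which every member has a partner. -/
theorem rs_quasisimple {S : Set (Subgroup G)} (hS : IsRootSubgroupSet S)
    (hcl : IsConjClassOfSubgroups S)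
    (h2' : ∀ A ∈ S, ∀ C ∈ S, A ≠ C → centralizingMembers S A ≠ centralizingMembers S C)
    (h3 : IsDegenerateRootSet S → ∀ A ∈ S, 3 < ENat.card A)
    (h4 : ∀ A ∈ S, ∀ B ∈ rankOnePartners S A, IsSpecialRankOnePair A B)
    (hF : ∀ A ∈ S, HasPartner S A) : IsQuasisimple G := by
  obtain ⟨A₀, hA₀⟩ := hcl.1
  have htop := rs_commutator_eq_top hS hcl h3 h4 hF
  haveI hnt : Nontrivial (G ⧸ Subgroup.center G) := by
    rw [QuotientGroup.nontrivial_iff]
    intro hc
    obtain ⟨B, hB, r⟩ := hF A₀ hA₀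
    refine r1_not_commute r (CfsgLib.RootSub.commutator_eq_bot_iff.2 fun a _ b _ => ?_)
    exact Subgroup.mem_center_iff.1 (hc ▸ Subgroup.mem_top b) a
  refine ⟨Group.isPerfect_def.2 htop, IsSimpleGroup.mk fun N hN => ?_⟩
  have hsurj := QuotientGroup.mk'_surjective (Subgroup.center G)
  rcases rs_normal_dichotomy hS hcl h2' h3 h4 hF _ (hN.comap (QuotientGroup.mk' (Subgroup.center G)))
    with h | h
  · right
    rw [← Subgroup.map_comap_eq_self_of_surjective hsurj N, h]
    exact Subgroup.map_top_of_surjective _ hsurj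
  · left
    rw [eq_bot_iff]
    intro m hm
    obtain ⟨n, rfl⟩ := hsurj m
    exact (QuotientGroup.eq_one_iff n).2 (h hm)

end CfsgLib.RootSub
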