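/-
The root subgroups of a quadratic pair form a root set; its components.
-/
import Cfsg.Agent.Lib.RootSub.QPModel
import Cfsg.Agent.Lib.RootSub.Restrict
import Cfsg.Agent.Lib.RootSub.Incomparable

set_option autoImplicit false

namespace CfsgLib.RootSub

open Cfsg

universe u

variable {k : Type u} [Field k] {M : Type u} [AddCommGroup M] [Module k M] [FiniteDimensional k M]
variable {G : Subgroup (LinearMap.GeneralLinearGroup k M)}
variable (hk2 : (2 : k) ≠ 0) (hk3 : Nat.card k ≠ 3) (hG : IsQuadraticPair G)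

local notation "GLkM" => LinearMap.GeneralLinearGroup k M
local notation "SG" => quadraticRootSubgroups G

lemma qp_mem_sigma {σ : GLkM} (hσ : QMin G (qmove σ)) : sameActionSubgroup G σ ∈ SG :=
  ⟨σ, qmin_iff.2 hσ, rfl⟩

lemma qp_sigma_le {A : Subgroup GLkM} (hA : A ∈ SG) : A ≤ G := by
  obtain ⟨σ, hσ, rfl⟩ := hA
  exact sas_le (qmin_iff.1 hσ)

lemma qp_sigma_conj {A : Subgroup GLkM} (hA : A ∈ SG) {g : GLkM} (hg : g ∈ G) :
    conjBy A g ∈ SG := by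
  obtain ⟨σ, hσ, rfl⟩ := hA
  rw [sas_conj (qmin_iff.1 hσ) hg]
  exact qp_mem_sigma (by rw [qmove_conj']; exact (qmin_iff.1 hσ).conj hg)

include hk2 hk3 in
lemma qp_sigma_card {A : Subgroup GLkM} (hA : A ∈ SG) : 3 < ENat.card A := by
  obtain ⟨σ, hσ', rfl⟩ := hA
  have hσ := qmin_iff.1 hσ'
  choose f hf ef using fun c : k => sas_exists hσ (Submodule.smul_mem _ c hσ.self_mem)
  refine lt_of_lt_of_le (qp_enat_card_gt (K := k) hk2 hk3)
    (ENat.card_le_card_of_injective (f := fun c => (⟨f c, hf c⟩ : sameActionSubgroup G σ)) ?_)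
  intro a b e
  have e' : qmove (f a) = qmove (f b) := congrArg (fun w => qmove w.1) e
  rw [ef, ef] at e'
  exact smul_left_injective k hσ.ne e'

include hk2 hk3 hG

/-- Rank one pairs in Σ are opposite pairs. -/
lemma qp_r1_special {A B : Subgroup GLkM} (hA : A ∈ SG) (hB : B ∈ SG) (r : IsRankOnePair A B) :
    IsSpecialRankOnePair A B := by
  rcases qp_trichotomy hk2 hk3 hG hA hB with h | h | h
  · exact absurd h.1 (r1_not_commute r)
  · exact h.1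
  · exfalso
    obtain ⟨a, ha, ha1⟩ := (Subgroup.bot_or_exists_ne_one A).resolve_left (r1_left_ne_bot r)
    obtain ⟨b, hb, hb1⟩ := (Subgroup.bot_or_exists_ne_one B).resolve_left (r1_left_ne_bot (r1_symm r))
    obtain ⟨w, hw, hne⟩ := r1_commutator_not_central r ha ha1 hb hb1
    exact hne (h.2.1.2.1 _ (Subgroup.commutator_mem_commutator ha hb) w hw)

/-- The structure of the group generated by a rank one pair. -/
lemma qp_r1_psl2 {A B : Subgroup GLkM} (hA : A ∈ SG) (hB : B ∈ SG) (r : IsRankOnePair A B) :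
    ∃ A₀ B₀ : Subgroup GLkM, A₀ ≤ A ∧ B₀ ≤ B ∧
      ∃ (k₁ : Type u) (_ : Field k₁), 3 < ENat.card k₁ ∧ IsPSL2PairOver k₁ A₀ B₀ := by
  obtain ⟨σ, hσ', rfl⟩ := hA
  obtain ⟨τ, hτ', rfl⟩ := hB
  have hσ := qmin_iff.1 hσ'
  have hτ := qmin_iff.1 hτ'
  have hs := qp_r1_special hk2 hk3 hG ⟨σ, hσ', rfl⟩ ⟨τ, hτ', rfl⟩ r
  have h0 : qmove σ * qmove τ * qmove σ ≠ 0 := by
    intro h0
    by_cases hne : qmove σ * qmove τ = qmove τ * qmove σ
    · exact r1_not_commute r (sas_commute hk2 hk3 hσ hτ hne)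
    · obtain ⟨w, hw, hne'⟩ := r1_commutator_not_central r
        ((mem_sas_iff hσ).2 hσ.self_mem) (fun e => hσ.ne (by rw [e, qmove_one]))
        ((mem_sas_iff hτ).2 hτ.self_mem) (fun e => hτ.ne (by rw [e, qmove_one]))
      exact hne' (qp_root_commutes hk2 hk3 hσ hτ h0 hne (qp_root_le hk2 hk3 hσ hτ h0 hne
        (Subgroup.commutator_mem_commutator ((mem_sas_iff hσ).2 hσ.self_mem)
          ((mem_sas_iff hτ).2 hτ.self_mem))) hw)
  obtain ⟨K, iF, iA, lam, -, -, hcard, φ, hinj, -, hu, hl⟩ := qp_sl2_model hk2 hk3 hσ hτ h0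
  refine ⟨_, _, hu, hl, K, iF, hcard, φ, ?_, ?_, rfl, rfl⟩
  · rw [← Subgroup.map_sup, sup_comm, sl2_sup_eq_top, MonoidHom.range_eq_map]
  · rw [(MonoidHom.ker_eq_bot_iff φ).2 hinj]
    exact bot_le

lemma qp_hasPartner {A : Subgroup GLkM} (hA : A ∈ SG) : HasPartner SG A := by
  obtain ⟨σ, hσ', rfl⟩ := hA
  obtain ⟨b, hb, hne⟩ := qp_partner hk2 hk3 hG _ (qmin_iff.1 hσ')
  obtain ⟨τ, -, e⟩ := hb.fam.exists_mem
  subst e
  exact ⟨_, qp_mem_sigma hb, (qp_special hk2 hk3 (qmin_iff.1 hσ') hb hne).1⟩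

omit hk2 hk3 hG in
lemma qp_G0_le : (⨆ A ∈ SG, A) ≤ G := iSup₂_le fun _ hA => qp_sigma_le hA

theorem qp_rootSet : IsRootSubgroupSet ((fun A : Subgroup GLkM => A.subgroupOf (⨆ B ∈ SG, B)) '' SG) := by
  refine rootSet_restrict rfl ?_ ?_ (fun A hA g hg => qp_sigma_conj hA (qp_G0_le hg)) ?_
  · rintro _ ⟨σ, hσ, rfl⟩
    exact sas_commutative (qmin_iff.1 hσ)
  · rintro _ ⟨σ, hσ, rfl⟩
    exact sas_ne_bot (qmin_iff.1 hσ)
  · intro A hA B hB
    rcases qp_trichotomy hk2 hk3 hG hA hB with h | h | h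
    · exact Or.inl h.1
    · exact Or.inr (Or.inl h.1.1)
    · exact Or.inr (Or.inr h.2.1)

lemma qp_rootSet_hasPartner : ∀ A ∈ (fun A : Subgroup GLkM => A.subgroupOf (⨆ B ∈ SG, B)) '' SG,
    HasPartner ((fun A : Subgroup GLkM => A.subgroupOf (⨆ B ∈ SG, B)) '' SG) A := by
  rintro _ ⟨A, hA, rfl⟩
  obtain ⟨B, hB, r⟩ := qp_hasPartner hk2 hk3 hG hA
  have hle : ∀ {C}, C ∈ SG → C ≤ ⨆ B ∈ SG, B := fun hC => le_biSup (fun B : Subgroup GLkM => B) hC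
  exact ⟨_, ⟨B, hB, rfl⟩, (r1_subgroupOf_iff (hle hA) (hle hB)).2 r⟩

omit hk2 hk3 hG in
lemma qp_freach_transfer {A B : Subgroup GLkM} (hA : A ∈ SG) (hB : B ∈ SG)
    (h : FReach ((fun A : Subgroup GLkM => A.subgroupOf (⨆ B ∈ SG, B)) '' SG)
      (A.subgroupOf (⨆ B ∈ SG, B)) (B.subgroupOf (⨆ B ∈ SG, B))) : FReach SG A B := by
  have hle : ∀ {C}, C ∈ SG → C ≤ ⨆ B ∈ SG, B := fun hC => le_biSup (fun B : Subgroup GLkM => B) hC
  have key : ∀ X Y, FReach ((fun A : Subgroup GLkM => A.subgroupOf (⨆ B ∈ SG, B)) '' SG) X Y →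
      FReach SG (X.map (⨆ B ∈ SG, B).subtype) (Y.map (⨆ B ∈ SG, B).subtype) := by
    intro X Y h
    induction h with
    | refl => exact .refl
    | tail _ h ih =>
      obtain ⟨⟨C, hC, rfl⟩, ⟨D, hD, rfl⟩, r⟩ := h
      refine ih.tail ?_
      rw [Subgroup.map_subgroupOf_eq_of_le (hle hC), Subgroup.map_subgroupOf_eq_of_le (hle hD)]
      exact ⟨hC, hD, (r1_subgroupOf_iff (hle hC) (hle hD)).1 r⟩
  have := key _ _ h
  rwa [Subgroup.map_subgroupOf_eq_of_le (hle hA), Subgroup.map_subgroupOf_eq_of_le (hle hB)] at this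

lemma qp_noncommute_reach {A B : Subgroup GLkM} (hA : A ∈ SG) (hB : B ∈ SG) (h : ⁅A, B⁆ ≠ ⊥) :
    FReach SG A B := by
  have hle : ∀ {C}, C ∈ SG → C ≤ ⨆ B ∈ SG, B := fun hC => le_biSup (fun B : Subgroup GLkM => B) hC
  exact qp_freach_transfer hA hB (rs_noncommute_reach (qp_rootSet hk2 hk3 hG)
    (qp_rootSet_hasPartner hk2 hk3 hG) ⟨A, hA, rfl⟩ ⟨B, hB, rfl⟩
    fun e => h ((commutator_subgroupOf_eq_bot (hle hA) (hle hB)).1 e))

lemma qp_cc_reach {A B : Subgroup GLkM} (hA : A ∈ SG) (hB : B ∈ SG)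
    (h : RootCommutatorCase SG A B) : FReach SG A ⁅A, B⁆ := by
  have hle : ∀ {C}, C ∈ SG → C ≤ ⨆ B ∈ SG, B := fun hC => le_biSup (fun B : Subgroup GLkM => B) hC
  have h2 := rs_cc_reach (qp_rootSet hk2 hk3 hG) (qp_rootSet_hasPartner hk2 hk3 hG) ⟨A, hA, rfl⟩
    (cc_subgroupOf (fun C hC => hle hC) hA hB h)
  rw [commutator_subgroupOf (hle hA) (hle hB)] at h2
  exact qp_freach_transfer hA h.1 h2

lemma qp_reach_conj {A : Subgroup GLkM} (hA : A ∈ SG) {g : GLkM} (hg : g ∈ ⨆ B ∈ SG, B) :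
    FReach SG A (conjBy A g) := by
  have hle : ∀ {C}, C ∈ SG → C ≤ ⨆ B ∈ SG, B := fun hC => le_biSup (fun B : Subgroup GLkM => B) hC
  have h2 := rs_reach_conjBy (qp_rootSet hk2 hk3 hG) (qp_rootSet_hasPartner hk2 hk3 hG) ⟨g, hg⟩
    _ ⟨A, hA, rfl⟩
  refine qp_freach_transfer hA (qp_sigma_conj hA (qp_G0_le hg)) ?_
  convert h2 using 1
  apply Subgroup.map_injective (⨆ B ∈ SG, B).subtype_injective
  rw [Subgroup.map_subgroupOf_eq_of_le (hle (qp_sigma_conj hA (qp_G0_le hg))), map_conjBy,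
    Subgroup.map_subgroupOf_eq_of_le (hle hA)]
  rfl

/-! ### Components -/

omit hk2 hk3 hG [FiniteDimensional k M] in
/-- A component of Σ. -/
abbrev qpart (G : Subgroup GLkM) (A : Subgroup GLkM) : Set (Subgroup GLkM) :=
  componentOf (FAdj (quadraticRootSubgroups G)) (quadraticRootSubgroups G) A

omit hk2 hk3 hG [FiniteDimensional k M] in
lemma qpart_gen_le (A : Subgroup GLkM) : (⨆ B ∈ qpart G A, B) ≤ ⨆ B ∈ SG, B :=
  biSup_mono fun _ h => h.1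

/-- Members outside a component commute with those inside. -/
lemma qpart_commute {A B C : Subgroup GLkM} (hB : B ∈ qpart G A) (hC : C ∈ SG)
    (hC' : C ∉ qpart G A) : ⁅C, B⁆ = ⊥ := by
  by_contra h
  exact hC' ⟨hC, hB.2.trans (freach_symm (qp_noncommute_reach hk2 hk3 hG hC hB.1 h))⟩

lemma qpart_hasPartner {A B : Subgroup GLkM} (hB : B ∈ qpart G A) : HasPartner (qpart G A) B := by
  obtain ⟨C, hC, r⟩ := qp_hasPartner hk2 hk3 hG hB.1
  exact ⟨C, ⟨hC, hB.2.tail ⟨hB.1, hC, r⟩⟩, r⟩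

lemma qpart_rootClass {A : Subgroup GLkM} (hA : A ∈ SG) :
    IsRootSubgroupClass ((fun B : Subgroup GLkM => B.subgroupOf (⨆ C ∈ qpart G A, C)) '' qpart G A) ∧
    (∀ B ∈ (fun B : Subgroup GLkM => B.subgroupOf (⨆ C ∈ qpart G A, C)) '' qpart G A,
      HasPartner ((fun B : Subgroup GLkM => B.subgroupOf (⨆ C ∈ qpart G A, C)) '' qpart G A) B) := by
  have hle : ∀ {C}, C ∈ qpart G A → C ≤ ⨆ C ∈ qpart G A, C :=
    fun hC => le_biSup (fun B : Subgroup GLkM => B) hC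
  have hrs : IsRootSubgroupSet
      ((fun B : Subgroup GLkM => B.subgroupOf (⨆ C ∈ qpart G A, C)) '' qpart G A) := by
    refine rootSet_restrict rfl ?_ ?_ ?_ ?_
    · rintro B ⟨⟨σ, hσ, rfl⟩, -⟩
      exact sas_commutative (qmin_iff.1 hσ)
    · rintro B ⟨⟨σ, hσ, rfl⟩, -⟩
      exact sas_ne_bot (qmin_iff.1 hσ)
    · intro B hB g hg
      have hg' := qpart_gen_le A hg
      exact ⟨qp_sigma_conj hB.1 (qp_G0_le hg'),
        hB.2.trans (qp_reach_conj hk2 hk3 hG hB.1 hg')⟩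
    · intro B hB C hC
      rcases qp_trichotomy hk2 hk3 hG hB.1 hC.1 with h | h | h
      · exact Or.inl h.1
      · exact Or.inr (Or.inl h.1.1)
      · exact Or.inr (Or.inr ⟨⟨h.2.1.1, hB.2.trans (qp_cc_reach hk2 hk3 hG hB.1 hC.1 h.2.1)⟩,
          h.2.1.2⟩)
  refine ⟨⟨hrs, ⟨⟨_, A, ⟨hA, .refl⟩, rfl⟩, ?_⟩⟩, ?_⟩
  · rintro _ ⟨B, hB, rfl⟩ _ ⟨C, hC, rfl⟩
    suffices ∀ D, FReach SG B D → ∃ g, D ∈ qpart G A ∧
        D.subgroupOf (⨆ C ∈ qpart G A, C) = conjBy (B.subgroupOf (⨆ C ∈ qpart G A, C)) g by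
      obtain ⟨g, -, e⟩ := this C ((freach_symm hB.2).trans hC.2)
      exact ⟨g, e⟩
    intro D hD
    induction hD with
    | refl => exact ⟨1, hB, (conjBy_one _).symm⟩
    | @tail D' D'' _ h ih =>
      obtain ⟨g, hD', hg⟩ := ih
      have hD'' : D'' ∈ qpart G A := ⟨h.2.1, hD'.2.tail h⟩
      obtain ⟨x, -, hx⟩ := r1_right_mem ((r1_subgroupOf_iff (hle hD') (hle hD'')).2 h.2.2)
      exact ⟨x * g, hD'', by rw [hx, hg, conjBy_conjBy]⟩
  · rintro _ ⟨B, hB, rfl⟩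
    obtain ⟨C, hC, r⟩ := qpart_hasPartner hk2 hk3 hG hB
    exact ⟨_, ⟨C, hC, rfl⟩, (r1_subgroupOf_iff (hle hB) (hle hC)).2 r⟩

lemma qpart_deg_or_nondeg {A : Subgroup GLkM} (hA : A ∈ SG) :
    IsDegenerateRootSet ((fun B : Subgroup GLkM => B.subgroupOf (⨆ C ∈ qpart G A, C)) '' qpart G A) ∨
    IsNondegenerateRootSet
      ((fun B : Subgroup GLkM => B.subgroupOf (⨆ C ∈ qpart G A, C)) '' qpart G A) := by
  by_cases hd : IsDegenerateRootSet
      ((fun B : Subgroup GLkM => B.subgroupOf (⨆ C ∈ qpart G A, C)) '' qpart G A)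
  · exact Or.inl hd
  right
  obtain ⟨hc, hP⟩ := qpart_rootClass hk2 hk3 hG hA
  simp only [IsDegenerateRootSet] at hd
  push Not at hd
  obtain ⟨X, hX, Y, hY, h⟩ := hd
  obtain ⟨Z, hZ, r⟩ := hP X hX
  have hl := (cc_linePartner_symm hc.1 hX h (hP X hX)).1
  exact ⟨⟨X, hX, _, h.1, Ne.symm hl.1.2.1, hl.1.2.2⟩, ⟨X, hX, Z, hZ, r⟩, X, hX, Y, hY, h⟩

/-- Nested commuting sets in one component are equal. -/
lemma qpart_incomparable {A V : Subgroup GLkM} (hA : A ∈ SG) (hV : V ∈ qpart G A)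
    (hsub : ∀ E ∈ SG, ⁅E, A⁆ = ⊥ → ⁅E, V⁆ = ⊥) {E : Subgroup GLkM} (hE : E ∈ SG)
    (hEV : ⁅E, V⁆ = ⊥) : ⁅E, A⁆ = ⊥ := by
  by_cases hEP : E ∈ qpart G A
  swap
  · exact qpart_commute hk2 hk3 hG ⟨hA, .refl⟩ hE hEP
  have hle : ∀ {C}, C ∈ qpart G A → C ≤ ⨆ C ∈ qpart G A, C :=
    fun hC => le_biSup (fun B : Subgroup GLkM => B) hC
  obtain ⟨hc, -⟩ := qpart_rootClass hk2 hk3 hG hA
  have hA' : A ∈ qpart G A := ⟨hA, .refl⟩
  have := centralizing_incomparable hc (qpart_deg_or_nondeg hk2 hk3 hG hA) ⟨A, hA', rfl⟩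
    ⟨V, hV, rfl⟩ (fun X hX => by
      obtain ⟨⟨X', hX', rfl⟩, h⟩ := mem_centralizingMembers.1 hX
      exact mem_centralizingMembers.2 ⟨⟨X', hX', rfl⟩,
        (commutator_subgroupOf_eq_bot (hle hX') (hle hV)).2
          (hsub X' hX'.1 ((commutator_subgroupOf_eq_bot (hle hX') (hle hA')).1 h))⟩)
  have h2 := (mem_centralizingMembers.1 (this.ge (mem_centralizingMembers.2 ⟨⟨E, hEP, rfl⟩,
    (commutator_subgroupOf_eq_bot (hle hEP) (hle hV)).2 hEV⟩))).2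
  exact (commutator_subgroupOf_eq_bot (hle hEP) (hle hA')).1 h2

/-- Members with the same commuting set have a common partner. -/
lemma qpart_common_partner {A C : Subgroup GLkM} (hA : A ∈ SG) (hC : C ∈ qpart G A)
    (hsub : ∀ E ∈ SG, ⁅E, A⁆ = ⊥ ↔ ⁅E, C⁆ = ⊥) :
    ∃ F ∈ SG, IsRankOnePair A F ∧ IsRankOnePair C F := by
  have hle : ∀ {C}, C ∈ qpart G A → C ≤ ⨆ C ∈ qpart G A, C :=
    fun hC => le_biSup (fun B : Subgroup GLkM => B) hC
  have hA' : A ∈ qpart G A := ⟨hA, .refl⟩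
  obtain ⟨F, hF, r⟩ := qpart_hasPartner hk2 hk3 hG hA'
  refine ⟨F, hF.1, r, ?_⟩
  obtain ⟨hc, -⟩ := qpart_rootClass hk2 hk3 hG hA
  rw [← r1_subgroupOf_iff (hle hC) (hle hF)]
  rcases qpart_deg_or_nondeg hk2 hk3 hG hA with hd | hnd
  · refine deg_rankOne hc.1 hd ⟨C, hC, rfl⟩ ⟨F, hF, rfl⟩ fun e => ?_
    have e1 := commutator_bot_symm ((commutator_subgroupOf_eq_bot (hle hC) (hle hF)).1 e)
    exact r1_not_commute r (commutator_bot_symm ((hsub F hF.1).2 e1))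
  · refine nested_common_partner hc hnd ⟨A, hA', rfl⟩ ⟨C, hC, rfl⟩ ?_ ⟨F, hF, rfl⟩
      ((r1_subgroupOf_iff (hle hA') (hle hF)).2 r)
    intro X hX
    obtain ⟨⟨X', hX', rfl⟩, h⟩ := mem_centralizingMembers.1 hX
    exact mem_centralizingMembers.2 ⟨⟨X', hX', rfl⟩,
      (commutator_subgroupOf_eq_bot (hle hX') (hle hC)).2
        ((hsub X' hX'.1).1 ((commutator_subgroupOf_eq_bot (hle hX') (hle hA')).1 h))⟩

end CfsgLib.RootSub
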