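/-
Different root subgroups of a quadratic pair have different commuting sets; finitely many components.
-/
import Cfsg.Agent.Lib.RootSub.QPGlobal
import Cfsg.Agent.Lib.RootSub.Chain

set_option autoImplicit false

namespace CfsgLib.RootSub

open Cfsg

universe u

variable {k : Type u} [Field k] {M : Type u} [AddCommGroup M] [Module k M] [FiniteDimensional k M]
variable {G : Subgroup (LinearMap.GeneralLinearGroup k M)}
variable (hk2 : (2 : k) ≠ 0) (hk3 : Nat.card k ≠ 3) (hG : IsQuadraticPair G)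

local notation "GLkM" => LinearMap.GeneralLinearGroup k M
local notation "SG" => quadraticRootSubgroups G

include hk2 hk3 in
lemma qp_r1_h0 {σ τ : GLkM} (hσ : QMin G (qmove σ)) (hτ : QMin G (qmove τ))
    (r : IsRankOnePair (sameActionSubgroup G σ) (sameActionSubgroup G τ)) :
    qmove σ * qmove τ * qmove σ ≠ 0 := by
  intro h0
  by_cases hne : qmove σ * qmove τ = qmove τ * qmove σ
  · exact r1_not_commute r (sas_commute hk2 hk3 hσ hτ hne)
  · have hs := (mem_sas_iff hσ).2 hσ.self_mem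
    have ht := (mem_sas_iff hτ).2 hτ.self_mem
    obtain ⟨w, hw, hne'⟩ := r1_commutator_not_central r hs (fun e => hσ.ne (by rw [e, qmove_one]))
      ht (fun e => hτ.ne (by rw [e, qmove_one]))
    exact hne' (qp_root_commutes hk2 hk3 hσ hτ h0 hne (qp_root_le hk2 hk3 hσ hτ h0 hne
      (Subgroup.commutator_mem_commutator hs ht)) hw)

/-- Block triangular maps dominate their diagonal in rank. -/
lemma qp_rank_diag {u A B C : Module.End k M} (hsum : A + B + C = 1) (hBA : B * u * A = 0)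
    (hBC : B * u * C = 0) (hCA : C * u * A = 0) :
    qrk (A * u * A + B * u * B + C * u * C) ≤ qrk u := by
  have hBu : B * u = B * u * B := by
    conv_lhs => rw [← mul_one (B * u), ← hsum, mul_add, mul_add, hBA, hBC, zero_add, add_zero]
  have huA : u * A = A * u * A := by
    conv_lhs => rw [← one_mul (u * A), ← hsum, add_mul, add_mul, ← mul_assoc A, ← mul_assoc B,
      ← mul_assoc C, hBA, hCA, add_zero, add_zero]
  have hCu : C * u = C * u * B + C * u * C := by
    conv_lhs => rw [← mul_one (C * u), ← hsum, mul_add, mul_add, hCA, zero_add]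
  obtain ⟨W, hW⟩ : ∃ W, W = LinearMap.range u := ⟨_, rfl⟩
  have h1 := qp_map_finrank B W
  have h2 := qp_map_finrank C (W ⊓ LinearMap.ker B)
  have h3 : LinearMap.range (A * u * A + B * u * B + C * u * C) ≤
      LinearMap.range (A * u * A) ⊔ LinearMap.range (B * u * B) ⊔ LinearMap.range (C * u * C) := by
    rintro _ ⟨m, rfl⟩
    exact Submodule.add_mem_sup (Submodule.add_mem_sup ⟨m, rfl⟩ ⟨m, rfl⟩) ⟨m, rfl⟩
  have eB : LinearMap.range (B * u * B) = W.map B := by
    rw [← hBu, hW, Module.End.mul_eq_comp, LinearMap.range_comp]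
  have eC : LinearMap.range (C * u * C) ≤ (W ⊓ LinearMap.ker B).map C := by
    rintro _ ⟨m, rfl⟩
    exact ⟨u (C m), ⟨hW ▸ LinearMap.mem_range_self u _, LinearMap.congr_fun hBC m⟩, rfl⟩
  have eA : LinearMap.range (A * u * A) ≤ W ⊓ LinearMap.ker B ⊓ LinearMap.ker C := by
    rw [← huA]
    rintro _ ⟨m, rfl⟩
    exact ⟨⟨hW ▸ LinearMap.mem_range_self u _, LinearMap.congr_fun hBA m⟩,
      LinearMap.congr_fun hCA m⟩
  have f1 := Submodule.finrank_mono h3
  have f2 := Submodule.finrank_sup_add_finrank_inf_eq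
    (LinearMap.range (A * u * A) ⊔ LinearMap.range (B * u * B)) (LinearMap.range (C * u * C))
  have f3 := Submodule.finrank_sup_add_finrank_inf_eq
    (LinearMap.range (A * u * A)) (LinearMap.range (B * u * B))
  have f4 := Submodule.finrank_mono eA
  have f5 := Submodule.finrank_mono eC
  rw [eB] at f1 f2 f3
  simp only [qrk]
  rw [← hW]
  omega

include hk2 hk3 hG

/-- Members of one component with the same commuting set are equal. -/
theorem qp_centralizing_inj {A C : Subgroup GLkM} (hA : A ∈ SG) (hC : C ∈ qpart G A)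
    (hsub : ∀ E ∈ SG, ⁅E, A⁆ = ⊥ ↔ ⁅E, C⁆ = ⊥) : A = C := by
  by_contra hAC
  obtain ⟨F, hF, rA, rC⟩ := qpart_common_partner hk2 hk3 hG hA hC hsub
  have hA0 := hA
  obtain ⟨σ, hσ', rfl⟩ := hA
  obtain ⟨ρ, hρ', rfl⟩ := hC.1
  obtain ⟨τ, hτ', rfl⟩ := hF
  have hσ := qmin_iff.1 hσ'
  have hρ := qmin_iff.1 hρ'
  have hτ := qmin_iff.1 hτ'
  obtain ⟨z, hz, hxzx, hzxz⟩ := qp_exists_inverse hk2 hk3 hσ hτ (qp_r1_h0 hk2 hk3 hσ hτ rA)
  have hz0 : z ≠ 0 := fun e => hσ.ne (by rw [← hxzx, e, mul_zero, zero_mul])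
  have hzm := qcls_qmin hτ hz hz0
  obtain ⟨u, hu, hzuz, huzu⟩ := qp_exists_inverse hk2 hk3 hzm hρ
    (qp_opp_symm hk2 hk3 hτ hρ (qp_r1_h0 hk2 hk3 hτ hρ (r1_symm rC)) hz hρ.self_mem hz0 hρ.ne).1
  have hu0' : u ≠ 0 := fun e => hz0 (by rw [← hzuz, e, mul_zero, zero_mul])
  have hum := qcls_qmin hρ hu hu0'
  obtain ⟨b, hb, eb⟩ := sas_exists hτ hz
  obtain ⟨g, hg, eg⟩ := sas_exists hρ hu
  obtain ⟨x, hx⟩ : ∃ x, x = qmove σ := ⟨_, rfl⟩
  have hσA : σ ∈ sameActionSubgroup G σ := (mem_sas_iff hσ).2 hσ.self_mem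
  have hxu : x * u = u * x := by
    rw [hx, ← eg, ← qp_commute_iff]
    exact CfsgLib.RootSub.commutator_eq_bot_iff.1
      ((hsub _ (qp_mem_sigma hσ)).1 (isMulCommutative_iff_commutator.1 (sas_commutative hσ)))
      σ hσA g hg
  have hxx : x * x = 0 := hx ▸ hσ.sq
  have hzz := hzm.sq
  have huu := hum.sq
  rw [← hx] at hxzx hzxz
  have hσG : σ ∈ G := hσ'.1.1
  have hbG : b ∈ G := sas_le hτ hb
  obtain ⟨i, hi, ei, hii⟩ := qp_involution (H := G) hxx hzz hxzx hzxz hσG hbG hx.symm eb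
  obtain ⟨P, hP⟩ : ∃ P, P = x * z := ⟨_, rfl⟩
  obtain ⟨Q, hQ⟩ : ∃ Q, Q = z * x := ⟨_, rfl⟩
  obtain ⟨R, hR⟩ : ∃ R : Module.End k M, R = 1 - (P + Q) := ⟨_, rfl⟩
  rw [← hP, ← hQ] at ei
  have hinv : (i⁻¹ : GLkM) = i := inv_eq_of_mul_eq_one_right hii
  have eI : (1 : Module.End k M) - (2 : k) • (P + Q) = R - P - Q := by rw [hR, two_smul]; abel
  rw [eI] at ei
  have hsum : P + Q + R = 1 := by rw [hR, add_sub_cancel]
  have PP : P * P = P := by rw [hP, ← mul_assoc, hxzx]
  have QQ : Q * Q = Q := by rw [hQ, ← mul_assoc, hzxz]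
  have PQ : P * Q = 0 := by rw [hP, hQ, mul_assoc, ← mul_assoc z, hzz, zero_mul, mul_zero]
  have QP : Q * P = 0 := by rw [hP, hQ, mul_assoc, ← mul_assoc x, hxx, zero_mul, mul_zero]
  have PR : P * R = 0 := by rw [hR, mul_sub, mul_one, mul_add, PP, PQ, add_zero, sub_self]
  have RP : R * P = 0 := by rw [hR, sub_mul, one_mul, add_mul, PP, QP, add_zero, sub_self]
  have QR : Q * R = 0 := by rw [hR, mul_sub, mul_one, mul_add, QQ, QP, zero_add, sub_self]
  have RQ : R * Q = 0 := by rw [hR, sub_mul, one_mul, add_mul, QQ, PQ, zero_add, sub_self]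
  have RR : R * R = R := by
    conv_lhs => arg 1; rw [hR]
    rw [sub_mul, one_mul, add_mul, PR, QR, add_zero, sub_zero]
  have Px : P * x = x := by rw [hP, hxzx]
  have xQ : x * Q = x := by rw [hQ, ← mul_assoc, hxzx]
  have Qx : Q * x = 0 := by rw [hQ, mul_assoc, hxx, mul_zero]
  have xP : x * P = 0 := by rw [hP, ← mul_assoc, hxx, zero_mul]
  have Rx : R * x = 0 := by rw [hR, sub_mul, one_mul, add_mul, Px, Qx, add_zero, sub_self]
  have xR : x * R = 0 := by rw [hR, mul_sub, mul_one, mul_add, xP, xQ, zero_add, sub_self]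
  have Pz : P * z = 0 := by rw [hP, mul_assoc, hzz, mul_zero]
  have zQ : z * Q = 0 := by rw [hQ, ← mul_assoc, hzz, zero_mul]
  have Qz : Q * z = z := by rw [hQ, hzxz]
  have zP : z * P = z := by rw [hP, ← mul_assoc, hzxz]
  have Rz : R * z = 0 := by rw [hR, sub_mul, one_mul, add_mul, Pz, Qz, zero_add, sub_self]
  have zR : z * R = 0 := by rw [hR, mul_sub, mul_one, mul_add, zP, zQ, add_zero, sub_self]
  have hQuP : Q * u * P = 0 := by
    rw [hQ, hP, mul_assoc z x u, hxu, mul_assoc z (u * x), mul_assoc u x, ← mul_assoc x x z, hxx,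
      zero_mul, mul_zero, mul_zero]
  have hQuR : Q * u * R = 0 := by
    rw [hQ, mul_assoc z x u, hxu, mul_assoc z (u * x), mul_assoc u x, xR, mul_zero, mul_zero]
  have hRuP : R * u * P = 0 := by
    rw [hP, mul_assoc R u, ← mul_assoc u x z, ← hxu, mul_assoc x u z, ← mul_assoc R x, Rx, zero_mul]
  have hPuQ : P * u * Q = x := by
    rw [hP, hQ, mul_assoc x z u, ← mul_assoc, mul_assoc x (z * u) z, hzuz, hxzx]
  obtain ⟨u0, hu0⟩ : ∃ u0, u0 = P * u * P + Q * u * Q + R * u * R := ⟨_, rfl⟩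
  obtain ⟨u1, hu1⟩ : ∃ u1, u1 = P * u * R + R * u * Q := ⟨_, rfl⟩
  have hudec : u = u0 + x + u1 := by
    have e : u = (P + Q + R) * u * (P + Q + R) := by rw [hsum, one_mul, mul_one]
    conv_lhs => rw [e]
    simp only [add_mul, mul_add, hQuP, hQuR, hRuP, hPuQ, hu0, hu1]
    abel
  obtain ⟨u', hu'⟩ : ∃ u', u' = qconj i u := ⟨_, rfl⟩
  have hu'dec : u' = u0 + x - u1 := by
    rw [hu', qconj, hinv, ei]
    simp only [sub_mul, mul_sub, hQuP, hQuR, hRuP, hPuQ, hu0, hu1]
    abel
  have hix : qconj i x = x := by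
    rw [qconj, hinv, ei]
    simp only [sub_mul, mul_sub, Px, Qx, Rx, xQ, zero_mul, sub_zero, zero_sub, neg_mul, xP, xR]
    abel
  -- elements commuting with `x` commute with `u` and `u'`
  have hcomm : ∀ E ∈ SG, ⁅E, sameActionSubgroup G σ⁆ = ⊥ → ∀ e ∈ E,
      qmove e * x = x * qmove e ∧ qmove e * u = u * qmove e ∧ qmove e * u' = u' * qmove e := by
    intro E hE hEA e he
    refine ⟨?_, ?_, ?_⟩
    · rw [hx]
      exact qp_commute_iff.1 (CfsgLib.RootSub.commutator_eq_bot_iff.1 hEA e he σ hσA)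
    · rw [← eg]
      exact qp_commute_iff.1 (CfsgLib.RootSub.commutator_eq_bot_iff.1 ((hsub E hE).1 hEA) e he g hg)
    · have hAi : conjBy (sameActionSubgroup G σ) i = sameActionSubgroup G σ := by
        rw [sas_conj hσ hi]
        refine sas_eq_of_cls hσ (by rw [qmove_conj']; exact hσ.conj hi) ?_
        have e : qmove (i * σ * i⁻¹) = qmove σ := by rw [qmove_conj', ← hx, hix]
        rw [e]
        exact hσ.self_mem
      have h2 : ⁅conjBy E i, sameActionSubgroup G σ⁆ = ⊥ := by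
        rw [← hAi]
        exact (conjBy_commute_iff i).2 hEA
      have h3 := qp_commute_iff.1 (CfsgLib.RootSub.commutator_eq_bot_iff.1
        ((hsub _ (qp_sigma_conj hE hi)).1 h2) (i * e * i⁻¹) (conj_mem_conjBy he) g hg)
      rw [qmove_conj', eg] at h3
      have h4 := congrArg (qconj i) h3
      have h5 : qconj i (qconj i (qmove e)) = qmove e := by rw [qconj_qconj, hii, qconj_one]
      rw [← qconj_mul, ← qconj_mul, h5, ← hu'] at h4
      exact h4
  have hclass : ∀ w : Module.End k M, ∀ ν : GLkM, qmove ν = w → QMin G w →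
      (∀ e : Module.End k M, e * x = x * e → e * u = u * e → e * u' = u' * e → e * w = w * e) →
      ∀ π : GLkM, QMin G (qmove π) → qmove π * w = w * qmove π → qmove π * x = x * qmove π := by
    intro w ν eν hw hsp π hπ hπw
    subst eν
    have hsubV : ∀ E ∈ SG, ⁅E, sameActionSubgroup G σ⁆ = ⊥ → ⁅E, sameActionSubgroup G ν⁆ = ⊥ := by
      intro E hE hEA
      obtain ⟨ε, hε', rfl⟩ := hE
      have hε := qmin_iff.1 hε'
      obtain ⟨c1, c2, c3⟩ := hcomm _ ⟨ε, hε', rfl⟩ hEA ε ((mem_sas_iff hε).2 hε.self_mem)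
      exact sas_commute hk2 hk3 hε hw (hsp _ c1 c2 c3)
    have hV : sameActionSubgroup G ν ∈ qpart G (sameActionSubgroup G σ) := by
      obtain ⟨W, hW, r⟩ := qp_hasPartner hk2 hk3 hG (qp_mem_sigma hw)
      by_cases hWP : W ∈ qpart G (sameActionSubgroup G σ)
      · exact ⟨qp_mem_sigma hw, hWP.2.tail ⟨hW, qp_mem_sigma hw, r1_symm r⟩⟩
      · exact absurd (commutator_bot_symm (hsubV W hW (qpart_commute hk2 hk3 hG
          ⟨hA0, .refl⟩ hW hWP))) (r1_not_commute r)
    have h3 := qpart_incomparable hk2 hk3 hG hA0 hV hsubV (qp_mem_sigma hπ)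
      (sas_commute hk2 hk3 hπ hw hπw)
    rw [hx]
    exact qp_commute_iff.1 (CfsgLib.RootSub.commutator_eq_bot_iff.1 h3 π
      ((mem_sas_iff hπ).2 hπ.self_mem) σ hσA)
  -- algebraic consequences
  have hu'sq : u' * u' = 0 := hu' ▸ qconj_sq huu i
  have huu' : u * u' = u' * u := by
    obtain ⟨-, -, c3⟩ := hcomm _ (qp_mem_sigma hρ)
      ((hsub _ (qp_mem_sigma hρ)).2 (isMulCommutative_iff_commutator.1 (sas_commutative hρ))) g hg
    rwa [eg] at c3
  obtain ⟨S, hS⟩ : ∃ S, S = u0 + x := ⟨_, rfl⟩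
  have eu : u = S + u1 := by rw [hudec, hS]
  have eu' : u' = S - u1 := by rw [hu'dec, hS]
  have ha : S * S + u1 * u1 + (S * u1 + u1 * S) = 0 := by
    have h := huu; rw [eu] at h; rw [← h]; noncomm_ring
  have hb : S * S + u1 * u1 - (S * u1 + u1 * S) = 0 := by
    have h := hu'sq; rw [eu'] at h; rw [← h]; noncomm_ring
  have hc : S * u1 - u1 * S = 0 := by
    have h := huu'
    rw [eu, eu', ← sub_eq_zero,
      show (S + u1) * (S - u1) - (S - u1) * (S + u1) = -((2 : k) • (S * u1 - u1 * S)) by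
        rw [two_smul]; noncomm_ring, neg_eq_zero, smul_eq_zero] at h
    exact h.resolve_left hk2
  have hSS : S * S + u1 * u1 = 0 := by
    have h : (2 : k) • (S * S + u1 * u1) = 0 := by
      rw [two_smul]
      calc _ = (S * S + u1 * u1 + (S * u1 + u1 * S)) + (S * S + u1 * u1 - (S * u1 + u1 * S)) := by abel
        _ = 0 := by rw [ha, hb, add_zero]
    exact (smul_eq_zero.1 h).resolve_left hk2
  have hS1 : S * u1 = 0 ∧ u1 * S = 0 := by
    rw [hSS, zero_add] at ha
    rw [sub_eq_zero] at hc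
    have h : (2 : k) • (u1 * S) = 0 := by rw [two_smul]; rw [hc] at ha; exact ha
    have h' := (smul_eq_zero.1 h).resolve_left hk2
    exact ⟨hc.trans h', h'⟩
  have xu1 : x * u1 = 0 := by
    rw [hu1, mul_add, ← mul_assoc, ← mul_assoc, ← mul_assoc, ← mul_assoc, xP, xR]; simp
  have u1x : u1 * x = 0 := by
    rw [hu1, add_mul, mul_assoc, Rx, mul_assoc (R * u) Q x, Qx]; simp
  have xu0 : x * u0 = u0 * x := by
    have h := hxu
    rw [hudec, mul_add, mul_add, add_mul, add_mul, xu1, u1x, hxx] at h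
    simpa using h
  have u01 : u0 * u1 = 0 ∧ u1 * u0 = 0 := by
    obtain ⟨h1, h2⟩ := hS1
    rw [hS, add_mul, xu1, add_zero] at h1
    rw [hS, mul_add, u1x, add_zero] at h2
    exact ⟨h1, h2⟩
  have hP0 : P * u0 = u0 * P ∧ Q * u0 = u0 * Q ∧ R * u0 = u0 * R := by
    refine ⟨?_, ?_, ?_⟩ <;> simp only [hu0, mul_add, add_mul, ← mul_assoc, PP, QQ, RR, PQ, QP, PR,
      RP, QR, RQ, zero_mul] <;>
      simp only [mul_assoc, PP, QQ, RR, PQ, QP, PR, RP, QR, RQ, mul_zero, add_zero, zero_add]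
  have hdd : u0 * u0 + u1 * u1 = -((2 : k) • (u0 * x)) := by
    rw [← sub_eq_zero, ← hSS, hS]
    rw [two_smul, add_mul, mul_add, mul_add, hxx, xu0]
    abel
  have hu00 : u0 * u0 = 0 := by
    have hP' : P * (u0 * u0) * P = 0 := by
      have h := congrArg (fun w => P * w * P) hdd
      have e1 : P * (u1 * u1) * P = 0 := by
        rw [hu1]; simp only [mul_add, add_mul, mul_assoc, RP, QP, mul_zero, add_zero]
      have e2 : P * (u0 * x) * P = 0 := by simp only [mul_assoc, xP, mul_zero]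
      simp only [mul_add, add_mul, mul_neg, neg_mul, mul_smul_comm, smul_mul_assoc, e1, e2,
        smul_zero, neg_zero, add_zero] at h
      exact h
    have hQ' : Q * (u0 * u0) * Q = 0 := by
      have h := congrArg (fun w => Q * w * Q) hdd
      have e1 : Q * (u1 * u1) * Q = 0 := by
        rw [hu1]
        simp only [mul_add, add_mul, ← mul_assoc, QP, QR, zero_mul, add_zero]
      have e2 : Q * (u0 * x) * Q = 0 := by
        rw [← mul_assoc, hP0.2.1, mul_assoc u0 Q x, Qx, mul_zero, zero_mul]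
      simp only [mul_add, add_mul, mul_neg, neg_mul, mul_smul_comm, smul_mul_assoc, e1, e2,
        smul_zero, neg_zero, add_zero] at h
      exact h
    have hR' : R * (u0 * u0) * R = 0 := by
      have h := congrArg (fun w => R * w * R) hdd
      have e1 : R * (u1 * u1) * R = 0 := by
        rw [hu1]
        simp only [mul_add, add_mul, mul_assoc, QR, mul_zero, add_zero, zero_add]
        simp only [← mul_assoc, RP, QP, QR, zero_mul, mul_zero, add_zero, zero_add]
      have e2 : R * (u0 * x) * R = 0 := by simp only [mul_assoc, xR, mul_zero]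
      simp only [mul_add, add_mul, mul_neg, neg_mul, mul_smul_comm, smul_mul_assoc, e1, e2,
        smul_zero, neg_zero, add_zero] at h
      exact h
    have eP : u0 * u0 * P = P * (u0 * u0) * P := by
      rw [← mul_assoc P, hP0.1, mul_assoc u0 P u0, hP0.1, ← mul_assoc, mul_assoc _ P P, PP]
    have eQ : u0 * u0 * Q = Q * (u0 * u0) * Q := by
      rw [← mul_assoc Q, hP0.2.1, mul_assoc u0 Q u0, hP0.2.1, ← mul_assoc, mul_assoc _ Q Q, QQ]
    have eR : u0 * u0 * R = R * (u0 * u0) * R := by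
      rw [← mul_assoc R, hP0.2.2, mul_assoc u0 R u0, hP0.2.2, ← mul_assoc, mul_assoc _ R R, RR]
    calc u0 * u0 = u0 * u0 * (P + Q + R) := by rw [hsum, mul_one]
      _ = 0 := by rw [mul_add, mul_add, eP, eQ, eR, hP', hQ', hR', add_zero, add_zero]
  have huu'' : u * u' = (4 : k) • (u0 * x) := by
    have h1 : u1 * u1 = -((2 : k) • (u0 * x)) := by rw [← hdd, hu00, zero_add]
    rw [eu, eu', add_mul, mul_sub, mul_sub, hS1.1, hS1.2, h1, eq_neg_of_add_eq_zero_left hSS, h1,
      neg_neg, sub_zero, zero_sub, neg_neg, ← add_smul]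
    norm_num
  -- the diagonal part vanishes
  have hu'fam : QFam G u' := hu' ▸ hum.fam.conj hi
  have hF0 : QFam G u0 := by
    have h2 : QFam G ((2 : k) • u0) := fun c => by
      obtain ⟨g1, hg1, e1⟩ := hum.fam c
      obtain ⟨g2, hg2, e2⟩ := hu'fam c
      obtain ⟨g3, hg3, e3⟩ := hσ.fam (-(2 * c))
      refine ⟨g1 * g2 * g3, mul_mem (mul_mem hg1 hg2) hg3, ?_⟩
      rw [qmove_mul, qmove_mul, e1, e2, e3, ← hx, smul_mul_smul_comm, huu'', eu, eu', hS]
      simp only [smul_add, smul_sub, add_mul, sub_mul, smul_mul_smul_comm, hxx, u1x, smul_zero,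
        mul_assoc u0 x x, mul_zero, smul_smul]
      match_scalars <;> ring
    have h3 := h2.smul (2 : k)⁻¹
    rwa [smul_smul, inv_mul_cancel₀ hk2, one_smul] at h3
  have hrk0 : qrk u0 ≤ qrk u := hu0 ▸ qp_rank_diag hsum hQuP hQuR hRuP
  have hu0z : u0 = 0 := by
    by_contra hne
    have hm0 : QMin G u0 := ⟨hne, hu00, hF0, fun w hw hww hfw => hrk0.trans (hum.min w hw hww hfw)⟩
    obtain ⟨ν, -, eν⟩ := hF0.exists_mem
    have hcz : z * u0 = u0 * z := by
      have e1 : z * u0 = z * (u * P) := by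
        rw [hu0]
        simp only [mul_add, ← mul_assoc, zP, zQ, zR, zero_mul, add_zero]
      have e2 : u0 * z = Q * u * z := by
        rw [hu0]
        simp only [add_mul, mul_assoc, Pz, Qz, Rz, mul_zero, add_zero, zero_add]
      rw [e1, e2, hP, hQ, ← mul_assoc u, ← hxu]
      simp only [mul_assoc]
    have h4 := hclass u0 ν eν hm0 (fun e c1 c2 c3 => by
      have h5 : (2 : k) • u0 = u + u' - (2 : k) • x := by
        rw [hudec, hu'dec]; simp only [two_smul]; abel
      have h6 : e * ((2 : k) • u0) = ((2 : k) • u0) * e := by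
        rw [h5, mul_sub, sub_mul, mul_add, add_mul, c2, c3, mul_smul_comm, smul_mul_assoc, c1]
      rw [mul_smul_comm, smul_mul_assoc] at h6
      exact smul_right_injective (Module.End k M) hk2 h6) b (by rw [eb]; exact hzm)
      (by rw [eb]; exact hcz)
    rw [eb] at h4
    apply hσ.ne
    rw [← hx, ← hxzx, ← h4, mul_assoc, hxx, mul_zero]
  -- the odd part vanishes
  rw [hu0z, zero_add] at hudec hu'dec
  have hprod : u * u' = 0 := by rw [huu'', hu0z, zero_mul, smul_zero]
  have hF1 : QFam G u1 := by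
    have h := (QFam.add (y := -u') (by rw [mul_neg, hprod, neg_zero]) hum.fam hu'fam.neg).smul (2 : k)⁻¹
    rwa [hudec, hu'dec, show x + u1 + -(x - u1) = (2 : k) • u1 by rw [two_smul]; abel, smul_smul,
      inv_mul_cancel₀ hk2, one_smul] at h
  have h11 : u1 * u1 = 0 := by
    rw [hu0z, zero_mul, zero_mul, smul_zero, zero_add, neg_zero] at hdd
    exact hdd
  have hne1 : u1 ≠ 0 := by
    intro e
    rw [e, add_zero] at hudec
    apply hAC
    refine sas_eq_of_cls hρ hσ ?_
    rw [← hx, ← hudec]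
    exact hu
  have hPu1 : P * u1 + u1 * Q = u1 := by
    rw [hu1]
    simp only [mul_add, add_mul, ← mul_assoc, PP, PR, zero_mul, add_zero]
    simp only [mul_assoc, QQ, RQ, mul_zero, zero_add]
  have hrk1 : qrk u1 ≤ qrk u := by
    have e1 : u * R = P * u * R := by
      rw [hudec, add_mul, xR, zero_add, mul_add, hu1]
      simp only [mul_add, add_mul, mul_assoc, RR, QR, mul_zero, add_zero]
      simp only [← mul_assoc, Px, PP, PR, zero_mul, add_zero, mul_assoc x, xR, mul_zero, zero_add]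
    have e2 : R * u = R * u * Q := by
      rw [hudec, mul_add, Rx, zero_add, hu1]
      simp only [mul_add, add_mul, ← mul_assoc, RR, RP, zero_mul, zero_add]
      simp only [mul_assoc, QQ, xQ, Rx, mul_zero, zero_add]
    have h3 : LinearMap.range u1 ≤ LinearMap.range (u * R) ⊔ LinearMap.range (R * u) := by
      rw [hu1, ← e1, ← e2]
      rintro _ ⟨m, rfl⟩
      exact Submodule.add_mem_sup ⟨m, rfl⟩ ⟨m, rfl⟩
    have h4 := qp_map_finrank R (LinearMap.range u)
    rw [← LinearMap.range_comp, ← Module.End.mul_eq_comp] at h4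
    have h5 : LinearMap.range (u * R) ≤ LinearMap.range u ⊓ LinearMap.ker R := by
      rintro _ ⟨m, rfl⟩
      refine ⟨LinearMap.mem_range_self u _, ?_⟩
      have : R * (u * R) = 0 := by rw [e1, ← mul_assoc, ← mul_assoc, RP]; simp
      exact LinearMap.congr_fun this m
    have f1 := Submodule.finrank_mono h3
    have f2 := Submodule.finrank_mono h5
    have f3 := Submodule.finrank_sup_add_finrank_inf_eq (LinearMap.range (u * R))
      (LinearMap.range (R * u))
    simp only [qrk] at f1 f2 f3 h4 ⊢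
    omega
  have hm1 : QMin G u1 := ⟨hne1, h11, hF1, fun w hw hww hfw => hrk1.trans (hum.min w hw hww hfw)⟩
  have h1z1 : u1 * z * u1 = 0 := by
    have h : (x + u1) * z * (x + u1) = x + u1 := hudec ▸ huzu
    rw [show (x + u1) * z * (x + u1) = x * z * x + (x * z * u1 + u1 * (z * x)) + u1 * z * u1 by
      noncomm_ring, hxzx, ← hP, ← hQ, hPu1] at h
    simpa using h
  obtain ⟨w1, hw1⟩ : ∃ w1, w1 = u1 * z - z * u1 := ⟨_, rfl⟩
  have hkey : x * w1 - w1 * x = -u1 := by
    rw [hw1, show x * (u1 * z - z * u1) - (u1 * z - z * u1) * x =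
      x * u1 * z - x * z * u1 - u1 * (z * x) + z * (u1 * x) by noncomm_ring, xu1, u1x, ← hP, ← hQ]
    simp only [zero_mul, mul_zero, add_zero, zero_sub]
    rw [sub_eq_add_neg, ← neg_add, hPu1]
  have hne' : u1 * z ≠ z * u1 := fun e => hne1 (by
    rw [hw1, e, sub_self, mul_zero, zero_mul, sub_self] at hkey
    exact neg_eq_zero.1 hkey.symm)
  have hQ2 : QTwo G u1 z := ⟨hm1, hzm, h1z1, hne'⟩
  have hw1m := hQ2.qmin hk2 hk3
  obtain ⟨d1, d2⟩ := hQ2.mul_eq_zero hk2 hk3 hw1m.self_mem hm1.self_mem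
  obtain ⟨π, -, eπ⟩ := hw1m.fam.exists_mem
  obtain ⟨ν, -, eν⟩ := hF1.exists_mem
  have h4 := hclass u1 ν eν hm1 (fun e c1 c2 _ => by
    rw [show u1 = u - x by rw [hudec, add_sub_cancel_left], mul_sub, sub_mul, c1, c2]) π
    (by rw [eπ]; exact hw1m) (by rw [eπ, d1, d2])
  rw [eπ, ← hw1] at h4
  rw [h4, sub_self] at hkey
  exact hne1 (neg_eq_zero.1 hkey.symm)

/-- There are only finitely many components. -/
theorem qp_finite_parts : ((qpart G) '' SG).Finite := by
  classical
  choose rep hrep using fun p : ((qpart G) '' SG) => p.2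
  choose sg hsg esg using fun p : ((qpart G) '' SG) => (hrep p).1
  choose pt hpt hne using fun p : ((qpart G) '' SG) => qp_partner hk2 hk3 hG _ (qmin_iff.1 (hsg p))
  let v : ((qpart G) '' SG) → Module.End k M := fun p => qmove (sg p)
  have hli : LinearIndependent k v := by
    rw [linearIndependent_iff']
    intro s c hc p hp
    obtain ⟨τ, -, eτ⟩ := (hpt p).fam.exists_mem
    have hτ : QMin G (qmove τ) := eτ ▸ hpt p
    have hin : sameActionSubgroup G τ ∈ qpart G (rep p) := by
      have r := (qp_special hk2 hk3 (qmin_iff.1 (hsg p)) hτ (by rw [eτ]; exact hne p)).1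
      rw [← esg p] at r
      exact ⟨qp_mem_sigma hτ, Relation.ReflTransGen.single ⟨(hrep p).1, qp_mem_sigma hτ, r⟩⟩
    have hcm : ∀ q, q ≠ p → v q * pt p = pt p * v q := by
      intro q hqp
      have hout : rep q ∉ qpart G (rep p) := by
        intro hmem
        apply hqp
        refine Subtype.ext ((hrep q).2.symm.trans ?_)
        show componentOf (FAdj SG) SG (rep q) = _
        rw [← componentOf_eq hmem.2]
        exact (hrep p).2
      have h := CfsgLib.RootSub.commutator_eq_bot_iff.1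
        (qpart_commute hk2 hk3 hG hin (hrep q).1 hout) (sg q)
        (esg q ▸ (mem_sas_iff (qmin_iff.1 (hsg q))).2 (qmin_iff.1 (hsg q)).self_mem)
        τ ((mem_sas_iff hτ).2 hτ.self_mem)
      rw [qp_commute_iff, eτ] at h
      exact h
    have h0 : ∑ q ∈ s, c q • (v q * pt p - pt p * v q) = 0 := by
      have e : ∑ q ∈ s, c q • (v q * pt p - pt p * v q) =
          (∑ q ∈ s, c q • v q) * pt p - pt p * ∑ q ∈ s, c q • v q := by
        rw [Finset.sum_mul, Finset.mul_sum, ← Finset.sum_sub_distrib]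
        exact Finset.sum_congr rfl fun q _ => by rw [smul_sub, smul_mul_assoc, mul_smul_comm]
      rw [e, hc, zero_mul, mul_zero, sub_zero]
    rw [Finset.sum_eq_single_of_mem p hp (fun q _ hqp => by rw [hcm q hqp, sub_self, smul_zero])]
      at h0
    refine (smul_eq_zero.1 h0).resolve_right fun e => ?_
    apply hne p
    rw [sub_eq_zero] at e
    show v p * pt p * v p = 0
    rw [e, mul_assoc, (qmin_iff.1 (hsg p)).sq, mul_zero]
  haveI : Finite ((qpart G) '' SG) := hli.finite
  exact Set.toFinite _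

end CfsgLib.RootSub
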