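/-
Splitting an arbitrary quadratic element of a quadratic pair by a minimal one.
-/
import Cfsg.Agent.Lib.RootSub.QPPair

set_option autoImplicit false

namespace CfsgLib.RootSub

open Polynomial Matrix
open scoped commutatorElement

universe u

variable {k : Type u} [Field k] {M : Type u} [AddCommGroup M] [Module k M] [FiniteDimensional k M]
variable {G : Subgroup (LinearMap.GeneralLinearGroup k M)} {x y : Module.End k M}

local notation "GLkM" => LinearMap.GeneralLinearGroup k M

variable (hk2 : (2 : k) ≠ 0) (hk3 : Nat.card k ≠ 3)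
include hk2 hk3

/-- The lower root group of the pair lies in `G`. -/
theorem qp_lower_fam (hx : QMin G x) (hyy : y * y = 0) (hy : QFam G y) (h : x * y * x ≠ 0) :
    ∀ q : k[X], QFam G (y * aeval (x * y) (X * q)) := by
  classical
  have hxx := hx.sq
  obtain ⟨f, hfm, hf⟩ := qp_exists_annPoly x y
  obtain ⟨hirr, hR⟩ := qp_main hk2 hk3 x y hx hyy hy f hfm hf
  have hXf : ¬ f ∣ X := fun hd => h (by simpa using (hf X).2 hd)
  have hcop : IsCoprime (X : k[X]) f := (hirr.coprime_iff_not_dvd.2 hXf).symm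
  haveI : Fact (Irreducible f) := ⟨hirr⟩
  have hroot : AdjoinRoot.root f ≠ 0 := fun e => by
    rw [← AdjoinRoot.mk_X, AdjoinRoot.mk_eq_zero] at e
    exact hXf e
  let Γ := qgam G hxx hyy
  let π : SpecialLinearGroup (Fin 2) k[X] →* SpecialLinearGroup (Fin 2) (AdjoinRoot f) :=
    Matrix.SpecialLinearGroup.map (AdjoinRoot.mk f)
  have hsurj : (Γ 1).map π = ⊤ := by
    refine sl2_gen_simple hk2 hk3 (AdjoinRoot.powerBasis hirr.ne_zero)
      (by rwa [AdjoinRoot.powerBasis_gen]) (fun c => ?_) (fun c => ?_)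
    · obtain ⟨σ, hσ, e⟩ := (hR (C c)).exists_mem
      refine ⟨slU' (C c), mem_qgam_one (σ := σ) (by simp [slU', QFormal]) (by simp [slU']) hσ ?_, ?_⟩
      · simp only [slU', qphi_upper]
        rw [(qmove_units_one_add e).1]
      · apply Subtype.ext
        show (slU' (C c)).1.map (AdjoinRoot.mk f) = _
        ext i j
        fin_cases i <;> fin_cases j <;> simp [slU', slU_val, AdjoinRoot.algebraMap_eq]
    · obtain ⟨σ, hσ, e⟩ := hy c
      refine ⟨slL' (C c * X), mem_qgam_one (σ := σ) (by simp [slL', QFormal]) (by simp [slL']) hσ ?_, ?_⟩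
      · simp only [slL', qphi_lower]
        rw [(qmove_units_one_add e).1]
      · apply Subtype.ext
        show (slL' (C c * X)).1.map (AdjoinRoot.mk f) = _
        ext i j
        fin_cases i <;> fin_cases j <;> simp [slL', slL_val, AdjoinRoot.algebraMap_eq]
  obtain ⟨t, ht0, ht1⟩ := qp_exists_sq_ne_one hk2 hk3
  have hperf : commutator (SpecialLinearGroup (Fin 2) (AdjoinRoot f)) = ⊤ := by
    refine CfsgLib.Linear.commutator_SL_eq_top (Or.inr ⟨algebraMap k _ t, ?_, ?_⟩)
    · exact (_root_.map_ne_zero _).2 ht0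
    · rw [← map_pow, ← map_one (algebraMap k (AdjoinRoot f))]
      exact fun h => ht1 ((algebraMap k _).injective h)
  have hlevel : ∀ i, (Γ (i + 1)).map π = ⊤ := by
    intro i
    induction i with
    | zero => exact hsurj
    | succ i ihi =>
      rw [eq_top_iff, ← hperf, commutator_def]
      calc ⁅(⊤ : Subgroup (SpecialLinearGroup (Fin 2) (AdjoinRoot f))), ⊤⁆
          = ⁅(Γ (i + 1)).map π, (Γ 1).map π⁆ := by rw [ihi, hsurj]
        _ = ⁅Γ (i + 1), Γ 1⁆.map π := (Subgroup.map_commutator _ _ _).symm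
        _ ≤ _ := Subgroup.map_mono (qgam_commutator hxx hyy (i + 1))
  intro q c
  obtain ⟨s, hs⟩ : ∃ s, s = C c * q := ⟨_, rfl⟩
  obtain ⟨g, hg, eg⟩ : slL (AdjoinRoot.mk f (X * (X * s))) ∈ (Γ (3 + 1)).map π :=
    (hlevel 3).symm ▸ Subgroup.mem_top _
  have hent : ∀ i j, AdjoinRoot.mk f (g.1 i j) = (slL (AdjoinRoot.mk f (X * (X * s)))).1 i j :=
    fun i j => congrArg (fun w : SpecialLinearGroup (Fin 2) (AdjoinRoot f) => w.1 i j) eg
  have hX2 : (X : k[X]) ^ 2 ∣ g.1 1 0 := qgam_dvd (m := 2) hg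
  obtain ⟨hform, h00, ⟨σ, hσ, eσ⟩, -⟩ := hg
  refine ⟨σ, hσ, ?_⟩
  have d00 : X * f ∣ g.1 0 0 - 1 := hcop.mul_dvd (X_dvd_iff.2 (by simp [h00]))
    (AdjoinRoot.mk_eq_mk.1 (by rw [hent, map_one]; simp [slL_val]))
  have d11 : X * f ∣ g.1 1 1 - 1 := hcop.mul_dvd (X_dvd_iff.2 (by simp [hform.2, h00]))
    (AdjoinRoot.mk_eq_mk.1 (by rw [hent, map_one]; simp [slL_val]))
  have d01 : f ∣ g.1 0 1 := AdjoinRoot.mk_eq_zero.1 (by rw [hent]; simp [slL_val])
  have d10 : X * (X * f) ∣ g.1 1 0 - X * (X * s) := by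
    rw [← mul_assoc]
    refine (hcop.mul_left hcop).mul_dvd (dvd_sub ?_ ?_)
      (AdjoinRoot.mk_eq_mk.1 (by rw [hent]; simp [slL_val]))
    · rwa [← pow_two]
    · exact ⟨s, by ring⟩
  have e : g.1 = !![1, 0; X * (X * s), 1] +
      !![g.1 0 0 - 1, g.1 0 1; g.1 1 0 - X * (X * s), g.1 1 1 - 1] := by
    ext i j : 1
    fin_cases i <;> fin_cases j <;> simp
  rw [qmove, eσ, e, qphi_add, qphi_eq_zero (g := !![g.1 0 0 - 1, g.1 0 1; g.1 1 0 - X * (X * s), g.1 1 1 - 1]) ((hf f).2 dvd_rfl) (by simpa using d00) (by simpa using d01)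
    (by simpa using d10) (by simpa using d11), add_zero]
  simp only [qphi, qp5]
  simp [divX_one, qp_divX_X_mul, hs, Algebra.algebraMap_eq_smul_one]

/-- An element not annihilated by a minimal one splits off a minimal summand. -/
theorem qp_split (hx : QMin G x) (hyy : y * y = 0) (hy : QFam G y) (h : x * y * x ≠ 0) :
    ∃ z : Module.End k M, QMin G z ∧ QFam G (y - z) ∧ (y - z) * (y - z) = 0 ∧ (y - z) * z = 0 ∧
      z * (y - z) = 0 ∧ qrk (y - z) < qrk y := by
  obtain ⟨f, hfm, hf⟩ := qp_exists_annPoly x y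
  obtain ⟨hirr, -⟩ := qp_main hk2 hk3 x y hx hyy hy f hfm hf
  have hXf : ¬ f ∣ X := fun hd => h (by simpa using (hf X).2 hd)
  obtain ⟨a, b, hab⟩ := hirr.coprime_iff_not_dvd.2 hXf
  obtain ⟨z, hz⟩ : ∃ z, z = y * aeval (x * y) (X * b) := ⟨_, rfl⟩
  have hzfam : QFam G z := hz ▸ qp_lower_fam hk2 hk3 hx hyy hy h b
  have hyz : y * z = 0 := by rw [hz, ← mul_assoc, hyy, zero_mul]
  have hzy : z * y = 0 := by rw [hz]; exact qp_mid hyy _
  have hzz : z * z = 0 := by
    conv_lhs => arg 2; rw [hz]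
    rw [← mul_assoc, hzy, zero_mul]
  have hxzx : x * z * x = x * y * x := by
    have hd : f ∣ X * (X * b) - X := ⟨-(X * a), by linear_combination X * hab⟩
    have h2 := (hf _).2 hd
    rw [map_sub, map_mul, aeval_X, sub_mul, sub_eq_zero] at h2
    rw [hz]
    simpa only [mul_assoc] using h2
  have hz0 : z ≠ 0 := fun e => h (by rw [← hxzx, e, mul_zero, zero_mul])
  have hrk : qrk z ≤ qrk x := by
    have e : z = y * (aeval (x * y) b * x) * y := by
      rw [hz, mul_comm X b, map_mul, aeval_X]; simp only [mul_assoc]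
    have h1 : LinearMap.range z ≤ (LinearMap.range x).map (y * aeval (x * y) b) := by
      rintro _ ⟨m, rfl⟩
      exact ⟨x (y m), LinearMap.mem_range_self x _, by rw [e]; rfl⟩
    exact (Submodule.finrank_mono h1).trans (Submodule.finrank_map_le _ _)
  refine ⟨z, ⟨hz0, hzz, hzfam, fun w hw hww hfw => hrk.trans (hx.min w hw hww hfw)⟩, ?_, ?_, ?_, ?_, ?_⟩
  · rw [sub_eq_add_neg]
    exact QFam.add (by rw [mul_neg, hyz, neg_zero]) hy hzfam.neg
  · rw [sub_mul, mul_sub, mul_sub, hyy, hyz, hzy, hzz]; simp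
  · rw [sub_mul, hyz, hzz, sub_zero]
  · rw [mul_sub, hzy, hzz, sub_zero]
  · obtain ⟨F, hF⟩ : ∃ F, F = aeval (y * x) (X * b) := ⟨_, rfl⟩
    have hzF : z = F * y := by rw [hz, hF, qp_swap_left]
    have hFF : F * z = z := by
      have hd : f * (-(a * b)) = (X * b) * b - b := by linear_combination (-b) * hab
      have h2 := congrArg (fun w => y * (w * y)) ((hf _).2 ⟨-(a * b), rfl⟩)
      rw [hd] at h2
      simp only [zero_mul, mul_zero] at h2
      rw [hzF, hF, ← mul_assoc, ← map_mul, ← qp_swap_left, ← qp_swap_left, ← sub_eq_zero, ← mul_sub,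
        ← map_sub, ← h2, show X * b * (X * b) - X * b = ((X * b) * b - b) * X by ring,
        map_mul _ _ X, aeval_X]
      simp only [mul_assoc]
    have h1 := qp_map_finrank F (LinearMap.range y)
    rw [← LinearMap.range_comp, ← Module.End.mul_eq_comp, ← hzF] at h1
    have h2 : LinearMap.range (y - z) ≤ LinearMap.range y ⊓ LinearMap.ker F := by
      rintro _ ⟨m, rfl⟩
      refine ⟨sub_mem (LinearMap.mem_range_self y m) ?_, ?_⟩
      · rw [hz]; exact LinearMap.mem_range_self y _
      · have e : F * (y - z) = 0 := by rw [mul_sub, ← hzF, hFF, sub_self]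
        exact LinearMap.congr_fun e m
    have h3 := Submodule.finrank_mono h2
    have h4 : 0 < Module.finrank k (LinearMap.range z) := by
      rw [Nat.pos_iff_ne_zero]
      exact fun e => hz0 (LinearMap.range_eq_bot.1 (Submodule.finrank_eq_zero.1 e))
    simp only [qrk] at h1 h3 ⊢
    omega

omit hk3 in
/-- Vanishing of the odd coefficient of a polynomial identity of degree four. -/
lemma qp_coeff_one {a1 a2 a3 a4 : Module.End k M} (hk3 : Nat.card k ≠ 3)
    (h : ∀ c : k, c • a1 + (c ^ 2) • a2 + (c ^ 3) • a3 + (c ^ 4) • a4 = 0) : a1 = 0 := by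
  obtain ⟨t, ht0, ht1⟩ := qp_exists_sq_ne_one hk2 hk3
  have key : ∀ c : k, c ≠ 0 → a1 + (c ^ 2) • a3 = 0 := by
    intro c hc
    have e : (2 * c) • (a1 + (c ^ 2) • a3) =
        (c • a1 + (c ^ 2) • a2 + (c ^ 3) • a3 + (c ^ 4) • a4) -
          ((-c) • a1 + ((-c) ^ 2) • a2 + ((-c) ^ 3) • a3 + ((-c) ^ 4) • a4) := by
      match_scalars <;> ring
    rw [h c, h (-c), sub_zero] at e
    exact (smul_eq_zero.1 e).resolve_left (mul_ne_zero hk2 hc)
  have h1 := key 1 one_ne_zero
  rw [one_pow, one_smul] at h1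
  have h2 := key t ht0
  have h3 : a3 = 0 := by
    have e : (t ^ 2 - 1) • a3 = (a1 + (t ^ 2) • a3) - (a1 + a3) := by rw [sub_smul, one_smul]; abel
    rw [h1, h2, sub_zero] at e
    exact (smul_eq_zero.1 e).resolve_left (sub_ne_zero.2 ht1)
  rwa [h3, add_zero] at h1

/-- The elements killed between all minimal ones are closed under commutation with quadratic ones. -/
lemma qp_annihilated_bracket {u w : Module.End k M} (huu : u * u = 0) (hu : QFam G u)
    (hw : ∀ x, QMin G x → x * w * x = 0) : ∀ x, QMin G x → x * (w * u - u * w) * x = 0 := by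
  intro x hx
  refine qp_coeff_one hk2 hk3
    (a2 := (u * x - x * u) * w * (u * x - x * u) - x * w * (u * x * u) - u * x * u * w * x)
    (a3 := -((u * x - x * u) * w * (u * x * u) + u * x * u * w * (u * x - x * u)))
    (a4 := u * x * u * w * (u * x * u)) fun c => ?_
  obtain ⟨g, hg, eg⟩ := hu c
  have hcu : (c • u) * (c • u) = 0 := by rw [smul_mul_smul_comm, huu, smul_zero]
  have h := hw _ (hx.conj hg)
  rw [qconj, (qmove_units_one_add eg).1, (qmove_units_one_add eg).2 hcu] at h
  have e : (1 + c • u) * x * (1 - c • u) = x + c • (u * x - x * u) - (c ^ 2) • (u * x * u) := by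
    simp only [add_mul, mul_sub, one_mul, mul_one, smul_mul_assoc, mul_smul_comm, smul_smul,
      mul_assoc, smul_sub, smul_add, pow_two]
    abel
  rw [e] at h
  have h0 := hw x hx
  have e1 : x * w * (u * x - x * u) + (u * x - x * u) * w * x = x * (w * u - u * w) * x := by
    have : x * w * (u * x - x * u) + (u * x - x * u) * w * x =
        x * (w * u - u * w) * x - x * w * x * u + u * (x * w * x) := by noncomm_ring
    rw [this, h0, zero_mul, mul_zero, sub_zero, add_zero]
  rw [← e1, ← h]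
  simp only [add_mul, mul_add, sub_mul, mul_sub, smul_mul_assoc, mul_smul_comm, smul_smul, h0,
    smul_sub, smul_add, smul_neg]
  match_scalars <;> ring

omit hk2 hk3 in
lemma qp_annihilated_smul {w : Module.End k M} (hw : ∀ x, QMin G x → x * w * x = 0) (c : k) :
    ∀ x, QMin G x → x * (c • w) * x = 0 := fun x hx => by
  rw [mul_smul_comm, smul_mul_assoc, hw x hx, smul_zero]

/-- A quadratic element killed between all minimal ones commutes with all of them. -/
theorem qp_annihilated_commutes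
    (hpart : ∀ a : Module.End k M, QMin G a → ∃ b, QMin G b ∧ a * b * a ≠ 0)
    {w : Module.End k M} (hww : w * w = 0) (hwf : QFam G w)
    (hw : ∀ x, QMin G x → x * w * x = 0) {x : Module.End k M} (hx : QMin G x) :
    w * x = x * w := by
  have hno : ∀ z : Module.End k M, z * z = 0 → QFam G z → qrk z ≤ qrk x →
      (∀ a, QMin G a → a * z * a = 0) → z = 0 := by
    intro z hzz hzf hrk hz
    by_contra hne
    have hm : QMin G z := ⟨hne, hzz, hzf, fun a ha haa hfa => hrk.trans (hx.min a ha haa hfa)⟩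
    obtain ⟨b, hb, hbne⟩ := hpart z hm
    exact (qp_opp_symm hk2 hk3 hm hb hbne hm.self_mem hb.self_mem hne hb.ne).2 (hz b hb)
  have hxx := hx.sq
  have hxwx := hw x hx
  obtain ⟨u, hu⟩ : ∃ u, u = w * x - x * w := ⟨_, rfl⟩
  have hu_ann : ∀ a, QMin G a → a * u * a = 0 := hu ▸ qp_annihilated_bracket hk2 hk3 hxx hx.fam hw
  have xu : x * u = 0 := by rw [hu, mul_sub, ← mul_assoc, ← mul_assoc, hxwx, hxx, zero_mul, sub_zero]
  have ux : u * x = 0 := by rw [hu, sub_mul, mul_assoc, hxx, mul_zero, hxwx, sub_zero]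
  obtain ⟨p, hp⟩ : ∃ p, p = w * x * w := ⟨_, rfl⟩
  have xp : x * p = 0 := by rw [hp, ← mul_assoc, ← mul_assoc, hxwx, zero_mul]
  have px : p * x = 0 := by rw [hp, mul_assoc (w * x), mul_assoc w x, ← mul_assoc x w x, hxwx, mul_zero]
  have uu : u * u = 0 := by
    rw [hu, show (w * x - x * w) * (w * x - x * w) =
      w * (x * w * x) - w * (x * x) * w - x * (w * w) * x + x * w * x * w by noncomm_ring, hxwx, hxx,
      hww]
    simp
  have pp : p * p = 0 := by
    rw [hp, show w * x * w * (w * x * w) = w * x * (w * w) * x * w by noncomm_ring, hww]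
    simp
  have up : u * p = 0 := by
    rw [hu, hp, show (w * x - x * w) * (w * x * w) = w * (x * w * x) * w - x * (w * w) * x * w by
      noncomm_ring, hxwx, hww]
    simp
  have pu : p * u = 0 := by
    rw [hu, hp, show w * x * w * (w * x - x * w) = w * x * (w * w) * x - w * (x * w * x) * w by
      noncomm_ring, hxwx, hww]
    simp
  obtain ⟨g, hg, eg⟩ := hwf.exists_mem
  have hz : qconj g x = x + u - p := by
    rw [qconj, (qmove_units_one_add eg).1, (qmove_units_one_add eg).2 hww, hu, hp]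
    noncomm_ring
  have hz' : qconj g⁻¹ x = x - u - p := by
    rw [qconj, inv_inv, (qmove_units_one_add eg).1, (qmove_units_one_add eg).2 hww, hu, hp]
    noncomm_ring
  have hp0 : p = 0 := by
    have h1 := hx.fam.conj hg
    have h2 := hx.fam.conj (inv_mem hg)
    rw [hz] at h1
    rw [hz'] at h2
    have h3 := QFam.add (by
      simp only [add_mul, mul_add, sub_mul, mul_sub, hxx, xu, ux, xp, px, uu, pp, up, pu]; simp) h1 h2
    have h4 := QFam.add (y := (-2 : k) • x) (by
      simp only [add_mul, sub_mul, mul_smul_comm, hxx, ux, px]; simp) h3 (hx.fam.smul (-2 : k))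
    have h5 := h4.smul ((-2 : k)⁻¹)
    rw [show x + u - p + (x - u - p) + (-2 : k) • x = (-2 : k) • p by
      rw [neg_smul, neg_smul, two_smul, two_smul]; abel, smul_smul,
      inv_mul_cancel₀ (neg_ne_zero.2 hk2), one_smul] at h5
    refine hno p pp h5 ?_ ?_
    · rw [hp]
      refine le_trans (Submodule.finrank_mono (?_ : LinearMap.range (w * x * w) ≤ (LinearMap.range x).map w))
        (Submodule.finrank_map_le _ _)
      rintro _ ⟨m, rfl⟩
      exact ⟨x (w m), LinearMap.mem_range_self x _, rfl⟩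
    · have h6 := qp_annihilated_smul (qp_annihilated_bracket hk2 hk3 hww hwf hu_ann) ((2 : k)⁻¹)
      have e : p = (2 : k)⁻¹ • (u * w - w * u) := by
        rw [eq_inv_smul_iff₀ hk2, two_smul, hu, hp,
          show (w * x - x * w) * w - w * (w * x - x * w) =
            w * x * w + w * x * w - x * (w * w) - w * w * x by noncomm_ring, hww]
        simp
      rw [e]
      exact h6
  have hu0 : u = 0 := by
    refine hno u uu ?_ ?_ hu_ann
    · refine hu ▸ QFam.comm hww hxx ?_ hxwx hwf hx.fam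
      rw [← hp, hp0]
    obtain ⟨b, hb, hbne⟩ := hpart x hx
    obtain ⟨v, hv, h1, h2⟩ := qp_exists_inverse hk2 hk3 hx hb hbne
    have hvm : QMin G v := qcls_qmin hb hv fun e => hx.ne (by rw [← h1, e, mul_zero, zero_mul])
    obtain ⟨R, hR⟩ : ∃ R : Module.End k M, R = 1 - (x * v + v * x) := ⟨_, rfl⟩
    have uP : u * (x * v) = 0 := by rw [← mul_assoc, ux, zero_mul]
    have Qu : v * x * u = 0 := by rw [mul_assoc, xu, mul_zero]
    have Rx : R * x = 0 := by
      rw [hR, sub_mul, one_mul, add_mul, h1, mul_assoc, hxx, mul_zero, add_zero, sub_self]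
    have xR : x * R = 0 := by
      rw [hR, mul_sub, mul_one, mul_add, ← mul_assoc, ← mul_assoc, h1, hxx, zero_mul, zero_add, sub_self]
    have RuR : R * u * R = 0 := by
      rw [hu, mul_sub, sub_mul, ← mul_assoc, mul_assoc (R * w), xR, mul_zero, ← mul_assoc, Rx,
        zero_mul, zero_mul, sub_zero]
    have PuQ : x * v * u * (v * x) = 0 := by
      have e : x * v * u * (v * x) =
          x * v * w * (x * v * x) - x * v * x * w * (v * x) := by rw [hu]; noncomm_ring
      have e2 := qp_annihilated_bracket hk2 hk3 hvm.sq hvm.fam hw x hx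
      rw [mul_sub, sub_mul, sub_eq_zero] at e2
      rw [e, h1, sub_eq_zero]
      simp only [mul_assoc] at e2 ⊢
      exact e2.symm
    have hdec : u = u * R + R * u := by
      have e : u * R + R * u = u + (u - u * (v * x) - x * v * u) - u * (x * v) - v * x * u := by
        rw [hR]; noncomm_ring
      have e' : u - u * (v * x) - x * v * u = R * u * R - u * (x * v) * (-1) - v * x * u * (-1)
          - x * v * u * (v * x) - x * v * (u * (x * v)) - v * x * u * (x * v) - v * x * u * (v * x) := by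
        rw [hR]; noncomm_ring
      rw [e, e', RuR, PuQ, uP, Qu]
      simp
    obtain ⟨Z, hZ⟩ : ∃ Z, Z = x + u := ⟨_, rfl⟩
    have hZr : qrk Z = qrk x := by
      rw [hZ, show x + u = qconj g x by rw [hz, hp0, sub_zero]]; exact qconj_qrk g x
    have hZR : Z * R = u * R := by rw [hZ, add_mul, xR, zero_add]
    have hRZ : R * Z = R * u := by rw [hZ, mul_add, Rx, zero_add]
    rw [← hZr, hdec, ← hZR, ← hRZ]
    have h3 : LinearMap.range (Z * R + R * Z) ≤ LinearMap.range (Z * R) ⊔ LinearMap.range (R * Z) := by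
      rintro _ ⟨m, rfl⟩
      exact Submodule.add_mem_sup ⟨m, rfl⟩ ⟨m, rfl⟩
    have h4 := qp_map_finrank R (LinearMap.range Z)
    rw [← LinearMap.range_comp, ← Module.End.mul_eq_comp] at h4
    have h5 : LinearMap.range (Z * R) ≤ LinearMap.range Z ⊓ LinearMap.ker R := by
      rintro _ ⟨m, rfl⟩
      have e : R * (Z * R) = 0 := by rw [← mul_assoc, hRZ, RuR]
      exact ⟨LinearMap.mem_range_self Z _, LinearMap.congr_fun e m⟩
    have f1 := Submodule.finrank_mono h3
    have f2 := Submodule.finrank_mono h5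
    have f3 := Submodule.finrank_sup_add_finrank_inf_eq (LinearMap.range (Z * R))
      (LinearMap.range (R * Z))
    simp only [qrk] at f1 f2 f3 h4 ⊢
    omega
  rw [hu, sub_eq_zero] at hu0
  exact hu0

end CfsgLib.RootSub
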