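/-
Every quadratic element of a quadratic pair lies in one component or centralizes all of them.
-/
import Cfsg.Agent.Lib.RootSub.QPDistinct
import Cfsg.Agent.Lib.RootSub.QPSplit

set_option autoImplicit false

namespace CfsgLib.RootSub

open Cfsg

universe u

variable {k : Type u} [Field k] {M : Type u} [AddCommGroup M] [Module k M] [FiniteDimensional k M]
variable {G : Subgroup (LinearMap.GeneralLinearGroup k M)}

local notation "GLkM" => LinearMap.GeneralLinearGroup k M
local notation "SG" => quadraticRootSubgroups G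
local notation "G0" => (⨆ A ∈ quadraticRootSubgroups G, A)

/-- The part of `G` centralizing all root subgroups. -/
abbrev qcentral (G : Subgroup GLkM) : Subgroup GLkM :=
  G ⊓ Subgroup.centralizer
    ((⨆ A ∈ quadraticRootSubgroups G, A : Subgroup GLkM) : Set GLkM)

variable (hk2 : (2 : k) ≠ 0) (hk3 : Nat.card k ≠ 3) (hG : IsQuadraticPair G)

lemma qp_mem_G0 {ρ : GLkM} (hρ : QMin G (qmove ρ)) : ρ ∈ G0 :=
  (le_biSup (fun B : Subgroup GLkM => B) (qp_mem_sigma hρ)) ((mem_sas_iff hρ).2 hρ.self_mem)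

lemma qp_mem_qcentral {τ : GLkM} (hτ : τ ∈ G)
    (h : ∀ a : Module.End k M, QMin G a → qmove τ * a = a * qmove τ) : τ ∈ qcentral G := by
  refine ⟨hτ, ?_⟩
  show τ ∈ Subgroup.centralizer _
  rw [← Subgroup.zpowers_le, Subgroup.le_centralizer_iff]
  refine iSup₂_le fun A hA a ha => ?_
  obtain ⟨ρ, hρ', rfl⟩ := hA
  have hρ := qmin_iff.1 hρ'
  have hc : a * τ = τ * a := by
    by_cases h0 : qmove a = 0
    · rw [qmove_injective (h0.trans qmove_one.symm), one_mul, mul_one]
    · exact qp_commute_iff.2 (h _ (qcls_qmin hρ ((mem_sas_iff hρ).1 ha) h0)).symm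
  rw [Subgroup.mem_centralizer_iff]
  rintro g hg
  obtain ⟨n, rfl⟩ := Subgroup.mem_zpowers_iff.1 hg
  exact ((Commute.zpow_right (show Commute a τ from hc) n).eq).symm

include hk2 hk3 hG

/-- Every quadratic element is a product of root elements and a centralizing element. -/
theorem qp_cocentral_mem : ∀ σ ∈ quadraticElements G, σ ∈ G0 ⊔ qcentral G := by
  suffices H : ∀ (n : ℕ) (σ : GLkM), σ ∈ G → qmove σ * qmove σ = 0 → QFam G (qmove σ) →
      qrk (qmove σ) = n → σ ∈ G0 ⊔ qcentral G from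
    fun σ hσ => H _ σ hσ.1 hσ.2.1.1 (quadraticElements_iff.1 hσ).2.2 rfl
  intro n
  induction n using Nat.strong_induction_on with
  | _ n ih =>
  intro σ hσG hsq hfam hn
  by_cases hall : ∀ x, QMin G x → x * qmove σ * x = 0
  · exact Subgroup.mem_sup_right (qp_mem_qcentral hσG fun a ha =>
      qp_annihilated_commutes hk2 hk3 (qp_partner hk2 hk3 hG) hsq hfam hall ha)
  push Not at hall
  obtain ⟨x, hx, hne⟩ := hall
  obtain ⟨z, hz, hwf, hww, hwz, hzw, hlt⟩ := qp_split hk2 hk3 hx hsq hfam hne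
  obtain ⟨a, haG, ea⟩ := hz.fam.exists_mem
  obtain ⟨b, hbG, eb⟩ := hwf.exists_mem
  have hab : a * b = σ := qmove_injective (by
    rw [qmove_mul, ea, eb, hzw, add_zero, add_sub_cancel])
  rw [← hab]
  exact mul_mem (Subgroup.mem_sup_left (qp_mem_G0 (by rw [ea]; exact hz)))
    (ih _ (hn ▸ hlt) b hbG (by rw [eb]; exact hww) (by rw [eb]; exact hwf) (by rw [eb]))

theorem qp_cocentral : G0 ⊔ qcentral G = G := by
  refine le_antisymm (sup_le qp_G0_le inf_le_left) ?_
  conv_lhs => rw [← hG.2]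
  rw [Subgroup.closure_le]
  exact qp_cocentral_mem hk2 hk3 hG

/-- Components are invariant under `G`. -/
lemma qpart_invariant {g : GLkM} (hg : g ∈ G) {A B : Subgroup GLkM} (hB : B ∈ qpart G A) :
    conjBy B g ∈ qpart G A := by
  refine ⟨qp_sigma_conj hB.1 hg, hB.2.trans ?_⟩
  let K : Subgroup GLkM :=
    { carrier := {g | g ∈ G ∧ ∀ B ∈ SG, FReach SG B (conjBy B g)}
      one_mem' := ⟨one_mem G, fun B _ => by rw [conjBy_one]⟩
      mul_mem' := fun {g h} hg hh => ⟨mul_mem hg.1 hh.1, fun B hB => by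
        rw [← conjBy_conjBy]
        exact (hh.2 B hB).trans (hg.2 _ (qp_sigma_conj hB hh.1))⟩
      inv_mem' := fun {g} hg => ⟨inv_mem hg.1, fun B hB => by
        have := hg.2 (conjBy B g⁻¹) (qp_sigma_conj hB (inv_mem hg.1))
        rw [conjBy_conjBy_inv] at this
        exact freach_symm this⟩ }
  have hK : G0 ⊔ qcentral G ≤ K := by
    refine sup_le (fun h hh => ⟨qp_G0_le hh, fun B hB => qp_reach_conj hk2 hk3 hG hB hh⟩)
      (fun h hh => ⟨hh.1, fun B hB => ?_⟩)
    rw [conjBy_of_commutes fun b hb =>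
      (Subgroup.mem_centralizer_iff.1 hh.2 b (le_biSup (fun B : Subgroup GLkM => B) hB hb)).symm]
  exact (hK ((qp_cocentral hk2 hk3 hG).symm ▸ hg)).2 B hB.1

/-- An element killing a minimal one and commuting with its component is zero. -/
lemma qp_kill {ρ : GLkM} (hρ : QMin G (qmove ρ)) {w : Module.End k M}
    (hwz : w * qmove ρ = 0)
    (hcomm : ∀ B ∈ qpart G (sameActionSubgroup G ρ), ∀ τ ∈ B, qmove τ * w = w * qmove τ) :
    w = 0 := by
  obtain ⟨S, hS⟩ : ∃ S : Submodule k M, S = ⨆ B ∈ qpart G (sameActionSubgroup G ρ), ⨆ τ ∈ B,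
      LinearMap.range (qmove τ) := ⟨_, rfl⟩
  have hle : ∀ B ∈ qpart G (sameActionSubgroup G ρ), ∀ τ ∈ B, LinearMap.range (qmove τ) ≤ S :=
    fun B hB τ hτ => hS ▸ le_iSup₂_of_le B hB (le_iSup₂_of_le τ hτ le_rfl)
  have hA : sameActionSubgroup G ρ ∈ qpart G (sameActionSubgroup G ρ) := ⟨qp_mem_sigma hρ, .refl⟩
  have hker : S ≤ LinearMap.ker w := by
    -- every member of the component annihilates
    have hreach : ∀ B, FReach SG (sameActionSubgroup G ρ) B →
        ∀ τ ∈ B, w * qmove τ = 0 := by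
      intro B hB
      induction hB with
      | refl =>
        intro τ hτ
        exact mul_eq_zero_of_range_le_ker (((mem_sas_iff hρ).1 hτ).2.1.trans (by
          rintro _ ⟨m, rfl⟩; exact LinearMap.congr_fun hwz m))
      | @tail B B' hB hadj ih =>
        intro τ hτ
        have hB1 : B ∈ qpart G (sameActionSubgroup G ρ) := ⟨hadj.1, hB⟩
        have hB2 : B' ∈ qpart G (sameActionSubgroup G ρ) := ⟨hadj.2.1, hB.tail hadj⟩
        obtain ⟨g, hg, e⟩ := r1_right_mem hadj.2.2
        rw [e, mem_conjBy] at hτ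
        have hgc : g ∈ Subgroup.closure ((B : Set GLkM) ∪ B') := by
          rw [Subgroup.closure_union, Subgroup.closure_eq, Subgroup.closure_eq]; exact hg
        have hwg : w * (g : Module.End k M) = (g : Module.End k M) * w := by
          clear hτ e hg
          induction hgc using Subgroup.closure_induction with
          | mem y hy =>
            have h : qmove y * w = w * qmove y := by
              rcases hy with hy | hy
              · exact hcomm B hB1 y hy
              · exact hcomm B' hB2 y hy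
            rw [coe_eq_one_add_qmove y, mul_add, add_mul, mul_one, one_mul, h]
          | one => simp
          | mul y y' _ _ h h' => rw [Units.val_mul, ← mul_assoc, h, mul_assoc, h', mul_assoc]
          | inv y _ h =>
            have := congrArg (fun v => (y⁻¹ : GLkM).1 * v * (y⁻¹ : GLkM).1) h
            simp only [mul_assoc, Units.mul_inv, mul_one] at this
            rw [← mul_assoc, ← mul_assoc, Units.inv_mul, one_mul] at this
            exact this.symm
        have h1 : qmove τ = qconj g (qmove (g⁻¹ * τ * g)) := by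
          rw [← qmove_conj', show g * (g⁻¹ * τ * g) * g⁻¹ = τ by group]
        rw [h1, qconj, ← mul_assoc, ← mul_assoc, hwg, mul_assoc (g : Module.End k M), ih _ hτ]
        simp
    rw [hS]
    refine iSup₂_le fun B hB => iSup₂_le fun τ hτ => ?_
    rintro _ ⟨m, rfl⟩
    exact LinearMap.congr_fun (hreach B hB.2 τ hτ) m
  rcases hG.1.2 S (fun g hg v hv => by
    have hmap : S.map (g : M →ₗ[k] M) ≤ S := by
      rw [hS]
      simp only [Submodule.map_iSup]
      refine iSup₂_le fun B hB => iSup₂_le fun τ hτ => ?_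
      refine le_trans ?_ (hS ▸ hle _ (qpart_invariant hk2 hk3 hG hg hB) (g * τ * g⁻¹) (conj_mem_conjBy hτ))
      rw [qmove_conj', qconj_range]
    exact hmap ⟨v, hv, rfl⟩) with h | h
  · exfalso
    apply hρ.ne
    rw [← LinearMap.range_eq_bot, ← le_bot_iff, ← h]
    exact hle _ hA ρ ((mem_sas_iff hρ).2 hρ.self_mem)
  · rw [← LinearMap.ker_eq_top, eq_top_iff, ← h]
    exact hker

omit hk2 hk3 hG in
lemma qpart_mem_gen {A B : Subgroup GLkM} (hB : B ∈ qpart G A) {τ : GLkM} (hτ : τ ∈ B) :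
    τ ∈ ⨆ C ∈ qpart G A, C := le_biSup (fun C : Subgroup GLkM => C) hB hτ

/-- The classification of quadratic elements. -/
theorem qp_classify : ∀ σ ∈ quadraticElements G,
    σ ∈ qcentral G ∨ ∃ A ∈ SG, σ ∈ ⨆ C ∈ qpart G A, C := by
  suffices H : ∀ (n : ℕ) (σ : GLkM), σ ∈ G → qmove σ * qmove σ = 0 → QFam G (qmove σ) →
      qrk (qmove σ) = n → σ ∈ qcentral G ∨ ∃ A ∈ SG, σ ∈ ⨆ C ∈ qpart G A, C from
    fun σ hσ => H _ σ hσ.1 hσ.2.1.1 (quadraticElements_iff.1 hσ).2.2 rfl
  intro n
  induction n using Nat.strong_induction_on with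
  | _ n ih =>
  intro σ hσG hsq hfam hn
  by_cases hall : ∀ x, QMin G x → x * qmove σ * x = 0
  · exact Or.inl (qp_mem_qcentral hσG fun a ha =>
      qp_annihilated_commutes hk2 hk3 (qp_partner hk2 hk3 hG) hsq hfam hall ha)
  push Not at hall
  obtain ⟨x, hx, hne⟩ := hall
  obtain ⟨z, hz, hwf, hww, hwz, hzw, hlt⟩ := qp_split hk2 hk3 hx hsq hfam hne
  obtain ⟨a, haG, ea⟩ := hz.fam.exists_mem
  obtain ⟨b, hbG, eb⟩ := hwf.exists_mem
  have hab : a * b = σ := qmove_injective (by
    rw [qmove_mul, ea, eb, hzw, add_zero, add_sub_cancel])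
  have ha : QMin G (qmove a) := by rw [ea]; exact hz
  have haA : a ∈ ⨆ C ∈ qpart G (sameActionSubgroup G a), C :=
    qpart_mem_gen ⟨qp_mem_sigma ha, .refl⟩ ((mem_sas_iff ha).2 ha.self_mem)
  right
  refine ⟨_, qp_mem_sigma ha, ?_⟩
  rw [← hab]
  refine mul_mem haA ?_
  have hkill : (∀ B ∈ qpart G (sameActionSubgroup G a), ∀ τ ∈ B, τ * b = b * τ) →
      b ∈ ⨆ C ∈ qpart G (sameActionSubgroup G a), C := by
    intro hc
    have h0 : qmove b = 0 := qp_kill hk2 hk3 hG ha (by rw [ea, eb]; exact hwz)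
      fun B hB τ hτ => qp_commute_iff.1 (hc B hB τ hτ)
    rw [qmove_injective (h0.trans qmove_one.symm)]
    exact one_mem _
  rcases ih _ (hn ▸ hlt) b hbG (by rw [eb]; exact hww) (by rw [eb]; exact hwf) (by rw [eb]) with
    h | ⟨A, hA, hbA⟩
  · exact hkill fun B hB τ hτ =>
      Subgroup.mem_centralizer_iff.1 h.2 τ (le_biSup (fun C : Subgroup GLkM => C) hB.1 hτ)
  · by_cases hAP : A ∈ qpart G (sameActionSubgroup G a)
    · have e : qpart G A = qpart G (sameActionSubgroup G a) := (componentOf_eq hAP.2).symm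
      rwa [e] at hbA
    · refine hkill fun B hB τ hτ => ?_
      have hle : (⨆ C ∈ qpart G A, C) ≤ Subgroup.centralizer (B : Set GLkM) :=
        iSup₂_le fun C hC => Subgroup.commutator_eq_bot_iff_le_centralizer.1
          (qpart_commute hk2 hk3 hG hB hC.1 fun hC' => hAP ⟨hA, hC'.2.trans (freach_symm hC.2)⟩)
      exact Subgroup.mem_centralizer_iff.1 (hle hbA) τ hτ

end CfsgLib.RootSub
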