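/-
A quadratic pair is a central product of quasisimple groups generated by quadratic elements.
-/
import Cfsg.Agent.Lib.RootSub.QPCocentral
import Cfsg.Agent.Lib.Components.Quasisimple

set_option autoImplicit false

namespace CfsgLib.RootSub

open Cfsg
open scoped Pointwise

universe u

variable {k : Type u} [Field k]

section

variable {M : Type u} [AddCommGroup M] [Module k M] [FiniteDimensional k M]
variable {G : Subgroup (LinearMap.GeneralLinearGroup k M)}

local notation "GLkM" => LinearMap.GeneralLinearGroup k M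

/-- The conclusion of the central product theorem, for an index type. -/
def QPDecomposed (G : Subgroup GLkM) : Prop :=
  ∃ (ι : Type) (_ : Finite ι) (Gi : ι → Subgroup GLkM),
    (∀ i, Gi i ≤ G ∧ ∀ g ∈ G, conjBy (Gi i) g = Gi i) ∧ (∀ i j, i ≠ j → ⁅Gi i, Gi j⁆ = ⊥) ∧
      (⨆ i, Gi i) = G ∧
      (∀ i, IsQuasisimple ↥(Gi i) ∧
        Subgroup.closure (quadraticElements G ∩ (Gi i : Set GLkM)) = Gi i) ∧
      quadraticElements G ⊆ ⋃ i, (Gi i : Set GLkM)

/-- The group generated by the quadratic elements centralizing all root subgroups. -/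
abbrev qrest (G : Subgroup GLkM) : Subgroup GLkM :=
  Subgroup.closure (quadraticElements G ∩ (qcentral G : Set GLkM))

lemma qrest_le : qrest G ≤ qcentral G := (Subgroup.closure_le _).2 Set.inter_subset_right

lemma qp_exists_qmin {σ : GLkM} (hσ : σ ∈ quadraticElements G) :
    ∃ ρ : GLkM, QMin G (qmove ρ) := by
  classical
  have hex : ∃ n, ∃ ρ ∈ quadraticElements G, commutatorRank ρ = n := ⟨_, σ, hσ, rfl⟩
  obtain ⟨ρ, hρ, e⟩ := Nat.find_spec hex
  exact ⟨ρ, qmin_iff.1 ⟨hρ, fun τ hτ => e ▸ Nat.find_min' hex ⟨τ, hτ, rfl⟩⟩⟩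

variable (hk2 : (2 : k) ≠ 0) (hk3 : Nat.card k ≠ 3) (hG : IsQuadraticPair G)
include hk2 hk3 hG

lemma qp_top_eq : (⨆ A ∈ quadraticRootSubgroups G, A) ⊔ qrest G = G := by
  refine le_antisymm (sup_le qp_G0_le (qrest_le.trans inf_le_left)) ?_
  conv_lhs => rw [← hG.2]
  rw [Subgroup.closure_le]
  intro σ hσ
  rcases qp_classify hk2 hk3 hG σ hσ with h | ⟨A, -, h⟩
  · exact Subgroup.mem_sup_right (Subgroup.subset_closure ⟨hσ, h⟩)
  · exact Subgroup.mem_sup_left (qpart_gen_le A h)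

/-- The components of the root set give part of the decomposition. -/
lemma qp_parts : ∃ (ι : Type) (_ : Finite ι) (H : ι → Subgroup GLkM),
    (∀ i, H i ≤ (⨆ A ∈ quadraticRootSubgroups G, A) ∧ ∀ g ∈ G, conjBy (H i) g = H i) ∧
      (∀ i j, i ≠ j → ⁅H i, H j⁆ = ⊥) ∧ (⨆ i, H i) = (⨆ A ∈ quadraticRootSubgroups G, A) ∧
      (∀ i, IsQuasisimple ↥(H i) ∧
        Subgroup.closure (quadraticElements G ∩ (H i : Set GLkM)) = H i) ∧
      (∀ σ ∈ quadraticElements G, σ ∈ qcentral G ∨ ∃ i, σ ∈ H i) := by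
  classical
  haveI hfin : Finite ((qpart G) '' quadraticRootSubgroups G) :=
    (qp_finite_parts hk2 hk3 hG).to_subtype
  obtain ⟨r, ⟨e⟩⟩ := Finite.exists_equiv_fin ((qpart G) '' quadraticRootSubgroups G)
  have hmem : ∀ i, ∃ A ∈ quadraticRootSubgroups G, qpart G A = (e.symm i).1 := fun i => (e.symm i).2
  choose rep hrep hpart using hmem
  have hcover : ∀ A ∈ quadraticRootSubgroups G, ∃ i, qpart G (rep i) = qpart G A := fun A hA =>
    ⟨e ⟨_, A, hA, rfl⟩, by rw [hpart, Equiv.symm_apply_apply]⟩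
  refine ⟨Fin r, inferInstance, fun i => ⨆ A ∈ qpart G (rep i), A, fun i => ⟨qpart_gen_le _, ?_⟩,
    ?_, ?_, fun i => ?_, fun σ hσ => ?_⟩
  · intro g hg
    exact conjBy_iSup_invariant (G := G) (fun A hA h hh => qpart_invariant hk2 hk3 hG hh hA) hg
  · intro i j hij
    rw [Subgroup.commutator_eq_bot_iff_le_centralizer]
    refine iSup₂_le fun A hA => Subgroup.le_centralizer_iff.1 (iSup₂_le fun B hB => ?_)
    rw [← Subgroup.commutator_eq_bot_iff_le_centralizer]
    refine qpart_commute hk2 hk3 hG hA hB.1 fun hB' => hij (e.symm.injective (Subtype.ext ?_))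
    rw [← hpart, ← hpart]
    exact (componentOf_eq hB'.2).trans (componentOf_eq hB.2).symm
  · refine le_antisymm (iSup_le fun i => qpart_gen_le _) (iSup₂_le fun A hA => ?_)
    obtain ⟨i, hi⟩ := hcover A hA
    refine le_trans ?_ (le_iSup (fun i => ⨆ A ∈ qpart G (rep i), A) i)
    exact le_biSup (fun B : Subgroup GLkM => B) (show A ∈ qpart G (rep i) from hi ▸ ⟨hA, .refl⟩)
  · obtain ⟨hc, hP⟩ := qpart_rootClass hk2 hk3 hG (hrep i)
    have hle : ∀ {C}, C ∈ qpart G (rep i) → C ≤ ⨆ C ∈ qpart G (rep i), C :=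
      fun hC => le_biSup (fun B : Subgroup GLkM => B) hC
    refine ⟨rs_quasisimple hc.1 hc.2 ?_ ?_ ?_ hP, le_antisymm
      ((Subgroup.closure_le _).2 Set.inter_subset_right) (iSup₂_le fun A hA a ha => ?_)⟩
    · rintro _ ⟨A, hA, rfl⟩ _ ⟨C, hC, rfl⟩ hne heq
      refine hne (congrArg (fun B : Subgroup GLkM => B.subgroupOf (⨆ C ∈ qpart G (rep i), C)) ?_)
      refine qp_centralizing_inj hk2 hk3 hG hA.1 ⟨hC.1, (freach_symm hA.2).trans hC.2⟩ fun E hE => ?_
      by_cases hEP : E ∈ qpart G (rep i)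
      · have h := Set.ext_iff.1 heq (E.subgroupOf (⨆ C ∈ qpart G (rep i), C))
        simp only [mem_centralizingMembers, commutator_subgroupOf_eq_bot (hle hEP) (hle hA),
          commutator_subgroupOf_eq_bot (hle hEP) (hle hC)] at h
        have hEm : E.subgroupOf (⨆ C ∈ qpart G (rep i), C) ∈ (fun B : Subgroup GLkM =>
            B.subgroupOf (⨆ C ∈ qpart G (rep i), C)) '' qpart G (rep i) := ⟨E, hEP, rfl⟩
        exact ⟨fun h' => (h.1 ⟨hEm, h'⟩).2, fun h' => (h.2 ⟨hEm, h'⟩).2⟩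
      · exact ⟨fun _ => qpart_commute hk2 hk3 hG hC hE hEP,
          fun _ => qpart_commute hk2 hk3 hG hA hE hEP⟩
    · rintro - _ ⟨A, hA, rfl⟩
      show 3 < ENat.card (A.subgroupOf (⨆ C ∈ qpart G (rep i), C))
      rw [ENat.card_congr (Subgroup.subgroupOfEquivOfLe (hle hA)).toEquiv]
      exact qp_sigma_card hk2 hk3 hA.1
    · rintro _ ⟨A, hA, rfl⟩ _ ⟨⟨B, hB, rfl⟩, r⟩
      exact (special_subgroupOf_iff (hle hA) (hle hB)).2
        (qp_r1_special hk2 hk3 hG hA.1 hB.1 ((r1_subgroupOf_iff (hle hA) (hle hB)).1 r))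
    · obtain ⟨ρ, hρ', rfl⟩ := hA.1
      by_cases h0 : a = 1
      · rw [h0]; exact one_mem _
      have hm := qcls_qmin (qmin_iff.1 hρ') ((mem_sas_iff (qmin_iff.1 hρ')).1 ha)
        fun h => h0 (qmove_injective (h.trans qmove_one.symm))
      exact Subgroup.subset_closure ⟨(qmin_iff.2 hm).1, hle hA ha⟩
  · rcases qp_classify hk2 hk3 hG σ hσ with h | ⟨A, hA, h⟩
    · exact Or.inl h
    · obtain ⟨i, hi⟩ := hcover A hA
      exact Or.inr ⟨i, by show σ ∈ ⨆ A ∈ qpart G (rep i), A; rw [hi]; exact h⟩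

/-- One step of the induction. -/
theorem qp_decomposed_step
    (IH : ∀ (M' : Type u) [AddCommGroup M'] [Module k M'] [FiniteDimensional k M'],
      Module.finrank k M' < Module.finrank k M →
      ∀ H : Subgroup (LinearMap.GeneralLinearGroup k M'), IsQuadraticPair H → QPDecomposed H) :
    QPDecomposed G := by
  classical
  obtain ⟨ι, hι, H, hH1, hH2, hH3, hH4, hH5⟩ := qp_parts hk2 hk3 hG
  obtain ⟨G0', hG0'⟩ : ∃ X, X = ⨆ A ∈ quadraticRootSubgroups G, A := ⟨_, rfl⟩
  obtain ⟨C, hC⟩ : ∃ C, C = qrest G := ⟨_, rfl⟩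
  have hCG : C ≤ G := hC ▸ qrest_le.trans inf_le_left
  have hCcomm : ∀ c ∈ C, ∀ g ∈ G0', g * c = c * g := fun c hc g hg =>
    Subgroup.mem_centralizer_iff.1 (qrest_le (hC ▸ hc : c ∈ qrest G)).2 g (hG0' ▸ hg)
  have htop : G0' ⊔ C = G := hC ▸ hG0' ▸ qp_top_eq hk2 hk3 hG
  by_cases hempty : quadraticElements G ∩ (qcentral G : Set GLkM) = ∅
  · have hC0 : C = ⊥ := by rw [hC, qrest, hempty, Subgroup.closure_empty]
    rw [hC0, sup_bot_eq] at htop
    refine ⟨ι, hι, H, fun i => ⟨(hH1 i).1.trans qp_G0_le, (hH1 i).2⟩, hH2,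
      by rw [hH3, ← hG0', htop], hH4, fun σ hσ => ?_⟩
    rcases hH5 σ hσ with h | ⟨i, h⟩
    · exact absurd (Set.mem_inter hσ h) (by rw [hempty]; exact id)
    · exact Set.mem_iUnion.2 ⟨i, h⟩
  obtain ⟨c0, hc0⟩ := Set.nonempty_iff_ne_empty.2 hempty
  obtain ⟨ρ, hρ⟩ := qp_exists_qmin hc0.1
  -- an irreducible submodule
  obtain ⟨m0, hm0⟩ := hG.1.1
  have hex : ∃ n, ∃ W : Submodule k M, W ≠ ⊥ ∧ (∀ c ∈ C, ∀ w ∈ W, (c : M →ₗ[k] M) w ∈ W) ∧
      Module.finrank k W = n :=
    ⟨_, ⊤, fun e => hm0 ((Submodule.mem_bot k).1 (e ▸ Submodule.mem_top)),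
      fun _ _ _ _ => Submodule.mem_top, rfl⟩
  obtain ⟨W, hW0, hWinv, hWn⟩ := Nat.find_spec hex
  have hWmin : ∀ U : Submodule k M, U ≤ W → U ≠ ⊥ →
      (∀ c ∈ C, ∀ w ∈ U, (c : M →ₗ[k] M) w ∈ U) → U = W := fun U hle hU hinv =>
    Submodule.eq_of_le_of_finrank_le hle (hWn ▸ Nat.find_min' hex ⟨U, hU, hinv, rfl⟩)
  obtain ⟨T, hT⟩ : ∃ T : Submodule k M, T = ⨆ g ∈ G0', W.map (g : M →ₗ[k] M) := ⟨_, rfl⟩
  have hTtop : T = ⊤ := by
    refine ((hG.1.2 T) fun x hx w hw => ?_).resolve_left fun e => hW0 (le_bot_iff.1 (e ▸ ?_))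
    · rw [← htop] at hx
      have hn : C ≤ Subgroup.normalizer (G0' : Set GLkM) := fun c hc =>
        conjBy_eq_iff_mem_normalizer.1 (conjBy_of_commutes fun g hg => (hCcomm c hc g hg).symm)
      have hset : ((G0' ⊔ C : Subgroup GLkM) : Set GLkM) = (G0' : Set GLkM) * (C : Set GLkM) :=
        Subgroup.coe_mul_of_right_le_normalizer_left G0' C hn
      have hx' : x ∈ (G0' : Set GLkM) * (C : Set GLkM) := hset ▸ hx
      obtain ⟨g, hg, c, hc, rfl⟩ := Set.mem_mul.1 hx'
      have hle : T.map ((g * c : GLkM) : M →ₗ[k] M) ≤ T := by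
        rw [hT]
        simp only [Submodule.map_iSup]
        refine iSup₂_le fun h hh => ?_
        rintro _ ⟨_, ⟨v, hv, rfl⟩, rfl⟩
        refine (le_iSup₂_of_le (g * h) (mul_mem hg hh) le_rfl :
          W.map ((g * h : GLkM) : M →ₗ[k] M) ≤ ⨆ g ∈ G0', W.map (g : M →ₗ[k] M)) ?_
        refine ⟨(c : M →ₗ[k] M) v, hWinv c hc v hv, ?_⟩
        rw [← gl_mul_apply, ← gl_mul_apply, mul_assoc, mul_assoc, hCcomm c hc h hh]
      exact hle ⟨w, hw, rfl⟩
    · rw [hT]
      refine le_iSup₂_of_le 1 (one_mem _) ?_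
      rintro v hv
      exact ⟨v, hv, rfl⟩
  have hagree : ∀ e e' : Module.End k M, (∀ g ∈ G0', (g : Module.End k M) * e = e * g) →
      (∀ g ∈ G0', (g : Module.End k M) * e' = e' * g) → (∀ w ∈ W, e w = e' w) → e = e' := by
    intro e e' he he' hw
    refine LinearMap.ext fun m => ?_
    have hle : T ≤ LinearMap.eqLocus e e' := by
      rw [hT]
      refine iSup₂_le fun g hg => ?_
      rintro _ ⟨w, hwW, rfl⟩
      show e ((g : Module.End k M) w) = e' ((g : Module.End k M) w)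
      rw [← Module.End.mul_apply e, ← Module.End.mul_apply e', ← he g hg, ← he' g hg,
        Module.End.mul_apply, Module.End.mul_apply, hw w hwW]
    exact hle (hTtop ▸ Submodule.mem_top : m ∈ T)
  have hcommq : ∀ c ∈ C, ∀ g ∈ G0', (g : Module.End k M) * qmove c = qmove c * g := fun c hc g hg => by
    rw [qmove, mul_sub, sub_mul, mul_one, one_mul, ← Units.val_mul, ← Units.val_mul, hCcomm c hc g hg]
  have hlt : Module.finrank k W < Module.finrank k M := by
    refine lt_of_le_of_ne (Submodule.finrank_le W) fun e => ?_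
    have hWtop : W = ⊤ := Submodule.eq_top_of_finrank_eq e
    apply hρ.ne
    rw [← LinearMap.ker_eq_top, ← hWtop]
    refine hWmin _ (hWtop ▸ le_top) ?_ fun c hc w hw => ?_
    · intro hk
      refine hρ.ne (LinearMap.range_eq_bot.1 (le_bot_iff.1 ?_))
      rw [← hk]
      exact range_le_ker_of_sq hρ.sq
    · rw [LinearMap.mem_ker] at hw ⊢
      have hρC : ρ * c = c * ρ := hCcomm c hc ρ (hG0' ▸ qp_mem_G0 hρ)
      rw [qp_commute_iff] at hρC
      rw [gl_apply_eq c w, umove_eq_qmove, map_add, hw, zero_add, ← Module.End.mul_apply, hρC,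
        Module.End.mul_apply, hw, map_zero]
  -- restriction to `W`
  let Φ : C →* Module.End k W :=
    { toFun := fun c => ((c : GLkM) : M →ₗ[k] M).restrict (hWinv c c.2)
      map_one' := LinearMap.ext fun w => Subtype.ext rfl
      map_mul' := fun a b => LinearMap.ext fun w => Subtype.ext rfl }
  let Ψ : C →* LinearMap.GeneralLinearGroup k W := Φ.toHomUnits
  have hΨval : ∀ (c : C) (w : W), (((qmove (Ψ c) : Module.End k W) w : W) : M) = qmove (c : GLkM) w :=
    fun c w => rfl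
  have hΨinj : Function.Injective Ψ := by
    intro a b e
    refine Subtype.ext (qmove_injective (hagree _ _ (hcommq a a.2) (hcommq b b.2) fun w hw => ?_))
    rw [← hΨval a ⟨w, hw⟩, ← hΨval b ⟨w, hw⟩, e]
  have hfwd : ∀ σ (hσ : σ ∈ quadraticElements G) (hσc : σ ∈ qcentral G),
      Ψ ⟨σ, hC ▸ Subgroup.subset_closure ⟨hσ, hσc⟩⟩ ∈ quadraticElements Ψ.range := by
    intro σ hσ hσc
    obtain ⟨h1, h2, h3⟩ := quadraticElements_iff.1 hσ
    refine quadraticElements_iff.2 ⟨?_, ?_, fun a => ?_⟩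
    · refine LinearMap.ext fun w => Subtype.ext ?_
      rw [Module.End.mul_apply, hΨval, hΨval, ← Module.End.mul_apply, h1]
      rfl
    · intro e
      apply h2
      have e1 : Ψ ⟨σ, hC ▸ Subgroup.subset_closure ⟨hσ, hσc⟩⟩ = Ψ 1 := by
        rw [map_one]; exact qmove_injective (e.trans qmove_one.symm)
      have e2 : σ = 1 := congrArg Subtype.val (hΨinj e1)
      rw [e2, qmove_one]
    · obtain ⟨g, hg, eg⟩ := h3 a
      have hgC : g ∈ C := by
        by_cases ha : a = 0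
        · have : g = 1 := qmove_injective (by rw [eg, ha, zero_smul, qmove_one])
          rw [this]; exact one_mem _
        rw [hC]
        refine Subgroup.subset_closure ⟨quadraticElements_iff.2 ⟨?_, ?_, eg.symm ▸ h3.smul a⟩, ?_⟩
        · rw [eg, smul_mul_smul_comm, h1, smul_zero]
        · rw [eg]; exact smul_ne_zero ha h2
        · refine ⟨hg, ?_⟩
          show g ∈ Subgroup.centralizer _
          rw [Subgroup.mem_centralizer_iff]
          intro y hy
          have hy' := qp_commute_iff.1 (Subgroup.mem_centralizer_iff.1 hσc.2 y hy)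
          rw [qp_commute_iff, eg, mul_smul_comm, smul_mul_assoc, hy']
      refine ⟨Ψ ⟨g, hgC⟩, ⟨_, rfl⟩, LinearMap.ext fun w => Subtype.ext ?_⟩
      rw [hΨval, LinearMap.smul_apply, Submodule.coe_smul, hΨval]
      show qmove g w = _
      rw [eg, LinearMap.smul_apply]
  have hback : ∀ c : C, Ψ c ∈ quadraticElements Ψ.range →
      (c : GLkM) ∈ quadraticElements G ∧ (c : GLkM) ∈ qcentral G := by
    intro c hc
    obtain ⟨h1, h2, h3⟩ := quadraticElements_iff.1 hc
    refine ⟨quadraticElements_iff.2 ⟨?_, ?_, fun a => ?_⟩, qrest_le (hC ▸ c.2 : (c : GLkM) ∈ qrest G)⟩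
    · refine hagree _ _ (fun g hg => ?_) (fun g hg => by rw [mul_zero, zero_mul]) fun w hw => ?_
      · rw [← mul_assoc, hcommq c c.2 g hg, mul_assoc, hcommq c c.2 g hg, mul_assoc]
      · have h := congrArg (fun e : Module.End k W => ((e ⟨w, hw⟩ : W) : M)) h1
        simp only [Module.End.mul_apply, hΨval] at h
        exact h
    · intro e
      apply h2
      refine LinearMap.ext fun w => Subtype.ext ?_
      rw [hΨval, e]
      rfl
    · obtain ⟨_, ⟨d, rfl⟩, ed⟩ := h3 a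
      refine ⟨d, hCG d.2, hagree _ _ (hcommq d d.2) (fun g hg => ?_) fun w hw => ?_⟩
      · rw [mul_smul_comm, smul_mul_assoc, hcommq c c.2 g hg]
      · rw [← hΨval d ⟨w, hw⟩, ed, LinearMap.smul_apply, Submodule.coe_smul, hΨval]
        rfl
  have hpair : IsQuadraticPair Ψ.range := by
    refine ⟨⟨?_, fun U hU => ?_⟩, ?_⟩
    · obtain ⟨w, hw, hw0⟩ := (Submodule.ne_bot_iff W).1 hW0
      exact ⟨⟨w, hw⟩, fun e => hw0 (congrArg Subtype.val e)⟩
    · by_cases hU0 : U = ⊥
      · exact Or.inl hU0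
      right
      have h := hWmin (U.map W.subtype) (Submodule.map_subtype_le W U)
        (fun e => hU0 (by
          rw [← Submodule.map_bot W.subtype] at e
          exact Submodule.map_injective_of_injective W.injective_subtype e))
        (fun c hc w hw => by
          obtain ⟨u, hu, rfl⟩ := hw
          exact ⟨_, hU (Ψ ⟨c, hc⟩) ⟨_, rfl⟩ u hu, rfl⟩)
      refine Submodule.map_injective_of_injective W.injective_subtype ?_
      rw [h, Submodule.map_top, Submodule.range_subtype]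
    · refine le_antisymm ((Subgroup.closure_le _).2 fun y hy => hy.1) ?_
      rw [MonoidHom.range_eq_map, Subgroup.map_le_iff_le_comap]
      intro c _
      have hsub : C ≤ ((Subgroup.closure (quadraticElements Ψ.range)).comap Ψ).map C.subtype := by
        conv_lhs => rw [hC]
        rw [qrest, Subgroup.closure_le]
        rintro σ ⟨hσ, hσc⟩
        exact ⟨⟨σ, hC ▸ Subgroup.subset_closure ⟨hσ, hσc⟩⟩, Subgroup.subset_closure (hfwd σ hσ hσc), rfl⟩
      obtain ⟨d, hd, e⟩ := hsub c.2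
      have hdc : d = c := Subtype.ext e
      subst hdc
      rw [← MonoidHom.range_eq_map]
      exact hd
  obtain ⟨κ, hκ, K, hK1, hK2, hK3, hK4, hK5⟩ := IH W hlt Ψ.range hpair
  haveI := hι
  haveI := hκ
  let L : κ → Subgroup GLkM := fun j => ((K j).comap Ψ).map C.subtype
  have hLC : ∀ j, L j ≤ C := fun j => Subgroup.map_subtype_le _
  have hmemL : ∀ {j} {c : C}, (c : GLkM) ∈ L j ↔ Ψ c ∈ K j := by
    intro j c
    constructor
    · rintro ⟨d, hd, e⟩
      have hdc : d = c := Subtype.ext e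
      subst hdc
      exact hd
    · intro h
      exact ⟨c, h, rfl⟩
  have hcross : ∀ i j, ⁅H i, L j⁆ = ⊥ := fun i j => CfsgLib.RootSub.commutator_eq_bot_iff.2
    fun a ha b hb => hCcomm b (hLC j hb) a (hG0' ▸ (hH1 i).1 ha)
  refine ⟨ι ⊕ κ, inferInstance, Sum.elim H L, ?_, ?_, ?_, ?_, ?_⟩
  · rintro (i | j)
    · exact ⟨(hH1 i).1.trans qp_G0_le, (hH1 i).2⟩
    refine ⟨(hLC j).trans hCG, fun g hg => ?_⟩
    show conjBy (L j) g = L j
    have hle : ∀ g ∈ G, conjBy (L j) g ≤ L j := by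
      intro g hg
      rw [← htop] at hg
      have hK : G0' ⊔ C ≤ Subgroup.normalizer (L j : Set GLkM) := by
        refine sup_le (fun a ha => conjBy_eq_iff_mem_normalizer.1 (conjBy_of_commutes fun l hl =>
          hCcomm l (hLC j hl) a ha)) fun c hc => ?_
        rw [← conjBy_eq_iff_mem_normalizer]
        have hle' : ∀ c ∈ C, conjBy (L j) c ≤ L j := by
          intro c hc l hl
          rw [mem_conjBy] at hl
          have hlC : l ∈ C := by
            have := mul_mem (mul_mem hc (hLC j hl)) (inv_mem hc)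
            rwa [show c * (c⁻¹ * l * c) * c⁻¹ = l by group] at this
          refine (hmemL (c := ⟨l, hlC⟩)).2 ?_
          have hKc := (hK1 j).2 (Ψ ⟨c, hc⟩) ⟨_, rfl⟩
          rw [← hKc, mem_conjBy, ← map_inv, ← map_mul, ← map_mul]
          exact hmemL.1 hl
        refine le_antisymm (hle' c hc) ?_
        have := conjBy_le (g := c) (hle' c⁻¹ (inv_mem hc))
        rwa [conjBy_conjBy_inv] at this
      exact (conjBy_eq_iff_mem_normalizer.2 (hK hg)).le
    refine le_antisymm (hle g hg) ?_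
    have := conjBy_le (g := g) (hle g⁻¹ (inv_mem hg))
    rwa [conjBy_conjBy_inv] at this
  · rintro (i | j) (i' | j') hne
    · exact hH2 i i' (fun e => hne (by rw [e]))
    · exact hcross i j'
    · show ⁅L j, H i'⁆ = ⊥
      rw [Subgroup.commutator_comm]; exact hcross i' j
    · rw [CfsgLib.RootSub.commutator_eq_bot_iff]
      intro a ha b hb
      have h := CfsgLib.RootSub.commutator_eq_bot_iff.1 (hK2 j j' (fun e => hne (by rw [e])))
        _ ((hmemL (c := ⟨a, hLC j ha⟩)).1 ha) _ ((hmemL (c := ⟨b, hLC j' hb⟩)).1 hb)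
      rw [← map_mul, ← map_mul] at h
      exact congrArg Subtype.val (hΨinj h)
  · rw [iSup_sum]
    simp only [Sum.elim_inl, Sum.elim_inr]
    rw [hH3, ← hG0']
    conv_rhs => rw [← htop]
    congr 1
    refine le_antisymm (iSup_le hLC) fun c hc => ?_
    have h1 : Ψ ⟨c, hc⟩ ∈ ⨆ j, K j := hK3.symm ▸ ⟨_, rfl⟩
    have h2 : (⨆ j, K j) ≤ ((⨆ j, L j).comap C.subtype).map Ψ := by
      refine iSup_le fun j y hy => ?_
      obtain ⟨d, rfl⟩ := (hK1 j).1 hy
      exact ⟨d, le_iSup L j (hmemL.2 hy), rfl⟩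
    obtain ⟨d, hd, e⟩ := h2 h1
    rw [hΨinj e] at hd
    exact hd
  · rintro (i | j)
    · exact hH4 i
    obtain ⟨hq, hgen⟩ := hK4 j
    have hKr : K j ≤ Ψ.range := (hK1 j).1
    refine ⟨?_, ?_⟩
    · let e1 : L j ≃* (K j).comap Ψ :=
        (Subgroup.equivMapOfInjective ((K j).comap Ψ) C.subtype C.subtype_injective).symm
      let e2 : (K j).comap Ψ ≃* ((K j).comap Ψ).map Ψ := Subgroup.equivMapOfInjective _ Ψ hΨinj
      let e3 : ((K j).comap Ψ).map Ψ ≃* K j :=
        MulEquiv.subgroupCongr (Subgroup.map_comap_eq_self hKr)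
      exact (CfsgLib.Components.quasisimple_congr ((e1.trans e2).trans e3)).2 hq
    refine le_antisymm ((Subgroup.closure_le _).2 Set.inter_subset_right) fun c hc => ?_
    have hcC : c ∈ C := hLC j hc
    have h1 : Ψ ⟨c, hcC⟩ ∈ Subgroup.closure (quadraticElements Ψ.range ∩ (K j : Set _)) :=
      hgen.symm ▸ (hmemL (c := ⟨c, hcC⟩)).1 hc
    have h2 : Subgroup.closure (quadraticElements Ψ.range ∩ (K j : Set _)) ≤
        ((Subgroup.closure (quadraticElements G ∩ (L j : Set GLkM))).comap C.subtype).map Ψ := by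
      rw [Subgroup.closure_le]
      rintro y ⟨hy, hyK⟩
      obtain ⟨d, rfl⟩ := hKr hyK
      exact ⟨d, Subgroup.subset_closure ⟨(hback d hy).1, hmemL.2 hyK⟩, rfl⟩
    obtain ⟨d, hd, e⟩ := h2 h1
    rw [hΨinj e] at hd
    exact hd
  · intro σ hσ
    rcases hH5 σ hσ with h | ⟨i, h⟩
    · obtain ⟨j, hj⟩ := Set.mem_iUnion.1 (hK5 (hfwd σ hσ h))
      exact Set.mem_iUnion.2 ⟨Sum.inr j, (hmemL (c := ⟨σ, _⟩)).2 hj⟩
    · exact Set.mem_iUnion.2 ⟨Sum.inl i, h⟩

end

/-- Every quadratic pair is decomposed. -/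
theorem qp_decomposed (hk2 : (2 : k) ≠ 0) (hk3 : Nat.card k ≠ 3) : ∀ (n : ℕ) (M : Type u)
    [AddCommGroup M] [Module k M] [FiniteDimensional k M], Module.finrank k M = n →
    ∀ G : Subgroup (LinearMap.GeneralLinearGroup k M), IsQuadraticPair G → QPDecomposed G := by
  intro n
  induction n using Nat.strong_induction_on with
  | _ n ih =>
  intro M _ _ _ hn G hG
  exact qp_decomposed_step hk2 hk3 hG fun M' _ _ _ hlt H hH => ih _ (hn ▸ hlt) M' rfl H hH

end CfsgLib.RootSub
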