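/-
The unipotent core attached to the commutator of a class two pair.
-/
import Cfsg.Agent.Lib.RootSub.QPGroup

set_option autoImplicit false

namespace CfsgLib.RootSub

open Cfsg

universe u

variable {k : Type u} [Field k] {M : Type u} [AddCommGroup M] [Module k M] [FiniteDimensional k M]
variable {G : Subgroup (LinearMap.GeneralLinearGroup k M)}
variable {σ τ : LinearMap.GeneralLinearGroup k M}

local notation "GLkM" => LinearMap.GeneralLinearGroup k M

lemma sas_fixed (hσ : QMin G (qmove σ)) :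
    fixedSubmodule (sameActionSubgroup G σ) = LinearMap.ker (qmove σ) := by
  refine le_antisymm (iInf₂_le σ ((mem_sas_iff hσ).2 hσ.self_mem)) (le_iInf₂ fun g hg => ?_)
  exact ((mem_sas_iff hσ).1 hg).2.2

lemma sas_moved (hσ : QMin G (qmove σ)) :
    commutatorSubmodule (sameActionSubgroup G σ) = LinearMap.range (qmove σ) := by
  refine le_antisymm (iSup₂_le fun g hg => ((mem_sas_iff hσ).1 hg).2.1) ?_
  exact le_iSup₂ (f := fun g (_ : g ∈ sameActionSubgroup G σ) =>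
    LinearMap.range ((g : M →ₗ[k] M) - 1)) σ ((mem_sas_iff hσ).2 hσ.self_mem)

omit [FiniteDimensional k M] in
lemma fixed_invariant {D : Subgroup GLkM} {g : GLkM} (hg : g ∈ Subgroup.normalizer (D : Set GLkM))
    {m : M} (hm : m ∈ fixedSubmodule D) : (g : M →ₗ[k] M) m ∈ fixedSubmodule D := by
  simp only [fixedSubmodule, Submodule.mem_iInf, LinearMap.mem_ker] at hm ⊢
  intro d hd
  have h2 : umove (g⁻¹ * d * g) m = 0 := hm _ ((Subgroup.mem_normalizer_iff''.1 hg d).1 hd)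
  rw [umove_apply, gl_mul_apply, gl_mul_apply, sub_eq_zero] at h2
  have h3 := congrArg (fun w => (g : M →ₗ[k] M) w) h2
  simp only [gl_apply_inv_cancel] at h3
  show (d : M →ₗ[k] M) ((g : M →ₗ[k] M) m) - (g : M →ₗ[k] M) m = 0
  rw [h3, sub_self]

/-- The unipotent core as a subgroup. -/
def qcoreSubgroup (G D : Subgroup GLkM)
    (hle : commutatorSubmodule D ≤ fixedSubmodule D) : Subgroup GLkM where
  carrier := quadraticUnipotentCore G D
  one_mem' := ⟨one_mem G, one_mem _, fun m => by simp, fun m _ => by simp, fun m _ => rfl⟩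
  mul_mem' := fun {g g'} hg hg' => by
    obtain ⟨g1, g2, g3, g4, g5⟩ := hg
    obtain ⟨g1', g2', g3', g4', g5'⟩ := hg'
    refine ⟨mul_mem g1 g1', mul_mem g2 g2', fun m => ?_, fun m hm => ?_, fun m hm => ?_⟩
    · rw [gl_mul_apply, show (g : M →ₗ[k] M) ((g' : M →ₗ[k] M) m) - m =
        ((g : M →ₗ[k] M) ((g' : M →ₗ[k] M) m) - (g' : M →ₗ[k] M) m) +
          ((g' : M →ₗ[k] M) m - m) by abel]
      exact add_mem (g3 _) (g3' _)
    · rw [gl_mul_apply, show (g : M →ₗ[k] M) ((g' : M →ₗ[k] M) m) - m =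
        ((g : M →ₗ[k] M) ((g' : M →ₗ[k] M) m) - (g' : M →ₗ[k] M) m) +
          ((g' : M →ₗ[k] M) m - m) by abel]
      exact add_mem (g4 _ (fixed_invariant g2' hm)) (g4' _ hm)
    · rw [gl_mul_apply, g5' m hm, g5 m hm]
  inv_mem' := fun {g} hg => by
    obtain ⟨g1, g2, g3, g4, g5⟩ := hg
    have e : ∀ m, ((g⁻¹ : GLkM) : M →ₗ[k] M) m - m =
        -((g : M →ₗ[k] M) (((g⁻¹ : GLkM) : M →ₗ[k] M) m) - ((g⁻¹ : GLkM) : M →ₗ[k] M) m) :=
      fun m => by rw [gl_apply_inv_cancel]; abel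
    refine ⟨inv_mem g1, inv_mem g2, fun m => ?_, fun m hm => ?_, fun m hm => ?_⟩
    · rw [e]; exact neg_mem (g3 _)
    · rw [e]; exact neg_mem (g4 _ (fixed_invariant (inv_mem g2) hm))
    · have h1 := g5 m hm
      calc ((g⁻¹ : GLkM) : M →ₗ[k] M) m = ((g⁻¹ : GLkM) : M →ₗ[k] M) ((g : M →ₗ[k] M) m) := by rw [h1]
        _ = m := gl_inv_apply_cancel g m

variable (hk2 : (2 : k) ≠ 0) (hk3 : Nat.card k ≠ 3)
include hk2 hk3

lemma qp_core_le_one (hG : IsQuadraticPair G) (hσ : QMin G (qmove σ)) (hτ : QMin G (qmove τ))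
    (h0 : qmove σ * qmove τ * qmove σ = 0) (hne : qmove σ * qmove τ ≠ qmove τ * qmove σ)
    {a : GLkM} (ha : a ∈ sameActionSubgroup G σ) :
    a ∈ quadraticUnipotentCore G ⁅sameActionSubgroup G σ, sameActionSubgroup G τ⁆ := by
  have hQ : QTwo G (qmove σ) (qmove τ) := ⟨hσ, hτ, h0, hne⟩
  have ha' := (mem_sas_iff hσ).1 ha
  obtain ⟨e1, e2⟩ := hQ.mul_eq_zero hk2 hk3 (hQ.qmin hk2 hk3).self_mem ha'
  obtain ⟨-, hP, -, -, hK, -⟩ := qp_two_main hk2 hk3 hQ
  have hR := qp_root_qmin hk2 hk3 hσ hτ h0 hne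
  rw [(qp_root_case hk2 hk3 hG hσ hτ h0 hne).1]
  refine ⟨sas_le hσ ha, conjBy_eq_iff_mem_normalizer.1 (conjBy_of_commutes fun d hd =>
    (qp_root_commutes hk2 hk3 hσ hτ h0 hne hd (Subgroup.mem_sup_left ha)).symm), ?_, ?_, ?_⟩
  · intro m
    rw [sas_fixed hR, qp_root_qmove hk2 hk3 hσ hτ h0 hne, LinearMap.mem_ker]
    exact LinearMap.congr_fun e1 m
  · intro m hm
    rw [sas_fixed hR, qp_root_qmove hk2 hk3 hσ hτ h0 hne, LinearMap.mem_ker] at hm
    rw [sas_moved hR, qp_root_qmove hk2 hk3 hσ hτ h0 hne]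
    refine hP ⟨ha'.2.1 (LinearMap.mem_range_self (qmove a) m), ?_⟩
    obtain ⟨_, ⟨n, rfl⟩, p, hp, e⟩ := Submodule.mem_sup.1 (hK m hm).2
    show qmove τ (qmove a m) = 0
    rw [← e, map_add, LinearMap.mem_ker.1 (ha'.2.2 hp), add_zero]
    exact LinearMap.congr_fun (qp_indep hk2 hk3 hσ hτ h0 ha' hτ.self_mem).2 n
  · intro m hm
    rw [sas_moved hR, qp_root_qmove hk2 hk3 hσ hτ h0 hne] at hm
    obtain ⟨n, rfl⟩ := hm
    refine sub_eq_zero.1 ?_
    exact LinearMap.congr_fun e2 n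

theorem qp_core_le (hG : IsQuadraticPair G) (hσ : QMin G (qmove σ)) (hτ : QMin G (qmove τ))
    (h0 : qmove σ * qmove τ * qmove σ = 0) (hne : qmove σ * qmove τ ≠ qmove τ * qmove σ) :
    ((sameActionSubgroup G σ ⊔ sameActionSubgroup G τ : Subgroup GLkM) : Set GLkM) ⊆
      quadraticUnipotentCore G ⁅sameActionSubgroup G σ, sameActionSubgroup G τ⁆ := by
  have hR := qp_root_qmin hk2 hk3 hσ hτ h0 hne
  have hle : commutatorSubmodule ⁅sameActionSubgroup G σ, sameActionSubgroup G τ⁆ ≤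
      fixedSubmodule ⁅sameActionSubgroup G σ, sameActionSubgroup G τ⁆ := by
    rw [(qp_root_case hk2 hk3 hG hσ hτ h0 hne).1, sas_fixed hR, sas_moved hR]
    exact range_le_ker_of_sq hR.sq
  have h0' := (qp_indep hk2 hk3 hσ hτ h0 hσ.self_mem hτ.self_mem).2
  have main : sameActionSubgroup G σ ⊔ sameActionSubgroup G τ ≤ qcoreSubgroup G _ hle := by
    refine sup_le (fun a ha => qp_core_le_one hk2 hk3 hG hσ hτ h0 hne ha) (fun a ha => ?_)
    show a ∈ quadraticUnipotentCore G _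
    rw [Subgroup.commutator_comm]
    exact qp_core_le_one hk2 hk3 hG hτ hσ h0' (Ne.symm hne) ha
  exact main

end CfsgLib.RootSub
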