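/-
Root involutions: members with the same odd partners have the same commuting members, and
the order three lemma for product partners.
-/
import Cfsg.Agent.Lib.RootSub.OddGraph

set_option autoImplicit false

namespace CfsgLib.RootSub.RISwap

open Cfsg CfsgLib.RootSub
open scoped commutatorElement

variable {G : Type*} [Group G] {D : Set G}

lemma cancel_left {u : G} (hu : u * u = 1) (w : G) : u * (u * w) = w := by
  rw [← mul_assoc, hu, one_mul]

lemma pow_sq_eq {u v : G} : (u * v) ^ 2 = u * v * (u * v) := pow_two _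

lemma commute_of_sq_eq_one {u v : G} (hu : u * u = 1) (hv : v * v = 1) (h : (u * v) ^ 2 = 1) :
    u * v = v * u := by
  have h1 : (u * v)⁻¹ = u * v := inv_eq_of_mul_eq_one_right (by rwa [pow_two] at h)
  rw [mul_inv_rev, inv_eq_of_mul_eq_one_right hu, inv_eq_of_mul_eq_one_right hv] at h1
  exact h1.symm

/-- An odd product squares to a commuting element only trivially. -/
lemma commute_of_odd {c w : G} (hc : Odd (orderOf c)) {n : ℕ} (hn : ∃ j, n = 2 ^ j)
    (h : Commute (c ^ n) w) : Commute c w := by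
  obtain ⟨j, rfl⟩ := hn
  have hcop : Nat.Coprime (orderOf c) (2 ^ j) := (Nat.coprime_two_right.2 hc).pow_right j
  obtain ⟨i, hi⟩ := exists_pow_eq_self_of_coprime hcop.symm
  rw [← hi]
  exact h.pow_left i

variable (hD : IsRootInvolutionSet D)
include hD

lemma not_odd_of_four {a b : G} (h : orderOf (a * b) = 4) : ¬ Odd (orderOf (a * b)) := by
  rw [h]; decide

lemma four_facts {a b : G} (ha : a ∈ D) (hb : b ∈ D) (h : orderOf (a * b) = 4) :
    (a * b) ^ 2 ∈ D ∧ (a * b) ^ 2 * a = a * (a * b) ^ 2 ∧ (a * b) ^ 2 * b = b * (a * b) ^ 2 ∧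
      (a * b) ^ 2 = (b * a) ^ 2 := by
  have hsq : (a * b) ^ 2 = (b * a) ^ 2 := by
    have h2 : ((a * b) ^ 2)⁻¹ = (a * b) ^ 2 := inv_eq_of_mul_eq_one_left (by
      rw [← pow_add, show 2 + 2 = 4 from rfl, ← h, pow_orderOf_eq_one])
    rw [← h2, ← inv_pow, mul_inv_rev, ri_inv hD ha, ri_inv hD hb]
  refine ⟨?_, ?_, ?_, hsq⟩
  · rcases hD.pair a ha b hb with hc | hc | hc
    · exfalso
      have : orderOf (a * b) ∣ 2 := orderOf_dvd_of_pow_eq_one (by
        rw [(show Commute a b from hc).mul_pow, pow_two, pow_two, ri_sq hD ha, ri_sq hD hb, one_mul])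
      rw [h] at this; norm_num at this
    · exact absurd hc (not_odd_of_four hD h)
    · exact hc.2
  · calc (a * b) ^ 2 * a = a * (b * a) ^ 2 := by simp only [pow_two, mul_assoc]
      _ = _ := by rw [hsq]
  · calc (a * b) ^ 2 * b = (b * a) ^ 2 * b := by rw [hsq]
      _ = b * (a * b) ^ 2 := by simp only [pow_two, mul_assoc]

/-- The square of an order four product moves one member to its conjugate. -/
lemma four_conj {a b : G} (ha : a ∈ D) (hb : b ∈ D) (h : orderOf (a * b) = 4) :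
    b * a * b = a * (a * b) ^ 2 ∧ a * (a * b) ^ 2 ∈ D ∧ (a * b) ^ 2 * a ∈ D := by
  have e : a * (a * b) ^ 2 = b * a * b := by
    simp only [pow_two, mul_assoc]
    rw [cancel_left (ri_sq hD ha)]
  have hmem : a * (a * b) ^ 2 ∈ D := by
    have := hD.conj_mem a ha b
    rwa [ri_inv hD hb, ← e] at this
  exact ⟨e.symm, hmem, (four_facts hD ha hb h).2.1 ▸ hmem⟩

lemma not_comm_of_four {a b : G} (ha : a ∈ D) (hb : b ∈ D) (h : orderOf (a * b) = 4) :
    a * b ≠ b * a := by
  intro hc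
  have : orderOf (a * b) ∣ 2 := orderOf_dvd_of_pow_eq_one (by
    rw [(show Commute a b from hc).mul_pow, pow_two, pow_two, ri_sq hD ha, ri_sq hD hb, one_mul])
  rw [h] at this; norm_num at this

lemma oddAdj_not_comm {a b : G} (h : OddAdj D a b) : a * b ≠ b * a := by
  intro hc
  have hd : orderOf (a * b) ∣ 2 := orderOf_dvd_of_pow_eq_one (by
    rw [(show Commute a b from hc).mul_pow, pow_two, pow_two, ri_sq hD h.1, ri_sq hD h.2.1, one_mul])
  rcases (Nat.dvd_prime Nat.prime_two).1 hd with h1 | h1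
  · exact ri_mul_ne_one hD h.1 (Ne.symm h.2.2.1) (orderOf_eq_one_iff.1 h1)
  · have := h.2.2.2; rw [h1] at this; exact absurd this (by decide)

lemma four_of_neither {a b : G} (ha : a ∈ D) (hb : b ∈ D) (hc : a * b ≠ b * a)
    (ho : ¬ OddAdj D a b) : orderOf (a * b) = 4 := by
  rcases hD.pair a ha b hb with h | h | h
  · exact absurd h hc
  · exact absurd ⟨ha, hb, fun e => hc (by rw [e]), h⟩ ho
  · exact h.1

lemma four_symm {a b : G} (h : orderOf (a * b) = 4) : orderOf (b * a) = 4 :=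
  orderOf_mul_comm' a b ▸ h

lemma not_oddAdj_of_four {a b : G} (h : orderOf (a * b) = 4) : ¬ OddAdj D a b := fun h' =>
  not_odd_of_four hD h h'.2.2.2

/-- A member commuting with `a` has no product partner among the odd partners of `a`. -/
theorem not_oddAdj_of_partner {a b y : G} (ha : a ∈ D) (hb : b ∈ D) (hab : a * b = b * a)
    (habD : a * b ∈ D) (hy : y ∈ D) (hyb : y * b = b * y) : ¬ OddAdj D a y := by
  intro h
  have hm : orderOf (b * (a * y)) = 2 * orderOf (a * y) := by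
    have hcom : Commute b (a * y) := (show Commute b a from hab.symm).mul_right hyb.symm
    rw [hcom.orderOf_mul_eq_mul_orderOf_of_coprime (by
      rw [hD.orderOf_eq b hb]; exact Nat.coprime_two_left.2 h.2.2.2), hD.orderOf_eq b hb]
  have hne : orderOf (a * y) ≠ 1 := fun h1 =>
    ri_mul_ne_one hD ha (Ne.symm h.2.2.1) (orderOf_eq_one_iff.1 h1)
  have hodd := h.2.2.2
  rw [← mul_assoc, ← hab] at hm
  rcases hD.pair _ habD y hy with hc | hc | ⟨hc, -⟩
  · have hd : orderOf (a * b * y) ∣ 2 := orderOf_dvd_of_pow_eq_one (by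
      rw [(show Commute (a * b) y from hc).mul_pow, pow_two, pow_two, ri_sq hD habD, ri_sq hD hy,
        one_mul])
    have := Nat.le_of_dvd two_pos hd
    rcases hodd with ⟨i, hi⟩
    omega
  · rw [hm] at hc; exact absurd hc (by simp [parity_simps])
  · rcases hodd with ⟨i, hi⟩
    omega

/-- `Λ_a ⊆ Λ_b ∪ Λ_{ab}`. -/
theorem triple' {a b x : G} (ha : a ∈ D) (hb : b ∈ D) (hab : a * b = b * a) (habD : a * b ∈ D)
    (hx : OddAdj D a x) : OddAdj D b x ∨ OddAdj D (a * b) x :=
  triple_adjacent hD hb ha hab.symm habD hx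

variable [Finite G]

/-- The three element lemma: an element of order three. -/
theorem order_three {a b s x : G} (ha : a ∈ D) (hb : b ∈ D) (hs : s ∈ D) (hx : x ∈ D)
    (hab : a * b = b * a) (hbs : b * s = s * b) (hasa : a * s * a = s * b) (hxs : x * s = s * x)
    (hxbx : x * b * x = b * s) :
    OddAdj D a x ∧ (a * b ∈ D → orderOf (a * x) = 3) := by
  obtain ⟨c, hc⟩ : ∃ c, c = a * x := ⟨_, rfl⟩
  have hci : c⁻¹ = x * a := by rw [hc, mul_inv_rev, ri_inv hD ha, ri_inv hD hx]
  have haba : a * b * a = b := by rw [hab, mul_assoc, ri_sq hD ha, mul_one]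
  have h1 : c * b * c⁻¹ = s := by
    calc c * b * c⁻¹ = a * (x * b * x) * a := by rw [hci, hc]; group
      _ = a * b * a * (a * s * a) := by
          rw [hxbx]; simp only [mul_assoc]; rw [cancel_left (ri_sq hD ha)]
      _ = b * (s * b) := by rw [haba, hasa]
      _ = s := by rw [← hbs, cancel_left (ri_sq hD hb)]
  have h2 : c * s * c⁻¹ = s * b := by
    have hxsx : x * s * x = s := by rw [hxs, mul_assoc, ri_sq hD hx, mul_one]
    calc c * s * c⁻¹ = a * (x * s * x) * a := by rw [hci, hc]; group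
      _ = _ := by rw [hxsx, hasa]
  have h3 : Commute (c ^ 3) b := by
    have : c ^ 3 * b * (c ^ 3)⁻¹ = b := by
      calc c ^ 3 * b * (c ^ 3)⁻¹ = c * (c * (c * b * c⁻¹) * c⁻¹) * c⁻¹ := by
            simp only [pow_succ, pow_zero, one_mul, mul_inv_rev, mul_assoc]
        _ = c * (s * b) * c⁻¹ := by rw [h1, h2]
        _ = (c * s * c⁻¹) * (c * b * c⁻¹) := by group
        _ = s * b * s := by rw [h1, h2]
        _ = b := by rw [mul_assoc, hbs, cancel_left (ri_sq hD hs)]
    exact mul_inv_eq_iff_eq_mul.1 this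
  have hnc : ¬ Commute c b := fun h => by
    have hsb : s = b := by rw [← h1, h.eq, mul_inv_cancel_right]
    rw [hsb, hab, mul_assoc, ri_sq hD ha, mul_one, ri_sq hD hb] at hasa
    exact ri_ne_one hD hb hasa
  have hodd : OddAdj D a x := by
    by_contra ho
    have h4 : (a * x) ^ 4 = 1 := pow_four_of_not_oddAdj hD ha hx ho
    rw [← hc] at h4
    apply hnc
    have : c = (c ^ 3)⁻¹ := eq_inv_of_mul_eq_one_left (by rw [← pow_succ']; exact h4)
    rw [this]
    exact h3.inv_left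
  refine ⟨hodd, fun habD => ?_⟩
  have hy : c ^ 3 * a * (c ^ 3)⁻¹ ∈ D := hD.conj_mem a ha _
  have hinv : a * c * a⁻¹ = c⁻¹ := by
    rw [hc]; exact CfsgLib.Invol.conj_prod (ri_sq hD ha) (ri_sq hD hx)
  have hpinv : a * c ^ 3 * a⁻¹ = (c ^ 3)⁻¹ := by
    rw [← inv_pow, ← hinv, conj_pow]
  have hay : a * (c ^ 3 * a * (c ^ 3)⁻¹) = ((c ^ 3)⁻¹) ^ 2 := by
    calc a * (c ^ 3 * a * (c ^ 3)⁻¹) = (a * c ^ 3 * a⁻¹) * (a * a) * (c ^ 3)⁻¹ := by group
      _ = _ := by rw [hpinv, ri_sq hD ha, mul_one, ← pow_two]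
  have hodd' : Odd (orderOf c) := hc ▸ hodd.2.2.2
  have hyb : c ^ 3 * a * (c ^ 3)⁻¹ * b = b * (c ^ 3 * a * (c ^ 3)⁻¹) :=
    ((h3.mul_left hab).mul_left h3.inv_left).eq
  have hone : ((c ^ 3)⁻¹) ^ 2 = 1 := by
    by_contra hne
    refine not_oddAdj_of_partner hD ha hb hab habD hy hyb ⟨ha, hy, fun e => hne ?_, ?_⟩
    · rw [← hay, ← e, ri_sq hD ha]
    · rw [hay]
      refine hodd'.of_dvd_nat ?_
      exact ((orderOf_pow_dvd 2).trans (by rw [orderOf_inv])).trans (orderOf_pow_dvd 3)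
  have h6 : orderOf c ∣ 6 := orderOf_dvd_of_pow_eq_one (by
    rw [← inv_eq_one, ← inv_pow, show 6 = 3 * 2 from rfl, pow_mul, inv_pow, hone])
  have h31 : orderOf c ∣ 3 :=
    (Nat.Coprime.dvd_mul_left (Nat.coprime_two_right.2 hodd')).1 (h6.trans (by norm_num))
  rw [← hc]
  rcases (Nat.dvd_prime Nat.prime_three).1 h31 with h | h
  · exact absurd (by rw [orderOf_eq_one_iff.1 h]; exact Commute.one_left b) hnc
  · exact h

/-- The members `b` with `b ∈ X_a` and `b x` of order four. -/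
def Pset (D : Set G) (a x : G) : Set G :=
  {b | b ∈ D ∧ a * b = b * a ∧ a * b ∈ D ∧ orderOf (b * x) = 4}

omit hD in
lemma Pset_finite (D : Set G) (a x : G) : (Pset D a x).Finite := Set.toFinite _

/-- `b ↦ (b x)²` maps `P(a, x)` into `P(x, a)`. -/
theorem psi_maps {a x : G} (hax : OddAdj D a x) :
    Set.MapsTo (fun b => (b * x) ^ 2) (Pset D a x) (Pset D x a) := by
  rintro b ⟨hb, hab, habD, h4⟩
  have ha := hax.1; have hx := hax.2.1
  obtain ⟨hsD, hsb, hsx, hsq⟩ := four_facts hD hb hx h4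
  obtain ⟨hxbx, hbsD, -⟩ := four_conj hD hb hx h4
  obtain ⟨hbxb, hxsD, -⟩ := four_conj hD hx hb (four_symm hD h4)
  rw [← hsq] at hxsD
  refine ⟨hsD, hsx.symm, hxsD, four_of_neither hD hsD ha ?_ ?_⟩
  · intro hsa
    have hab' : a * b * a = b := by rw [hab, mul_assoc, ri_sq hD ha, mul_one]
    have hasa : a * (b * x) ^ 2 * a = (b * x) ^ 2 := by
      rw [← hsa, mul_assoc, ri_sq hD ha, mul_one]
    obtain ⟨c, hc⟩ : ∃ c, c = a * x := ⟨_, rfl⟩
    have h2 : Commute (c ^ 2) b := by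
      have hci : c⁻¹ = x * a := by rw [hc, mul_inv_rev, ri_inv hD ha, ri_inv hD hx]
      have e1 : c * b * c⁻¹ = b * (b * x) ^ 2 := by
        calc c * b * c⁻¹ = a * (x * b * x) * a := by rw [hci, hc]; group
          _ = a * b * a * (a * (b * x) ^ 2 * a) := by
              rw [hxbx]; simp only [mul_assoc]; rw [cancel_left (ri_sq hD ha)]
          _ = _ := by rw [hab', hasa]
      have e2 : c * (b * x) ^ 2 * c⁻¹ = (b * x) ^ 2 := by
        calc c * (b * x) ^ 2 * c⁻¹ = a * (x * (b * x) ^ 2 * x) * a := by rw [hci, hc]; group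
          _ = a * (b * x) ^ 2 * a := by rw [← hsx, mul_assoc _ x x, ri_sq hD hx, mul_one]
          _ = _ := hasa
      have : c ^ 2 * b * (c ^ 2)⁻¹ = b := by
        calc c ^ 2 * b * (c ^ 2)⁻¹ = c * (c * b * c⁻¹) * c⁻¹ := by
              simp only [pow_succ, pow_zero, one_mul, mul_inv_rev, mul_assoc]
          _ = c * (b * (b * x) ^ 2) * c⁻¹ := by rw [e1]
          _ = (c * b * c⁻¹) * (c * (b * x) ^ 2 * c⁻¹) := by simp only [mul_assoc, inv_mul_cancel_left]
          _ = b * ((b * x) ^ 2 * (b * x) ^ 2) := by rw [e1, e2, mul_assoc]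
          _ = b := by rw [ri_sq hD hsD, mul_one]
      exact mul_inv_eq_iff_eq_mul.1 this
    have hcb : Commute c b := commute_of_odd (hc ▸ hax.2.2.2) ⟨1, rfl⟩ h2
    apply not_comm_of_four hD hb hx h4
    have : Commute (a * c) b := (show Commute a b from hab).mul_left hcb
    rw [hc, cancel_left (ri_sq hD ha)] at this
    exact this.eq.symm
  · intro hsa
    refine not_oddAdj_of_partner hD hsD hb hsb ?_ ha hab hsa
    rw [hsb]; exact hbsD

/-- `b ↦ (b x)²` is injective on `P(a, x)`. -/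
theorem psi_inj {a x : G} (hax : OddAdj D a x) :
    Set.InjOn (fun b => (b * x) ^ 2) (Pset D a x) := by
  rintro b ⟨hb, hab, habD, h4⟩ b' ⟨hb', hab', hab'D, h4'⟩ he
  have ha := hax.1; have hx := hax.2.1
  simp only at he
  obtain ⟨hsD, hsb, hsx, -⟩ := four_facts hD hb hx h4
  obtain ⟨hxbx, -, -⟩ := four_conj hD hb hx h4
  obtain ⟨hxbx', -, -⟩ := four_conj hD hb' hx h4'
  obtain ⟨-, hsb', -, -⟩ := four_facts hD hb' hx h4'
  rw [← he] at hxbx' hsb'
  obtain ⟨u, hu⟩ : ∃ u, u = b * b' := ⟨_, rfl⟩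
  suffices h : u = 1 by
    rw [hu] at h
    rw [eq_inv_of_mul_eq_one_left h, ri_inv hD hb']
  have hxu : x * u * x = u := by
    calc x * u * x = (x * b * x) * (x * b' * x) := by
          rw [hu]; simp only [mul_assoc]; rw [cancel_left (ri_sq hD hx)]
      _ = b * (b * x) ^ 2 * (b' * (b * x) ^ 2) := by rw [hxbx, hxbx']
      _ = b * b' * ((b * x) ^ 2 * (b * x) ^ 2) := by
          rw [← hsb', mul_assoc, ← mul_assoc ((b * x) ^ 2) _ b', ri_sq hD hsD, one_mul, mul_one]
      _ = u := by rw [hu, ri_sq hD hsD, mul_one]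
  have hxu' : Commute x u := by
    have := congrArg (· * x) hxu
    exact (by simpa [mul_assoc, ri_sq hD hx] using this : x * u = u * x)
  obtain ⟨p, hp⟩ : ∃ p, p = a * b := ⟨_, rfl⟩
  have hpx : OddAdj D p x := by
    rcases triple' hD ha hb hab habD hax with h | h
    · exact absurd h (not_oddAdj_of_four hD h4)
    · exact hp ▸ h
  have hpD : p ∈ D := hp ▸ habD
  have hpu : p * u = a * b' := by rw [hp, hu, mul_assoc, cancel_left (ri_sq hD hb)]
  have hpup : p * u * p⁻¹ = u⁻¹ := by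
    rw [hpu, hp, hu, mul_inv_rev, mul_inv_rev, ri_inv hD ha, ri_inv hD hb, ri_inv hD hb', ← mul_assoc,
      mul_assoc a b' b, mul_assoc a (b' * b) a, mul_assoc b' b a, ← hab, ← mul_assoc b' a b, ← hab',
      mul_assoc a b' b, cancel_left (ri_sq hD ha)]
  -- an odd element inverting `u` centralizes it
  have hxp2 : Commute ((x * p) ^ 2) u := by
    have e : (x * p) * u * (x * p)⁻¹ = u⁻¹ := by
      calc (x * p) * u * (x * p)⁻¹ = x * (p * u * p⁻¹) * x⁻¹ := by group
        _ = x * u⁻¹ * x⁻¹ := by rw [hpup]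
        _ = u⁻¹ := by rw [hxu'.inv_right.eq, mul_inv_cancel_right]
    have : (x * p) ^ 2 * u * ((x * p) ^ 2)⁻¹ = u := by
      calc (x * p) ^ 2 * u * ((x * p) ^ 2)⁻¹
          = (x * p) * ((x * p) * u * (x * p)⁻¹) * (x * p)⁻¹ := by
            simp only [pow_succ, pow_zero, one_mul, mul_inv_rev, mul_assoc]
        _ = (x * p) * u⁻¹ * (x * p)⁻¹ := by rw [e]
        _ = ((x * p) * u * (x * p)⁻¹)⁻¹ := (conj_inv).symm
        _ = u := by rw [e, inv_inv]
    exact mul_inv_eq_iff_eq_mul.1 this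
  have hodd : Odd (orderOf (x * p)) := orderOf_mul_comm' p x ▸ hpx.2.2.2
  have hxpu : Commute (x * p) u := commute_of_odd hodd ⟨1, rfl⟩ hxp2
  have hpu' : Commute p u := by
    have := hxu'.mul_left hxpu
    rwa [cancel_left (ri_sq hD hx)] at this
  have hu2 : u ^ 2 = 1 := by
    have : u = u⁻¹ := by rw [← hpup, hpu'.eq, mul_inv_cancel_right]
    rw [pow_two]; nth_rw 2 [this]; exact mul_inv_cancel u
  by_contra hne
  have hou : orderOf u = 2 := orderOf_eq_prime hu2 hne
  have hp'D : p * u ∈ D := hpu ▸ hab'D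
  have hm : orderOf (x * (p * u)) = orderOf (x * p) * 2 := by
    rw [← mul_assoc, hxpu.orderOf_mul_eq_mul_orderOf_of_coprime (by
      rw [hou]; exact Nat.coprime_two_right.2 hodd), hou]
  have h1 : orderOf (x * p) ≠ 1 := fun h =>
    ri_mul_ne_one hD hx hpx.2.2.1 (orderOf_eq_one_iff.1 h)
  rcases hD.pair x hx _ hp'D with hc | hc | ⟨hc, -⟩
  · have hd : orderOf (x * (p * u)) ∣ 2 := orderOf_dvd_of_pow_eq_one (by
      rw [(show Commute x (p * u) from hc).mul_pow, pow_two, pow_two, ri_sq hD hx, ri_sq hD hp'D,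
        one_mul])
    have := Nat.le_of_dvd two_pos hd
    rcases hodd with ⟨i, hi⟩
    omega
  · rw [hm] at hc; exact absurd hc (by simp [parity_simps])
  · rcases hodd with ⟨i, hi⟩
    omega

/-- `b ↦ (b x)²` maps `P(a, x)` onto `P(x, a)`. -/
theorem psi_surj {a x s : G} (hax : OddAdj D a x) (hs : s ∈ Pset D x a) :
    ∃ b ∈ Pset D a x, (b * x) ^ 2 = s := by
  have hxa := oddAdj_symm hax
  have h1 := (psi_maps hD hax)
  have h2 := (psi_maps hD hxa)
  have e1 : (Pset D x a).ncard ≤ (Pset D a x).ncard :=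
    Set.ncard_le_ncard_of_injOn _ h2 (psi_inj hD hxa) (Pset_finite _ _ _)
  have e2 : ((fun b => (b * x) ^ 2) '' Pset D a x) = Pset D x a :=
    Set.eq_of_subset_of_ncard_le (Set.image_subset_iff.2 h1)
      (by rw [(psi_inj hD hax).ncard_image]; exact e1) (Pset_finite _ _ _)
  obtain ⟨b, hb, hbs⟩ := (e2 ▸ hs : s ∈ (fun b => (b * x) ^ 2) '' Pset D a x)
  exact ⟨b, hb, hbs⟩

/-- The odd partners. -/
def Lam (D : Set G) (a : G) : Set G := {y | OddAdj D a y}

/-- If `p` moves `q` by `t`, the odd partners of `t` avoiding `q` are not all partners of `p`. -/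
theorem lam_ne {p q t x : G} (hp : p ∈ D) (hq : q ∈ D) (ht : t ∈ D) (htq : t * q = q * t)
    (htp : t * p = p * t) (hpqp : p * q * p = q * t) (hx : OddAdj D t x)
    (hqx : orderOf (q * x) = 4) : Lam D p ≠ Lam D t := by
  have htqD : t * q ∈ D := by
    have := hD.conj_mem q hq p
    rwa [ri_inv hD hp, hpqp, ← htq] at this
  have hqP : q ∈ Pset D t x := ⟨hq, htq, htqD, hqx⟩
  obtain ⟨s, ⟨hs, hxs, hxsD, hs4⟩, hst⟩ := psi_surj hD (oddAdj_symm hx) hqP
  obtain ⟨-, hqs, -, -⟩ := four_facts hD hs ht hs4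
  obtain ⟨htst, -, -⟩ := four_conj hD hs ht hs4
  obtain ⟨hsts, -, -⟩ := four_conj hD ht hs (four_symm hD hs4)
  rw [← (four_facts hD hs ht hs4).2.2.2, hst] at hsts
  rw [hst] at hqs
  obtain ⟨h, -⟩ := order_three hD (a := p) (b := t) (s := q) (x := s) hp ht hq hs htp.symm htq
    hpqp hqs.symm hsts
  intro he
  have : s ∈ Lam D t := he ▸ (show s ∈ Lam D p from h)
  exact not_oddAdj_of_four hD (four_symm hD hs4) this

omit [Finite G] in
lemma lam_conj (a g : G) : Lam D (g * a * g⁻¹) = (fun y => g * y * g⁻¹) '' Lam D a := by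
  ext y
  constructor
  · intro h
    refine ⟨g⁻¹ * y * g, ?_, by group⟩
    have := oddAdj_conj hD h g⁻¹
    rw [show g⁻¹ * (g * a * g⁻¹) * g⁻¹⁻¹ = a by group, show g⁻¹ * y * g⁻¹⁻¹ = g⁻¹ * y * g by group]
      at this
    exact this
  · rintro ⟨z, hz, rfl⟩
    exact oddAdj_conj hD hz g

omit [Finite G] in
lemma cm_conj (a g : G) :
    commutingMembers D (g * a * g⁻¹) = (fun y => g * y * g⁻¹) '' commutingMembers D a := by
  ext y
  constructor
  · rintro ⟨hy, hc⟩
    refine ⟨g⁻¹ * y * g, ⟨?_, ?_⟩, by group⟩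
    · simpa using hD.conj_mem y hy g⁻¹
    · calc g⁻¹ * y * g * a = g⁻¹ * (y * (g * a * g⁻¹)) * g := by group
        _ = g⁻¹ * (g * a * g⁻¹ * y) * g := by rw [hc]
        _ = _ := by group
  · rintro ⟨z, ⟨hz, hc⟩, rfl⟩
    refine ⟨hD.conj_mem z hz g, ?_⟩
    calc g * z * g⁻¹ * (g * a * g⁻¹) = g * (z * a) * g⁻¹ := by group
      _ = g * (a * z) * g⁻¹ := by rw [hc]
      _ = _ := by group

variable (hc : IsConnectedSet (OddAdj D) D)
include hc

lemma isConj_mem {a b : G} (ha : a ∈ D) (hb : b ∈ D) : ∃ g : G, g * a * g⁻¹ = b := by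
  have h := hc a ha b hb
  induction h with
  | refl => exact ⟨1, by group⟩
  | tail _ h ih =>
    obtain ⟨g, hg⟩ := ih h.1
    obtain ⟨w, -, hw⟩ :=
      CfsgLib.Invol.exists_conj_of_odd (ri_sq hD h.1) (ri_sq hD h.2.1) h.2.2.2
    exact ⟨w * g, by rw [← hw, ← hg]; group⟩

lemma lam_card {a b : G} (ha : a ∈ D) (hb : b ∈ D) : (Lam D a).ncard = (Lam D b).ncard := by
  obtain ⟨g, rfl⟩ := isConj_mem hD hc ha hb
  rw [lam_conj hD, Set.ncard_image_of_injective _ fun y z h => by simpa using h]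

lemma cm_card {a b : G} (ha : a ∈ D) (hb : b ∈ D) :
    (commutingMembers D a).ncard = (commutingMembers D b).ncard := by
  obtain ⟨g, rfl⟩ := isConj_mem hD hc ha hb
  rw [cm_conj hD, Set.ncard_image_of_injective _ fun y z h => by simpa using h]

lemma lam_eq_of_subset {a b : G} (ha : a ∈ D) (hb : b ∈ D) (h : Lam D a ⊆ Lam D b) :
    Lam D a = Lam D b :=
  Set.eq_of_subset_of_ncard_le h (lam_card hD hc hb ha).le (Set.toFinite _)

omit hc [Finite G] in
lemma lam_conj_eq {f g u : G} (h : Lam D g = Lam D f) (hu : u ∈ D) (huf : u * f * u = f) :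
    Lam D (u * g * u) = Lam D f := by
  calc Lam D (u * g * u) = (fun y => u * y * u⁻¹) '' Lam D g := by
        rw [← lam_conj hD, ri_inv hD hu]
    _ = (fun y => u * y * u⁻¹) '' Lam D f := by rw [h]
    _ = Lam D f := by rw [← lam_conj hD, ri_inv hD hu, huf]

/-- A member commuting with `f` and moving `g` has the odd partners of `f`. -/
theorem lam_step {f g u : G} (hf : f ∈ D) (hg : g ∈ D) (hu : u ∈ D) (hfg : Lam D g = Lam D f)
    (huf : u * f = f * u) (h4 : orderOf (g * u) = 4) : Lam D u = Lam D f := by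
  obtain ⟨hvD, hvg, hvu, hsq⟩ := four_facts hD hg hu h4
  obtain ⟨hugu, hgvD, -⟩ := four_conj hD hg hu h4
  obtain ⟨v, hv⟩ : ∃ v, v = (g * u) ^ 2 := ⟨_, rfl⟩
  rw [← hv] at hvD hvg hvu hugu hgvD
  have hgv : Lam D (g * v) = Lam D f := by
    rw [← hugu]
    exact lam_conj_eq hD hfg hu (by rw [huf, mul_assoc, ri_sq hD hu, mul_one])
  have hvB : Lam D v = Lam D f := by
    refine lam_eq_of_subset hD hc hvD hf fun y hy => ?_
    rcases triple' hD hvD hg hvg (hvg ▸ hgvD) hy with h | h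
    · exact hfg ▸ (show y ∈ Lam D g from h)
    · rw [hvg] at h
      exact hgv ▸ (show y ∈ Lam D (g * v) from h)
  by_contra hne
  obtain ⟨x, hxv, hxu⟩ : ∃ x ∈ Lam D v, x ∉ Lam D u := by
    by_contra hcon
    push Not at hcon
    exact hne ((lam_eq_of_subset hD hc hvD hu hcon).symm.trans hvB)
  obtain ⟨hgug, huvD, -⟩ := four_conj hD hu hg (four_symm hD h4)
  rw [← hsq, ← hv] at hgug huvD
  have hux : orderOf (u * x) = 4 := by
    refine four_of_neither hD hu hxv.2.1 (fun hcx => ?_) hxu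
    exact not_oddAdj_of_partner hD hvD hu hvu (hvu ▸ huvD) hxv.2.1 hcx.symm hxv
  exact lam_ne hD hg hu hvD hvu hvg hgug hxv hux (hfg.trans hvB.symm)

/-- Members with the same odd partners commute. -/
theorem lam_eq_commute {f g : G} (hf : f ∈ D) (hg : g ∈ D) (h : Lam D g = Lam D f) :
    f * g = g * f := by
  classical
  let B : Set G := {e | e ∈ D ∧ Lam D e = Lam D f}
  have hB4 : ∀ a ∈ B, ∀ b ∈ B, (a * b) ^ 4 = 1 := by
    rintro a ⟨ha, hae⟩ b ⟨hb, hbe⟩
    refine pow_four_of_not_oddAdj hD ha hb fun ho => ?_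
    have : b ∈ Lam D b := by rw [hbe, ← hae]; exact ho
    exact this.2.2.1 rfl
  obtain ⟨U, hU⟩ : ∃ U, U = Subgroup.closure B := ⟨_, rfl⟩
  have hBU : ∀ a ∈ B, a ∈ U := fun a ha => hU ▸ Subgroup.subset_closure ha
  have hnorm : ∀ w ∈ U, ∀ b ∈ B, w * b * w⁻¹ ∈ B := by
    intro w hw
    rw [hU] at hw
    induction hw using Subgroup.closure_induction_left with
    | one => intro b hb; simpa using hb
    | mul_left a ha z _ ih =>
      intro b hb
      obtain ⟨haD, hae⟩ := ha
      obtain ⟨hcD, hce⟩ := ih b hb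
      refine ⟨by rw [show a * z * b * (a * z)⁻¹ = a * (z * b * z⁻¹) * a⁻¹ by group];
                 exact hD.conj_mem _ hcD a, ?_⟩
      rw [show a * z * b * (a * z)⁻¹ = a * (z * b * z⁻¹) * a⁻¹ by group, ri_inv hD haD,
        ← hae]
      exact lam_conj_eq hD (hce.trans hae.symm) haD (by rw [ri_sq hD haD, one_mul])
    | inv_mul_cancel a ha z _ ih =>
      intro b hb
      obtain ⟨haD, hae⟩ := ha
      obtain ⟨hcD, hce⟩ := ih b hb
      refine ⟨by rw [show a⁻¹ * z * b * (a⁻¹ * z)⁻¹ = a⁻¹ * (z * b * z⁻¹) * a⁻¹⁻¹ by group];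
                 exact hD.conj_mem _ hcD a⁻¹, ?_⟩
      rw [show a⁻¹ * z * b * (a⁻¹ * z)⁻¹ = a⁻¹ * (z * b * z⁻¹) * a⁻¹⁻¹ by group, inv_inv,
        ri_inv hD haD, ← hae]
      exact lam_conj_eq hD (hce.trans hae.symm) haD (by rw [ri_sq hD haD, one_mul])
  haveI : Fact (Nat.Prime 2) := ⟨Nat.prime_two⟩
  have h2 : IsPGroup 2 U := by
    let C : Set U := {w | (w : G) ∈ B}
    have hCU : Subgroup.closure C = ⊤ := by
      subst hU
      exact Subgroup.closure_closure_coe_preimage
    have hC : IsPGroup 2 (Subgroup.closure C) := by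
      refine CfsgLib.Invol.isPGroup_closure_of_pairs C (fun w b hb => hnorm w w.2 b hb) ?_
      intro a ha b hb
      have hord : ∀ z : U, (z : G) ∈ B → orderOf z = 2 := fun z hz => by
        rw [← Subgroup.orderOf_coe]; exact hD.orderOf_eq _ hz.1
      obtain ⟨k, -, hk⟩ := (Nat.dvd_prime_pow Nat.prime_two).1
        (orderOf_dvd_of_pow_eq_one (show (a * b) ^ 2 ^ 2 = 1 from Subtype.ext (by
          push_cast; norm_num [hB4 a ha b hb])))
      exact CfsgLib.Invol.isPGroup_two_closure_pair (hord a ha) (hord b hb) hk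
    rw [hCU] at hC
    exact hC.of_equiv Subgroup.topEquiv
  haveI : Group.IsNilpotent U := h2.isNilpotent
  -- a central member
  obtain ⟨z, hz, hzB⟩ : ∃ z ∈ B, ∀ b ∈ B, z * b = b * z := by
    by_contra hcon
    push Not at hcon
    have key : ∀ n, ∃ w : U, (w : G) ∈ B ∧ w ∈ Subgroup.lowerCentralSeries (⊤ : Subgroup U) n := by
      intro n
      induction n with
      | zero => exact ⟨⟨f, hBU f ⟨hf, rfl⟩⟩, ⟨hf, rfl⟩, Subgroup.mem_top _⟩
      | succ n ih =>
        obtain ⟨w, hwB, hwn⟩ := ih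
        obtain ⟨b, hb, hne⟩ := hcon w hwB
        have h4 : orderOf ((w : G) * b) = 4 := by
          rcases hD.pair w hwB.1 b hb.1 with h | h | h
          · exact absurd h hne
          · exfalso
            have h1 : orderOf ((w : G) * b) = 1 :=
              Nat.Coprime.eq_one_of_dvd ((Nat.coprime_two_right.2 h).pow_right 2)
                (orderOf_dvd_of_pow_eq_one (show ((w : G) * b) ^ (2 ^ 2) = 1 by
                  norm_num [hB4 w hwB b hb]))
            apply hne
            rw [eq_inv_of_mul_eq_one_left (orderOf_eq_one_iff.1 h1), ri_inv hD hb.1]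
          · exact h.1
        obtain ⟨hsD, hsw, -, -⟩ := four_facts hD hwB.1 hb.1 h4
        obtain ⟨hbwb, hwsD, -⟩ := four_conj hD hwB.1 hb.1 h4
        refine ⟨⁅w, (⟨b, hBU b hb⟩ : U)⁆, ?_, ?_⟩
        · have e : ((⁅w, (⟨b, hBU b hb⟩ : U)⁆ : U) : G) = ((w : G) * b) ^ 2 := by
            simp only [commutatorElement_def, Subgroup.coe_mul, InvMemClass.coe_inv,
              ri_inv hD hwB.1, ri_inv hD hb.1, pow_two, mul_assoc]
          rw [e]
          refine ⟨hsD, lam_eq_of_subset hD hc hsD hf fun y hy => ?_⟩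
          rcases triple' hD hsD hwB.1 hsw (hsw ▸ hwsD) hy with h | h
          · exact hwB.2 ▸ (show y ∈ Lam D (w : G) from h)
          · rw [hsw, ← hbwb] at h
            have := hnorm b (hBU b hb) w hwB
            rw [ri_inv hD hb.1] at this
            exact this.2 ▸ (show y ∈ Lam D (b * (w : G) * b) from h)
        · rw [Subgroup.lowerCentralSeries_succ]
          exact Subgroup.commutator_mem_commutator hwn (Subgroup.mem_top _)
    obtain ⟨w, hwB, hw⟩ := key (Group.nilpotencyClass U)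
    rw [Subgroup.lowerCentralSeries_nilpotencyClass, Subgroup.mem_bot] at hw
    exact ri_ne_one hD hwB.1 (by rw [hw]; rfl)
  have hsub : ∀ e ∈ B, commutingMembers D e ⊆ commutingMembers D z := by
    rintro e he u ⟨hu, hue⟩
    refine ⟨hu, ?_⟩
    by_cases huB : u ∈ B
    · exact (hzB u huB).symm
    by_contra hne
    have ho : ¬ OddAdj D z u := fun ho => by
      have h1 : u ∈ Lam D e := by rw [he.2, ← hz.2]; exact ho
      exact oddAdj_not_comm hD h1 hue.symm
    have h4 := four_of_neither hD hz.1 hu (fun h' => hne h'.symm) ho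
    exact huB ⟨hu, (lam_step hD hc he.1 hz.1 hu (hz.2.trans he.2.symm) hue h4).trans he.2⟩
  have heq : ∀ e ∈ B, commutingMembers D e = commutingMembers D z := fun e he =>
    Set.eq_of_subset_of_ncard_le (hsub e he) (cm_card hD hc hz.1 he.1).le (Set.toFinite _)
  have : g ∈ commutingMembers D f := by
    rw [heq f ⟨hf, rfl⟩]
    exact ⟨hg, (hzB g ⟨hg, h⟩).symm⟩
  exact this.2.symm

/-- The odd partners determine the commuting members. -/
theorem cm_eq_of_lam {f g : G} (hf : f ∈ D) (hg : g ∈ D) (h : Lam D g = Lam D f) :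
    commutingMembers D f = commutingMembers D g := by
  refine Set.eq_of_subset_of_ncard_le ?_ (cm_card hD hc hg hf).le (Set.toFinite _)
  rintro u ⟨hu, huf⟩
  refine ⟨hu, ?_⟩
  by_contra hne
  have ho : ¬ OddAdj D g u := fun ho => by
    have h1 : u ∈ Lam D f := h ▸ (show u ∈ Lam D g from ho)
    exact oddAdj_not_comm hD h1 huf.symm
  have h4 := four_of_neither hD hg hu (fun h' => hne h'.symm) ho
  exact hne (lam_eq_commute hD hc hf hu (lam_step hD hc hf hg hu h huf h4) |>.symm |> fun e =>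
    (lam_eq_commute hD hc hu hg (h.trans (lam_step hD hc hf hg hu h huf h4).symm)))

omit hc [Finite G] in
lemma four_partner_not_odd {d e x : G} (hd : d ∈ D) (he : e ∈ D)
    (hde : commutingMembers D d = commutingMembers D e) (hx : x ∈ D) (h4 : orderOf (d * x) = 4) :
    ¬ OddAdj D e x := by
  intro ho
  obtain ⟨hzD, hzd, hzx, -⟩ := four_facts hD hd hx h4
  obtain ⟨hxdx, hdzD, -⟩ := four_conj hD hd hx h4
  have hed : e * d = d * e := (hde ▸ (show e ∈ commutingMembers D e from ⟨he, rfl⟩) :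
    e ∈ commutingMembers D d).2
  have hze : (d * x) ^ 2 * e = e * (d * x) ^ 2 :=
    (hde ▸ (show (d * x) ^ 2 ∈ commutingMembers D d from ⟨hzD, hzd⟩) :
      (d * x) ^ 2 ∈ commutingMembers D e).2
  have h1 : x * d * x * e = e * (x * d * x) := by
    rw [hxdx]; exact (Commute.mul_left (show Commute d e from hed.symm) hze).eq
  have hxe : x * e * x ∈ D := by
    have := hD.conj_mem e he x
    rwa [ri_inv hD hx] at this
  have h2 : x * e * x * d = d * (x * e * x) := by
    have := congrArg (fun w => x * w * x) h1.symm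
    simp only [mul_assoc, cancel_left (ri_sq hD hx)] at this
    simp only [mul_assoc, ri_sq hD hx, mul_one] at this
    simpa only [mul_assoc] using this
  have h3 : x * e * x * e = e * (x * e * x) :=
    (hde ▸ (show x * e * x ∈ commutingMembers D d from ⟨hxe, h2⟩) :
      x * e * x ∈ commutingMembers D e).2
  have h5 : (e * x) ^ (2 ^ 2) = 1 := by
    calc (e * x) ^ (2 ^ 2) = (e * (x * e * x)) * (e * (x * e * x)) := by
          simp only [show (2:ℕ) ^ 2 = 2 + 2 from rfl, pow_add, pow_two, mul_assoc]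
      _ = (e * (x * e * x)) * (x * e * x * e) := by rw [h3]
      _ = 1 := by
          rw [mul_assoc, ← mul_assoc (x * e * x) (x * e * x), ri_sq hD hxe, one_mul, ri_sq hD he]
  have := Nat.Coprime.eq_one_of_dvd ((Nat.coprime_two_right.2 ho.2.2.2).pow_right 2)
    (orderOf_dvd_of_pow_eq_one h5)
  exact ri_mul_ne_one hD he (Ne.symm ho.2.2.1) (orderOf_eq_one_iff.1 this)

omit hc [Finite G] in
lemma lam_eq_of_cm {d e : G} (hd : d ∈ D) (he : e ∈ D)
    (hde : commutingMembers D d = commutingMembers D e) : Lam D d = Lam D e := by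
  ext x
  suffices key : ∀ {d e : G}, d ∈ D → e ∈ D → commutingMembers D d = commutingMembers D e →
      OddAdj D e x → OddAdj D d x from ⟨key he hd hde.symm, key hd he hde⟩
  intro d e hd he hde hex
  by_contra ho
  by_cases hcomm : d * x = x * d
  · have : x ∈ commutingMembers D e := hde ▸ (⟨hex.2.1, hcomm.symm⟩ : x ∈ commutingMembers D d)
    exact oddAdj_not_comm hD hex this.2.symm
  · exact four_partner_not_odd hD hd he hde hex.2.1
      (four_of_neither hD hd hex.2.1 hcomm ho) hex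

omit hc [Finite G] in
lemma union_eq_compl {d : G} (hd : d ∈ D) :
    commutingMembers D d ∪ fourPartners D d = D \ Lam D d := by
  ext x
  constructor
  · rintro (⟨hx, hcx⟩ | ⟨hx, h4⟩)
    · exact ⟨hx, fun ho => oddAdj_not_comm hD ho hcx.symm⟩
    · exact ⟨hx, not_oddAdj_of_four hD h4⟩
  · rintro ⟨hx, hno⟩
    by_cases hcx : d * x = x * d
    · exact Or.inl ⟨hx, hcx.symm⟩
    · exact Or.inr ⟨hx, four_of_neither hD hd hx hcx hno⟩

/-- `E_d` is determined by the union of commuting members and four partners. -/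
theorem sameCommutingClass_eq {d : G} (hd : d ∈ D) :
    sameCommutingClass D d =
      {e | e ∈ D ∧ commutingMembers D d ∪ fourPartners D d =
        commutingMembers D e ∪ fourPartners D e} := by
  ext e
  refine and_congr_right fun he => ⟨fun h => ?_, fun h => ?_⟩
  · rw [union_eq_compl hD hd, union_eq_compl hD he, lam_eq_of_cm hD hd he h]
  · rw [union_eq_compl hD hd, union_eq_compl hD he] at h
    refine cm_eq_of_lam hD hc hd he ?_
    have hsub : ∀ a, Lam D a ⊆ D := fun a y hy => hy.2.1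
    rw [← Set.diff_diff_cancel_left (hsub e), ← h, Set.diff_diff_cancel_left (hsub d)]

/-- The order three lemma for product partners. -/
theorem exists_order_three {a b : G} (ha : a ∈ D) (hb : b ∈ productPartners D a)
    (hbE : b ∉ sameCommutingClass D a) : ∃ x ∈ fourPartners D b, orderOf (a * x) = 3 := by
  obtain ⟨⟨hbD, hba, -⟩, hbaD⟩ := hb
  have habD : a * b ∈ D := hba ▸ hbaD
  obtain ⟨x0, hx0, hx0b⟩ : ∃ x ∈ Lam D a, x ∉ Lam D b := by
    by_contra hcon
    push Not at hcon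
    exact hbE ⟨hbD, cm_eq_of_lam hD hc ha hbD (lam_eq_of_subset hD hc ha hbD hcon).symm⟩
  have hbx0 : orderOf (b * x0) = 4 := by
    refine four_of_neither hD hbD hx0.2.1 (fun hcx => ?_) hx0b
    exact not_oddAdj_of_partner hD ha hbD hba.symm habD hx0.2.1 hcx.symm hx0
  obtain ⟨s, ⟨hs, -, -, hsa⟩, hsb⟩ :=
    psi_surj hD (oddAdj_symm hx0) (show b ∈ Pset D a x0 from ⟨hbD, hba.symm, habD, hbx0⟩)
  obtain ⟨-, hbs, -, -⟩ := four_facts hD hs ha hsa
  obtain ⟨hasa, hsbD, hbsD⟩ := four_conj hD hs ha hsa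
  rw [hsb] at hbs hasa hsbD hbsD
  obtain ⟨y, hy, hys⟩ : ∃ y ∈ Lam D b, y ∉ Lam D s := by
    by_contra hcon
    push Not at hcon
    have he := cm_eq_of_lam hD hc hbD hs (lam_eq_of_subset hD hc hbD hs hcon).symm
    have : a ∈ commutingMembers D s := he ▸ (⟨ha, hba.symm⟩ : a ∈ commutingMembers D b)
    exact not_comm_of_four hD hs ha hsa this.2.symm
  have hsy : orderOf (s * y) = 4 := by
    refine four_of_neither hD hs hy.2.1 (fun hcy => ?_) hys
    exact not_oddAdj_of_partner hD hbD hs hbs hbsD hy.2.1 hcy.symm hy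
  obtain ⟨x, ⟨hx, -, -, hx4⟩, hxs⟩ :=
    psi_surj hD (oddAdj_symm hy) (show s ∈ Pset D b y from ⟨hs, hbs, hbsD, hsy⟩)
  obtain ⟨-, hsx, -, hsq⟩ := four_facts hD hx hbD hx4
  obtain ⟨hxbx, -, -⟩ := four_conj hD hbD hx (four_symm hD hx4)
  rw [← hsq, hxs] at hxbx
  rw [hxs] at hsx
  obtain ⟨-, h3⟩ :=
    order_three hD (a := a) (b := b) (s := s) (x := x) ha hbD hs hx hba.symm hbs hasa hsx.symm hxbx
  exact ⟨x, ⟨hx, four_symm hD hx4⟩, h3 habD⟩

end CfsgLib.RootSub.RISwap
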