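/-
Root involutions with connected odd graph: the group is simple modulo the centre of `G / O₂(G)`.
-/
import Cfsg.Agent.Lib.RootSub.RISwap
import Cfsg.Agent.Lib.CharP.PCore
import Cfsg.Prelude.Def_QuasithinSetup

set_option autoImplicit false

namespace CfsgLib.RootSub.RISimple

open Cfsg CfsgLib.RootSub CfsgLib.RootSub.RISwap
open scoped commutatorElement

variable {G : Type*} [Group G] [Finite G] {D : Set G}
variable (hD : IsRootInvolutionSet D) (hc : IsConnectedSet (OddAdj D) D)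
  (hDD : (D ∩ commutingProducts D).Nonempty)
include hD hc hDD

theorem exists_partner {d : G} (hd : d ∈ D) : ∃ b ∈ D, d * b = b * d ∧ d * b ∈ D := by
  obtain ⟨c, hcD, a, ha, b, hb, hab, -, rfl⟩ := hDD
  obtain ⟨g, rfl⟩ := isConj_mem hD hc ha hd
  have e1 : g * a * g⁻¹ * (g * b * g⁻¹) = g * (a * b) * g⁻¹ := by group
  have e2 : g * b * g⁻¹ * (g * a * g⁻¹) = g * (b * a) * g⁻¹ := by group
  exact ⟨g * b * g⁻¹, hD.conj_mem b hb g, by rw [e1, e2, hab], e1 ▸ hD.conj_mem _ hcD g⟩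

theorem eq_top_of_mem {N : Subgroup G} [hN : N.Normal] {d : G} (hd : d ∈ D) (hdN : d ∈ N) :
    N = ⊤ := by
  rw [eq_top_iff, ← hD.generates, Subgroup.closure_le]
  intro e he
  obtain ⟨g, rfl⟩ := isConj_mem hD hc hd he
  exact hN.conj_mem d hdN g

theorem exists_oddAdj {d : G} (hd : d ∈ D) : ∃ y, OddAdj D d y := by
  obtain ⟨b, hb, hdb, hdbD⟩ := exists_partner hD hc hDD hd
  rcases Relation.ReflTransGen.cases_head (hc d hd b hb) with h | ⟨y, hy, -⟩
  · exact absurd (show d * b = 1 by rw [← h, ri_sq hD hd]) (ri_ne_one hD hdbD)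
  · exact ⟨y, hy⟩

/-- A normal subgroup is the whole group or lies in the centre modulo `O₂`. -/
theorem normal_dichotomy {N : Subgroup G} [hN : N.Normal] : N ≤ twoZCore G ∨ N = ⊤ := by
  classical
  haveI hQn : (pCore 2 G).Normal := CfsgLib.CharP.pCore_normal'
  haveI : Fact (Nat.Prime 2) := ⟨Nat.prime_two⟩
  have hdiff : ∀ d ∈ D, ∀ x ∈ N, d * (x * d * x⁻¹) ∈ N := fun d hd x hx => by
    have h1 := hN.conj_mem x hx d
    rw [show d * (x * d * x⁻¹) = (d * x * d⁻¹) * (d * d) * x⁻¹ by group, ri_sq hD hd, mul_one]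
    exact mul_mem h1 (inv_mem hx)
  by_cases h4 : ∃ d ∈ D, ∃ x ∈ N, orderOf (d * (x * d * x⁻¹)) = 4
  · obtain ⟨d, hd, x, hx, h⟩ := h4
    exact Or.inr (eq_top_of_mem hD hc hDD (four_facts hD hd (hD.conj_mem d hd x) h).1
      (pow_mem (hdiff d hd x hx) 2))
  by_cases hodd : ∃ d ∈ D, ∃ x ∈ N, OddAdj D d (x * d * x⁻¹)
  · obtain ⟨d, hd, x, hx, hde⟩ := hodd
    obtain ⟨b, hb, hdb, hdbD⟩ := exists_partner hD hc hDD hd
    obtain ⟨f, hf, hdf, hdfD, hfe⟩ : ∃ f ∈ D, d * f = f * d ∧ d * f ∈ D ∧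
        OddAdj D f (x * d * x⁻¹) := by
      rcases triple' hD hd hb hdb hdbD hde with h | h
      · exact ⟨b, hb, hdb, hdbD, h⟩
      · have e : d * (d * b) = b := cancel_left (ri_sq hD hd) b
        exact ⟨d * b, hdbD, by rw [e, mul_assoc, ← hdb, e],
          e.symm ▸ hb, h⟩
    refine Or.inr (eq_top_of_mem hD hc hDD hdfD ?_)
    have hde' : d * (x * d * x⁻¹) ∈ N := hdiff d hd x hx
    obtain ⟨e, he⟩ : ∃ e, e = x * d * x⁻¹ := ⟨_, rfl⟩
    rw [← he] at hde' hfe
    have hq : QuotientGroup.mk' N d = QuotientGroup.mk' N e := by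
      have h1 : QuotientGroup.mk' N (d * e) = 1 := (QuotientGroup.eq_one_iff _).2 hde'
      rw [map_mul] at h1
      rw [eq_inv_of_mul_eq_one_left h1, ← map_inv, ri_inv hD hfe.2.1]
    have hfe1 : QuotientGroup.mk' N (f * e) = 1 := by
      have h2 : QuotientGroup.mk' N (f * e) ^ 2 = 1 := by
        rw [map_mul, ← hq, ← map_mul, ← map_pow, (show Commute f d from hdf.symm).mul_pow, pow_two,
          pow_two, ri_sq hD hf, ri_sq hD hd, one_mul, map_one]
      obtain ⟨k, hk⟩ := hfe.2.2.2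
      have h4 : QuotientGroup.mk' N (f * e) ^ (2 * k + 1) = 1 := by
        rw [← map_pow, ← hk, pow_orderOf_eq_one, map_one]
      rwa [pow_succ, pow_mul, h2, one_pow, one_mul] at h4
    have : QuotientGroup.mk' N (d * f) = 1 := by
      rw [hdf, map_mul, hq, ← map_mul, hfe1]
    exact (QuotientGroup.eq_one_iff _).1 this
  left
  have hcomm : ∀ d ∈ D, ∀ x ∈ N, d * (x * d * x⁻¹) = (x * d * x⁻¹) * d := by
    intro d hd x hx
    by_contra hne
    refine h4 ⟨d, hd, x, hx, four_of_neither hD hd (hD.conj_mem d hd x) hne fun ho => ?_⟩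
    exact hodd ⟨d, hd, x, hx, ho⟩
  have hmem : ∀ d ∈ D, ∀ x ∈ N, d * (x * d * x⁻¹) ∈ pCore 2 G := by
    intro d hd x hx
    obtain ⟨A, hA⟩ : ∃ A, A = Subgroup.closure {w | ∃ y ∈ N, w = y * d * y⁻¹} ⊓ N := ⟨_, rfl⟩
    have hAn : N ≤ Subgroup.normalizer (A : Set G) := by
      have hle : ∀ y ∈ N, ∀ w ∈ A, y * w * y⁻¹ ∈ A := by
        intro y hy w hw
        rw [hA] at hw ⊢
        obtain ⟨hw1, hw2⟩ := hw
        refine ⟨?_, N.mul_mem (N.mul_mem hy hw2) (N.inv_mem hy)⟩
        have : w ∈ (Subgroup.closure {w | ∃ y ∈ N, w = y * d * y⁻¹}).comap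
            (MulAut.conj y).toMonoidHom := by
          refine (Subgroup.closure_le _).2 ?_ hw1
          rintro _ ⟨z, hz, rfl⟩
          refine Subgroup.subset_closure ⟨y * z, mul_mem hy hz, ?_⟩
          simp [MulAut.conj_apply, mul_assoc]
        simpa using this
      intro y hy
      rw [Subgroup.mem_normalizer_iff]
      refine fun w => ⟨fun hw => hle y hy w hw, fun hw => ?_⟩
      have := hle _ (inv_mem hy) _ hw
      rwa [show y⁻¹ * (y * w * y⁻¹) * y⁻¹⁻¹ = w by group] at this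
    have hA2 : IsPGroup 2 A := by
      have hc2 : ∀ u ∈ {w | ∃ y ∈ N, w = y * d * y⁻¹}, ∀ v ∈ {w | ∃ y ∈ N, w = y * d * y⁻¹},
          u * v = v * u := by
        rintro _ ⟨y, hy, rfl⟩ _ ⟨z, hz, rfl⟩
        have h := hcomm d hd (y⁻¹ * z) (mul_mem (inv_mem hy) hz)
        calc y * d * y⁻¹ * (z * d * z⁻¹) = y * (d * ((y⁻¹ * z) * d * (y⁻¹ * z)⁻¹)) * y⁻¹ := by group
          _ = y * ((y⁻¹ * z) * d * (y⁻¹ * z)⁻¹ * d) * y⁻¹ := by rw [h]
          _ = _ := by group
      rintro ⟨w, hw⟩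
      refine ⟨1, Subtype.ext ?_⟩
      show w ^ (2 ^ 1) = 1
      rw [pow_one, pow_two]
      rw [hA] at hw
      haveI : IsMulCommutative ↥(Subgroup.closure {w | ∃ y ∈ N, w = y * d * y⁻¹}) :=
        Subgroup.isMulCommutative_closure hc2
      obtain ⟨hw1, -⟩ := hw
      induction hw1 using Subgroup.closure_induction with
      | mem u hu => obtain ⟨y, hy, rfl⟩ := hu; exact ri_sq hD (hD.conj_mem d hd y)
      | one => exact one_mul 1
      | mul u v hu hv ihu ihv =>
        have huv : u * v = v * u := congrArg Subtype.val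
          (mul_comm' (⟨u, hu⟩ : Subgroup.closure {w | ∃ y ∈ N, w = y * d * y⁻¹}) ⟨v, hv⟩)
        rw [(show Commute v u from huv.symm).mul_mul_mul_comm, ihu, ihv, one_mul]
      | inv u _ ih => rw [← mul_inv_rev, ih, inv_one]
    have hAN : A ≤ N := hA ▸ inf_le_right
    have h1 := CfsgLib.CharP.subgroup_le_pCore_map hAN hAn hA2
    haveI : (pCore 2 ↥N).Characteristic := CfsgLib.CharP.pCore_characteristic'
    refine CfsgLib.CharP.le_pCore' inferInstance
      ((CfsgLib.CharP.pCore_isPGroup' (G := ↥N) (p := 2)).map N.subtype) (h1 ?_)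
    rw [hA]
    refine ⟨mul_mem (Subgroup.subset_closure ⟨1, one_mem N, by group⟩)
      (Subgroup.subset_closure ⟨x, hx, rfl⟩), hdiff d hd x hx⟩
  intro x hx
  rw [twoZCore, Subgroup.mem_comap, Subgroup.mem_center_iff]
  intro w
  obtain ⟨w, rfl⟩ := QuotientGroup.mk'_surjective (pCore 2 G) w
  have hw : w ∈ Subgroup.comap (QuotientGroup.mk' (pCore 2 G))
      (Subgroup.centralizer {QuotientGroup.mk' (pCore 2 G) x}) := by
    refine (Subgroup.closure_le _).2 ?_ (hD.generates.symm ▸ Subgroup.mem_top w)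
    intro d hd
    rw [SetLike.mem_coe, Subgroup.mem_comap, Subgroup.mem_centralizer_singleton_iff]
    have h := hmem d hd x hx
    have h' : QuotientGroup.mk' (pCore 2 G) (d * (x * d * x⁻¹)) = 1 := (QuotientGroup.eq_one_iff _).2 h
    rw [map_mul, map_mul, map_mul, map_inv] at h'
    have hd2 : QuotientGroup.mk' (pCore 2 G) d * QuotientGroup.mk' (pCore 2 G) d = 1 := by
      rw [← map_mul, ri_sq hD hd, map_one]
    have h3 := eq_inv_of_mul_eq_one_right h'
    rw [inv_eq_of_mul_eq_one_left hd2, mul_inv_eq_iff_eq_mul] at h3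
    exact h3.symm
  rw [Subgroup.mem_comap, Subgroup.mem_centralizer_singleton_iff] at hw
  exact hw

theorem twoZCore_ne_top_aux {d : G} (hd : d ∈ D)
    (h : ∀ u v : G, ⁅u, v⁆ ∈ twoZCore G) : False := by
  haveI hQn : (pCore 2 G).Normal := CfsgLib.CharP.pCore_normal'
  obtain ⟨e, he⟩ := exists_oddAdj hD hc hDD hd
  obtain ⟨c, hcdef⟩ : ∃ c, c = d * e := ⟨_, rfl⟩
  have hinv : d * c * d⁻¹ = c⁻¹ := by
    rw [hcdef]; exact CfsgLib.Invol.conj_prod (ri_sq hD hd) (ri_sq hD he.2.1)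
  have hodd : Odd (orderOf c) := hcdef ▸ he.2.2.2
  let π := QuotientGroup.mk' (pCore 2 G)
  have h1 : π (c⁻¹ * c⁻¹) ∈ Subgroup.center (G ⧸ pCore 2 G) := by
    have := h d c
    rw [commutatorElement_def, hinv] at this
    exact this
  obtain ⟨m, hm⟩ := hodd
  have hc1 : (c⁻¹ * c⁻¹) ^ (m + 1) = c⁻¹ := by
    rw [← pow_two, ← pow_mul, show 2 * (m + 1) = (2 * m + 1) + 1 by ring, pow_succ, inv_pow, ← hm,
      pow_orderOf_eq_one, inv_one, one_mul]
  have h2 : π c ∈ Subgroup.center (G ⧸ pCore 2 G) := by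
    have := pow_mem h1 (m + 1)
    rw [← map_pow, hc1, map_inv] at this
    simpa using inv_mem this
  have h3 : π (c * c) = 1 := by
    have := congrArg π hinv
    rw [map_mul, map_mul, (Subgroup.mem_center_iff.1 h2 (π d)), ← map_mul, ← map_mul,
      mul_inv_cancel_right, map_inv, eq_inv_iff_mul_eq_one, ← map_mul] at this
    exact this
  have h4 : π c = 1 := by
    have h5 : π c ^ (2 * m + 1) = 1 := by rw [← map_pow, ← hm, pow_orderOf_eq_one, map_one]
    rw [map_mul, ← pow_two] at h3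
    rwa [pow_succ, pow_mul, h3, one_pow, one_mul] at h5
  exact ri_mul_ne_one hD hd (Ne.symm he.2.2.1) (hcdef ▸ eq_one_of_odd_of_isPGroup
    CfsgLib.CharP.pCore_isPGroup' ((QuotientGroup.eq_one_iff _).1 h4) ⟨m, hm⟩)

theorem not_isSolvable : ¬ Group.IsSolvable G ∧ twoZCore G ≠ ⊤ := by
  obtain ⟨d, hd⟩ : ∃ d, d ∈ D := ⟨_, hDD.choose_spec.1⟩
  haveI : Nontrivial G := nontrivial_of_ne d 1 (ri_ne_one hD hd)
  refine ⟨fun hs => ?_, fun h => twoZCore_ne_top_aux hD hc hDD hd fun u v => h ▸ Subgroup.mem_top _⟩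
  haveI := hs
  rcases normal_dichotomy hD hc hDD (N := commutator G) with h | h
  · exact twoZCore_ne_top_aux hD hc hDD hd fun u v => h (Subgroup.commutator_mem_commutator
      (Subgroup.mem_top u) (Subgroup.mem_top v))
  · exact (IsSolvable.commutator_lt_top_of_nontrivial (G := G)).ne h

theorem twoZCore_isSolvable : Group.IsSolvable (twoZCore G) := by
  haveI hQn : (pCore 2 G).Normal := CfsgLib.CharP.pCore_normal'
  haveI : Fact (Nat.Prime 2) := ⟨Nat.prime_two⟩
  haveI : Group.IsNilpotent (pCore 2 G) := CfsgLib.CharP.pCore_isPGroup'.isNilpotent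
  haveI : Group.IsSolvable (pCore 2 G) := inferInstance
  let f : twoZCore G →* Subgroup.center (G ⧸ pCore 2 G) :=
    ((QuotientGroup.mk' (pCore 2 G)).comp (twoZCore G).subtype).codRestrict _ fun z => z.2
  haveI : IsMulCommutative (Subgroup.center (G ⧸ pCore 2 G)) := inferInstance
  haveI : Group.IsSolvable (Subgroup.center (G ⧸ pCore 2 G)) := by
    exact isSolvable_of_comm fun a b => mul_comm' a b
  refine solvable_of_ker_le_range
    (Subgroup.inclusion (show pCore 2 G ≤ twoZCore G from fun q hq => ?_)) f ?_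
  · rw [twoZCore, Subgroup.mem_comap, show QuotientGroup.mk' (pCore 2 G) q = 1 from
      (QuotientGroup.eq_one_iff _).2 hq]
    exact one_mem _
  · intro z hz
    exact ⟨⟨z, (QuotientGroup.eq_one_iff _).1 (congrArg Subtype.val hz)⟩, rfl⟩

theorem main : solvableRadical G = twoZCore G ∧ IsSimpleGroup (G ⧸ twoZCore G) := by
  obtain ⟨hns, hne⟩ := not_isSolvable hD hc hDD
  refine ⟨le_antisymm (sSup_le ?_) (le_sSup ⟨inferInstance, twoZCore_isSolvable hD hc hDD⟩), ?_⟩
  · rintro N ⟨hN, hs⟩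
    rcases normal_dichotomy hD hc hDD (N := N) with h | rfl
    · exact h
    · exact absurd (solvable_of_surjective (f := (Subgroup.topEquiv : (⊤ : Subgroup G) ≃* G).toMonoidHom)
        (Subgroup.topEquiv : (⊤ : Subgroup G) ≃* G).surjective) hns
  · haveI : Nontrivial (G ⧸ twoZCore G) := by
      obtain ⟨g, hg⟩ : ∃ g, g ∉ twoZCore G := by
        by_contra hcon
        push Not at hcon
        exact hne (eq_top_iff.2 fun g _ => hcon g)
      exact nontrivial_of_ne (g : G ⧸ twoZCore G) 1 fun h => hg ((QuotientGroup.eq_one_iff g).1 h)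
    refine ⟨fun H hH => ?_⟩
    haveI : (H.comap (QuotientGroup.mk' (twoZCore G))).Normal := hH.comap _
    have e := Subgroup.map_comap_eq_self_of_surjective (QuotientGroup.mk'_surjective (twoZCore G)) H
    rcases normal_dichotomy hD hc hDD (N := H.comap (QuotientGroup.mk' (twoZCore G))) with h | h
    · left
      rw [← e, eq_bot_iff]
      refine (Subgroup.map_mono h).trans ?_
      rw [QuotientGroup.map_mk'_self]
    · right
      rw [← e, h, ← MonoidHom.range_eq_map, MonoidHom.range_eq_top]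
      exact QuotientGroup.mk'_surjective _

end CfsgLib.RootSub.RISimple
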