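/-
The root structure theorem for root involutions: the isolated members of `C_D(d)` are `d` and
its product partners, and they generate a group of class two with derived group `E(d)`.
-/
import Cfsg.Agent.Lib.RootSub.RISwap

set_option autoImplicit false

namespace CfsgLib.RootSub.RIStructure

open Cfsg CfsgLib.RootSub CfsgLib.RootSub.RISwap
open scoped commutatorElement

variable {G : Type*} [Group G] {D : Set G}

/-- The isolated members of `C_D(d)`. -/
def Wset (D : Set G) (d : G) : Set G :=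
  {w | IsIsolatedElem (OddAdj (commutingMembers D d)) (commutingMembers D d) w}

/-- The group generated by the isolated members of `C_D(d)`. -/
abbrev Rsub (D : Set G) (d : G) : Subgroup G := Subgroup.closure (Wset D d)

/-- Central modulo `E(d)` in the group of isolated members. -/
def IsNearCentral (D : Set G) (d v : G) : Prop :=
  v ∈ Rsub D d ∧ ∀ w ∈ Wset D d, v * w * v⁻¹ * w⁻¹ ∈ sameCommutingSubgroup D d

/-- The derived group together with `E(d)`. -/
abbrev Msub (D : Set G) (d : G) : Subgroup G :=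
  ⁅Rsub D d, Rsub D d⁆ ⊔ sameCommutingSubgroup D d

variable (hD : IsRootInvolutionSet D) {d : G}

omit hD in
lemma mem_W_iff {w : G} : w ∈ Wset D d ↔
    w ∈ commutingMembers D d ∧ ∀ q ∈ commutingMembers D d, ¬ OddAdj D w q := by
  constructor
  · rintro ⟨hw, h⟩
    exact ⟨hw, fun q hq ho => (h q).1 ⟨hw, hq, ho.2.2.1, ho.2.2.2⟩⟩
  · rintro ⟨hw, h⟩
    refine ⟨hw, fun q => ⟨fun ho => ?_, fun ho => ?_⟩⟩
    · exact h q ho.2.1 ⟨hw.1, ho.2.1.1, ho.2.2.1, ho.2.2.2⟩
    · exact h q ho.1 (oddAdj_symm ⟨ho.1.1, hw.1, ho.2.2.1, ho.2.2.2⟩)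

omit hD in
lemma W_mem {w : G} (hw : w ∈ Wset D d) : w ∈ D := hw.1.1

omit hD in
lemma W_comm {w : G} (hw : w ∈ Wset D d) : w * d = d * w := hw.1.2

omit hD in
lemma W_subset_R {w : G} (hw : w ∈ Wset D d) : w ∈ Rsub D d := Subgroup.subset_closure hw

omit hD in
lemma R_fix {x : G} (hx : x ∈ Rsub D d) : x * d = d * x := by
  induction hx using Subgroup.closure_induction with
  | mem w hw => exact W_comm hw
  | one => simp
  | mul a b _ _ ha hb => exact (Commute.mul_left ha hb)
  | inv a _ ha => exact (Commute.inv_left ha)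

include hD

lemma cm_fix {u q : G} (hu : u * d = d * u) (hq : q ∈ commutingMembers D d) :
    u * q * u⁻¹ ∈ commutingMembers D d := by
  have h := cm_conj hD d u
  rw [show u * d * u⁻¹ = d by rw [hu, mul_inv_cancel_right]] at h
  rw [h]
  exact ⟨q, hq, rfl⟩

lemma W_conj {u w : G} (hu : u * d = d * u) (hw : w ∈ Wset D d) :
    u * w * u⁻¹ ∈ Wset D d := by
  rw [mem_W_iff] at hw ⊢
  refine ⟨cm_fix hD hu hw.1, fun q hq ho => ?_⟩
  have h := oddAdj_conj hD ho u⁻¹
  rw [show u⁻¹ * (u * w * u⁻¹) * u⁻¹⁻¹ = w by group] at h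
  exact hw.2 _ (cm_fix hD (Commute.inv_left hu) hq) h

lemma R_conj {u x : G} (hu : u * d = d * u) (hx : x ∈ Rsub D d) : u * x * u⁻¹ ∈ Rsub D d := by
  induction hx using Subgroup.closure_induction with
  | mem w hw => exact W_subset_R (W_conj hD hu hw)
  | one => simp
  | mul a b _ _ ha hb =>
    rw [show u * (a * b) * u⁻¹ = u * a * u⁻¹ * (u * b * u⁻¹) by group]
    exact mul_mem ha hb
  | inv a _ ha =>
    rw [show u * a⁻¹ * u⁻¹ = (u * a * u⁻¹)⁻¹ by group]
    exact inv_mem ha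

lemma W_not_odd {a b : G} (ha : a ∈ Wset D d) (hb : b ∈ Wset D d) : ¬ OddAdj D a b :=
  (mem_W_iff.1 ha).2 b hb.1

lemma W_cases {a b : G} (ha : a ∈ Wset D d) (hb : b ∈ Wset D d) :
    a * b = b * a ∨ orderOf (a * b) = 4 := by
  by_cases h : a * b = b * a
  · exact Or.inl h
  · exact Or.inr (four_of_neither hD (W_mem ha) (W_mem hb) h (W_not_odd hD ha hb))

lemma cm_ed {e : G} (he : e ∈ sameCommutingClass D d) {q : G}
    (hq : q ∈ commutingMembers D d) : q * e = e * q := (he.2 ▸ hq : q ∈ commutingMembers D e).2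

lemma Ec_subset_W {e : G} (hd : d ∈ D) (he : e ∈ sameCommutingClass D d) : e ∈ Wset D d := by
  rw [mem_W_iff]
  have hed : e ∈ commutingMembers D d :=
    he.2.symm ▸ (⟨he.1, rfl⟩ : e ∈ commutingMembers D e)
  exact ⟨hed, fun q hq ho => oddAdj_not_comm hD ho (cm_ed hD he hq).symm⟩

lemma Ed_le_R (hd : d ∈ D) : sameCommutingSubgroup D d ≤ Rsub D d :=
  (Subgroup.closure_le _).2 fun _ he => W_subset_R (Ec_subset_W hD hd he)

lemma Ed_comm_cm {e q : G} (he : e ∈ sameCommutingSubgroup D d)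
    (hq : q ∈ commutingMembers D d) : q * e = e * q := by
  induction he using Subgroup.closure_induction with
  | mem a ha => exact cm_ed hD ha hq
  | one => simp
  | mul a b _ _ ha hb => exact Commute.mul_right ha hb
  | inv a _ ha => exact Commute.inv_right ha

lemma Ed_comm_R {e x : G} (he : e ∈ sameCommutingSubgroup D d) (hx : x ∈ Rsub D d) :
    x * e = e * x := by
  induction hx using Subgroup.closure_induction with
  | mem w hw => exact Ed_comm_cm hD he hw.1
  | one => simp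
  | mul a b _ _ ha hb => exact Commute.mul_left ha hb
  | inv a _ ha => exact Commute.inv_left ha

lemma Ed_conj {u e : G} (hu : u * d = d * u) (he : e ∈ sameCommutingSubgroup D d) :
    u * e * u⁻¹ ∈ sameCommutingSubgroup D d := by
  induction he using Subgroup.closure_induction with
  | mem a ha =>
    refine Subgroup.subset_closure ⟨hD.conj_mem a ha.1 u, ?_⟩
    have hud : u * d * u⁻¹ = d := by rw [hu, mul_inv_cancel_right]
    rw [cm_conj hD a u, ← ha.2, ← cm_conj hD d u, hud]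
  | one => simp
  | mul a b _ _ ha hb =>
    rw [show u * (a * b) * u⁻¹ = u * a * u⁻¹ * (u * b * u⁻¹) by group]
    exact mul_mem ha hb
  | inv a _ ha =>
    rw [show u * a⁻¹ * u⁻¹ = (u * a * u⁻¹)⁻¹ by group]
    exact inv_mem ha

lemma M_conj {u m : G} (hu : u * d = d * u) (hm : m ∈ Msub D d) : u * m * u⁻¹ ∈ Msub D d := by
  have hR : (Rsub D d).map (MulAut.conj u).toMonoidHom ≤ Rsub D d := by
    rintro _ ⟨x, hx, rfl⟩
    exact R_conj hD hu hx
  have hE' : (sameCommutingSubgroup D d).map (MulAut.conj u).toMonoidHom ≤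
      sameCommutingSubgroup D d := by
    rintro _ ⟨x, hx, rfl⟩
    exact Ed_conj hD hu hx
  have h : (Msub D d).map (MulAut.conj u).toMonoidHom ≤ Msub D d := by
    rw [Subgroup.map_sup, Subgroup.map_commutator]
    exact sup_le_sup (Subgroup.commutator_mono hR hR) hE'
  exact h ⟨m, hm, rfl⟩

lemma R_isPGroup [Finite G] : IsPGroup 2 (Rsub D d) := by
  haveI : Fact (Nat.Prime 2) := ⟨Nat.prime_two⟩
  let C : Set (Rsub D d) := {w | (w : G) ∈ Wset D d}
  have hCU : Subgroup.closure C = ⊤ := Subgroup.closure_closure_coe_preimage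
  have hC : IsPGroup 2 (Subgroup.closure C) := by
    refine CfsgLib.Invol.isPGroup_closure_of_pairs C (fun w b hb => W_conj hD (R_fix w.2) hb) ?_
    intro a ha b hb
    have hord : ∀ z : Rsub D d, (z : G) ∈ Wset D d → orderOf z = 2 := fun z hz => by
      rw [← Subgroup.orderOf_coe]; exact hD.orderOf_eq _ (W_mem hz)
    have h4 := pow_four_of_not_oddAdj hD (W_mem ha) (W_mem hb) (W_not_odd hD ha hb)
    obtain ⟨k, -, hk⟩ := (Nat.dvd_prime_pow Nat.prime_two).1
      (orderOf_dvd_of_pow_eq_one (show (a * b) ^ 2 ^ 2 = 1 from Subtype.ext (by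
        push_cast; norm_num [h4])))
    exact CfsgLib.Invol.isPGroup_two_closure_pair (hord a ha) (hord b hb) hk
  rw [hCU] at hC
  exact hC.of_equiv Subgroup.topEquiv

lemma mem_W_of_mem_R [Finite G] {q : G} (hq : q ∈ D) (hqR : q ∈ Rsub D d) : q ∈ Wset D d := by
  rw [mem_W_iff]
  refine ⟨⟨hq, R_fix hqR⟩, fun p hp ho => ?_⟩
  have h1 : (q * p) ^ 2 ∈ Rsub D d := by
    have h := R_conj hD hp.2 hqR
    rw [ri_inv hD hp.1] at h
    rw [show (q * p) ^ 2 = q * (p * q * p) by simp only [pow_two, mul_assoc]]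
    exact mul_mem hqR h
  have h2 : Odd (orderOf ((q * p) ^ 2)) := ho.2.2.2.of_dvd_nat (orderOf_pow_dvd 2)
  exact oddAdj_not_comm hD ho (commute_of_sq_eq_one (ri_sq hD hq) (ri_sq hD hp.1)
    (eq_one_of_odd_of_isPGroup (R_isPGroup hD) h1 h2))

lemma comm_mem {a b : G} (ha : a ∈ Rsub D d) (hb : b ∈ Rsub D d) (ha2 : a * a = 1)
    (hb2 : b * b = 1) : a * b * a * b ∈ ⁅Rsub D d, Rsub D d⁆ := by
  have h := Subgroup.commutator_mem_commutator ha hb
  rwa [commutatorElement_def, inv_eq_of_mul_eq_one_left ha2, inv_eq_of_mul_eq_one_left hb2] at h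

variable (hE : (sameCommutingSubgroup D d : Set G) = sameCommutingClass D d ∪ {1})
include hE

lemma Ed_cases {e : G} (he : e ∈ sameCommutingSubgroup D d) :
    e ∈ sameCommutingClass D d ∨ e = 1 := by
  have : e ∈ (sameCommutingSubgroup D d : Set G) := he
  rwa [hE] at this

lemma Ed_sq {e : G} (he : e ∈ sameCommutingSubgroup D d) : e * e = 1 := by
  rcases Ed_cases hD hE he with h | h
  · exact ri_sq hD h.1
  · rw [h, one_mul]

lemma near_R {v r : G} (hv : IsNearCentral D d v) (hr : r ∈ Rsub D d) :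
    v * r * v⁻¹ * r⁻¹ ∈ sameCommutingSubgroup D d := by
  induction hr using Subgroup.closure_induction with
  | mem w hw => exact hv.2 w hw
  | one => simp
  | mul a b ha _ iha ihb =>
    have h := Ed_comm_R hD ihb ha
    rw [show v * (a * b) * v⁻¹ * (a * b)⁻¹ =
      v * a * v⁻¹ * a⁻¹ * (a * (v * b * v⁻¹ * b⁻¹) * a⁻¹) by group, h, mul_inv_cancel_right]
    exact mul_mem iha ihb
  | inv a ha iha =>
    have h := Ed_comm_R hD (inv_mem iha) (inv_mem ha)
    rw [show v * a⁻¹ * v⁻¹ * a⁻¹⁻¹ = a⁻¹ * (v * a * v⁻¹ * a⁻¹)⁻¹ * a by group, h,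
      inv_mul_cancel_right]
    exact inv_mem iha

lemma near_comm_M (hd : d ∈ D) {v m : G} (hv : IsNearCentral D d v) (hm : m ∈ Msub D d) :
    v * m = m * v := by
  have h1 : ⁅Rsub D d, Rsub D d⁆ ≤ Subgroup.centralizer {v} := by
    refine Subgroup.commutator_le.2 fun r hr s hs => ?_
    rw [Subgroup.mem_centralizer_singleton_iff]
    have her := near_R hD hE hv hr
    have hes := near_R hD hE hv hs
    obtain ⟨e, he⟩ : ∃ e, e = v * r * v⁻¹ * r⁻¹ := ⟨_, rfl⟩
    obtain ⟨f, hf⟩ : ∃ f, f = v * s * v⁻¹ * s⁻¹ := ⟨_, rfl⟩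
    rw [← he] at her
    rw [← hf] at hes
    have hvr : v * r * v⁻¹ = e * r := by rw [he]; group
    have hvs : v * s * v⁻¹ = f * s := by rw [hf]; group
    have her' : ∀ x ∈ Rsub D d, Commute x e := fun x hx => Ed_comm_R hD her hx
    have hes' : ∀ x ∈ Rsub D d, Commute x f := fun x hx => Ed_comm_R hD hes hx
    have hm : ⁅r, s⁆ ∈ Rsub D d := by
      rw [commutatorElement_def]
      exact mul_mem (mul_mem (mul_mem hr hs) (inv_mem hr)) (inv_mem hs)
    have hx : r * f * s * r⁻¹ ∈ Rsub D d :=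
      mul_mem (mul_mem (mul_mem hr (Ed_le_R hD hd hes)) hs) (inv_mem hr)
    have key : v * ⁅r, s⁆ * v⁻¹ = ⁅r, s⁆ := by
      calc v * ⁅r, s⁆ * v⁻¹ = ⁅v * r * v⁻¹, v * s * v⁻¹⁆ := by
            simp only [commutatorElement_def]; group
        _ = ⁅e * r, f * s⁆ := by rw [hvr, hvs]
        _ = e * (r * f * s * r⁻¹) * e⁻¹ * s⁻¹ * f⁻¹ := by
            simp only [commutatorElement_def]; group
        _ = r * f * s * r⁻¹ * s⁻¹ * f⁻¹ := by rw [← (her' _ hx).eq, mul_inv_cancel_right]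
        _ = f * ⁅r, s⁆ * f⁻¹ := by
            rw [(hes' r hr).eq]; simp only [commutatorElement_def]; group
        _ = ⁅r, s⁆ := by rw [← (hes' _ hm).eq, mul_inv_cancel_right]
    exact (mul_inv_eq_iff_eq_mul.1 key).symm
  have h2 : sameCommutingSubgroup D d ≤ Subgroup.centralizer {v} := fun e he =>
    Subgroup.mem_centralizer_singleton_iff.2 (Ed_comm_R hD he hv.1).symm
  exact (Subgroup.mem_centralizer_singleton_iff.1 (sup_le h1 h2 hm)).symm

omit hE

variable [Finite G]

/-- The facts on `(k y)²` for `k ∈ E_d` and `y` with `d y` of order four. -/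
lemma rep_facts (hd : d ∈ D) {y k : G} (hy : y ∈ D) (hyd : d * y ≠ y * d) (hno : ¬ OddAdj D d y)
    (hk : k ∈ sameCommutingClass D d) :
    orderOf (k * y) = 4 ∧ (k * y) ^ 2 ∈ Wset D d ∧ (k * y) ^ 2 * y = y * (k * y) ^ 2 ∧
      (k * y) ^ 2 * k = k * (k * y) ^ 2 ∧ y * (k * y) ^ 2 ∈ D ∧
      y * k * y = k * (k * y) ^ 2 := by
  have hne : k * y ≠ y * k := fun h => by
    have : y ∈ commutingMembers D d := hk.2.symm ▸ (⟨hy, h.symm⟩ : y ∈ commutingMembers D k)
    exact hyd this.2.symm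
  have hno' : ¬ OddAdj D k y := fun h => hno (by
    have := lam_eq_of_cm hD hd hk.1 hk.2
    have h' : y ∈ Lam D d := this ▸ (show y ∈ Lam D k from h)
    exact h')
  have h4 := four_of_neither hD hk.1 hy hne hno'
  obtain ⟨hZ, hZk, hZy, hsq⟩ := four_facts hD hk.1 hy h4
  obtain ⟨hconj, -, hZkD⟩ := four_conj hD hk.1 hy h4
  obtain ⟨-, hyZ, -⟩ := four_conj hD hy hk.1 (four_symm hD h4)
  rw [← hsq] at hyZ
  refine ⟨h4, ?_, hZy, hZk, hyZ, hconj⟩
  rw [mem_W_iff, hk.2]
  exact ⟨⟨hZ, hZk⟩, fun q hq => not_oddAdj_of_partner hD hZ hk.1 hZk hZkD hq.1 hq.2⟩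

include hE

lemma rep_inj (hd : d ∈ D) {y k l : G} (hy : y ∈ D) (hyd : d * y ≠ y * d)
    (hno : ¬ OddAdj D d y) (hk : k ∈ sameCommutingClass D d) (hl : l ∈ sameCommutingClass D d)
    (h : (k * y) ^ 2 = (l * y) ^ 2) : k = l := by
  obtain ⟨-, hZW, -, -, -, hk'⟩ := rep_facts hD hd hy hyd hno hk
  obtain ⟨-, -, -, hZl, -, hl'⟩ := rep_facts hD hd hy hyd hno hl
  have e1 : y * (k * l) * y = k * l := by
    calc y * (k * l) * y = (y * k * y) * (y * l * y) := by
          simp only [mul_assoc]; rw [cancel_left (ri_sq hD hy)]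
      _ = k * (l * y) ^ 2 * (l * (l * y) ^ 2) := by rw [hk', hl', h]
      _ = k * l * ((l * y) ^ 2 * (l * y) ^ 2) := by
          rw [← mul_assoc, mul_assoc k _ l, hZl]; simp only [mul_assoc]
      _ = k * l := by
          rw [ri_sq hD (h ▸ W_mem hZW : (l * y) ^ 2 ∈ D), mul_one]
  by_contra hne
  rcases Ed_cases hD hE (mul_mem (Subgroup.subset_closure hk) (Subgroup.subset_closure hl) :
    k * l ∈ sameCommutingSubgroup D d) with he | he
  · have hc : y * (k * l) = k * l * y := by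
      calc y * (k * l) = y * (k * l) * y * y := by rw [mul_assoc _ y y, ri_sq hD hy, mul_one]
        _ = _ := by rw [e1]
    have : y ∈ commutingMembers D d := he.2.symm ▸ (⟨hy, hc⟩ : y ∈ commutingMembers D (k * l))
    exact hyd this.2.symm
  · exact hne (by rw [eq_inv_of_mul_eq_one_left he, ri_inv hD hl.1])

variable (hc : IsConnectedSet (OddAdj D) D)
include hc

/-- A member central modulo `E(d)` but outside `E_d` makes every member of `E_d` a commutator
and has its product with it in `D`. -/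
theorem mu (hd : d ∈ D) {v k : G} (hvW : v ∈ Wset D d) (hv : IsNearCentral D d v)
    (hvE : v ∉ sameCommutingClass D d) (hk : k ∈ sameCommutingClass D d) :
    ∃ Z ∈ Wset D d, (Z * v) ^ 2 = k ∧ orderOf (Z * v) = 4 ∧ v * k ∈ D := by
  have hvD := W_mem hvW
  obtain ⟨y, hy, hyd'⟩ : ∃ y ∈ Lam D v, y ∉ Lam D d := by
    by_contra hcon
    push Not at hcon
    exact hvE ⟨hvD, cm_eq_of_lam hD hc hd hvD (lam_eq_of_subset hD hc hvD hd hcon)⟩
  have hyD : y ∈ D := hy.2.1
  have hyd : d * y ≠ y * d := fun h => (mem_W_iff.1 hvW).2 y ⟨hyD, h.symm⟩ hy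
  have hZ : ∀ l ∈ sameCommutingClass D d, (l * y) ^ 2 ∈ Pset D y v ∧
      (l * y) ^ 2 ∈ Wset D d ∧ orderOf ((l * y) ^ 2 * v) = 4 ∧
      ((l * y) ^ 2 * v) ^ 2 ∈ sameCommutingClass D d := by
    intro l hl
    obtain ⟨-, hW, hc1, -, hmem, -⟩ := rep_facts hD hd hyD hyd hyd' hl
    have hne : (l * y) ^ 2 * v ≠ v * (l * y) ^ 2 := fun h =>
      not_oddAdj_of_partner hD hyD (W_mem hW) hc1.symm hmem hvD h.symm (oddAdj_symm hy)
    have h4 : orderOf ((l * y) ^ 2 * v) = 4 := (W_cases hD hW hvW).resolve_left hne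
    refine ⟨⟨W_mem hW, hc1.symm, hmem, h4⟩, hW, h4, ?_⟩
    obtain ⟨hD2, -, -, hsq⟩ := four_facts hD (W_mem hW) hvD h4
    have h := hv.2 _ hW
    rw [ri_inv hD hvD, ri_inv hD (W_mem hW)] at h
    have e : ((l * y) ^ 2 * v) ^ 2 = v * (l * y) ^ 2 * v * (l * y) ^ 2 := by
      rw [hsq]; simp only [pow_two, mul_assoc]
    refine (Ed_cases hD hE (e ▸ h)).resolve_right fun h1 => ?_
    rw [h1] at hD2
    exact ri_ne_one hD hD2 rfl
  haveI : Finite (sameCommutingClass D d) := Subtype.finite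
  let f : sameCommutingClass D d → sameCommutingClass D d := fun l =>
    ⟨(((l : G) * y) ^ 2 * v) ^ 2, (hZ l l.2).2.2.2⟩
  have hinj : Function.Injective f := by
    intro l m h
    have h' := psi_inj hD (oddAdj_symm hy) (hZ l l.2).1 (hZ m m.2).1 (congrArg Subtype.val h)
    exact Subtype.ext (rep_inj hD hE hd hyD hyd hyd' l.2 m.2 h')
  obtain ⟨l, hl⟩ := Finite.surjective_of_injective hinj ⟨k, hk⟩
  obtain ⟨-, hW, h4, -⟩ := hZ l l.2
  have hl' : (((l : G) * y) ^ 2 * v) ^ 2 = k := congrArg Subtype.val hl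
  refine ⟨_, hW, hl', h4, ?_⟩
  obtain ⟨-, hvk, -⟩ := four_conj hD hvD (W_mem hW) (four_symm hD h4)
  rw [← (four_facts hD (W_mem hW) hvD h4).2.2.2, hl'] at hvk
  exact hvk

omit hE in
/-- The auxiliary member opposite to `d` above a frame. -/
lemma exists_opposite (hd : d ∈ D) {y Z : G} (hy : y ∈ D) (h4 : orderOf (d * y) = 4)
    (hZ : Z = (d * y) ^ 2) :
    ∃ x ∈ D, OddAdj D d x ∧ d * x * d = x * d * x ∧ x * y = y * x ∧ x * y ∈ D ∧
      Z * x * Z = x * y := by
  obtain ⟨hZD, hZd, hZy, hsq⟩ := four_facts hD hd hy h4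
  obtain ⟨-, -, hZdD⟩ := four_conj hD hd hy h4
  obtain ⟨hdyd, hyZD, hZyD⟩ := four_conj hD hy hd (four_symm hD h4)
  rw [← hZ] at hZD hZd hZy hsq hZdD
  rw [← hsq] at hdyd hyZD hZyD
  obtain ⟨q, hq, hqy⟩ : ∃ q ∈ Lam D Z, q ∉ Lam D y := by
    by_contra hcon
    push Not at hcon
    have he := cm_eq_of_lam hD hc hy hZD (lam_eq_of_subset hD hc hZD hy hcon)
    have : d ∈ commutingMembers D y := he ▸ (⟨hd, hZd.symm⟩ : d ∈ commutingMembers D Z)
    exact not_comm_of_four hD hd hy h4 this.2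
  have hyq : orderOf (y * q) = 4 := by
    refine four_of_neither hD hy hq.2.1 (fun hcq => ?_) hqy
    exact not_oddAdj_of_partner hD hZD hy hZy hZyD hq.2.1 hcq.symm hq
  obtain ⟨x, ⟨hx, -, -, hxZ⟩, hxs⟩ :=
    psi_surj hD (oddAdj_symm hq) (show y ∈ Pset D Z q from ⟨hy, hZy, hZyD, hyq⟩)
  obtain ⟨-, hyx, -, hsq'⟩ := four_facts hD hx hZD hxZ
  obtain ⟨hZxZ, hxyD, -⟩ := four_conj hD hx hZD hxZ
  obtain ⟨hxZx, -, -⟩ := four_conj hD hZD hx (four_symm hD hxZ)
  rw [hxs] at hyx hZxZ hxyD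
  rw [← hsq', hxs] at hxZx
  obtain ⟨ho, h3⟩ := order_three hD (a := d) (b := Z) (s := y) (x := x) hd hZD hy hx hZd.symm hZy
    hdyd hyx.symm hxZx
  refine ⟨x, hx, ho, ?_, hyx.symm, hxyD, hZxZ⟩
  have h := pow_orderOf_eq_one (d * x)
  rw [h3 (hZd.symm ▸ hZdD)] at h
  have h' : d * x * d * (x * d * x) = 1 := by
    rw [← h]; simp only [pow_succ, pow_zero, one_mul, mul_assoc]
  rw [eq_inv_of_mul_eq_one_left h']
  simp only [mul_inv_rev, ri_inv hD hd, ri_inv hD hx, mul_assoc]

omit hE hc in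
/-- The map `η ↦ (η x)²` is induced by the swap of `d` and `x`. -/
lemma transport {x y η : G} (hx : OddAdj D d x) (hbr : d * x * d = x * d * x) (hy : y ∈ D)
    (hxy : x * y = y * x) (hxyD : x * y ∈ D)
    (hη : η = 1 ∨ η ∈ D ∧ d * η = η * d ∧ d * η ∈ D) (hηy : η * y = y * η) :
    ((η * x) ^ 2 = 1 ∨ (η * x) ^ 2 ∈ D) ∧ (η * x) ^ 2 * x = x * (η * x) ^ 2 ∧
      (η * x) ^ 2 * η = η * (η * x) ^ 2 ∧ (η * x) ^ 2 * d * (η * x) ^ 2 = d * η ∧
      x * η * x = η * (η * x) ^ 2 ∧ (d * x * d) * η * (d * x * d) = (η * x) ^ 2 := by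
  have hd := hx.1
  have hxD := hx.2.1
  rcases hη with rfl | ⟨hηD, hdη, hdηD⟩
  · simp only [one_mul, mul_one, pow_two, ri_sq hD hxD, true_or, and_true, true_and]
    simp only [mul_assoc, cancel_left (ri_sq hD hd), cancel_left (ri_sq hD hxD), ri_sq hD hd]
  have hnc : η * x ≠ x * η := fun h =>
    not_oddAdj_of_partner hD hd hηD hdη hdηD hxD h.symm hx
  have hno : ¬ OddAdj D η x := fun h =>
    not_oddAdj_of_partner hD hxD hy hxy hxyD hηD hηy (oddAdj_symm h)
  have h4 := four_of_neither hD hηD hxD hnc hno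
  have hP : η ∈ Pset D d x := ⟨hηD, hdη, hdηD, h4⟩
  obtain ⟨t, ht⟩ : ∃ t, t = (η * x) ^ 2 := ⟨_, rfl⟩
  obtain ⟨htD, htη, htx, -⟩ := four_facts hD hηD hxD h4
  obtain ⟨hxηx, -, -⟩ := four_conj hD hηD hxD h4
  rw [← ht] at htD htη htx hxηx
  have htP : t ∈ Pset D x d := ht ▸ psi_maps hD hx hP
  obtain ⟨htD', -, -, htd⟩ := htP
  have hψP : (t * d) ^ 2 ∈ Pset D d x := psi_maps hD (oddAdj_symm hx)
    (show t ∈ Pset D x d from ht ▸ psi_maps hD hx hP)
  obtain ⟨ψ, hψ⟩ : ∃ ψ, ψ = (t * d) ^ 2 := ⟨_, rfl⟩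
  obtain ⟨-, hψt, hψd, -⟩ := four_facts hD htD hd htd
  obtain ⟨hdtd, -, -⟩ := four_conj hD htD hd htd
  rw [← hψ] at hψt hψd hdtd hψP
  obtain ⟨hψD, -, -, hψx⟩ := hψP
  obtain ⟨hxψx, -, -⟩ := four_conj hD hψD hxD hψx
  obtain ⟨-, hψψ, -, -⟩ := four_facts hD hψD hxD hψx
  have hηd : d * η * d = η := by rw [hdη, mul_assoc, ri_sq hD hd, mul_one]
  have h1 : (d * x * d) * η * (d * x * d) = η * (t * ψ) := by
    calc (d * x * d) * η * (d * x * d) = d * (x * (d * η * d) * x) * d := by group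
      _ = d * (η * t) * d := by rw [hηd, hxηx]
      _ = (d * η * d) * (d * t * d) := by
          simp only [mul_assoc]; rw [cancel_left (ri_sq hD hd)]
      _ = _ := by rw [hηd, hdtd]
  have h2 : (d * x * d) * η * (d * x * d) = η * (ψ * (ψ * x) ^ 2) := by
    rw [hbr]
    calc (x * d * x) * η * (x * d * x) = x * (d * (x * η * x) * d) * x := by group
      _ = x * (η * (t * ψ)) * x := by
          rw [hxηx, show d * (η * t) * d = (d * η * d) * (d * t * d) by
            simp only [mul_assoc]; rw [cancel_left (ri_sq hD hd)], hηd, hdtd]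
      _ = (x * η * x) * (x * t * x) * (x * ψ * x) := by
          simp only [mul_assoc]; rw [cancel_left (ri_sq hD hxD), cancel_left (ri_sq hD hxD)]
      _ = η * t * t * (ψ * (ψ * x) ^ 2) := by
          rw [hxηx, hxψx, show x * t * x = t by
            rw [← htx, mul_assoc, ri_sq hD hxD, mul_one]]
      _ = _ := by rw [mul_assoc η t t, ri_sq hD htD, mul_one]
  have heq : t * ψ = ψ * (ψ * x) ^ 2 := mul_left_cancel (h1.symm.trans h2)
  rw [← hψt] at heq
  have hψη : ψ = η := psi_inj hD hx (show ψ ∈ Pset D d x by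
    rw [hψ]; exact psi_maps hD (oddAdj_symm hx) (ht ▸ psi_maps hD hx hP)) hP
    (show (ψ * x) ^ 2 = (η * x) ^ 2 by rw [← ht]; exact (mul_left_cancel heq).symm)
  rw [← ht]
  rw [hψη] at hdtd h1
  refine ⟨Or.inr htD, htx, htη, ?_, hxηx, ?_⟩
  · calc t * d * t = t * (d * t * d) * d := by
          simp only [mul_assoc]; rw [ri_sq hD hd, mul_one]
      _ = t * t * η * d := by rw [hdtd]; group
      _ = d * η := by rw [ri_sq hD htD, one_mul, hdη]
  · rw [h1, htη, ← mul_assoc, ri_sq hD hηD, one_mul]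

omit hE hc in
lemma braid_facts {z y : G} (hz : z ∈ D) (hy : y ∈ D) (hzy : z * y * z = y * z * y) :
    (z * y * z) * (z * y * z) = 1 ∧ (z * y * z) * z * (z * y * z) = y ∧
      (z * y * z) * y * (z * y * z) = z := by
  have hh : (z * y * z) * (z * y * z) = 1 := by
    simp only [mul_assoc]
    rw [cancel_left (ri_sq hD hz), cancel_left (ri_sq hD hy), ri_sq hD hz]
  have h1 : (z * y * z) * z * (z * y * z) = y := by
    calc (z * y * z) * z * (z * y * z) = z * (y * z * y) * z := by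
          simp only [mul_assoc]; rw [cancel_left (ri_sq hD hz)]
      _ = z * (z * y * z) * z := by rw [hzy]
      _ = y := by simp only [mul_assoc]; rw [cancel_left (ri_sq hD hz), ri_sq hD hz, mul_one]
  refine ⟨hh, h1, ?_⟩
  calc (z * y * z) * y * (z * y * z)
      = (z * y * z) * ((z * y * z) * z * (z * y * z)) * (z * y * z) := by rw [h1]
    _ = ((z * y * z) * (z * y * z)) * z * ((z * y * z) * (z * y * z)) := by group
    _ = z := by rw [hh, one_mul, mul_one]

omit hc in
/-- The swap `z y z` on `E(d)`. -/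
lemma frame_E (hd : d ∈ D) {z y e : G} (hzW : z ∈ Wset D d) (hz : IsNearCentral D d z)
    (hy : y ∈ D) (hyd : orderOf (d * y) = 4) (hzyo : OddAdj D z y)
    (hzy : z * y * z = y * z * y) (he : e ∈ sameCommutingClass D d) :
    (z * y * z) * e * (z * y * z) = (e * y) ^ 2 ∧ z * (e * y) ^ 2 * z = (e * y) ^ 2 * e := by
  have hnc := not_comm_of_four hD hd hy hyd
  have hno := not_oddAdj_of_four hD hyd
  obtain ⟨-, hZW, hZy, hZe, hyZD, hye⟩ := rep_facts hD hd hy hnc hno he
  obtain ⟨Z, hZ⟩ : ∃ Z, Z = (e * y) ^ 2 := ⟨_, rfl⟩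
  rw [← hZ] at hZW hZy hZe hyZD hye ⊢
  have hzD := W_mem hzW
  have hZD := W_mem hZW
  have hne : Z * z ≠ z * Z := fun h =>
    not_oddAdj_of_partner hD hy hZD hZy.symm hyZD hzD h.symm (oddAdj_symm hzyo)
  have h4 := (W_cases hD hZW hzW).resolve_left hne
  obtain ⟨m, hm⟩ : ∃ m, m = (Z * z) ^ 2 := ⟨_, rfl⟩
  obtain ⟨hzZz, -, -⟩ := four_conj hD hZD hzD h4
  obtain ⟨hmD, -, -, hsq⟩ := four_facts hD hZD hzD h4
  rw [← hm] at hzZz hmD hsq
  have hmE : m ∈ sameCommutingClass D d := by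
    have h := hz.2 _ hZW
    rw [ri_inv hD hzD, ri_inv hD hZD, show z * Z * z * Z = m by
      rw [hsq]; simp only [pow_two, mul_assoc]] at h
    exact (Ed_cases hD hE h).resolve_right fun h1 => ri_ne_one hD hmD h1
  obtain ⟨-, hZmW, -, hZmm, -, hym⟩ := rep_facts hD hd hy hnc hno hmE
  obtain ⟨Zm, hZm⟩ : ∃ Zm, Zm = (m * y) ^ 2 := ⟨_, rfl⟩
  rw [← hZm] at hZmW hZmm hym
  have hze : z * e * z = e := by
    rw [cm_ed hD he hzW.1, mul_assoc, ri_sq hD hzD, mul_one]
  have hZm' : Z * m = m * Z := cm_ed hD hmE hZW.1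
  have h1 : (z * y * z) * e * (z * y * z) = e * (Z * m) := by
    calc (z * y * z) * e * (z * y * z) = z * (y * (z * e * z) * y) * z := by group
      _ = z * (e * Z) * z := by rw [hze, hye]
      _ = (z * e * z) * (z * Z * z) := by
          simp only [mul_assoc]; rw [cancel_left (ri_sq hD hzD)]
      _ = _ := by rw [hze, hzZz]
  have h2 : (z * y * z) * e * (z * y * z) = e * (m * Zm) := by
    rw [hzy]
    calc (y * z * y) * e * (y * z * y) = y * (z * (y * e * y) * z) * y := by group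
      _ = y * (e * (Z * m)) * y := by
          rw [hye, show z * (e * Z) * z = (z * e * z) * (z * Z * z) by
            simp only [mul_assoc]; rw [cancel_left (ri_sq hD hzD)], hze, hzZz]
      _ = (y * e * y) * (y * Z * y) * (y * m * y) := by
          simp only [mul_assoc]; rw [cancel_left (ri_sq hD hy), cancel_left (ri_sq hD hy)]
      _ = e * Z * Z * (m * Zm) := by
          rw [hye, hym, show y * Z * y = Z by rw [← hZy, mul_assoc, ri_sq hD hy, mul_one]]
      _ = _ := by rw [mul_assoc e Z Z, ri_sq hD hZD, mul_one]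
  have heq : Z = Zm := mul_left_cancel ((hZm'.symm).trans (mul_left_cancel (h1.symm.trans h2)))
  have hme : e = m := rep_inj hD hE hd hy hnc hno he hmE (by rw [← hZ, ← hZm]; exact heq)
  rw [← hme] at hzZz h1
  refine ⟨?_, hzZz⟩
  rw [h1, hZe, ← mul_assoc, ri_sq hD he.1, one_mul]

/-- Pairwise commutators of isolated members lie in `E(d)`. -/
theorem no_bad (hd : d ∈ D) {a b : G} (ha : a ∈ Wset D d) (hb : b ∈ Wset D d)
    (hnear : ∀ w ∈ Wset D d, IsNearCentral D d (w * a * w * a))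
    (hbad : b * a * b * a ∉ sameCommutingSubgroup D d) : False := by
  have haD := W_mem ha
  have hbD := W_mem hb
  have hab4 : orderOf (a * b) = 4 := by
    refine (W_cases hD ha hb).resolve_left fun h => hbad ?_
    rw [mul_assoc b a b, h, ← mul_assoc b b a, ri_sq hD hbD, one_mul, ri_sq hD haD]
    exact one_mem _
  obtain ⟨hzD, -, -, hsq⟩ := four_facts hD haD hbD hab4
  obtain ⟨z, hz⟩ : ∃ z, z = a * b * (a * b) := ⟨_, rfl⟩
  rw [pow_two, ← hz] at hzD hsq
  have hzba : b * a * b * a = z := by rw [hsq]; simp only [pow_two, mul_assoc]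
  have hznear : IsNearCentral D d z := hzba ▸ hnear b hb
  rw [hzba] at hbad
  have hzW : z ∈ Wset D d := mem_W_of_mem_R hD hzD hznear.1
  have hzE : z ∉ sameCommutingClass D d := fun h => hbad (Subgroup.subset_closure h)
  have hdE : d ∈ sameCommutingClass D d := ⟨hd, rfl⟩
  obtain ⟨-, -, -, -, hzdD⟩ := mu hD hE hc hd hzW hznear hzE hdE
  have hdz : d ∈ productPartners D z := ⟨⟨hd, (W_comm hzW).symm, fun h => hzE (h ▸ hdE)⟩,
    by rw [← W_comm hzW]; exact hzdD⟩
  obtain ⟨y, ⟨hy, hdy⟩, ho3⟩ := exists_order_three hD hc hzD hdz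
    (fun h => hzE ⟨hzD, h.2.symm⟩)
  have hzyo : OddAdj D z y := ⟨hzD, hy, fun h => by
    rw [h, ri_sq hD hy, orderOf_one] at ho3
    omega, by rw [ho3]; decide⟩
  have hzy : z * y * z = y * z * y := by
    have h := pow_orderOf_eq_one (z * y)
    rw [ho3] at h
    have h' : z * y * z * (y * z * y) = 1 := by
      rw [← h]; simp only [pow_succ, pow_zero, one_mul, mul_assoc]
    rw [eq_inv_of_mul_eq_one_left h']
    simp only [mul_inv_rev, ri_inv hD hzD, ri_inv hD hy, mul_assoc]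
  obtain ⟨hh, hhz, hhy⟩ := braid_facts hD hzD hy hzy
  obtain ⟨h, hh'⟩ : ∃ h, h = z * y * z := ⟨_, rfl⟩
  rw [← hh'] at hh hhz hhy
  have hE1 : ∀ e ∈ sameCommutingClass D d, h * e * h = (e * y) ^ 2 ∧
      z * (e * y) ^ 2 * z = (e * y) ^ 2 * e := fun e he =>
    hh' ▸ frame_E hD hE hd hzW hznear hy hdy hzyo hzy he
  obtain ⟨Z, hZ⟩ : ∃ Z, Z = (d * y) ^ 2 := ⟨_, rfl⟩
  obtain ⟨hhdh, hzZz⟩ := hE1 d hdE
  rw [← hZ] at hhdh hzZz
  obtain ⟨-, hZW, hZy, hZd, hyZD, -⟩ :=
    rep_facts hD hd hy (not_comm_of_four hD hd hy hdy) (not_oddAdj_of_four hD hdy) hdE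
  rw [← hZ] at hZW hZy hZd hyZD
  have hZD := W_mem hZW
  have hhi : h⁻¹ = h := inv_eq_of_mul_eq_one_left hh
  have hcm : ∀ u ∈ D, u * Z = Z * u → ∀ e ∈ sameCommutingSubgroup D d,
      u * (h * e * h) = h * e * h * u := by
    intro u hu hcu e he
    rcases Ed_cases hD hE he with he | rfl
    · have h1 := cm_conj hD e h
      rw [← he.2, ← cm_conj hD d h, hhi, hhdh] at h1
      exact (h1 ▸ (⟨hu, hcu⟩ : u ∈ commutingMembers D Z) :
        u ∈ commutingMembers D (h * e * h)).2
    · simp [hh]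
  have hEh : ∀ e ∈ sameCommutingSubgroup D d, h * e * h ∈ Rsub D d ∧
      y * e * y = e * (h * e * h) ∧ z * (h * e * h) * z = h * e * h * e ∧
      y * (h * e * h) * y = h * e * h := by
    intro e he
    rcases Ed_cases hD hE he with he | rfl
    · obtain ⟨-, hW, hZy', -, -, hye⟩ :=
        rep_facts hD hd hy (not_comm_of_four hD hd hy hdy) (not_oddAdj_of_four hD hdy) he
      obtain ⟨h1, h2⟩ := hE1 e he
      rw [h1]
      exact ⟨W_subset_R hW, hye, h2, by rw [← hZy', mul_assoc, ri_sq hD hy, mul_one]⟩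
    · simp [hh, ri_sq hD hzD, ri_sq hD hy]
  have hconjh : ∀ {p q : G}, h * p * h * (h * q * h) = h * (p * q) * h := fun {p q} => by
    simp only [mul_assoc]; rw [cancel_left hh]
  -- the image of a commutator with `Z`
  have hZR := W_subset_R hZW
  have eta : ∀ w ∈ Wset D d, ∃ A η c : G, A = Z * w * Z * w ∧ η = h * A * h ∧
      c ∈ sameCommutingSubgroup D d ∧ η = A * (h * c * h) * c ∧ η * y = y * η ∧
      (η = 1 ∨ η ∈ D ∧ d * η = η * d ∧ d * η ∈ D) ∧ η ∈ Rsub D d ∧ Z * η = η * Z ∧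
      A ∈ ⁅Rsub D d, Rsub D d⁆ ∧ w * Z * w = Z * A := by
    intro w hw
    have hwD := W_mem hw
    obtain ⟨A, hA⟩ : ∃ A, A = Z * w * Z * w := ⟨_, rfl⟩
    have hAR : A ∈ ⁅Rsub D d, Rsub D d⁆ :=
      hA ▸ comm_mem hD hZR (W_subset_R hw) (ri_sq hD hZD) (ri_sq hD hwD)
    have hwZw : w * Z * w = Z * A := by
      rw [hA]; simp only [mul_assoc]; rw [cancel_left (ri_sq hD hZD)]
    have hcases : A = 1 ∨ A ∈ D ∧ Z * A = A * Z ∧ Z * A ∈ D ∧ A ≠ Z := by
      rcases W_cases hD hZW hw with h4 | h4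
      · left
        rw [hA, h4, mul_assoc w Z Z, ri_sq hD hZD, mul_one, ri_sq hD hwD]
      · right
        have e : A = (Z * w) ^ 2 := by rw [hA]; simp only [pow_two, mul_assoc]
        obtain ⟨h1, h2, -, -⟩ := four_facts hD hZD hwD h4
        obtain ⟨h3, h5, -⟩ := four_conj hD hZD hwD h4
        rw [← e] at h1 h2 h5
        refine ⟨h1, h2.symm, h5, fun hAZ => ?_⟩
        have := ri_ne_one hD (hD.conj_mem Z hZD w)
        rw [ri_inv hD hwD, hwZw, hAZ, ri_sq hD hZD] at this
        exact this rfl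
    obtain ⟨η, hη⟩ : ∃ η, η = h * A * h := ⟨_, rfl⟩
    have hη' : η = 1 ∨ η ∈ D ∧ d * η = η * d ∧ d * η ∈ D := by
      rcases hcases with rfl | ⟨h1, h2, h3, -⟩
      · left; rw [hη, mul_one, hh]
      · right
        have hhZh : h * Z * h = d := by
          rw [← hhdh]; simp only [mul_assoc]; rw [cancel_left hh, hh, mul_one]
        have hmem : ∀ u ∈ D, h * u * h ∈ D := fun u hu => by
          have := hD.conj_mem u hu h
          rwa [hhi] at this
        rw [hη, ← hhZh, hconjh, hconjh, h2]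
        exact ⟨hmem _ h1, rfl, h2 ▸ hmem _ h3⟩
    have hηR : η ∈ Rsub D d := by
      rcases hη' with h1 | ⟨h1, h2, h3⟩
      · rw [h1]; exact one_mem _
      · refine W_subset_R (mem_W_iff.2 ⟨⟨h1, h2.symm⟩, fun q hq => ?_⟩)
        exact not_oddAdj_of_partner hD h1 hd h2.symm (h2 ▸ h3) hq.1 hq.2
    have hη2 : η * η = 1 := by
      rcases hη' with h1 | ⟨h1, -⟩
      · rw [h1, one_mul]
      · exact ri_sq hD h1
    obtain ⟨c, hc'⟩ : ∃ c, c = η * z * η * z := ⟨_, rfl⟩
    have hcE : c ∈ sameCommutingSubgroup D d := by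
      have := inv_mem (near_R hD hE hznear hηR)
      rw [inv_eq_of_mul_eq_one_left hη2, ri_inv hD hzD] at this
      simp only [mul_inv_rev, inv_eq_of_mul_eq_one_left hη2, ri_inv hD hzD, ← mul_assoc] at this
      rwa [hc']
    have hA2 : A * A = 1 := by
      rcases hcases with h1 | ⟨h1, -⟩
      · rw [h1, one_mul]
      · exact ri_sq hD h1
    have hhηh : h * η * h = A := by
      rw [hη]; simp only [mul_assoc]; rw [cancel_left hh, hh, mul_one]
    have hch : h * c * h = A * y * A * y := by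
      rw [hc', ← hconjh, ← hconjh, ← hconjh, hhηh, hhz]
    have hyAy : y * A * y = A * (h * c * h) := by
      rw [hch]; simp only [mul_assoc]; rw [cancel_left hA2]
    have hzA : z * A * z = A := by
      rw [near_comm_M hD hE hd hznear (Subgroup.mem_sup_left hAR), mul_assoc, ri_sq hD hzD,
        mul_one]
    obtain ⟨hZcR, hyc, hzc, hyZc⟩ := hEh c hcE
    have hηform : η = A * (h * c * h) * c := by
      calc η = z * (y * (z * A * z) * y) * z := by rw [hη, hh']; group
        _ = z * (A * (h * c * h)) * z := by rw [hzA, hyAy]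
        _ = (z * A * z) * (z * (h * c * h) * z) := by
            simp only [mul_assoc]; rw [cancel_left (ri_sq hD hzD)]
        _ = _ := by rw [hzA, hzc, ← mul_assoc]
    refine ⟨A, η, c, hA, hη, hcE, hηform, ?_, hη', hηR, ?_, hAR, hwZw⟩
    have hyη : y * η * y = η := by
      calc y * η * y = (y * A * y) * (y * (h * c * h) * y) * (y * c * y) := by
            rw [hηform]; simp only [mul_assoc, cancel_left (ri_sq hD hy)]
        _ = A * (h * c * h) * (h * c * h) * (c * (h * c * h)) := by rw [hyAy, hyZc, hyc]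
        _ = A * ((h * c * h) * c) := by
            rw [mul_assoc A (h * c * h), hconjh, Ed_sq hD hE hcE, mul_one, hh, mul_one,
              Ed_comm_R hD hcE hZcR]
        _ = η := by rw [hηform]; simp only [mul_assoc]
    · calc η * y = y * η * y * y := by rw [hyη]
        _ = y * η := by rw [mul_assoc _ y y, ri_sq hD hy, mul_one]
    · have h1 : Commute Z A := by
        rcases hcases with h1 | ⟨-, h1, -⟩
        · rw [h1]; exact Commute.one_right Z
        · exact h1
      have h2 : Commute Z (h * c * h) := hcm Z hZD rfl c hcE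
      have h3 : Commute Z c := Ed_comm_R hD hcE hZR
      rw [hηform]
      exact ((h1.mul_right h2).mul_right h3).eq
  obtain ⟨x, hxD, hdx, hbr, hxy, hxyD, hZxZ⟩ := exists_opposite hD hc hd hy hdy hZ
  obtain ⟨A, ηA, cA, hAeq, hηA, hcA, hAform, hAy, hA', hηAR, hZηA, hAR', haZa⟩ := eta a ha
  obtain ⟨B, ηB, cB, hBeq, hηB, hcB, hBform, hBy, hB', hηBR, hZηB, hBR', hbZb⟩ := eta b hb
  have hA2 : IsNearCentral D d A := hAeq ▸ hnear Z hZW
  have hAB : A * B = B * A := near_comm_M hD hE hd hA2 (Subgroup.mem_sup_left hBR')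
  -- a commutator `[[Z,b],a]` lying in `E(d)` is trivial
  have key : ∀ {a A ηA cA B ηB cB : G}, a ∈ Wset D d → ηA = h * A * h →
      ηA * y = y * ηA → (ηA = 1 ∨ ηA ∈ D ∧ d * ηA = ηA * d ∧ d * ηA ∈ D) →
      a * Z * a = Z * A → cA ∈ sameCommutingSubgroup D d →
      ηB = h * B * h → cB ∈ sameCommutingSubgroup D d → ηB = B * (h * cB * h) * cB →
      ηB * y = y * ηB → (ηB = 1 ∨ ηB ∈ D ∧ d * ηB = ηB * d ∧ d * ηB ∈ D) →
      ηB ∈ Rsub D d → B ∈ ⁅Rsub D d, Rsub D d⁆ → A * B = B * A → B * B = 1 →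
      Z * ηA = ηA * Z → B * a * B * a ∈ sameCommutingSubgroup D d → B * a * B * a = 1 := by
    intro a A ηA cA B ηB cB ha hηA hAy hA' haZa hcA hηB hcB hBform hBy hB' hηBR hBR' hAB hB2 hZA he
    have haD := W_mem ha
    by_contra hne
    obtain ⟨e, he'⟩ : ∃ e, e = B * a * B * a := ⟨_, rfl⟩
    rw [← he'] at he hne
    have heC := (Ed_cases hD hE he).resolve_right hne
    obtain ⟨hv2, hvx, hvt, -, hxvx, hhv⟩ := transport hD hdx hbr hy hxy hxyD hB' hBy
    obtain ⟨ht2, htx, htη, htdt, hxηx, hht⟩ := transport hD hdx hbr hy hxy hxyD hA' hAy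
    obtain ⟨τ, hτ⟩ : ∃ τ, τ = (ηB * x) ^ 2 := ⟨_, rfl⟩
    obtain ⟨t, ht⟩ : ∃ t, t = (ηA * x) ^ 2 := ⟨_, rfl⟩
    rw [← hτ] at hv2 hvx hvt hxvx hhv
    rw [← ht] at ht2 htx htη htdt hxηx hht
    obtain ⟨g, hg⟩ : ∃ g, g = h * a * h := ⟨_, rfl⟩
    have hg2 : g * g = 1 := by rw [hg, hconjh, ri_sq hD haD, mul_one, hh]
    have hgd : g * d * g = d * ηA := by
      have hhZh : h * Z * h = d := by
        rw [← hhdh]; simp only [mul_assoc]; rw [cancel_left hh, hh, mul_one]
      calc g * d * g = h * (a * Z * a) * h := by rw [← hhdh, hg]; group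
        _ = h * Z * h * (h * A * h) := by rw [haZa, hconjh]
        _ = _ := by rw [hhZh, hηA]
    have hgv : g * ηB * g = ηB * (h * e * h) := by
      rw [hg, hηB, hconjh, hconjh, hconjh, he']
      simp only [mul_assoc]
      rw [cancel_left hB2]
    have hηAd : d * ηA = ηA * d := by
      rcases hA' with h1 | ⟨-, h1, -⟩
      · rw [h1, mul_one, one_mul]
      · exact h1
    have htt : t * t = 1 := by
      rcases ht2 with h1 | h1
      · rw [h1, one_mul]
      · exact ri_sq hD h1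
    have htηA : t * ηA * t = ηA := by rw [htη, mul_assoc, htt, mul_one]
    have hηA2 : ηA * ηA = 1 := by
      rcases hA' with h1 | ⟨h1, -⟩
      · rw [h1, one_mul]
      · exact ri_sq hD h1
    obtain ⟨u, hu⟩ : ∃ u, u = t * g := ⟨_, rfl⟩
    have hui : u⁻¹ = g * t := inv_eq_of_mul_eq_one_left (by
      rw [hu, mul_assoc, ← mul_assoc t, htt, one_mul, hg2])
    have hud : u * d = d * u := by
      have : u * d * u⁻¹ = d := by
        calc u * d * u⁻¹ = t * (g * d * g) * t := by rw [hui, hu]; group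
          _ = (t * d * t) * (t * ηA * t) := by
              rw [hgd]; simp only [mul_assoc]; rw [cancel_left htt]
          _ = d := by rw [htdt, htηA, mul_assoc, hηA2, mul_one]
      exact mul_inv_eq_iff_eq_mul.1 this
    -- `t` and `g` fix the images of `E(d)`
    have htZ : Z * t = t * Z := by
      have hc1 : Z * ηA = ηA * Z := hZA
      have h1 : Z * ηA * Z = ηA := by rw [hc1, mul_assoc, ri_sq hD hZD, mul_one]
      have hy1 : y * t = t * y := by
        rw [ht]; exact ((Commute.mul_right hAy.symm hxy.symm).pow_right 2).eq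
      have : Z * t * Z = t := by
        rw [ht, pow_two]
        calc Z * (ηA * x * (ηA * x)) * Z
            = (Z * ηA * Z) * (Z * x * Z) * ((Z * ηA * Z) * (Z * x * Z)) := by
              simp only [mul_assoc]; simp only [cancel_left (ri_sq hD hZD)]
          _ = ηA * x * (y * (ηA * x)) * y := by rw [h1, hZxZ]; simp only [mul_assoc]
          _ = ηA * x * (ηA * x) * (y * y) := by
              rw [(Commute.mul_right hAy.symm hxy.symm).eq]; simp only [mul_assoc]
          _ = _ := by rw [ri_sq hD hy, mul_one]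
      calc Z * t = Z * t * Z * Z := by rw [mul_assoc _ Z Z, ri_sq hD hZD, mul_one]
        _ = t * Z := by rw [this]
    have htE : ∀ e' ∈ sameCommutingSubgroup D d, t * (h * e' * h) * t = h * e' * h := by
      intro e' he'
      rcases ht2 with h1 | h1
      · rw [h1, one_mul, mul_one]
      · rw [hcm t h1 htZ.symm e' he', mul_assoc, htt, mul_one]
    have hgE : ∀ e' ∈ sameCommutingSubgroup D d, g * (h * e' * h) * g = h * e' * h := by
      intro e' he'
      rw [hg, hconjh, hconjh, Ed_comm_R hD he' (W_subset_R ha), mul_assoc e', ri_sq hD haD,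
        mul_one]
    have huE : ∀ e' ∈ sameCommutingSubgroup D d, u * (h * e' * h) * u⁻¹ = h * e' * h := by
      intro e' he'
      calc u * (h * e' * h) * u⁻¹ = t * (g * (h * e' * h) * g) * t := by rw [hui, hu]; group
        _ = _ := by rw [hgE e' he', htE e' he']
    have huv : u * ηB * u⁻¹ = t * ηB * t * (h * e * h) := by
      calc u * ηB * u⁻¹ = t * (g * ηB * g) * t := by rw [hui, hu]; group
        _ = (t * ηB * t) * (t * (h * e * h) * t) := by
            rw [hgv]; simp only [mul_assoc]; rw [cancel_left htt]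
        _ = _ := by rw [htE e he]
    obtain ⟨hZeR, -, hzZe, -⟩ := hEh e he
    obtain ⟨hZcR, -, -, -⟩ := hEh cB hcB
    have hsqE : ∀ e' ∈ sameCommutingSubgroup D d, h * e' * h * (h * e' * h) = 1 := fun e' he' => by
      rw [hconjh, Ed_sq hD hE he', mul_one, hh]
    have hγ : ηB * (u * ηB * u⁻¹) ∈ Msub D d := by
      have h1 : u * ηB * u⁻¹ = (u * B * u⁻¹) * (h * cB * h) * (u * cB * u⁻¹) := by
        conv_lhs => rw [hBform]
        nth_rewrite 2 [← huE cB hcB]
        group
      have hcc : cB * (u * B * u⁻¹) ∈ Msub D d :=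
        mul_mem (Subgroup.mem_sup_right hcB) (M_conj hD hud (Subgroup.mem_sup_left hBR'))
      rw [h1, hBform]
      have h2 : B * (h * cB * h) * cB * (u * B * u⁻¹ * (h * cB * h) * (u * cB * u⁻¹)) =
          B * ((h * cB * h) * (cB * (u * B * u⁻¹)) * (h * cB * h)⁻¹) * (u * cB * u⁻¹) := by
        rw [inv_eq_of_mul_eq_one_left (hsqE cB hcB)]; group
      rw [h2]
      exact mul_mem (mul_mem (Subgroup.mem_sup_left hBR') (M_conj hD (R_fix hZcR) hcc))
        (Subgroup.mem_sup_right (Ed_conj hD hud hcB))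
    obtain ⟨δ, hδ⟩ : ∃ δ, δ = ηB * t * ηB * t := ⟨_, rfl⟩
    obtain ⟨γ, hγ'⟩ : ∃ γ, γ = ηB * (u * ηB * u⁻¹) := ⟨_, rfl⟩
    rw [← hγ'] at hγ
    have hδγ : δ = γ * (h * e * h) := by
      rw [hγ', huv, hδ, mul_assoc ηB (t * ηB * t * (h * e * h)),
        mul_assoc (t * ηB * t) (h * e * h), hsqE e he, mul_one]
      simp only [mul_assoc]
    have hzδ : z * δ * z = δ * e := by
      rw [hδγ, ← mul_assoc, near_comm_M hD hE hd hznear hγ, mul_assoc γ z, mul_assoc γ, hzZe,
        ← mul_assoc]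
    have hδR : δ ∈ Rsub D d := by
      rw [hδγ]
      refine mul_mem ?_ hZeR
      exact (sup_le (Subgroup.commutator_le.2 fun r hr s hs => by
        rw [commutatorElement_def]
        exact mul_mem (mul_mem (mul_mem hr hs) (inv_mem hr)) (inv_mem hs)) (Ed_le_R hD hd)) hγ
    have hδ1 : δ ≠ 1 := fun h1 => hne (by
      rw [h1, mul_one, one_mul, ri_sq hD hzD] at hzδ
      exact hzδ.symm)
    rcases hB' with h1 | ⟨hvD, hdv, -⟩
    · exact hδ1 (by rw [hδ, h1, one_mul, mul_one, htt])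
    rcases ht2 with h1 | htD
    · exact hδ1 (by rw [hδ, h1]; simp only [mul_one]; exact ri_sq hD hvD)
    have hδsq : δ = (ηB * t) ^ 2 := by rw [hδ]; simp only [pow_two, mul_assoc]
    rcases hD.pair ηB hvD t htD with hvt' | hodd | ⟨-, hmem⟩
    · exact hδ1 (by rw [hδsq, (show Commute ηB t from hvt').mul_pow, pow_two, pow_two,
        ri_sq hD hvD, ri_sq hD htD, one_mul])
    · exact hδ1 (eq_one_of_odd_of_isPGroup (R_isPGroup hD) hδR
        (hδsq ▸ hodd.of_dvd_nat (orderOf_pow_dvd 2)))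
    rw [← hδsq] at hmem
    have heδ : e * δ = δ * e := (Ed_comm_R hD he hδR).symm
    have heδD : e * δ ∈ D := by
      rw [heδ, ← hzδ]
      have := hD.conj_mem δ hmem z
      rwa [ri_inv hD hzD] at this
    have hττ : t * τ = τ * t := by
      rw [← hht, ← hhv]
      have hdxd : d * x * d * (d * x * d) = 1 := by
        simp only [mul_assoc]
        rw [cancel_left (ri_sq hD hd), cancel_left (ri_sq hD hxD), ri_sq hD hd]
      have hηcomm : ηA * ηB = ηB * ηA := by rw [hηA, hηB, hconjh, hconjh, hAB]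
      calc d * x * d * ηA * (d * x * d) * (d * x * d * ηB * (d * x * d))
          = d * x * d * (ηA * ((d * x * d * (d * x * d)) * ηB)) * (d * x * d) := by group
        _ = d * x * d * (ηB * ((d * x * d * (d * x * d)) * ηA)) * (d * x * d) := by
            rw [hdxd, one_mul, one_mul, hηcomm]
        _ = _ := by group
    have hτ2 : τ * τ = 1 := by
      rcases hv2 with h1 | h1
      · rw [h1, one_mul]
      · exact ri_sq hD h1
    have hxδ : x * δ = δ * x := by
      have hxt : x * t * x = t := by rw [← htx, mul_assoc, ri_sq hD hxD, mul_one]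
      have : x * δ * x = δ := by
        calc x * δ * x = (x * ηB * x) * (x * t * x) * ((x * ηB * x) * (x * t * x)) := by
              rw [hδ]; simp only [mul_assoc]; simp only [cancel_left (ri_sq hD hxD)]
          _ = ηB * (τ * t) * (ηB * (τ * t)) := by rw [hxvx, hxt]; group
          _ = ηB * t * (τ * ηB) * (τ * t) := by rw [← hττ]; group
          _ = ηB * t * ηB * (τ * τ) * t := by rw [hvt]; group
          _ = δ := by rw [hτ2, mul_one, hδ]
      calc x * δ = x * δ * x * x := by rw [mul_assoc _ x x, ri_sq hD hxD, mul_one]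
        _ = δ * x := by rw [this]
    have hex : OddAdj D e x := by
      have := lam_eq_of_cm hD hd heC.1 heC.2
      exact (this ▸ (show x ∈ Lam D d from hdx) : x ∈ Lam D e)
    exact not_oddAdj_of_partner hD heC.1 hmem heδ heδD hxD hxδ hex
  -- the identity between the two commutators
  have hsqR : ∀ {w : G}, w ∈ Wset D d → ∀ {A : G}, A = Z * w * Z * w →
      A * A = 1 ∧ w * A = A * w ∧ Z * w * Z = w * A := by
    intro w hw A hA
    have hwD := W_mem hw
    rcases W_cases hD hZW hw with h4 | h4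
    · have h1 : A = 1 := by
        rw [hA, h4, mul_assoc w Z Z, ri_sq hD hZD, mul_one, ri_sq hD hwD]
      subst h1
      refine ⟨one_mul 1, by rw [mul_one, one_mul], ?_⟩
      rw [h4, mul_assoc, ri_sq hD hZD]
    · have e : A = (Z * w) ^ 2 := by rw [hA]; simp only [pow_two, mul_assoc]
      obtain ⟨h1, -, h2, -⟩ := four_facts hD hZD hwD h4
      obtain ⟨h3, -, -⟩ := four_conj hD hwD hZD (four_symm hD h4)
      rw [← (four_facts hD hZD hwD h4).2.2.2, ← e] at h3
      rw [← e] at h1 h2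
      exact ⟨ri_sq hD h1, h2.symm, h3⟩
  obtain ⟨hA11, haA, hZaZ⟩ := hsqR ha hAeq
  obtain ⟨hB11, hbB, hZbZ⟩ := hsqR hb hBeq
  obtain ⟨e1, he1'⟩ : ∃ e1, e1 = A * b * A * b := ⟨_, rfl⟩
  obtain ⟨C, hC'⟩ : ∃ C, C = B * a * B * a := ⟨_, rfl⟩
  have he1 : e1 ∈ sameCommutingSubgroup D d := by
    have := hA2.2 b hb
    rwa [ri_inv hD hbD, inv_eq_of_mul_eq_one_left hA11, ← he1'] at this
  have hRR : ⁅Rsub D d, Rsub D d⁆ ≤ Rsub D d := Subgroup.commutator_le.2 fun r hr s hs => by
    rw [commutatorElement_def]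
    exact mul_mem (mul_mem (mul_mem hr hs) (inv_mem hr)) (inv_mem hs)
  have hBR := hRR hBR'
  have haR := W_subset_R ha
  have hbR := W_subset_R hb
  have hCM : C ∈ ⁅Rsub D d, Rsub D d⁆ := hC' ▸ comm_mem hD hBR haR hB11 (ri_sq hD haD)
  have hzd : Z * z * Z = z * d := by
    have h1 : z * Z * z * Z = d := by
      rw [hzZz, mul_assoc, ← hZd, ← mul_assoc, ri_sq hD hZD, one_mul]
    calc Z * z * Z = z * (z * Z * z * Z) := by
          simp only [mul_assoc]; rw [cancel_left (ri_sq hD hzD)]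
      _ = _ := by rw [h1]
  have hAb : ∀ w, A * (b * w) = b * (A * (e1 * w)) := fun w => by
    rw [he1']; simp only [mul_assoc]; rw [cancel_left hA11, cancel_left (ri_sq hD hbD)]
  have hBa : ∀ w, B * (a * w) = a * (B * (C * w)) := fun w => by
    rw [hC']; simp only [mul_assoc]; rw [cancel_left hB11, cancel_left (ri_sq hD haD)]
  have hAa : ∀ w, A * (a * w) = a * (A * w) := fun w => by rw [← mul_assoc, ← haA, mul_assoc]
  have hBb : ∀ w, B * (b * w) = b * (B * w) := fun w => by rw [← mul_assoc, ← hbB, mul_assoc]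
  have hABw : ∀ w, A * (B * w) = B * (A * w) := fun w => by rw [← mul_assoc, hAB, mul_assoc]
  have hAC : ∀ w, A * (C * w) = C * (A * w) := fun w => by
    rw [← mul_assoc, near_comm_M hD hE hd hA2 (Subgroup.mem_sup_left hCM), mul_assoc]
  have he1c : ∀ r ∈ Rsub D d, ∀ w, e1 * (r * w) = r * (e1 * w) := fun r hr w => by
    rw [← mul_assoc, ← Ed_comm_R hD he1 hr, mul_assoc]
  have hCR := hRR hCM
  have hexp : Z * z * Z = z * (B * (b * C * b) * B) * e1 := by
    calc Z * z * Z = (Z * a * Z) * (Z * b * Z) * ((Z * a * Z) * (Z * b * Z)) := by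
          rw [hz]; simp only [mul_assoc]; simp only [cancel_left (ri_sq hD hZD)]
      _ = a * (A * (b * (B * (a * (A * (b * B)))))) := by
          rw [hZaZ, hZbZ]; simp only [mul_assoc]
      _ = a * (b * (A * (B * (a * (A * (b * (B * e1))))))) := by
          rw [hAb, he1c B hBR, he1c a haR, he1c A hA2.1, he1c b hbR,
            ← Ed_comm_R hD he1 hBR]
      _ = a * (b * (A * (a * (B * (C * (A * (b * (B * e1)))))))) := by rw [hBa]
      _ = a * (b * (a * (B * (C * (A * (A * (b * (B * e1)))))))) := by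
          rw [hAa, hABw, hAC]
      _ = a * (b * (a * (B * (C * (b * (B * e1)))))) := by rw [cancel_left hA11]
      _ = a * (b * (a * (b * (B * (b * (C * (b * (B * e1)))))))) := by
          rw [hBb, cancel_left (ri_sq hD hbD)]
      _ = _ := by rw [hz]; simp only [mul_assoc]
  rw [hzd, mul_assoc] at hexp
  have hd' : d = B * (b * C * b) * B * e1 := mul_left_cancel hexp
  have hCe : B * (b * C * b) * B = d * e1 := by
    conv_rhs => rw [hd', mul_assoc, Ed_sq hD hE he1, mul_one]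
  have hde : d * e1 ∈ sameCommutingSubgroup D d :=
    mul_mem (Subgroup.subset_closure hdE) he1
  have hC : C = d * e1 := by
    calc C = b * (B * (B * (b * C * b) * B) * B) * b := by
          simp only [mul_assoc]
          simp only [cancel_left hB11, cancel_left (ri_sq hD hbD), ri_sq hD hbD, mul_one]
      _ = b * (B * (d * e1) * B) * b := by rw [hCe]
      _ = _ := by
          rw [Ed_comm_R hD hde hBR, mul_assoc (d * e1), hB11, mul_one, Ed_comm_R hD hde hbR,
            mul_assoc, ri_sq hD hbD, mul_one]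
  have k1 : C = 1 := hC' ▸ key ha hηA hAy hA' haZa hcA hηB hcB hBform hBy hB' hηBR hBR' hAB hB11
    hZηA (hC' ▸ hC ▸ hde)
  have k2 : e1 = 1 := he1' ▸ key hb hηB hBy hB' hbZb hcB hηA hcA hAform hAy hA' hηAR hAR'
    hAB.symm hA11 hZηB (he1' ▸ he1)
  rw [k1, k2, mul_one] at hC
  exact ri_ne_one hD hd hC.symm

/-- The group of isolated members has class two modulo nothing: its derived group is in `E(d)`. -/
theorem pair_comm_mem (hd : d ∈ D) {a b : G} (ha : a ∈ Wset D d) (hb : b ∈ Wset D d) :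
    b * a * b * a ∈ sameCommutingSubgroup D d := by
  by_contra hbad
  have key : ∀ n, ∃ v : Rsub D d, (v : G) ∈ Wset D d ∧
      v ∈ Subgroup.lowerCentralSeries (⊤ : Subgroup (Rsub D d)) n ∧
      ∃ w ∈ Wset D d, w * (v : G) * w * (v : G) ∉ sameCommutingSubgroup D d := by
    intro n
    induction n with
    | zero => exact ⟨⟨a, W_subset_R ha⟩, ha, Subgroup.mem_top _, b, hb, hbad⟩
    | succ n ih =>
      obtain ⟨v, hvW, hvn, u, hu, huv⟩ := ih
      by_cases hnear : ∀ w ∈ Wset D d, IsNearCentral D d (w * (v : G) * w * (v : G))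
      · exact (no_bad hD hE hc hd hvW hu hnear huv).elim
      push Not at hnear
      obtain ⟨w, hw, hwn⟩ := hnear
      have hvD := W_mem hvW
      have hwD := W_mem hw
      have hR : w * (v : G) * w * (v : G) ∈ Rsub D d :=
        mul_mem (mul_mem (mul_mem (W_subset_R hw) v.2) (W_subset_R hw)) v.2
      rcases W_cases hD hw hvW with h4 | h4
      · refine absurd ?_ hwn
        have h1 : w * (v : G) * w * (v : G) = 1 := by
          rw [h4, mul_assoc (v : G) w w, ri_sq hD hwD, mul_one, ri_sq hD hvD]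
        rw [h1]
        exact ⟨one_mem _, fun q _ => by simp⟩
      · have hD' : w * (v : G) * w * (v : G) ∈ D := by
          rw [show w * (v : G) * w * (v : G) = (w * v) ^ 2 by simp only [pow_two, mul_assoc]]
          exact (four_facts hD hwD hvD h4).1
        have hmem := mem_W_of_mem_R hD hD' hR
        obtain ⟨w', hw', hbad'⟩ : ∃ w' ∈ Wset D d, w * (v : G) * w * (v : G) * w' *
            (w * (v : G) * w * (v : G))⁻¹ * w'⁻¹ ∉ sameCommutingSubgroup D d := by
          by_contra hcon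
          push Not at hcon
          exact hwn ⟨hR, hcon⟩
        refine ⟨⟨_, hR⟩, hmem, ?_, w', hw', fun h => hbad' ?_⟩
        · have e : (⟨w * (v : G) * w * (v : G), hR⟩ : Rsub D d) = ⁅(⟨w, W_subset_R hw⟩ : Rsub D d), v⁆ :=
            Subtype.ext (by
              simp only [commutatorElement_def, Subgroup.coe_mul, InvMemClass.coe_inv,
                ri_inv hD hvD, ri_inv hD hwD])
          rw [e, Subgroup.lowerCentralSeries_succ, ← commutatorElement_inv]
          exact inv_mem (Subgroup.commutator_mem_commutator hvn (Subgroup.mem_top _))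
        · have hXi := ri_inv hD hD'
          have h' : (w' * (w * (v : G) * w * (v : G)) * w' * (w * (v : G) * w * (v : G)))⁻¹ ∈
              sameCommutingSubgroup D d := inv_mem h
          generalize w * (v : G) * w * (v : G) = X at h' hXi ⊢
          simp only [mul_inv_rev, ri_inv hD (W_mem hw'), hXi, ← mul_assoc] at h'
          rw [ri_inv hD (W_mem hw'), hXi]
          exact h'
  haveI : Fact (Nat.Prime 2) := ⟨Nat.prime_two⟩
  haveI : Group.IsNilpotent (Rsub D d) := (R_isPGroup hD).isNilpotent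
  obtain ⟨v, hvW, hvn, -⟩ := key (Group.nilpotencyClass (Rsub D d))
  rw [Subgroup.lowerCentralSeries_nilpotencyClass, Subgroup.mem_bot] at hvn
  exact ri_ne_one hD (W_mem hvW) (by rw [hvn]; rfl)

lemma nearCentral_of_W (hd : d ∈ D) {v : G} (hv : v ∈ Wset D d) : IsNearCentral D d v := by
  refine ⟨W_subset_R hv, fun w hw => ?_⟩
  rw [ri_inv hD (W_mem hv), ri_inv hD (W_mem hw)]
  exact pair_comm_mem hD hE hc hd hw hv

/-- The isolated members are `d` and its product partners. -/
theorem W_eq (hd : d ∈ D) : Wset D d = productPartners D d ∪ {d} := by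
  refine Set.Subset.antisymm (fun v hv => ?_) ?_
  · by_cases hvd : v = d
    · exact Or.inr hvd
    refine Or.inl ⟨⟨W_mem hv, W_comm hv, hvd⟩, ?_⟩
    by_cases hvE : v ∈ sameCommutingClass D d
    · have := mul_mem (Subgroup.subset_closure hvE : v ∈ sameCommutingSubgroup D d)
        (Subgroup.subset_closure (show d ∈ sameCommutingClass D d from ⟨hd, rfl⟩))
      exact ((Ed_cases hD hE this).resolve_right fun h =>
        hvd (by rw [eq_inv_of_mul_eq_one_left h, ri_inv hD hd])).1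
    · obtain ⟨-, -, -, -, h⟩ :=
        mu hD hE hc hd hv (nearCentral_of_W hD hE hc hd hv) hvE ⟨hd, rfl⟩
      exact h
  · rintro v (⟨⟨hvD, hvd, -⟩, hvdD⟩ | rfl)
    · exact mem_W_iff.2 ⟨⟨hvD, hvd⟩, fun q hq => not_oddAdj_of_partner hD hvD hd hvd hvdD hq.1 hq.2⟩
    · exact Ec_subset_W hD hd ⟨hd, rfl⟩

/-- The commutator subgroup is `E(d)`, given a member outside `E_d`. -/
theorem commutator_eq (hd : d ∈ D) (hne : ∃ v ∈ Wset D d, v ∉ sameCommutingClass D d) :
    ⁅Rsub D d, Rsub D d⁆ = sameCommutingSubgroup D d := by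
  refine le_antisymm (Subgroup.commutator_le.2 fun r hr s hs => ?_) ?_
  · have hr' : IsNearCentral D d r := by
      refine ⟨hr, fun w hw => ?_⟩
      have := inv_mem (near_R hD hE (nearCentral_of_W hD hE hc hd hw) hr)
      simpa only [mul_inv_rev, inv_inv, ← mul_assoc] using this
    exact (commutatorElement_def r s).symm ▸ near_R hD hE hr' hs
  · refine (Subgroup.closure_le _).2 fun k hk => ?_
    obtain ⟨v, hv, hvE⟩ := hne
    obtain ⟨Z, hZ, he, -⟩ := mu hD hE hc hd hv (nearCentral_of_W hD hE hc hd hv) hvE hk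
    rw [pow_two, ← mul_assoc] at he
    exact he ▸ comm_mem hD (W_subset_R hZ) (W_subset_R hv) (ri_sq hD (W_mem hZ))
      (ri_sq hD (W_mem hv))

/-- The central members are those in `E_d`. -/
theorem central_eq (hd : d ∈ D) :
    sameCommutingClass D d =
      {e | e ∈ D ∧ e ∈ Rsub D d ∧ ∀ y ∈ Rsub D d, e * y = y * e} := by
  ext e
  refine ⟨fun he => ⟨he.1, W_subset_R (Ec_subset_W hD hd he), fun y hy =>
    (Ed_comm_R hD (Subgroup.subset_closure he) hy).symm⟩, fun ⟨he, heR, hcen⟩ => ?_⟩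
  have hW := mem_W_of_mem_R hD he heR
  by_contra hcon
  obtain ⟨Z, hZ, -, h4, -⟩ := mu hD hE hc hd hW (nearCentral_of_W hD hE hc hd hW) hcon ⟨hd, rfl⟩
  exact not_comm_of_four hD (W_mem hZ) he h4 (hcen Z (W_subset_R hZ)).symm

omit hE hc

/-- A class with trivial `O₂` and some odd product has connected odd graph. -/
theorem connected (hcl : IsRootInvolutionClass D) (hO : pCore 2 G = ⊥)
    (hodd : ∃ a b, OddAdj D a b) : IsConnectedSet (OddAdj D) D := by
  obtain ⟨a0, b0, h0⟩ := hodd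
  have hne : ∀ a ∈ D, ∃ y, OddAdj D a y := fun a ha => by
    obtain ⟨g, rfl⟩ := hcl.2.2 a0 h0.1 a ha
    exact ⟨_, oddAdj_conj hD h0 g⟩
  have hiso : Subgroup.closure {w | IsIsolatedElem (OddAdj D) D w} = ⊥ := by
    rw [Subgroup.closure_eq_bot_iff]
    intro w hw
    obtain ⟨y, hy⟩ := hne w hw.1
    exact absurd hy (hw.2 y).1
  intro a ha b hb
  have hcomm : ∀ u ∈ D, ∀ v ∈ D, ¬ Relation.ReflTransGen (OddAdj D) u v → u * v = v * u := by
    intro u hu v hv huv
    have h := component_commutator hD hu hv (hne u hu) (hne v hv) huv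
    rw [hiso, Subgroup.mem_bot, mul_inv_eq_one, mul_inv_eq_iff_eq_mul] at h
    exact h
  have hmove : ∀ g ∈ D, ∀ v ∈ D, Relation.ReflTransGen (OddAdj D) v (g * v * g⁻¹) := by
    intro g hg v hv
    by_cases hgv : Relation.ReflTransGen (OddAdj D) v g
    · have h2 : Relation.ReflTransGen (OddAdj D) (g * v * g⁻¹) (g * g * g⁻¹) :=
        hgv.lift (fun w => g * w * g⁻¹) (fun x y h => oddAdj_conj hD h g)
      rw [show g * g * g⁻¹ = g by group] at h2
      exact hgv.trans (oddReach_symm h2)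
    · rw [← hcomm v hv g hg hgv, mul_inv_cancel_right]
  obtain ⟨g, rfl⟩ := hcl.2.2 a ha b hb
  clear hb
  have hall : ∀ v ∈ D, Relation.ReflTransGen (OddAdj D) v (g * v * g⁻¹) := by
    have hg : g ∈ Subgroup.closure D := hD.generates.symm ▸ Subgroup.mem_top g
    induction hg using Subgroup.closure_induction_left with
    | one => intro v _; simpa using Relation.ReflTransGen.refl
    | mul_left x hx w _ ih =>
      intro v hv
      rw [show x * w * v * (x * w)⁻¹ = x * (w * v * w⁻¹) * x⁻¹ by group]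
      exact (ih v hv).trans (hmove x hx _ (hD.conj_mem v hv w))
    | inv_mul_cancel x hx w _ ih =>
      intro v hv
      rw [ri_inv hD hx, show x * w * v * (x * w)⁻¹ = x * (w * v * w⁻¹) * x⁻¹ by group]
      exact (ih v hv).trans (hmove x hx _ (hD.conj_mem v hv w))
  exact hall a ha

/-- The root structure theorem. -/
theorem main (hnd : IsNondegenerateRootInvolutionSet D) (hcl : IsRootInvolutionClass D)
    (hO : pCore 2 G = ⊥)
    (hE : ∀ d ∈ D, (sameCommutingSubgroup D d : Set G) = sameCommutingClass D d ∪ {1})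
    (hd : d ∈ D) :
    Subgroup.closure (Wset D d) = Subgroup.closure (productPartners D d ∪ {d}) ∧
      D ∩ (Subgroup.closure (productPartners D d ∪ {d}) : Set G) = productPartners D d ∪ {d} ∧
      ⁅Subgroup.closure (productPartners D d ∪ {d}), Subgroup.closure (productPartners D d ∪ {d})⁆ =
        sameCommutingSubgroup D d ∧
      sameCommutingClass D d = {e | e ∈ D ∧ e ∈ Subgroup.closure (productPartners D d ∪ {d}) ∧
        ∀ y ∈ Subgroup.closure (productPartners D d ∪ {d}), e * y = y * e} := by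
  obtain ⟨-, -, ⟨a0, ha0, b0, hb0, hab0, hodd⟩, u, hu, v, hv, huv⟩ := hnd
  have hc := connected hD hcl hO ⟨a0, b0, ha0, hb0, hab0, hodd⟩
  have hW := W_eq hD (hE d hd) hc hd
  have hne : ∃ w ∈ Wset D d, w ∉ sameCommutingClass D d := by
    obtain ⟨hzD, hzu, hzv, -⟩ := four_facts hD hu hv huv
    obtain ⟨-, -, hzuD⟩ := four_conj hD hu hv huv
    obtain ⟨g, hg⟩ := hcl.2.2 _ hzD d hd
    have hgu : g * u * g⁻¹ * d = d * (g * u * g⁻¹) := by
      rw [hg]
      calc g * u * g⁻¹ * (g * (u * v) ^ 2 * g⁻¹) = g * (u * (u * v) ^ 2) * g⁻¹ := by group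
        _ = g * ((u * v) ^ 2 * u) * g⁻¹ := by rw [hzu]
        _ = _ := by group
    refine ⟨g * u * g⁻¹, mem_W_iff.2 ⟨⟨hD.conj_mem u hu g, hgu⟩, fun q hq => ?_⟩, fun hcon => ?_⟩
    · refine not_oddAdj_of_partner hD (hD.conj_mem u hu g) hd hgu ?_ hq.1 hq.2
      rw [hgu, hg, show g * (u * v) ^ 2 * g⁻¹ * (g * u * g⁻¹) = g * ((u * v) ^ 2 * u) * g⁻¹ by group]
      exact hD.conj_mem _ hzuD g
    · have h1 : g * v * g⁻¹ ∈ commutingMembers D d := by
        refine ⟨hD.conj_mem v hv g, ?_⟩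
        rw [hg]
        calc g * v * g⁻¹ * (g * (u * v) ^ 2 * g⁻¹) = g * (v * (u * v) ^ 2) * g⁻¹ := by group
          _ = g * ((u * v) ^ 2 * v) * g⁻¹ := by rw [hzv]
          _ = _ := by group
      have h2 := (hcon.2 ▸ h1 : g * v * g⁻¹ ∈ commutingMembers D (g * u * g⁻¹)).2
      apply not_comm_of_four hD hu hv huv
      have h3 := congrArg (fun w => g⁻¹ * w * g) h2
      simp only [mul_assoc, inv_mul_cancel_left, inv_mul_cancel, mul_one] at h3
      exact h3.symm
  have h3 := commutator_eq hD (hE d hd) hc hd hne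
  have h4 := central_eq hD (hE d hd) hc hd
  rw [← hW]
  refine ⟨rfl, ?_, h3, h4⟩
  exact Set.Subset.antisymm (fun q hq => mem_W_of_mem_R hD hq.1 hq.2)
    fun q hq => ⟨W_mem hq, W_subset_R hq⟩

end CfsgLib.RootSub.RIStructure
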