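/-
The relations of a special pair of one parameter groups over a prime field determine the
generated group up to the central extension SL₂(p) → PSL₂(p).
-/
import Cfsg.Prelude.Def_RootSubgroups

set_option autoImplicit false

namespace CfsgLib.RootSub

/-- Two one parameter subgroups over `ZMod p` with the rank one braid relation. -/
structure SL2Rel (p : ℕ) (G : Type*) [Group G] where
  /-- upper parameter group -/
  u : ZMod p → G
  /-- lower parameter group -/
  l : ZMod p → G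
  u_add : ∀ s t, u (s + t) = u s * u t
  l_add : ∀ s t, l (s + t) = l s * l t
  braid : ∀ t, t ≠ 0 → u t * l (-t⁻¹) * u t = l (-t⁻¹) * u t * l (-t⁻¹)

namespace SL2Rel

variable {p : ℕ} [Fact p.Prime] {G : Type*} [Group G] (R : SL2Rel p G)

/-- The subgroup generated by both parameter groups. -/
def span : Subgroup G := Subgroup.closure (Set.range R.u ∪ Set.range R.l)

lemma u_mem (s : ZMod p) : R.u s ∈ R.span := Subgroup.subset_closure (Or.inl ⟨s, rfl⟩)
lemma l_mem (s : ZMod p) : R.l s ∈ R.span := Subgroup.subset_closure (Or.inr ⟨s, rfl⟩)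

lemma u_zero : R.u 0 = 1 := by simpa using R.u_add 0 0
lemma l_zero : R.l 0 = 1 := by simpa using R.l_add 0 0
lemma u_neg (s : ZMod p) : R.u (-s) = (R.u s)⁻¹ := by
  rw [eq_inv_iff_mul_eq_one, ← R.u_add, neg_add_cancel, R.u_zero]
lemma l_neg (s : ZMod p) : R.l (-s) = (R.l s)⁻¹ := by
  rw [eq_inv_iff_mul_eq_one, ← R.l_add, neg_add_cancel, R.l_zero]

/-- The Weyl element. -/
def w (t : ZMod p) : G := R.u t * R.l (-t⁻¹) * R.u t

lemma w_alt {t : ZMod p} (ht : t ≠ 0) : R.w t = R.l (-t⁻¹) * R.u t * R.l (-t⁻¹) := R.braid t ht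

lemma w_neg (t : ZMod p) : R.w (-t) = (R.w t)⁻¹ := by
  simp only [w, inv_neg, mul_inv_rev, ← R.u_neg, ← R.l_neg, neg_neg, mul_assoc]

lemma w_conj_self {t : ZMod p} (ht : t ≠ 0) : R.w t * R.u t * (R.w t)⁻¹ = R.l (-t⁻¹) := by
  have h := R.braid t ht
  calc R.w t * R.u t * (R.w t)⁻¹
      = (R.u t * R.l (-t⁻¹) * R.u t) * (R.l (-t⁻¹))⁻¹ * (R.u t)⁻¹ := by rw [w]; group
    _ = (R.l (-t⁻¹) * R.u t * R.l (-t⁻¹)) * (R.l (-t⁻¹))⁻¹ * (R.u t)⁻¹ := by rw [h]
    _ = _ := by group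

/-- Two additive families agreeing at a non-zero argument agree. -/
lemma add_family_ext (f g : ZMod p → G) (hf : ∀ s t, f (s + t) = f s * f t)
    (hg : ∀ s t, g (s + t) = g s * g t) {t : ZMod p} (ht : t ≠ 0) (h : f t = g t) (s : ZMod p) :
    f s = g s := by
  have key : ∀ n : ℕ, f (n * t) = g (n * t) := by
    intro n
    induction n with
    | zero =>
      have h1 := hf 0 0; have h2 := hg 0 0
      simp only [add_zero, left_eq_mul] at h1 h2
      simp [h1, h2]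
    | succ n ih => rw [Nat.cast_succ, add_mul, one_mul, hf, hg, ih, h]
  have : s = ((s / t).val : ZMod p) * t := by
    rw [ZMod.natCast_zmod_val, div_mul_cancel₀ _ ht]
  rw [this]; exact key _

lemma w_conj_u {t : ZMod p} (ht : t ≠ 0) (s : ZMod p) :
    R.w t * R.u s * (R.w t)⁻¹ = R.l (-(s / (t * t))) := by
  refine add_family_ext (fun s => R.w t * R.u s * (R.w t)⁻¹) (fun s => R.l (-(s / (t * t))))
    (fun a b => ?_) (fun a b => ?_) ht ?_ s
  · simp only [R.u_add]; group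
  · simp only [← R.l_add]; congr 1; ring
  · simp only [R.w_conj_self ht]; congr 1; field_simp

lemma w_conj_l {t : ZMod p} (ht : t ≠ 0) (s : ZMod p) :
    R.w t * R.l s * (R.w t)⁻¹ = R.u (-(s * (t * t))) := by
  have h := R.w_conj_u (neg_ne_zero.2 ht) (-(s * (t * t)))
  rw [R.w_neg, inv_inv, show -(-(s * (t * t)) / (-t * -t)) = s by field_simp] at h
  rw [← h]; group

lemma w_conj_w {s t : ZMod p} (hs : s ≠ 0) (ht : t ≠ 0) :
    R.w s * R.w t * (R.w s)⁻¹ = R.w (s * s / t) := by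
  have hst : s * s / t ≠ 0 := div_ne_zero (mul_ne_zero hs hs) ht
  conv_lhs => arg 1; arg 2; rw [w]
  rw [R.w_alt hst]
  calc R.w s * (R.u t * R.l (-t⁻¹) * R.u t) * (R.w s)⁻¹
      = (R.w s * R.u t * (R.w s)⁻¹) * (R.w s * R.l (-t⁻¹) * (R.w s)⁻¹) *
        (R.w s * R.u t * (R.w s)⁻¹) := by group
    _ = _ := by
      rw [R.w_conj_u hs, R.w_conj_l hs]
      congr 2 <;> congr 1 <;> field_simp

/-- The torus element. -/
def h (t : ZMod p) : G := R.w t * R.w (-1)

lemma w_neg_one : R.w (-1) = (R.w 1)⁻¹ := R.w_neg 1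

lemma w_eq (t : ZMod p) : R.w t = R.h t * R.w 1 := by
  rw [h, w_neg_one]; group

lemma h_one : R.h 1 = 1 := by rw [h, w_neg_one]; group

lemma h_conj_u {t : ZMod p} (ht : t ≠ 0) (s : ZMod p) :
    R.h t * R.u s * (R.h t)⁻¹ = R.u (s * (t * t)) := by
  have h1 := R.w_conj_u (t := -1) (neg_ne_zero.2 one_ne_zero) s
  calc R.h t * R.u s * (R.h t)⁻¹
      = R.w t * (R.w (-1) * R.u s * (R.w (-1))⁻¹) * (R.w t)⁻¹ := by rw [h]; group
    _ = _ := by rw [h1, R.w_conj_l ht]; congr 1; field_simp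

lemma h_conj_l {t : ZMod p} (ht : t ≠ 0) (s : ZMod p) :
    R.h t * R.l s * (R.h t)⁻¹ = R.l (s / (t * t)) := by
  have h1 := R.w_conj_l (t := -1) (neg_ne_zero.2 one_ne_zero) s
  calc R.h t * R.l s * (R.h t)⁻¹
      = R.w t * (R.w (-1) * R.l s * (R.w (-1))⁻¹) * (R.w t)⁻¹ := by rw [h]; group
    _ = _ := by rw [h1, R.w_conj_u ht]; congr 1; field_simp

lemma h_conj_w {t r : ZMod p} (ht : t ≠ 0) (hr : r ≠ 0) :
    R.h t * R.w r * (R.h t)⁻¹ = R.w (t * t * r) := by
  calc R.h t * R.w r * (R.h t)⁻¹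
      = R.w t * (R.w (-1) * R.w r * (R.w (-1))⁻¹) * (R.w t)⁻¹ := by rw [h]; group
    _ = _ := by
      rw [R.w_conj_w (neg_ne_zero.2 one_ne_zero) hr,
        R.w_conj_w ht (div_ne_zero (by simp) hr)]
      congr 1; field_simp

lemma w_mem (t : ZMod p) : R.w t ∈ R.span :=
  mul_mem (mul_mem (R.u_mem t) (R.l_mem _)) (R.u_mem t)

lemma h_mem (t : ZMod p) : R.h t ∈ R.span := mul_mem (R.w_mem t) (R.w_mem _)

lemma commute_span {z : G} (hu : ∀ s, Commute z (R.u s)) (hl : ∀ s, Commute z (R.l s))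
    {x : G} (hx : x ∈ R.span) : Commute z x := by
  induction hx using Subgroup.closure_induction with
  | mem x hx => rcases hx with ⟨s, rfl⟩ | ⟨s, rfl⟩; exacts [hu s, hl s]
  | one => exact Commute.one_right z
  | mul a b _ _ iha ihb => exact iha.mul_right ihb
  | inv a _ iha => exact iha.inv_right

lemma h_comm {t r : ZMod p} (ht : t ≠ 0) (hr : r ≠ 0) : R.h t * R.h r = R.h r * R.h t := by
  obtain ⟨g, hg⟩ := IsCyclic.exists_generator (α := (ZMod p)ˣ)
  set x := R.h (g : ZMod p) with hx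
  have pw : ∀ (n : ℕ) (s : ZMod p), x ^ n * R.u s * (x ^ n)⁻¹ =
      R.u (s * ((g : ZMod p) ^ n * (g : ZMod p) ^ n)) ∧
      x ^ n * R.l s * (x ^ n)⁻¹ = R.l (s / ((g : ZMod p) ^ n * (g : ZMod p) ^ n)) := by
    intro n
    induction n with
    | zero => intro s; simp
    | succ n ih =>
      intro s
      constructor
      · calc x ^ (n + 1) * R.u s * (x ^ (n + 1))⁻¹
            = x * (x ^ n * R.u s * (x ^ n)⁻¹) * x⁻¹ := by rw [pow_succ']; group
          _ = _ := by rw [(ih s).1, hx, R.h_conj_u g.ne_zero]; congr 1; simp only [pow_succ]; ring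
      · calc x ^ (n + 1) * R.l s * (x ^ (n + 1))⁻¹
            = x * (x ^ n * R.l s * (x ^ n)⁻¹) * x⁻¹ := by rw [pow_succ']; group
          _ = _ := by rw [(ih s).2, hx, R.h_conj_l g.ne_zero]; congr 1; rw [pow_succ]; field_simp
  have form : ∀ t : ZMod p, t ≠ 0 → ∃ (n : ℕ) (z : G), R.h t = x ^ n * z ∧
      ∀ y ∈ R.span, Commute z y := by
    intro t ht
    obtain ⟨n, hn⟩ : ∃ n : ℕ, g ^ n = Units.mk0 t ht := by
      have := hg (Units.mk0 t ht)
      rwa [← mem_powers_iff_mem_zpowers] at this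
    have hn' : (g : ZMod p) ^ n = t := by
      have := congrArg Units.val hn; simpa using this
    refine ⟨n, (x ^ n)⁻¹ * R.h t, by group, fun y hy => R.commute_span (fun s => ?_) (fun s => ?_) hy⟩
    · have h1 := R.h_conj_u ht s
      have h2 := (pw n s).1
      rw [hn', ← h1] at h2
      show (x ^ n)⁻¹ * R.h t * R.u s = R.u s * ((x ^ n)⁻¹ * R.h t)
      calc (x ^ n)⁻¹ * R.h t * R.u s = (x ^ n)⁻¹ * (R.h t * R.u s * (R.h t)⁻¹) * R.h t := by group
        _ = _ := by rw [← h2]; group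
    · have h1 := R.h_conj_l ht s
      have h2 := (pw n s).2
      rw [hn', ← h1] at h2
      show (x ^ n)⁻¹ * R.h t * R.l s = R.l s * ((x ^ n)⁻¹ * R.h t)
      calc (x ^ n)⁻¹ * R.h t * R.l s = (x ^ n)⁻¹ * (R.h t * R.l s * (R.h t)⁻¹) * R.h t := by group
        _ = _ := by rw [← h2]; group
  obtain ⟨n, z, e1, hz⟩ := form t ht
  obtain ⟨m, z', e2, hz'⟩ := form r hr
  have hxm : ∀ k : ℕ, x ^ k ∈ R.span := fun k => pow_mem (R.h_mem _) k
  have hzm : z' ∈ R.span := by
    have : z' = (x ^ m)⁻¹ * R.h r := by rw [e2]; group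
    rw [this]; exact mul_mem (inv_mem (hxm m)) (R.h_mem r)
  rw [e1, e2]
  calc x ^ n * z * (x ^ m * z') = x ^ n * (z * x ^ m) * z' := by group
    _ = x ^ n * (x ^ m * z) * z' := by rw [(hz _ (hxm m)).eq]
    _ = (x ^ n * x ^ m) * (z * z') := by group
    _ = (x ^ m * x ^ n) * (z' * z) := by rw [← pow_add, ← pow_add, add_comm, (hz _ hzm).eq]
    _ = x ^ m * (x ^ n * z') * z := by group
    _ = x ^ m * (z' * x ^ n) * z := by rw [(hz' _ (hxm n)).eq]
    _ = _ := by group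

lemma h_sq_mul {t r : ZMod p} (ht : t ≠ 0) (hr : r ≠ 0) :
    R.h (t * t * r) = R.h (t * t) * R.h r := by
  have e1 : R.h t * R.h r * (R.h t)⁻¹ = R.h r := by rw [R.h_comm ht hr]; group
  have e2 : R.h t * R.h r * (R.h t)⁻¹ = R.w (t * t * r) * (R.w (t * t))⁻¹ := by
    calc R.h t * R.h r * (R.h t)⁻¹
        = (R.h t * R.w r * (R.h t)⁻¹) * (R.h t * R.w (-1) * (R.h t)⁻¹) := by
          conv_lhs => arg 1; arg 2; rw [h]
          group
      _ = _ := by
          rw [R.h_conj_w ht hr, R.h_conj_w ht (neg_ne_zero.2 one_ne_zero),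
            show t * t * (-1 : ZMod p) = -(t * t) by ring, R.w_neg]
  have e3 : R.h (t * t * r) = R.h r * R.h (t * t) := by
    rw [← e1, e2, h, h]; group
  rw [e3, R.h_comm hr (mul_ne_zero ht ht)]

lemma w_one_h {t : ZMod p} (ht : t ≠ 0) : R.w 1 * R.h t = R.h t⁻¹ * R.w 1 := by
  calc R.w 1 * R.h t = (R.w 1 * R.w t * (R.w 1)⁻¹) * (R.w 1 * R.w (-1)) := by rw [h]; group
    _ = R.h t⁻¹ * R.w 1 := by
      rw [R.w_conj_w one_ne_zero ht, show (1 : ZMod p) * 1 / t = t⁻¹ by field_simp, w_neg_one,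
        ← R.w_eq]
      group

lemma h_neg_inv {t : ZMod p} (ht : t ≠ 0) : R.h t * R.h (-t⁻¹) = R.h (-1) := by
  have e1 : (R.h t)⁻¹ = (R.w 1 * R.w (-t) * (R.w 1)⁻¹) * R.w 1 := by
    rw [h, w_neg_one, R.w_neg]; group
  rw [R.w_conj_w one_ne_zero (neg_ne_zero.2 ht), show (1 : ZMod p) * 1 / -t = -t⁻¹ by field_simp,
    R.w_eq] at e1
  calc R.h t * R.h (-t⁻¹)
      = R.h t * (R.h (-t⁻¹) * R.w 1 * R.w 1) * (R.w 1)⁻¹ * (R.w 1)⁻¹ := by group
    _ = R.h (-1) := by rw [← e1, h, h, w_neg_one]; group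

lemma h_mul_of_add_eq_one {t u : ZMod p} (ht : t ≠ 0) (hu : u ≠ 0) (htu : t + u = 1) :
    R.h t * R.h u = R.h (t * u) := by
  have hlu : ∀ {x : ZMod p}, x ≠ 0 → R.l (-x⁻¹) = R.u (-x) * R.w x * R.u (-x) := by
    intro x _
    rw [w, R.u_neg]; group
  have huu : -(u * u) ≠ 0 := neg_ne_zero.2 (mul_ne_zero hu hu)
  have hP : R.l (-t⁻¹) * R.l (-u⁻¹) = R.l (-(t * u)⁻¹) := by
    rw [← R.l_add]; congr 1
    field_simp
    linear_combination (-1 : ZMod p) * htu
  rw [hlu ht, hlu hu, hlu (mul_ne_zero ht hu)] at hP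
  have e1 : R.u (-1) * R.w u =
      R.w u * (R.u (u * u) * R.w (-(u * u)) * R.u (u * u)) := by
    have h1 := R.w_conj_u (neg_ne_zero.2 hu) (-1)
    rw [R.w_neg, inv_inv] at h1
    have h2 := hlu huu
    rw [neg_neg] at h2
    rw [← h2, show -(-(u * u))⁻¹ = -(-1 / (-u * -u)) by field_simp, ← h1]
    group
  have e2 : ∀ s, R.w t * R.w u * R.u s = R.u (s * (t * t) / (u * u)) * (R.w t * R.w u) := by
    intro s
    have h1 := R.w_conj_u hu s
    have h2 := R.w_conj_l ht (-(s / (u * u)))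
    calc R.w t * R.w u * R.u s
        = R.w t * (R.w u * R.u s * (R.w u)⁻¹) * (R.w t)⁻¹ * (R.w t * R.w u) := by group
      _ = _ := by rw [h1, h2]; congr 2; field_simp
  have e3 : R.w t * R.w u * R.w (-(u * u)) = R.w (t * u) := by
    have h1 : R.u (-t) * R.w t * (R.u (-1) * R.w u) * R.u (-u) =
        R.u (-t) * R.w t * R.u (-t) * (R.u (-u) * R.w u * R.u (-u)) := by
      have : (-1 : ZMod p) = -t + -u := by linear_combination htu
      rw [this, R.u_add]; group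
    rw [hP, e1] at h1
    have h2 : R.u (-t) * (R.w t * R.w u * R.u (u * u)) * R.w (-(u * u)) * (R.u (u * u) * R.u (-u))
        = R.u (-(t * u)) * R.w (t * u) * R.u (-(t * u)) := by rw [← h1]; group
    rw [← R.u_add, show u * u + -u = -(t * u) by linear_combination u * htu] at h2
    have h3 := mul_right_cancel h2
    rw [e2, show u * u * (t * t) / (u * u) = t * t by field_simp] at h3
    have h4 : R.u (-t) * R.u (t * t) * (R.w t * R.w u * R.w (-(u * u))) =
        R.u (-(t * u)) * R.w (t * u) := by rw [← h3]; group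
    rw [← R.u_add, show -t + t * t = -(t * u) by linear_combination t * htu] at h4
    exact mul_left_cancel h4
  have e4 : R.h t * R.h u⁻¹ = R.h (t * u) * R.h (u * u)⁻¹ := by
    rw [R.w_neg, mul_inv_eq_iff_eq_mul, R.w_eq t, R.w_eq u, R.w_eq (t * u), R.w_eq (u * u)] at e3
    have h1 : R.h t * (R.w 1 * R.h u) * R.w 1 = R.h (t * u) * (R.w 1 * R.h (u * u)) * R.w 1 := by
      simpa [mul_assoc] using e3
    rw [R.w_one_h hu, R.w_one_h (mul_ne_zero hu hu)] at h1
    refine mul_right_cancel (b := R.w 1) (mul_right_cancel (b := R.w 1) ?_)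
    simpa [mul_assoc] using h1
  have hu' := inv_ne_zero hu
  rw [show u⁻¹ = u⁻¹ * u⁻¹ * u by field_simp, mul_inv, R.h_sq_mul hu' hu,
    R.h_comm (mul_ne_zero ht hu) (mul_ne_zero hu' hu'), ← mul_assoc,
    R.h_comm ht (mul_ne_zero hu' hu'), mul_assoc] at e4
  exact mul_left_cancel e4

lemma h_mul {t r : ZMod p} (ht : t ≠ 0) (hr : r ≠ 0) : R.h (t * r) = R.h t * R.h r := by
  obtain ⟨g, hg⟩ := IsCyclic.exists_generator (α := (ZMod p)ˣ)
  have hg' : ∀ x : ZMod p, x ≠ 0 → ∃ n : ℕ, (g : ZMod p) ^ n = x := by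
    intro x hx
    obtain ⟨n, hn⟩ : ∃ n : ℕ, g ^ n = Units.mk0 x hx := by
      have := hg (Units.mk0 x hx)
      rwa [← mem_powers_iff_mem_zpowers] at this
    exact ⟨n, by have := congrArg Units.val hn; simpa using this⟩
  have hdec : ∀ x : ZMod p, x ≠ 0 → (∃ y, y ≠ 0 ∧ x = y * y) ∨ ∃ y, y ≠ 0 ∧ x = (g : ZMod p) * (y * y) := by
    intro x hx
    obtain ⟨n, rfl⟩ := hg' x hx
    rcases Nat.even_or_odd' n with ⟨m, rfl | rfl⟩
    · exact Or.inl ⟨_, pow_ne_zero m g.ne_zero, by ring⟩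
    · exact Or.inr ⟨_, pow_ne_zero m g.ne_zero, by ring⟩
  have hG := g.ne_zero
  suffices hgg : R.h ((g : ZMod p) * g) = R.h g * R.h g by
    have hpow : ∀ n : ℕ, R.h ((g : ZMod p) ^ n) = R.h g ^ n := by
      intro n
      induction n using Nat.twoStepInduction with
      | zero => simpa using R.h_one
      | one => simp
      | more n ih _ =>
        rw [show (g : ZMod p) ^ (n + 2) = g * g * g ^ n by ring,
          R.h_sq_mul hG (pow_ne_zero _ hG), hgg, ih, pow_succ' _ (n + 1), pow_succ' _ n, mul_assoc]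
    obtain ⟨n, rfl⟩ := hg' t ht
    obtain ⟨m, rfl⟩ := hg' r hr
    rw [← pow_add, hpow, hpow, hpow, pow_add]
  -- it is enough to find one pair of non-squares on which `h` is multiplicative
  have key : ∀ t u : ZMod p, ∀ a b, a ≠ 0 → b ≠ 0 → t = g * (a * a) → u = g * (b * b) →
      R.h t * R.h u = R.h (t * u) → R.h ((g : ZMod p) * g) = R.h g * R.h g := by
    intro t u a b ha hb et eu htu
    subst et eu
    rw [show (g : ZMod p) * (a * a) * (g * (b * b)) = a * a * (b * b * (g * g)) by ring,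
      R.h_sq_mul ha (mul_ne_zero (mul_ne_zero hb hb) (mul_ne_zero hG hG)),
      R.h_sq_mul hb (mul_ne_zero hG hG), mul_comm (g : ZMod p) (a * a), R.h_sq_mul ha hG,
      mul_comm (g : ZMod p) (b * b), R.h_sq_mul hb hG] at htu
    have hab : R.h g * R.h (b * b) = R.h (b * b) * R.h g := R.h_comm hG (mul_ne_zero hb hb)
    rw [mul_assoc (R.h (a * a)), ← mul_assoc (R.h g), hab, mul_assoc (R.h (b * b))] at htu
    exact (mul_left_cancel (mul_left_cancel htu)).symm
  by_cases hsq1 : ∃ c : ZMod p, c ≠ 0 ∧ -1 = c * c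
  · obtain ⟨c, hc, ec⟩ := hsq1
    refine key g (-(g : ZMod p)⁻¹) 1 (c / g) one_ne_zero (div_ne_zero hc hG) (by ring) ?_ ?_
    · field_simp
      linear_combination ec
    · rw [R.h_neg_inv hG, mul_neg, mul_inv_cancel₀ hG]
  obtain ⟨c, hc, ec⟩ := (hdec (-1) (neg_ne_zero.2 one_ne_zero)).resolve_left hsq1
  obtain ⟨s, hs, hns⟩ : ∃ s : ZMod p, s ≠ 0 ∧ ¬ ∃ y, y ≠ 0 ∧ s * s + 1 = y * y := by
    by_contra hcon
    push Not at hcon
    have hind : ∀ n : ℕ, ∃ y : ZMod p, y ≠ 0 ∧ (n : ZMod p) + 1 = y * y := by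
      intro n
      induction n with
      | zero => exact ⟨1, one_ne_zero, by simp⟩
      | succ n ih =>
        obtain ⟨y, hy, e⟩ := ih
        obtain ⟨z, hz, ez⟩ := hcon y hy
        exact ⟨z, hz, by rw [Nat.cast_succ, e, ez]⟩
    obtain ⟨y, hy, e⟩ := hind (p - 1)
    have hp1 : ((p - 1 : ℕ) : ZMod p) + 1 = 0 := by
      rw [← Nat.cast_succ, Nat.succ_eq_add_one, Nat.sub_add_cancel (Fact.out : p.Prime).one_le,
        ZMod.natCast_self]
    rw [hp1] at e
    exact mul_ne_zero hy hy e.symm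
  have hne : s * s + 1 ≠ 0 := fun e => hsq1 ⟨s, hs, by linear_combination -e⟩
  obtain ⟨d, hd, ed⟩ := (hdec _ hne).resolve_left hns
  refine key (s * s + 1) (-(s * s)) d (c * s) hd (mul_ne_zero hc hs) ed ?_ ?_
  · linear_combination (s * s) * ec
  · exact R.h_mul_of_add_eq_one hne (neg_ne_zero.2 (mul_ne_zero hs hs)) (by ring)

/-- Parameters for the Bruhat decomposition. -/
abbrev BruhatParam (p : ℕ) := (ZMod p × (ZMod p)ˣ) ⊕ (ZMod p × (ZMod p)ˣ × ZMod p)

/-- The Bruhat parametrisation. -/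
def bruhat : BruhatParam p → G
  | .inl (s, t) => R.u s * R.h t
  | .inr (s, t, q) => R.u s * R.h t * R.w 1 * R.u q

lemma h_neg_one_sq : R.h (-1) * R.h (-1) = 1 := by
  rw [← R.h_mul (neg_ne_zero.2 one_ne_zero) (neg_ne_zero.2 one_ne_zero)]
  simpa using R.h_one

lemma w_one_sq : R.w 1 * R.w 1 = R.h (-1) := by
  have e : R.h (-1) = (R.w 1 * R.w 1)⁻¹ := by rw [h, w_neg_one]; group
  have := R.h_neg_one_sq
  calc R.w 1 * R.w 1 = (R.h (-1))⁻¹ := by rw [e, inv_inv]
    _ = R.h (-1) := inv_eq_of_mul_eq_one_left this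

lemma span_le_bruhat {y : G} (hy : y ∈ R.span) : y ∈ Set.range R.bruhat := by
  have hu : ∀ x, ∀ z ∈ Set.range R.bruhat, R.u x * z ∈ Set.range R.bruhat := by
    rintro x _ ⟨(⟨s, t⟩ | ⟨s, t, q⟩), rfl⟩
    · exact ⟨.inl (x + s, t), by simp [bruhat, R.u_add, mul_assoc]⟩
    · exact ⟨.inr (x + s, t, q), by simp [bruhat, R.u_add, mul_assoc]⟩
  have hcomm : ∀ (t : ZMod p), t ≠ 0 → ∀ s, R.h t * R.u s = R.u (s * (t * t)) * R.h t := by
    intro t ht s; rw [← R.h_conj_u ht s]; group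
  have hh : ∀ (x : (ZMod p)ˣ), ∀ z ∈ Set.range R.bruhat, R.h x * z ∈ Set.range R.bruhat := by
    rintro x _ ⟨(⟨s, t⟩ | ⟨s, t, q⟩), rfl⟩
    · refine ⟨.inl (s * ((x : ZMod p) * x), x * t), ?_⟩
      simp only [bruhat, Units.val_mul, R.h_mul x.ne_zero t.ne_zero]
      rw [← mul_assoc (R.h x), hcomm _ x.ne_zero]; group
    · refine ⟨.inr (s * ((x : ZMod p) * x), x * t, q), ?_⟩
      simp only [bruhat, Units.val_mul, R.h_mul x.ne_zero t.ne_zero]
      simp only [← mul_assoc]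
      rw [hcomm _ x.ne_zero]; group
  have hw : ∀ z ∈ Set.range R.bruhat, R.w 1 * z ∈ Set.range R.bruhat := by
    rintro _ ⟨(⟨s, t⟩ | ⟨s, t, q⟩), rfl⟩
    · refine ⟨.inr (0, t⁻¹, s / ((t : ZMod p) * t)), ?_⟩
      have e := hcomm _ t.ne_zero (s / ((t : ZMod p) * t))
      rw [div_mul_cancel₀ _ (mul_ne_zero t.ne_zero t.ne_zero)] at e
      simp only [bruhat, R.u_zero, one_mul, Units.val_inv_eq_inv_val]
      rw [← e, ← mul_assoc, R.w_one_h t.ne_zero]
    · have hn : (-(t : ZMod p)⁻¹) ≠ 0 := neg_ne_zero.2 (inv_ne_zero t.ne_zero)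
      have eww : R.w 1 * R.h t * R.w 1 = R.h (-(t : ZMod p)⁻¹) := by
        rw [R.w_one_h t.ne_zero, mul_assoc, R.w_one_sq,
          ← R.h_mul (inv_ne_zero t.ne_zero) (neg_ne_zero.2 one_ne_zero)]
        congr 1; ring
      by_cases hs : s = 0
      · subst hs
        refine ⟨.inl (q * (-(t : ZMod p)⁻¹ * -(t : ZMod p)⁻¹), -t⁻¹), ?_⟩
        simp only [bruhat, R.u_zero, one_mul, Units.val_neg, Units.val_inv_eq_inv_val]
        rw [← hcomm _ hn q, ← eww]; group
      · refine ⟨.inr (-s⁻¹, Units.mk0 (-(t : ZMod p) / s) (by simp [hs]),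
          -((t : ZMod p) * t) / s + q), ?_⟩
        simp only [bruhat, Units.val_mk0]
        have el : R.w 1 * R.u s = R.l (-s) * R.w 1 := by
          have := R.w_conj_u one_ne_zero s
          rw [mul_one, div_one] at this
          rw [← this]; group
        have ed : R.l (-s) = R.u (-s⁻¹) * R.w s⁻¹ * R.u (-s⁻¹) := by
          rw [w, R.u_neg, inv_inv]; group
        have e2 : R.u (-s⁻¹) * R.h (-(t : ZMod p)⁻¹) =
            R.h (-(t : ZMod p)⁻¹) * R.u (-((t : ZMod p) * t) / s) := by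
          rw [hcomm _ hn]; congr 2; field_simp
        have e3 : R.w 1 * R.h (-(t : ZMod p)⁻¹) = R.h (-(t : ZMod p)) * R.w 1 := by
          rw [R.w_one_h hn]; congr 2; field_simp
        calc R.u (-s⁻¹) * R.h (-(t : ZMod p) / s) * R.w 1 * R.u (-((t : ZMod p) * t) / s + q)
            = R.u (-s⁻¹) * (R.h s⁻¹ * (R.h (-(t : ZMod p)) * R.w 1)) *
                (R.u (-((t : ZMod p) * t) / s) * R.u q) := by
              rw [← R.u_add, ← mul_assoc (R.h s⁻¹), ← R.h_mul (inv_ne_zero hs) (neg_ne_zero.2 t.ne_zero)]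
              rw [show -(t : ZMod p) / s = s⁻¹ * -(t : ZMod p) by field_simp]; group
          _ = R.u (-s⁻¹) * (R.h s⁻¹ * R.w 1) *
                (R.h (-(t : ZMod p)⁻¹) * R.u (-((t : ZMod p) * t) / s)) * R.u q := by
              rw [← e3]; group
          _ = R.l (-s) * R.h (-(t : ZMod p)⁻¹) * R.u q := by
              rw [← R.w_eq, ← e2, ed]; group
          _ = R.w 1 * (R.u s * R.h t * R.w 1 * R.u q) := by
              rw [← eww, ← mul_assoc, ← mul_assoc, ← el]; group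
  have hl : ∀ x, ∀ z ∈ Set.range R.bruhat, R.l x * z ∈ Set.range R.bruhat := by
    intro x z hz
    have e : R.l x = R.w 1 * R.u (-x) * (R.w 1)⁻¹ := by
      rw [R.w_conj_u one_ne_zero]; simp
    rw [e, mul_assoc, mul_assoc, ← R.w_neg_one, R.w_eq (-1), mul_assoc]
    exact hw _ (hu _ _ (hh (-1) _ (hw _ hz) |> fun h => by simpa using h))
  unfold span at hy
  induction hy using Subgroup.closure_induction_left with
  | one => exact ⟨.inl (0, 1), by simp [bruhat, R.u_zero, R.h_one]⟩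
  | mul_left x hx y _ ih =>
    rcases hx with ⟨s, rfl⟩ | ⟨s, rfl⟩
    exacts [hu s _ ih, hl s _ ih]
  | inv_mul_cancel x hx y _ ih =>
    rcases hx with ⟨s, rfl⟩ | ⟨s, rfl⟩
    · rw [← R.u_neg]; exact hu _ _ ih
    · rw [← R.l_neg]; exact hl _ _ ih

lemma span_finite : Finite R.span :=
  Set.Finite.to_subtype ((Set.finite_range R.bruhat).subset fun _ hy => R.span_le_bruhat hy)

lemma card_span_le : Nat.card R.span ≤ p * (p ^ 2 - 1) := by
  have h1 : Nat.card R.span ≤ Nat.card (Set.range R.bruhat) :=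
    Nat.card_mono (Set.finite_range _) fun _ hy => R.span_le_bruhat hy
  have h2 := Finite.card_range_le R.bruhat
  have h3 : Nat.card (BruhatParam p) = p * (p ^ 2 - 1) := by
    rw [BruhatParam, Nat.card_sum, Nat.card_prod, Nat.card_prod, Nat.card_prod]
    simp only [Nat.card_eq_fintype_card, ZMod.card, ZMod.card_units p]
    obtain ⟨k, rfl⟩ : ∃ k, p = k + 1 := ⟨p - 1, (Nat.sub_add_cancel (Fact.out : p.Prime).one_le).symm⟩
    rw [Nat.add_sub_cancel, show (k + 1) ^ 2 - 1 = k * (k + 2) by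
      rw [show (k + 1) ^ 2 = k * (k + 2) + 1 by ring, Nat.add_sub_cancel]]
    ring
  omega

end SL2Rel

end CfsgLib.RootSub
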