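/-
The homomorphism SL₂(p) → ⟨a, b⟩ for a special rank one pair of exponent p.
-/
import Cfsg.Agent.Lib.RootSub.SL2Rel
import Cfsg.Agent.Lib.RootSub.SL2Model
import Cfsg.Agent.Lib.RootSub.Special
import Cfsg.Agent.Lib.Linear.Card

set_option autoImplicit false

namespace CfsgLib.RootSub

open Cfsg Matrix

variable {p : ℕ} [Fact p.Prime] {G : Type*} [Group G]

/-- The relations in the model group. -/
def sl2RelModel : SL2Rel p (SpecialLinearGroup (Fin 2) (ZMod p)) :=
  ⟨slU, slL, slU_add, slL_add, fun _ ht => sl2_braid ht⟩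

/-- Product of two relation systems. -/
def SL2Rel.prod {H : Type*} [Group H] (R : SL2Rel p G) (R' : SL2Rel p H) : SL2Rel p (G × H) :=
  ⟨fun t => (R.u t, R'.u t), fun t => (R.l t, R'.l t),
    fun s t => by simp [R.u_add, R'.u_add], fun s t => by simp [R.l_add, R'.l_add],
    fun t ht => Prod.ext (R.braid t ht) (R'.braid t ht)⟩

lemma sl2_span_model : (sl2RelModel (p := p)).span = ⊤ := by
  rw [eq_top_iff, ← sl2_sup_eq_top]
  refine sup_le ?_ ?_
  · intro g hg
    obtain ⟨t, rfl⟩ := mem_lowerUnipotent.1 hg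
    exact (sl2RelModel (p := p)).l_mem t
  · intro g hg
    obtain ⟨t, rfl⟩ := mem_upperUnipotent.1 hg
    exact (sl2RelModel (p := p)).u_mem t

theorem SL2Rel.exists_hom (R : SL2Rel p G) :
    ∃ φ : SpecialLinearGroup (Fin 2) (ZMod p) →* G,
      φ.range = R.span ∧ (∀ t, φ (slU t) = R.u t) ∧ ∀ t, φ (slL t) = R.l t := by
  set D := (sl2RelModel (p := p)).prod R with hD
  haveI := D.span_finite
  set π : D.span →* SpecialLinearGroup (Fin 2) (ZMod p) :=
    (MonoidHom.fst _ _).comp D.span.subtype with hπ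
  have hsurj : Function.Surjective π := by
    rw [← MonoidHom.range_eq_top, eq_top_iff, ← sl2_span_model, SL2Rel.span, Subgroup.closure_le]
    rintro x (⟨t, rfl⟩ | ⟨t, rfl⟩)
    · exact ⟨⟨D.u t, D.u_mem t⟩, rfl⟩
    · exact ⟨⟨D.l t, D.l_mem t⟩, rfl⟩
  have hle : Nat.card D.span ≤ Nat.card (SpecialLinearGroup (Fin 2) (ZMod p)) := by
    rw [CfsgLib.Linear.card_SL_two, ZMod.card]
    exact D.card_span_le
  have hbij : Function.Bijective π :=
    hsurj.bijective_of_nat_card_le hle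
  set e := MulEquiv.ofBijective π hbij with he
  refine ⟨((MonoidHom.snd _ _).comp D.span.subtype).comp e.symm.toMonoidHom, ?_, ?_, ?_⟩
  · rw [MonoidHom.range_comp, MonoidHom.range_eq_top.2 e.symm.surjective, ← MonoidHom.range_eq_map,
      MonoidHom.range_comp, Subgroup.range_subtype, SL2Rel.span, MonoidHom.map_closure, SL2Rel.span]
    congr 1
    rw [Set.image_union, ← Set.range_comp, ← Set.range_comp]
    rfl
  · intro t
    show MonoidHom.snd _ _ (D.span.subtype (e.symm (slU t))) = R.u t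
    have : e.symm (slU t) = ⟨D.u t, D.u_mem t⟩ := by
      rw [MulEquiv.symm_apply_eq]; rfl
    rw [this]; rfl
  · intro t
    show MonoidHom.snd _ _ (D.span.subtype (e.symm (slL t))) = R.l t
    have : e.symm (slL t) = ⟨D.l t, D.l_mem t⟩ := by
      rw [MulEquiv.symm_apply_eq]; rfl
    rw [this]; rfl

/-- A non-abelian image of SL₂(p) is SL₂(p) or PSL₂(p). -/
theorem sl2_image_iso (φ : SpecialLinearGroup (Fin 2) (ZMod p) →* G)
    (hna : ∃ x y, φ x * φ y ≠ φ y * φ x) :
    Nonempty (φ.range ≃* SpecialLinearGroup (Fin 2) (ZMod p)) ∨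
      Nonempty (φ.range ≃* ProjectiveSpecialLinearGroup (Fin 2) (ZMod p)) := by
  have hle : φ.ker ≤ Subgroup.center _ := by
    refine (r1g_normal_dichotomy sl2_isRankOneGroup φ.ker inferInstance).resolve_left fun htop => ?_
    obtain ⟨x, y, hne⟩ := hna
    apply hne
    obtain ⟨k, hk, a, ha, rfl⟩ := Subgroup.mem_sup_of_normal_left.1 (htop ▸ Subgroup.mem_top x)
    obtain ⟨l, hl, c, hc, rfl⟩ := Subgroup.mem_sup_of_normal_left.1 (htop ▸ Subgroup.mem_top y)
    rw [map_mul, map_mul φ l, MonoidHom.mem_ker.1 hk, MonoidHom.mem_ker.1 hl, one_mul, one_mul,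
      ← map_mul, ← map_mul, mul_comm_of_commutative sl2_abelian.1 ha hc]
  by_cases hbot : φ.ker = ⊥
  · exact Or.inl ⟨(φ.ofInjective ((φ.ker_eq_bot_iff).1 hbot)).symm⟩
  · right
    have heq : φ.ker = Subgroup.center _ := by
      refine le_antisymm hle fun z hz => ?_
      obtain ⟨w, hw, hw1⟩ := (Subgroup.bot_or_exists_ne_one _).resolve_left hbot
      rcases sl2_center hz with rfl | ez
      · exact one_mem _
      · rcases sl2_center (hle hw) with rfl | ew
        · exact absurd rfl hw1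
        · rwa [Subtype.ext (ez.trans ew.symm) (a1 := z) (a2 := w)]
    exact ⟨((QuotientGroup.quotientKerEquivRange φ).symm.trans
      (QuotientGroup.quotientMulEquivOfEq heq))⟩

lemma rel_span_eq (R : SL2Rel p G) (a b : G) (hRu : ∀ t, R.u t = a ^ t.val)
    (hRl : ∀ t, R.l t = b ^ t.val) : R.span = Subgroup.closure ({a, b} : Set G) := by
  have ha : a ∈ Subgroup.closure ({a, b} : Set G) := Subgroup.subset_closure (by simp)
  have hb : b ∈ Subgroup.closure ({a, b} : Set G) := Subgroup.subset_closure (by simp)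
  have e1 : R.u 1 = a := by rw [hRu, ZMod.val_one, pow_one]
  have e2 : R.l 1 = b := by rw [hRl, ZMod.val_one, pow_one]
  refine le_antisymm ?_ ?_
  · rw [SL2Rel.span, Subgroup.closure_le]
    intro x hx
    rcases hx with ⟨t, ht⟩ | ⟨t, ht⟩
    · rw [← ht, hRu]; exact pow_mem ha t.val
    · rw [← ht, hRl]; exact pow_mem hb t.val
  · rw [Subgroup.closure_le]
    intro x hx
    rcases hx with hx | hx
    · rw [hx, ← e1]; exact R.u_mem 1
    · rw [Set.mem_singleton_iff.1 hx, ← e2]; exact R.l_mem 1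

section Pair

variable {A B : Subgroup G} (hs : IsSpecialRankOnePair A B) (hab : HasAbelianUnipotents A B)
include hs hab

set_option maxHeartbeats 400000 in
theorem spec_minimal_subgroup (hA : ∀ a ∈ A, a ^ p = 1) {a b : G} (r : R1Rel A B a b) :
    Nonempty (Subgroup.closure ({a, b} : Set G) ≃* SpecialLinearGroup (Fin 2) (ZMod p)) ∨
      Nonempty (Subgroup.closure ({a, b} : Set G) ≃*
        ProjectiveSpecialLinearGroup (Fin 2) (ZMod p)) := by
  have hB : ∀ c ∈ B, c ^ p = 1 := by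
    intro c hc
    by_cases hc1 : c = 1
    · simp [hc1]
    · obtain ⟨x, rx⟩ := r1rel_exists' hs.1 hc hc1
      exact (spec_pow_eq_one_iff hs rx p).1 (hA x rx.1)
  have hadd : ∀ x : G, x ^ p = 1 → ∀ s t : ZMod p, x ^ (s + t).val = x ^ s.val * x ^ t.val := by
    intro x hx s t
    rw [← pow_add, ZMod.val_add, ← pow_eq_pow_mod _ hx]
  have hbr : ∀ t : ZMod p, t ≠ 0 → a ^ t.val * b ^ (-t⁻¹).val * a ^ t.val =
      b ^ (-t⁻¹).val * a ^ t.val * b ^ (-t⁻¹).val := by
    intro t ht
    have hat : a ^ t.val ≠ 1 := by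
      intro e
      have hord : orderOf a = p :=
        orderOf_eq_prime (hA a r.1) r.2.1
      have := orderOf_dvd_of_pow_eq_one e
      rw [hord] at this
      exact ht ((ZMod.val_eq_zero t).1 (Nat.eq_zero_of_dvd_of_lt this (ZMod.val_lt t)))
    obtain ⟨b', r', e⟩ := spec_pow_left hs hab r hat
    have hb' : b' = b ^ (t⁻¹).val := by
      rw [← e, ← pow_mul]
      have h1 : (t.val * (t⁻¹).val) % p = 1 := by
        rw [← ZMod.val_mul, mul_inv_cancel₀ ht, ZMod.val_one]
      rw [pow_eq_pow_mod _ (hB b' r'.2.2.1), h1, pow_one]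
    have hneg : b ^ (-t⁻¹).val = b'⁻¹ := by
      rw [hb', eq_inv_iff_mul_eq_one, ← hadd b (hB b r.2.2.1), neg_add_cancel]
      simp
    rw [hneg]
    exact spec_braid hs r'
  obtain ⟨R, hRu, hRl⟩ : ∃ R : SL2Rel p G, (∀ t, R.u t = a ^ t.val) ∧ (∀ t, R.l t = b ^ t.val) :=
    ⟨⟨fun t => a ^ t.val, fun t => b ^ t.val, hadd a (hA a r.1), hadd b (hB b r.2.2.1), hbr⟩,
      fun _ => rfl, fun _ => rfl⟩
  obtain ⟨φ, hrange, hu, hl⟩ := R.exists_hom
  have hspan : R.span = Subgroup.closure ({a, b} : Set G) := rel_span_eq R a b hRu hRl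
  rw [← hspan, ← hrange]
  refine sl2_image_iso φ ⟨slU 1, slL 1, ?_⟩
  rw [hu, hl]
  rw [hRu, hRl, ZMod.val_one, pow_one, pow_one]
  intro hc
  exact r.2.1 (r1_eq_one_of_normalizes hs.1 r.1 (unipotent_inf_eq hs.1
    (unipotent_conj (r1_right_mem hs.1) (Subgroup.mem_sup_left r.1)) (r1_right_mem hs.1) fun hbot => by
      have hmem : b ∈ conjBy B a ⊓ B := by
        refine ⟨mem_conjBy.2 ?_, r.2.2.1⟩
        rw [mul_assoc, ← hc, inv_mul_cancel_left]
        exact r.2.2.1
      rw [hbot, Subgroup.mem_bot] at hmem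
      exact r.2.2.2.1 hmem))

end Pair

end CfsgLib.RootSub
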