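/-
Siegel transvections of the hyperbolic quadratic form.
-/
import Cfsg.Prelude.Def_Classical
import Cfsg.Agent.Lib.RootSub.IncidentPairs

set_option autoImplicit false

namespace CfsgLib.RootSub.Siegel

open Cfsg Matrix

variable {M : ℕ} {F : Type*} [Field F]

local notation "V" => Fin M ⊕ Fin M → F
local notation "Q" => quadFormPlus M F

/-- The covector attached to a vector by the polar form. -/
def dual (v : Fin M ⊕ Fin M → F) : Fin M ⊕ Fin M → F := fun i => v i.swap

/-- The polar form. -/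
def bil (u v : Fin M ⊕ Fin M → F) : F := dual v ⬝ᵥ u

theorem bil_sum (u v : V) :
    bil u v = ∑ i, (u (.inl i) * v (.inr i) + u (.inr i) * v (.inl i)) := by
  simp only [bil, dual, dotProduct, Fintype.sum_sum_type, Sum.swap_inl, Sum.swap_inr,
    ← Finset.sum_add_distrib]
  exact Finset.sum_congr rfl fun i _ => by ring

theorem bil_eq (u v : V) : Q (u + v) - Q u - Q v = bil u v := by
  rw [bil_sum]
  simp only [quadFormPlus, Pi.add_apply, ← Finset.sum_sub_distrib]
  exact Finset.sum_congr rfl fun i _ => by ring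

theorem bil_comm (u v : V) : bil u v = bil v u := by
  rw [bil_sum, bil_sum]
  exact Finset.sum_congr rfl fun i _ => by ring

theorem bil_add_left (u v w : V) : bil (u + v) w = bil u w + bil v w := dotProduct_add _ _ _

theorem bil_add_right (u v w : V) : bil u (v + w) = bil u v + bil u w := by
  rw [bil_comm u, bil_add_left, bil_comm v, bil_comm w]

theorem bil_smul_left (a : F) (u v : V) : bil (a • u) v = a * bil u v := by
  rw [bil, dotProduct_smul, smul_eq_mul, bil]

theorem bil_smul_right (a : F) (u v : V) : bil u (a • v) = a * bil u v := by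
  rw [bil_comm u, bil_smul_left, bil_comm v]

theorem bil_sub_left (u v w : V) : bil (u - v) w = bil u w - bil v w := dotProduct_sub _ _ _

theorem bil_sub_right (u v w : V) : bil u (v - w) = bil u v - bil u w := by
  rw [bil_comm u, bil_sub_left, bil_comm v, bil_comm w]

theorem bil_neg_left (u v : V) : bil (-u) v = -bil u v := dotProduct_neg _ _

theorem bil_neg_right (u v : V) : bil u (-v) = -bil u v := by
  rw [bil_comm u, bil_neg_left, bil_comm v]

theorem Q_add (u v : V) : Q (u + v) = Q u + Q v + bil u v := by rw [← bil_eq]; ring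

theorem Q_smul (a : F) (v : V) : Q (a • v) = a * a * Q v := by
  simp only [quadFormPlus, Pi.smul_apply, smul_eq_mul, Finset.mul_sum]
  exact Finset.sum_congr rfl fun i _ => by ring

theorem bil_self (v : V) : bil v v = 2 * Q v := by
  rw [← bil_eq, ← two_smul F v, Q_smul]; ring

theorem exists_bil_ne_zero {v : V} (hv : v ≠ 0) : ∃ u, bil v u ≠ 0 := by
  have hd : dual v ≠ 0 := fun h => hv (funext fun i => by
    simpa [dual] using congrFun h i.swap)
  obtain ⟨x, hx⟩ := exists_dot_ne_zero hd
  exact ⟨x, by rw [bil_comm]; exact hx⟩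

theorem eq_of_bil {u v : V} (h : ∀ w, bil u w = bil v w) : u = v := by
  by_contra hne
  obtain ⟨w, hw⟩ := exists_bil_ne_zero (sub_ne_zero.2 hne)
  exact hw (by rw [bil_sub_left, h, sub_self])

/-- A singular line with a chosen basis. -/
structure Line (M : ℕ) (F : Type*) [Field F] where
  /-- first vector -/
  p : Fin M ⊕ Fin M → F
  /-- second vector -/
  r : Fin M ⊕ Fin M → F
  indep : ∀ a b : F, a • p + b • r = 0 → a = 0 ∧ b = 0
  pp : quadFormPlus M F p = 0
  rr : quadFormPlus M F r = 0
  pr : bil p r = 0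

theorem Line.p_ne (l : Line M F) : l.p ≠ 0 := fun h =>
  one_ne_zero (l.indep 1 0 (by rw [h]; simp)).1

theorem Line.bpp (l : Line M F) : bil l.p l.p = 0 := by rw [bil_self, l.pp, mul_zero]
theorem Line.brr (l : Line M F) : bil l.r l.r = 0 := by rw [bil_self, l.rr, mul_zero]
theorem Line.brp (l : Line M F) : bil l.r l.p = 0 := by rw [bil_comm, l.pr]

/-- The Siegel transvection matrix. -/
def sMat (l : Line M F) (c : F) : Matrix (Fin M ⊕ Fin M) (Fin M ⊕ Fin M) F :=
  1 + c • (vecMulVec l.p (dual l.r) - vecMulVec l.r (dual l.p))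

theorem sMat_mulVec (l : Line M F) (c : F) (x : Fin M ⊕ Fin M → F) :
    sMat l c *ᵥ x = x + c • (bil x l.r • l.p - bil x l.p • l.r) := by
  simp only [sMat, add_mulVec, one_mulVec, smul_mulVec, sub_mulVec, vecMulVec_mulVec,
    op_smul_eq_smul, bil]

theorem sMat_Q (l : Line M F) (c : F) (x : Fin M ⊕ Fin M → F) : Q (sMat l c *ᵥ x) = Q x := by
  rw [sMat_mulVec, Q_add, Q_smul, bil_smul_right, bil_sub_right, bil_smul_right, bil_smul_right,
    sub_eq_add_neg (bil x l.r • l.p), ← neg_smul, Q_add, Q_smul, Q_smul, l.pp, l.rr, bil_smul_left,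
    bil_smul_right, l.pr]
  ring

theorem sMat_add (l : Line M F) (c d : F) : sMat l c * sMat l d = sMat l (c + d) := by
  refine mat_ext fun x => ?_
  simp only [← mulVec_mulVec, sMat_mulVec, bil_add_left, bil_sub_left, bil_smul_left, l.pr, l.brp,
    l.bpp, l.brr, mul_zero, sub_zero, add_zero]
  module

theorem sMat_zero (l : Line M F) : sMat l 0 = 1 := by simp [sMat]

/-- The Siegel transvection as an invertible matrix. -/
def sUnit (l : Line M F) (c : F) : GL (Fin M ⊕ Fin M) F :=
  ⟨sMat l c, sMat l (-c), by rw [sMat_add, add_neg_cancel, sMat_zero],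
    by rw [sMat_add, neg_add_cancel, sMat_zero]⟩

/-- The Siegel transvection as an isometry. -/
def sv (l : Line M F) (c : F) : isometryGroup F (quadFormPlus M F) :=
  ⟨sUnit l c, fun u _ => sMat_Q l c u⟩

/-- The matrix of an isometry. -/
abbrev mat (g : isometryGroup F (quadFormPlus M F)) : Matrix (Fin M ⊕ Fin M) (Fin M ⊕ Fin M) F :=
  ((g : GL (Fin M ⊕ Fin M) F) : Matrix (Fin M ⊕ Fin M) (Fin M ⊕ Fin M) F)

theorem mat_sv (l : Line M F) (c : F) : mat (sv l c) = sMat l c := rfl

theorem mat_ext' {g h : isometryGroup F (quadFormPlus M F)} (e : mat g = mat h) : g = h :=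
  Subtype.ext (Units.ext e)

theorem iso_Q (g : isometryGroup F (quadFormPlus M F)) (x : Fin M ⊕ Fin M → F) :
    Q (mat g *ᵥ x) = Q x := g.2 x x

theorem iso_bil (g : isometryGroup F (quadFormPlus M F)) (x y : Fin M ⊕ Fin M → F) :
    bil (mat g *ᵥ x) (mat g *ᵥ y) = bil x y := by
  rw [← bil_eq, ← bil_eq, ← mulVec_add, iso_Q, iso_Q, iso_Q]

theorem sv_add (l : Line M F) (c d : F) : sv l c * sv l d = sv l (c + d) :=
  mat_ext' (sMat_add l c d)

/-- `c ↦ sv l c`. -/
def svHom (l : Line M F) : Multiplicative F →* isometryGroup F (quadFormPlus M F) :=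
  MonoidHom.mk' (fun c => sv l c.toAdd) fun _ _ => (sv_add l _ _).symm

/-- The Siegel transvection group of a line. -/
def T (l : Line M F) : Subgroup (isometryGroup F (quadFormPlus M F)) := (svHom l).range

theorem mem_T {l : Line M F} {g : isometryGroup F (quadFormPlus M F)} :
    g ∈ T l ↔ ∃ c, sv l c = g :=
  ⟨fun ⟨c, h⟩ => ⟨c.toAdd, h⟩, fun ⟨c, h⟩ => ⟨Multiplicative.ofAdd c, h⟩⟩

theorem sv_mem (l : Line M F) (c : F) : sv l c ∈ T l := mem_T.2 ⟨c, rfl⟩

theorem sv_zero (l : Line M F) : sv l 0 = 1 := mat_ext' (sMat_zero l)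

theorem sv_inv (l : Line M F) (c : F) : (sv l c)⁻¹ = sv l (-c) :=
  inv_eq_of_mul_eq_one_right (by rw [sv_add, add_neg_cancel, sv_zero])

theorem exists_dual_vectors (l : Line M F) :
    ∃ x y, bil x l.p = 1 ∧ bil x l.r = 0 ∧ bil y l.p = 0 ∧ bil y l.r = 1 := by
  have h : ∀ a b : V, (∀ s t : F, s • a + t • b = 0 → s = 0 ∧ t = 0) →
      ∃ x, bil x a = 1 ∧ bil x b = 0 := by
    intro a b hab
    have ha : dual a ≠ 0 := fun e => one_ne_zero (hab 1 0 (by
      have : a = 0 := funext fun i => by simpa [dual] using congrFun e i.swap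
      rw [this]; simp)).1
    have hc : ∀ c : F, dual a + dual b ≠ c • dual a := by
      intro c e
      have : (1 - c) • a + (1 : F) • b = 0 := by
        funext i
        have := congrFun e i.swap
        simp only [dual, Pi.add_apply, Pi.smul_apply, Sum.swap_swap, smul_eq_mul] at this
        simp only [Pi.add_apply, Pi.smul_apply, smul_eq_mul, Pi.zero_apply]
        linear_combination this
      exact one_ne_zero (hab _ _ this).2
    obtain ⟨x, h1, h2⟩ := exists_common_one ha hc
    rw [add_dotProduct, h1] at h2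
    exact ⟨x, h1, add_left_cancel (h2.trans (add_zero 1).symm)⟩
  obtain ⟨x, hx⟩ := h l.p l.r l.indep
  obtain ⟨y, hy⟩ := h l.r l.p fun s t e => (l.indep t s (by rwa [add_comm])).symm
  exact ⟨x, y, hx.1, hx.2, hy.2, hy.1⟩

theorem T_ne_bot (l : Line M F) : T l ≠ ⊥ := by
  intro h
  obtain ⟨-, y, -, -, hyp, hyr⟩ := exists_dual_vectors l
  have h1 := congrArg (fun g => mat g *ᵥ y) (Subgroup.mem_bot.1 (h ▸ sv_mem l (1 : F)))
  have h2 : sMat l 1 *ᵥ y = y := h1.trans (one_mulVec y)
  rw [sMat_mulVec, hyp, hyr, one_smul, one_smul, zero_smul, sub_zero, add_eq_left] at h2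
  exact l.p_ne h2

/-- The isometries fixing the perpendicular space of a line pointwise. -/
theorem T_eq (l : Line M F) (g : isometryGroup F (quadFormPlus M F)) :
    (∀ v : Fin M ⊕ Fin M → F, bil v l.p = 0 → bil v l.r = 0 → mat g *ᵥ v = v) ↔ g ∈ T l := by
  constructor
  swap
  · intro hg v h1 h2
    obtain ⟨c, rfl⟩ := mem_T.1 hg
    rw [mat_sv, sMat_mulVec, h1, h2]
    simp
  intro hfix
  obtain ⟨x, y, hxp, hxr, hyp, hyr⟩ := exists_dual_vectors l
  have hdec : ∀ z : V, mat g *ᵥ z =
      z + bil z l.p • (mat g *ᵥ x - x) + bil z l.r • (mat g *ᵥ y - y) := by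
    intro z
    have h := hfix (z - bil z l.p • x - bil z l.r • y)
      (by simp only [bil_sub_left, bil_smul_left, hxp, hyp]; ring)
      (by simp only [bil_sub_left, bil_smul_left, hxr, hyr]; ring)
    simp only [mulVec_sub, mulVec_smul] at h
    rw [← sub_eq_zero] at h ⊢
    rw [← h]
    module
  have hd : ∀ u : V, ∃ a b : F, mat g *ᵥ u - u = a • l.p + b • l.r ∧
      a = bil (mat g *ᵥ u - u) x ∧ b = bil (mat g *ᵥ u - u) y := by
    intro u
    refine ⟨_, _, eq_of_bil fun w => ?_, rfl, rfl⟩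
    set D := mat g *ᵥ u - u with hD
    have hperp : ∀ z : V, bil z l.p = 0 → bil z l.r = 0 → bil D z = 0 := by
      intro z h1 h2
      have h3 := iso_bil g u z
      rw [hfix z h1 h2] at h3
      rw [hD, bil_sub_left, h3, sub_self]
    have h0 := hperp (w - bil w l.p • x - bil w l.r • y)
      (by simp only [bil_sub_left, bil_smul_left, hxp, hyp]; ring)
      (by simp only [bil_sub_left, bil_smul_left, hxr, hyr]; ring)
    simp only [bil_sub_right, bil_smul_right] at h0
    simp only [bil_add_left, bil_smul_left, bil_comm l.p w, bil_comm l.r w]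
    linear_combination h0
  obtain ⟨a₁, b₁, hd₁, -, -⟩ := hd x
  obtain ⟨a₂, b₂, hd₂, -, -⟩ := hd y
  have hx' : mat g *ᵥ x = x + (a₁ • l.p + b₁ • l.r) := by rw [← hd₁]; abel
  have hy' : mat g *ᵥ y = y + (a₂ • l.p + b₂ • l.r) := by rw [← hd₂]; abel
  have hQl : ∀ a b : F, Q (a • l.p + b • l.r) = 0 := fun a b => by
    rw [Q_add, Q_smul, Q_smul, l.pp, l.rr, bil_smul_left, bil_smul_right, l.pr]; ring
  have e1 : a₁ = 0 := by
    have h := iso_Q g x
    rw [hx', Q_add, hQl, bil_add_right, bil_smul_right, bil_smul_right, hxp, hxr] at h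
    linear_combination h
  have e2 : b₂ = 0 := by
    have h := iso_Q g y
    rw [hy', Q_add, hQl, bil_add_right, bil_smul_right, bil_smul_right, hyp, hyr] at h
    linear_combination h
  have e3 : b₁ = -a₂ := by
    have h := iso_bil g x y
    rw [hx', hy', e1, e2] at h
    simp only [bil_add_left, bil_add_right, bil_smul_left, bil_smul_right, l.pr, l.brp, l.bpp, l.brr,
      bil_comm l.r y, bil_comm l.p y, hxp, hxr, hyp, hyr] at h
    linear_combination h
  refine mem_T.2 ⟨a₂, mat_ext' (mat_ext fun z => ?_)⟩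
  rw [mat_sv, sMat_mulVec, hdec z, hd₁, hd₂, e1, e2, e3]
  module

/-- Two lines with the same span have the same group. -/
theorem T_congr (l l' : Line M F) {a b c e : F} (hp : l'.p = a • l.p + b • l.r)
    (hr : l'.r = c • l.p + e • l.r) : T l' = T l := by
  have hs : ∀ t, sMat l' t = sMat l (t * (a * e - b * c)) := by
    intro t
    refine mat_ext fun x => ?_
    simp only [sMat_mulVec, hp, hr, bil_add_right, bil_smul_right]
    module
  have hdet : a * e - b * c ≠ 0 := by
    intro h0
    refine T_ne_bot l' (eq_bot_iff.2 fun g hg => ?_)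
    obtain ⟨t, rfl⟩ := mem_T.1 hg
    exact Subgroup.mem_bot.2 (mat_ext' (by rw [mat_sv, hs, h0, mul_zero, sMat_zero]; rfl))
  ext g
  rw [mem_T, mem_T]
  constructor
  · rintro ⟨t, rfl⟩
    exact ⟨t * (a * e - b * c), mat_ext' (hs t).symm⟩
  · rintro ⟨t, rfl⟩
    exact ⟨t / (a * e - b * c), mat_ext' (by rw [mat_sv, hs, div_mul_cancel₀ _ hdet]; rfl)⟩

end CfsgLib.RootSub.Siegel
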