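/-
Pairs of Siegel transvection groups.
-/
import Cfsg.Agent.Lib.RootSub.SiegelBasic

set_option autoImplicit false

namespace CfsgLib.RootSub.Siegel

open Cfsg Matrix
open scoped commutatorElement

variable {M : ℕ} {F : Type*} [Field F]

/-- A new basis of a line. -/
def Line.change (l : Line M F) (a b c e : F) (h : a * e - b * c ≠ 0) : Line M F where
  p := a • l.p + b • l.r
  r := c • l.p + e • l.r
  indep s t hst := by
    have h' := l.indep (s * a + t * c) (s * b + t * e) (by rw [← hst]; module)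
    constructor
    · have : s * (a * e - b * c) = 0 := by linear_combination e * h'.1 - c * h'.2
      simpa [h] using this
    · have : t * (a * e - b * c) = 0 := by linear_combination a * h'.2 - b * h'.1
      simpa [h] using this
  pp := by rw [Q_add, Q_smul, Q_smul, l.pp, l.rr, bil_smul_left, bil_smul_right, l.pr]; ring
  rr := by rw [Q_add, Q_smul, Q_smul, l.pp, l.rr, bil_smul_left, bil_smul_right, l.pr]; ring
  pr := by
    simp only [bil_add_left, bil_add_right, bil_smul_left, bil_smul_right, l.bpp, l.brr, l.pr, l.brp]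
    ring

theorem T_change (l : Line M F) (a b c e : F) (h : a * e - b * c ≠ 0) :
    T (l.change a b c e h) = T l := T_congr l _ rfl rfl

/-- The plane on `(p, r')`. -/
def planeOne (l l' : Line M F) (h1 : bil l.p l'.p = 1) (h2 : bil l.p l'.r = 0) (h4 : bil l.r l'.r = 1) :
    Plane (Fin M ⊕ Fin M) F where
  v := l.p
  w := l'.r
  l := dual l.r
  m := dual l'.p
  lv := by show bil l.p l.r = 0; exact l.pr
  lw := by show bil l'.r l.r = 1; rw [bil_comm]; exact h4
  mv := h1
  mw := by show bil l'.r l'.p = 0; exact l'.brp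

/-- The plane on `(r, -p')`. -/
def planeTwo (l l' : Line M F) (h1 : bil l.p l'.p = 1) (h4 : bil l.r l'.r = 1) :
    Plane (Fin M ⊕ Fin M) F where
  v := l.r
  w := -l'.p
  l := -dual l.p
  m := dual l'.r
  lv := by rw [neg_dotProduct]; show -bil l.r l.p = 0; rw [l.brp, neg_zero]
  lw := by rw [neg_dotProduct_neg]; show bil l'.p l.p = 1; rw [bil_comm]; exact h1
  mv := h4
  mw := by rw [dotProduct_neg]; show -bil l'.p l'.r = 0; rw [l'.pr, neg_zero]

section Opposite

variable (l l' : Line M F) (h1 : bil l.p l'.p = 1) (h2 : bil l.p l'.r = 0) (h3 : bil l.r l'.p = 0)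
  (h4 : bil l.r l'.r = 1)

include h3 in
theorem planes_commute (g h : Matrix (Fin 2) (Fin 2) F) :
    (planeOne l l' h1 h2 h4).mat g * (planeTwo l l' h1 h4).mat h =
      (planeTwo l l' h1 h4).mat h * (planeOne l l' h1 h2 h4).mat g := by
  have a1 : dual l.r ⬝ᵥ l.r = 0 := l.brr
  have a2 : dual l.r ⬝ᵥ l'.p = 0 := by show bil l'.p l.r = 0; rw [bil_comm]; exact h3
  have a3 : dual l'.p ⬝ᵥ l.r = 0 := h3
  have a4 : dual l'.p ⬝ᵥ l'.p = 0 := l'.bpp
  have a5 : dual l.p ⬝ᵥ l.p = 0 := l.bpp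
  have a6 : dual l.p ⬝ᵥ l'.r = 0 := by show bil l'.r l.p = 0; rw [bil_comm]; exact h2
  have a7 : dual l'.r ⬝ᵥ l.p = 0 := h2
  have a8 : dual l'.r ⬝ᵥ l'.r = 0 := l'.brr
  refine mat_ext fun x => ?_
  simp only [← mulVec_mulVec, Plane.mat_mulVec, planeOne, planeTwo, dotProduct_add, dotProduct_smul,
    dotProduct_neg, neg_dotProduct, a1, a2, a3, a4, a5, a6, a7, a8, neg_zero, smul_zero, add_zero]
  module

/-- SL₂ on the two planes simultaneously. -/
def etaHom : SpecialLinearGroup (Fin 2) F →* Matrix (Fin M ⊕ Fin M) (Fin M ⊕ Fin M) F :=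
  { toFun := fun g => (planeOne l l' h1 h2 h4).hom g * (planeTwo l l' h1 h4).hom g
    map_one' := by rw [map_one, map_one, mul_one]
    map_mul' := fun g h => by
      have hc := planes_commute l l' h1 h2 h3 h4 (h : Matrix (Fin 2) (Fin 2) F) (g : Matrix (Fin 2) (Fin 2) F)
      rw [map_mul, map_mul]
      simp only [Plane.hom_apply]
      rw [mul_assoc, mul_assoc]
      congr 1
      rw [← mul_assoc, hc, mul_assoc] }

include h1 h2 h3 h4 in
theorem etaHom_slU (t : F) : etaHom l l' h1 h2 h3 h4 (slU t) = sMat l t := by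
  show (planeOne l l' h1 h2 h4).hom (slU t) * (planeTwo l l' h1 h4).hom (slU t) = _
  rw [Plane.hom_slU, Plane.hom_slU]
  refine mat_ext fun x => ?_
  have a1 : dual l.r ⬝ᵥ l.r = 0 := l.brr
  simp only [← mulVec_mulVec, tvMat_mulVec, sMat_mulVec, planeOne, planeTwo, dotProduct_add,
    dotProduct_smul, neg_dotProduct, a1, smul_zero, add_zero, bil]
  module

theorem etaHom_slL (t : F) : etaHom l l' h1 h2 h3 h4 (slL t) = sMat l' (-t) := by
  show (planeOne l l' h1 h2 h4).hom (slL t) * (planeTwo l l' h1 h4).hom (slL t) = _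
  rw [Plane.hom_slL, Plane.hom_slL]
  refine mat_ext fun x => ?_
  have a1 : dual l'.p ⬝ᵥ l'.p = 0 := l'.bpp
  simp only [← mulVec_mulVec, tvMat_mulVec, sMat_mulVec, planeOne, planeTwo, dotProduct_add,
    dotProduct_smul, dotProduct_neg, a1, neg_zero, smul_zero, add_zero, bil]
  module

theorem etaHom_injective : Function.Injective (etaHom l l' h1 h2 h3 h4) := by
  intro g h e
  apply (planeOne l l' h1 h2 h4).hom_injective
  have a1 : dual l.p ⬝ᵥ l.p = 0 := l.bpp
  have a2 : dual l.p ⬝ᵥ l'.r = 0 := by show bil l'.r l.p = 0; rw [bil_comm]; exact h2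
  have a3 : dual l'.r ⬝ᵥ l.p = 0 := h2
  have a4 : dual l'.r ⬝ᵥ l'.r = 0 := l'.brr
  have hsplit : ∀ (g : SpecialLinearGroup (Fin 2) F) (x : Fin M ⊕ Fin M → F),
      etaHom l l' h1 h2 h3 h4 g *ᵥ x =
        (planeOne l l' h1 h2 h4).hom g *ᵥ x +
          ((planeTwo l l' h1 h4).hom g *ᵥ x - x) := by
    intro g x
    show ((planeOne l l' h1 h2 h4).hom g * (planeTwo l l' h1 h4).hom g) *ᵥ x = _
    rw [Plane.hom_apply, Plane.hom_apply, planes_commute l l' h1 h2 h3 h4, ← mulVec_mulVec,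
      Plane.mat_mulVec, Plane.mat_mulVec, Plane.mat_mulVec]
    simp only [planeOne, planeTwo, dotProduct_add, dotProduct_smul, neg_dotProduct, a1, a2, a3, a4,
      neg_zero, smul_zero, add_zero]
    module
  refine mat_ext fun x => ?_
  -- split off the part of `x` in the first plane
  set P := planeOne l l' h1 h2 h4 with hP
  have hval : ∀ (g : SpecialLinearGroup (Fin 2) F) (a b : F),
      etaHom l l' h1 h2 h3 h4 g *ᵥ (a • l.p + b • l'.r) = P.hom g *ᵥ (a • l.p + b • l'.r) := by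
    intro g a b
    rw [hsplit, Plane.hom_apply (planeTwo l l' h1 h4), Plane.mat_mulVec]
    simp only [planeTwo, dotProduct_add, dotProduct_smul, neg_dotProduct, a1, a2, a3, a4,
      neg_zero, smul_zero, add_zero, mul_zero, zero_smul, sub_self]
  have hP' : ∀ g : SpecialLinearGroup (Fin 2) F,
      P.hom g *ᵥ x = P.hom g *ᵥ ((P.m ⬝ᵥ x) • l.p + (P.l ⬝ᵥ x) • l'.r) +
        (x - ((P.m ⬝ᵥ x) • l.p + (P.l ⬝ᵥ x) • l'.r)) := by
    intro g
    have hv : P.v = l.p := rfl
    have hw : P.w = l'.r := rfl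
    have b1 : P.m ⬝ᵥ l.p = 1 := P.mv
    have b2 : P.m ⬝ᵥ l'.r = 0 := P.mw
    have b3 : P.l ⬝ᵥ l.p = 0 := P.lv
    have b4 : P.l ⬝ᵥ l'.r = 1 := P.lw
    simp only [Plane.hom_apply, Plane.mat_mulVec, hv, hw, dotProduct_add, dotProduct_smul, b1, b2, b3,
      b4, smul_eq_mul, mul_one, mul_zero, add_zero, zero_add]
    module
  rw [hP' g, hP' h, ← hval g, ← hval h, e]

include h1 h2 h3 h4 in
/-- SL₂ inside the isometry group. -/
theorem exists_sl2 : ∃ φ : SpecialLinearGroup (Fin 2) F →* isometryGroup F (quadFormPlus M F),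
    Function.Injective φ ∧ (upperUnipotentSL2 F).map φ = T l ∧ (lowerUnipotentSL2 F).map φ = T l' := by
  have hex : ∀ g, ∃ x : isometryGroup F (quadFormPlus M F), mat x = etaHom l l' h1 h2 h3 h4 g := by
    intro g
    induction g using sl2_induction with
    | h1 => exact ⟨1, (map_one _).symm⟩
    | hU t => exact ⟨sv l t, (etaHom_slU l l' h1 h2 h3 h4 t).symm⟩
    | hL t => exact ⟨sv l' (-t), (etaHom_slL l l' h1 h2 h3 h4 t).symm⟩
    | hmul x y hx hy =>
      obtain ⟨a, ha⟩ := hx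
      obtain ⟨b, hb⟩ := hy
      exact ⟨a * b, by rw [map_mul, ← ha, ← hb]; rfl⟩
  choose ψ hψ using hex
  refine ⟨MonoidHom.mk' ψ fun g g' => mat_ext' (by
    show _ = mat (ψ g) * mat (ψ g'); rw [hψ, hψ, hψ, map_mul]), fun g g' e => ?_, ?_, ?_⟩
  · exact etaHom_injective l l' h1 h2 h3 h4 (by rw [← hψ, ← hψ, show ψ g = ψ g' from e])
  · ext x
    rw [Subgroup.mem_map, mem_T]
    constructor
    · rintro ⟨y, hy, rfl⟩
      obtain ⟨t, rfl⟩ := mem_upperUnipotent.1 hy
      exact ⟨t, mat_ext' (by rw [mat_sv]; exact ((hψ _).trans (etaHom_slU l l' h1 h2 h3 h4 t)).symm)⟩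
    · rintro ⟨c, rfl⟩
      exact ⟨slU c, slU_mem _, mat_ext' ((hψ _).trans (etaHom_slU l l' h1 h2 h3 h4 c))⟩
  · ext x
    rw [Subgroup.mem_map, mem_T]
    constructor
    · rintro ⟨y, hy, rfl⟩
      obtain ⟨t, rfl⟩ := mem_lowerUnipotent.1 hy
      exact ⟨-t, mat_ext' (by rw [mat_sv]; exact ((hψ _).trans (etaHom_slL l l' h1 h2 h3 h4 t)).symm)⟩
    · rintro ⟨c, rfl⟩
      refine ⟨slL (-c), slL_mem _, mat_ext' ((hψ _).trans ?_)⟩
      rw [etaHom_slL, neg_neg]
      rfl

end Opposite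

/-- Lines with invertible pairing. -/
theorem opposite_sl2 (l l' : Line M F)
    (h : bil l.p l'.p * bil l.r l'.r - bil l.p l'.r * bil l.r l'.p ≠ 0) :
    ∃ φ : SpecialLinearGroup (Fin 2) F →* isometryGroup F (quadFormPlus M F),
      Function.Injective φ ∧ (upperUnipotentSL2 F).map φ = T l ∧ (lowerUnipotentSL2 F).map φ = T l' := by
  set D := bil l.p l'.p * bil l.r l'.r - bil l.p l'.r * bil l.r l'.p with hD
  set m := l'.change (bil l.r l'.r / D) (-bil l.r l'.p / D) (-bil l.p l'.r / D) (bil l.p l'.p / D) (by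
    have : bil l.r l'.r / D * (bil l.p l'.p / D) - -bil l.r l'.p / D * (-bil l.p l'.r / D) = D / (D * D) := by
      rw [hD]; field_simp
    rw [this]
    exact div_ne_zero h (mul_ne_zero h h)) with hm
  rw [← T_change l' _ _ _ _ _]
  refine exists_sl2 l m ?_ ?_ ?_ ?_ <;>
    simp only [hm, Line.change, bil_add_right, bil_smul_right] <;> field_simp <;> rw [hD] <;> ring

theorem T_commute_of_matrix (l l' : Line M F)
    (h : ∀ c e, sMat l c * sMat l' e = sMat l' e * sMat l c) : ⁅T l, T l'⁆ = ⊥ := by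
  rw [CfsgLib.RootSub.commutator_eq_bot_iff]
  intro a ha b hb
  obtain ⟨c, rfl⟩ := mem_T.1 ha
  obtain ⟨e, rfl⟩ := mem_T.1 hb
  exact mat_ext' (h c e)

/-- The commutator of two groups whose pairing has rank at most one, in normal form. -/
theorem sMat_commutator (l l' : Line M F) (h1 : bil l.p l'.p = 0) (h2 : bil l.p l'.r = 0)
    (h3 : bil l.r l'.p = 0) (c d : F) :
    sMat l c * sMat l' d * sMat l (-c) * sMat l' (-d) =
      1 + (-(c * d * bil l.r l'.r)) • (vecMulVec l.p (dual l'.p) - vecMulVec l'.p (dual l.p)) := by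
  refine mat_ext fun x => ?_
  have a1 : bil l'.p l.p = 0 := by rw [bil_comm]; exact h1
  have a2 : bil l'.r l.p = 0 := by rw [bil_comm]; exact h2
  have a3 : bil l'.p l.r = 0 := by rw [bil_comm]; exact h3
  have a4 : bil l'.r l.r = bil l.r l'.r := bil_comm _ _
  simp only [← mulVec_mulVec, sMat_mulVec, add_mulVec, one_mulVec, smul_mulVec, sub_mulVec,
    vecMulVec_mulVec, op_smul_eq_smul, bil_add_left, bil_sub_left, bil_smul_left, h1, h2, h3, a1, a2,
    a3, a4, l.pr, l.brp, l.bpp, l.brr, l'.pr, l'.brp, l'.bpp, l'.brr]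
  simp only [bil]
  module

/-- The three kinds of pairs. -/
theorem pair_cases (l l' : Line M F) :
    ⁅T l, T l'⁆ = ⊥ ∨
    (∃ φ : SpecialLinearGroup (Fin 2) F →* isometryGroup F (quadFormPlus M F),
      Function.Injective φ ∧ (upperUnipotentSL2 F).map φ = T l ∧ (lowerUnipotentSL2 F).map φ = T l') ∨
    (∃ (a b n : Line M F) (e : F), e ≠ 0 ∧ T a = T l ∧ T b = T l' ∧ bil a.p b.p = 0 ∧
      bil a.p n.p = 0 ∧ bil a.p n.r = 0 ∧ bil a.r n.p = 0 ∧ bil a.r n.r = 0 ∧
      bil b.p n.p = 0 ∧ bil b.p n.r = 0 ∧ bil b.r n.p = 0 ∧ bil b.r n.r = 0 ∧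
      ∀ c d, sv a c * sv b d * (sv a c)⁻¹ * (sv b d)⁻¹ = sv n (c * d * e)) := by
  by_cases h : bil l.p l'.p * bil l.r l'.r - bil l.p l'.r * bil l.r l'.p ≠ 0
  · exact Or.inr (Or.inl (opposite_sl2 l l' h))
  push Not at h
  obtain ⟨a, ha, ha1, ha2⟩ : ∃ a : Line M F, T a = T l ∧ bil a.p l'.p = 0 ∧ bil a.p l'.r = 0 := by
    by_cases h1 : bil l.p l'.p = 0
    · by_cases h2 : bil l.p l'.r = 0
      · exact ⟨l, rfl, h1, h2⟩
      · refine ⟨l.change (-(bil l.r l'.r / bil l.p l'.r)) 1 1 0 (by simp), T_change _ _ _ _ _ _, ?_, ?_⟩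
        · have : bil l.r l'.p = 0 := by
            rw [h1, zero_mul, zero_sub, neg_eq_zero, mul_eq_zero] at h
            exact h.resolve_left h2
          simp [Line.change, bil_add_left, bil_neg_left, bil_smul_left, h1, this]
        · simp only [Line.change, bil_add_left, bil_smul_left]
          field_simp
          ring
    · refine ⟨l.change (-(bil l.r l'.p / bil l.p l'.p)) 1 1 0 (by simp), T_change _ _ _ _ _ _, ?_, ?_⟩
      · simp only [Line.change, bil_add_left, bil_smul_left]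
        field_simp
        ring
      · simp only [Line.change, bil_add_left, bil_smul_left]
        field_simp
        linear_combination h
  obtain ⟨b, hb, hb1, hb2, hb3⟩ : ∃ b : Line M F, T b = T l' ∧ bil a.p b.p = 0 ∧ bil a.p b.r = 0 ∧
      bil a.r b.p = 0 := by
    by_cases h1 : bil a.r l'.p = 0
    · exact ⟨l', rfl, ha1, ha2, h1⟩
    · refine ⟨l'.change (-(bil a.r l'.r / bil a.r l'.p)) 1 1 0 (by simp), T_change _ _ _ _ _ _, ?_, ?_, ?_⟩
      · simp [Line.change, bil_add_right, bil_neg_right, bil_smul_right, ha1, ha2]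
      · simp [Line.change, bil_add_right, bil_smul_right, ha1]
      · simp only [Line.change, bil_add_right, bil_smul_right]
        field_simp
        ring
  have hkey := sMat_commutator a b hb1 hb2 hb3
  have hfix : ∀ c e, sMat a c * sMat b e * sMat a (-c) * sMat b (-e) = 1 →
      sMat a c * sMat b e = sMat b e * sMat a c := by
    intro c e h'
    calc sMat a c * sMat b e = sMat a c * sMat b e * sMat a (-c) * sMat b (-e) * (sMat b e * sMat a c) := by
          simp only [mul_assoc]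
          rw [← mul_assoc (sMat b (-e)), sMat_add, neg_add_cancel, sMat_zero, one_mul, sMat_add,
            neg_add_cancel, sMat_zero, mul_one]
      _ = _ := by rw [h', one_mul]
  by_cases he : bil a.r b.r = 0
  · refine Or.inl ?_
    rw [← ha, ← hb]
    refine T_commute_of_matrix a b fun c e => hfix c e ?_
    rw [hkey, he]
    simp
  by_cases hdep : ∀ s t : F, s • a.p + t • b.p = 0 → s = 0 ∧ t = 0
  swap
  · refine Or.inl ?_
    rw [← ha, ← hb]
    refine T_commute_of_matrix a b fun c e => hfix c e ?_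
    push Not at hdep
    obtain ⟨s, t, hst, hne⟩ := hdep
    obtain ⟨k, hk⟩ : ∃ k : F, b.p = k • a.p := by
      have ht : t ≠ 0 := fun ht => by
        rw [ht, zero_smul, add_zero, smul_eq_zero] at hst
        exact hne (hst.resolve_right a.p_ne) ht
      refine ⟨-(s / t), ?_⟩
      have h' : t⁻¹ • (s • a.p + t • b.p) = 0 := by rw [hst, smul_zero]
      rw [smul_add, smul_smul, smul_smul, inv_mul_cancel₀ ht, one_smul, ← eq_neg_iff_add_eq_zero] at h'
      rw [neg_smul, div_eq_inv_mul, h', neg_neg]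
    rw [hkey, hk]
    refine mat_ext fun x => ?_
    simp only [add_mulVec, one_mulVec, smul_mulVec, sub_mulVec, vecMulVec_mulVec, op_smul_eq_smul]
    rw [show dual (k • a.p) = k • dual a.p from rfl, smul_dotProduct, smul_smul]
    simp only [smul_eq_mul]
    module
  refine Or.inr (Or.inr ⟨a, b, ⟨a.p, b.p, hdep, a.pp, b.pp, hb1⟩, -bil a.r b.r, neg_ne_zero.2 he, ha, hb,
    hb1, a.bpp, hb1, a.brp, hb3, ?_, b.bpp, ?_, b.brp, fun c d => mat_ext' ?_⟩)
  · rw [bil_comm]; exact hb1
  · rw [bil_comm]; exact hb2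
  · show mat (sv a c) * mat (sv b d) * mat ((sv a c)⁻¹) * mat ((sv b d)⁻¹) = _
    rw [sv_inv, sv_inv, mat_sv, mat_sv, mat_sv, mat_sv, mat_sv, hkey, mul_neg, neg_mul_eq_mul_neg]
    rfl

/-- Lines with trivial pairing give commuting groups. -/
theorem T_commute_of_zero (l l' : Line M F) (h1 : bil l.p l'.p = 0) (h2 : bil l.p l'.r = 0)
    (h3 : bil l.r l'.p = 0) (h4 : bil l.r l'.r = 0) : ⁅T l, T l'⁆ = ⊥ := by
  refine T_commute_of_matrix l l' fun c e => mat_ext fun x => ?_
  have a1 : bil l'.p l.p = 0 := by rw [bil_comm]; exact h1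
  have a2 : bil l'.r l.p = 0 := by rw [bil_comm]; exact h2
  have a3 : bil l'.p l.r = 0 := by rw [bil_comm]; exact h3
  have a4 : bil l'.r l.r = 0 := by rw [bil_comm]; exact h4
  simp only [← mulVec_mulVec, sMat_mulVec, bil_add_left, bil_sub_left, bil_smul_left, h1, h2, h3, h4,
    a1, a2, a3, a4]
  module

end CfsgLib.RootSub.Siegel
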