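/-
Connectedness of the graph of opposite singular lines.
-/
import Cfsg.Agent.Lib.RootSub.SiegelPairs

set_option autoImplicit false

namespace CfsgLib.RootSub.Siegel

open Cfsg Matrix Module

variable {M : ℕ} {F : Type*} [Field F]

local notation "V" => Fin M ⊕ Fin M → F
local notation "Q" => quadFormPlus M F

/-- `bil · v` as a linear form. -/
def bilForm (v : Fin M ⊕ Fin M → F) : (Fin M ⊕ Fin M → F) →ₗ[F] F where
  toFun u := bil u v
  map_add' u w := bil_add_left u w v
  map_smul' a u := bil_smul_left a u v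

/-- The common perpendicular of two vectors. -/
def perp (p q : Fin M ⊕ Fin M → F) : Submodule F (Fin M ⊕ Fin M → F) :=
  LinearMap.ker ((bilForm p).prod (bilForm q))

theorem mem_perp {p q x : V} : x ∈ perp p q ↔ bil x p = 0 ∧ bil x q = 0 := by
  simp [perp, bilForm, Prod.ext_iff]

theorem perp_not_small (hM : 3 ≤ M) (p q a b : V) :
    ∃ z ∈ perp p q, z ∉ Submodule.span F ({a, b} : Set V) := by
  classical
  by_contra hcon
  push Not at hcon
  have h1 : finrank F (perp p q) ≤ 2 := by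
    refine (Submodule.finrank_mono hcon).trans ?_
    have := finrank_span_finset_le_card (R := F) ({a, b} : Finset V)
    rw [Finset.coe_insert, Finset.coe_singleton] at this
    exact this.trans Finset.card_le_two
  have h2 := LinearMap.finrank_range_add_finrank_ker ((bilForm p).prod (bilForm q))
  have h3 : finrank F (LinearMap.range ((bilForm p).prod (bilForm q))) ≤ 2 := by
    refine (Submodule.finrank_le _).trans ?_
    rw [Module.finrank_prod, Module.finrank_self]
  have h4 : finrank F V = M + M := by simp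
  rw [h4] at h2
  change _ + finrank F (perp p q) = _ at h2
  omega

theorem exists_aniso_perp (hM : 3 ≤ M) (p q : V)
    (hnd : ∀ w ∈ perp p q, w ≠ 0 → ∃ u ∈ perp p q, bil w u ≠ 0)
    {a b : V} (ha : a ∈ perp p q) (hb : b ∈ perp p q) (haa : bil a a = 0) (hbb : bil b b = 0)
    (he : bil a b ≠ 0) : ∃ y ∈ perp p q, bil a y = 0 ∧ bil b y = 0 ∧ Q y ≠ 0 := by
  let π : V → V := fun z => z - (bil z b / bil a b) • a - (bil z a / bil a b) • b
  have hπ : ∀ z ∈ perp p q, π z ∈ perp p q := fun z hz =>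
    sub_mem (sub_mem hz (Submodule.smul_mem _ _ ha)) (Submodule.smul_mem _ _ hb)
  have hπa : ∀ z, bil a (π z) = 0 := fun z => by
    simp only [π, bil_sub_right, bil_smul_right, haa]
    rw [bil_comm z a, div_mul_cancel₀ _ he]
    ring
  have hπb : ∀ z, bil b (π z) = 0 := fun z => by
    simp only [π, bil_sub_right, bil_smul_right, hbb, bil_comm b a]
    rw [bil_comm z b, div_mul_cancel₀ _ he]
    ring
  by_contra hcon
  push Not at hcon
  obtain ⟨z, hz, hzn⟩ := perp_not_small hM p q a b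
  have hne : π z ≠ 0 := by
    intro h0
    apply hzn
    have hzd : z = (bil z b / bil a b) • a + (bil z a / bil a b) • b := by
      rw [← sub_eq_zero, ← h0]; simp only [π]; abel
    rw [hzd]
    exact Submodule.add_mem _ (Submodule.smul_mem _ _ (Submodule.subset_span (by simp)))
      (Submodule.smul_mem _ _ (Submodule.subset_span (by simp)))
  obtain ⟨u, hu, hu0⟩ := hnd _ (hπ z hz) hne
  have hzu : bil (π z) (π u) = bil (π z) u := by
    show bil (π z) (u - _ - _) = _
    simp only [bil_sub_right, bil_smul_right, bil_comm (π z) a, bil_comm (π z) b, hπa, hπb]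
    ring
  have h1 := hcon _ (hπ z hz) (hπa z) (hπb z)
  have h2 := hcon _ (hπ u hu) (hπa u) (hπb u)
  have h3 := hcon _ (add_mem (hπ z hz) (hπ u hu)) (by rw [bil_add_right, hπa, hπa, add_zero])
    (by rw [bil_add_right, hπb, hπb, add_zero])
  rw [Q_add, h1, h2, hzu] at h3
  exact hu0 (by simpa using h3)

/-- Two singular vectors have a common singular non-neighbour. -/
theorem exists_common (hM : 3 ≤ M) (p q : V)
    (hnd : ∀ w ∈ perp p q, w ≠ 0 → ∃ u ∈ perp p q, bil w u ≠ 0)
    {a b : V} (ha : a ∈ perp p q) (hb : b ∈ perp p q) (ha0 : a ≠ 0) (hb0 : b ≠ 0)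
    (hqa : Q a = 0) (hqb : Q b = 0) :
    ∃ x ∈ perp p q, Q x = 0 ∧ bil a x ≠ 0 ∧ bil b x ≠ 0 := by
  have haa : bil a a = 0 := by rw [bil_self, hqa, mul_zero]
  have hbb : bil b b = 0 := by rw [bil_self, hqb, mul_zero]
  by_cases he : bil a b = 0
  · obtain ⟨u₁, hu₁, h₁⟩ := hnd a ha ha0
    obtain ⟨u₂, hu₂, h₂⟩ := hnd b hb hb0
    obtain ⟨u, hu, hua, hub⟩ : ∃ u ∈ perp p q, bil a u ≠ 0 ∧ bil b u ≠ 0 := by
      by_cases e1 : bil b u₁ = 0
      · by_cases e2 : bil a u₂ = 0
        · exact ⟨u₁ + u₂, add_mem hu₁ hu₂, by rw [bil_add_right, e2, add_zero]; exact h₁,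
            by rw [bil_add_right, e1, zero_add]; exact h₂⟩
        · exact ⟨u₂, hu₂, e2, h₂⟩
      · exact ⟨u₁, hu₁, h₁, e1⟩
    refine ⟨u - (Q u / bil a u) • a, sub_mem hu (Submodule.smul_mem _ _ ha), ?_, ?_, ?_⟩
    · rw [sub_eq_add_neg, ← neg_smul, Q_add, Q_smul, hqa, bil_smul_right, bil_comm u a]
      field_simp
      ring
    · rwa [bil_sub_right, bil_smul_right, haa, mul_zero, sub_zero]
    · rwa [bil_sub_right, bil_smul_right, bil_comm b a, he, mul_zero, sub_zero]
  · obtain ⟨y, hy, hay, hby, hqy⟩ := exists_aniso_perp hM p q hnd ha hb haa hbb he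
    refine ⟨a + (-(Q y) / bil a b) • b + y, add_mem (add_mem ha (Submodule.smul_mem _ _ hb)) hy, ?_, ?_, ?_⟩
    · rw [Q_add, Q_add, Q_smul, hqa, hqb, bil_smul_right, bil_add_left, bil_smul_left, hay, hby,
        div_mul_cancel₀ _ he]
      ring
    · rw [bil_add_right, bil_add_right, bil_smul_right, haa, hay, div_mul_cancel₀ _ he]
      simpa using hqy
    · rw [bil_add_right, bil_add_right, bil_smul_right, hbb, hby, bil_comm b a]
      simpa using he

theorem nondeg_hyperbolic {p q : V} (hpp : bil p p = 0) (hqq : bil q q = 0) (hpq : bil p q = 1) :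
    ∀ w ∈ perp p q, w ≠ 0 → ∃ u ∈ perp p q, bil w u ≠ 0 := by
  intro w hw hw0
  rw [mem_perp] at hw
  obtain ⟨u, hu⟩ := exists_bil_ne_zero hw0
  refine ⟨u - bil u q • p - bil u p • q, ?_, ?_⟩
  · rw [mem_perp]
    simp only [bil_sub_left, bil_smul_left, hpp, hqq, hpq, bil_comm q p]
    constructor <;> ring
  · simp only [bil_sub_right, bil_smul_right, hw.1, hw.2]
    simpa using hu

/-- Any two singular lines have a common opposite line. -/
theorem exists_opposite (hM : 3 ≤ M) (l l' : Line M F) :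
    ∃ n : Line M F, bil l.p n.p * bil l.r n.r - bil l.p n.r * bil l.r n.p ≠ 0 ∧
      bil l'.p n.p * bil l'.r n.r - bil l'.p n.r * bil l'.r n.p ≠ 0 := by
  have hnd0 : ∀ w ∈ perp (0 : V) 0, w ≠ 0 → ∃ u ∈ perp (0 : V) 0, bil w u ≠ 0 := fun w _ hw => by
    obtain ⟨u, hu⟩ := exists_bil_ne_zero hw
    refine ⟨u, ?_, hu⟩
    simp [mem_perp, bil, dual, dotProduct]
  have hmem0 : ∀ v : V, v ∈ perp (0 : V) 0 := fun v => by simp [mem_perp, bil, dual, dotProduct]
  obtain ⟨p, -, hqp, hlp, hlp'⟩ :=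
    exists_common hM 0 0 hnd0 (hmem0 l.p) (hmem0 l'.p) l.p_ne l'.p_ne l.pp l'.pp
  have hp0 : p ≠ 0 := fun h => hlp (by rw [h, bil_comm]; simp [bil])
  have hbpp : bil p p = 0 := by rw [bil_self, hqp, mul_zero]
  obtain ⟨u, hu⟩ := exists_bil_ne_zero hp0
  obtain ⟨u₁, hpu⟩ : ∃ u₁ : V, bil p u₁ = 1 :=
    ⟨(bil p u)⁻¹ • u, by rw [bil_smul_right, inv_mul_cancel₀ hu]⟩
  obtain ⟨q, hpq, hqq0⟩ : ∃ q : V, bil p q = 1 ∧ Q q = 0 := by
    refine ⟨u₁ - Q u₁ • p, ?_, ?_⟩
    · rw [bil_sub_right, bil_smul_right, hbpp, hpu]; ring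
    · rw [sub_eq_add_neg, ← neg_smul, Q_add, Q_smul, hqp, bil_smul_right, bil_comm u₁ p, hpu]
      ring
  have hbqq : bil q q = 0 := by rw [bil_self, hqq0, mul_zero]
  have key : ∀ (l : Line M F), bil l.p p ≠ 0 → ∃ k : V, k ∈ perp p q ∧ k ≠ 0 ∧ Q k = 0 ∧
      ∀ x ∈ perp p q, bil k x = bil (bil l.p p • l.r - bil l.r p • l.p) x := by
    intro l hlp
    set k := bil l.p p • l.r - bil l.r p • l.p with hk
    have hkp : bil k p = 0 := by rw [hk, bil_sub_left, bil_smul_left, bil_smul_left]; ring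
    have hk0 : Q k = 0 := by
      rw [hk, sub_eq_add_neg, ← neg_smul, Q_add, Q_smul, Q_smul, l.pp, l.rr, bil_smul_left,
        bil_smul_right, l.brp]
      ring
    refine ⟨k - bil k q • p, ?_, ?_, ?_, ?_⟩
    · rw [mem_perp]
      simp only [bil_sub_left, bil_smul_left, hkp, hbpp, hpq]
      constructor <;> ring
    · intro h0
      have hkl : bil k l.p = 0 := by
        rw [hk, bil_sub_left, bil_smul_left, bil_smul_left, l.brp, l.bpp]; ring
      have h1 : bil (k - bil k q • p) l.p = 0 := by rw [h0]; simp [bil]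
      rw [bil_sub_left, bil_smul_left, hkl, bil_comm p l.p, zero_sub, neg_eq_zero] at h1
      have hkq : bil k q = 0 := (mul_eq_zero.1 h1).resolve_right hlp
      rw [hkq, zero_smul, sub_zero, hk] at h0
      exact hlp (l.indep (-bil l.r p) (bil l.p p) (by rw [← h0]; module)).2
    · rw [sub_eq_add_neg, ← neg_smul, Q_add, Q_smul, hk0, hqp, bil_smul_right, hkp]
      ring
    · intro x hx
      rw [mem_perp] at hx
      rw [bil_sub_left, bil_smul_left, bil_comm p x, hx.1, mul_zero, sub_zero]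
  obtain ⟨k, hk, hk0, hkQ, hkx⟩ := key l hlp
  obtain ⟨k', hk', hk0', hkQ', hkx'⟩ := key l' hlp'
  obtain ⟨r, hr, hrQ, hr1, hr2⟩ :=
    exists_common hM p q (nondeg_hyperbolic hbpp hbqq hpq) hk hk' hk0 hk0' hkQ hkQ'
  rw [hkx r hr, bil_sub_left, bil_smul_left, bil_smul_left] at hr1
  rw [hkx' r hr, bil_sub_left, bil_smul_left, bil_smul_left] at hr2
  have hrp := (mem_perp.1 hr).1
  have hind : ∀ s t : F, s • p + t • r = 0 → s = 0 ∧ t = 0 := by
    intro s t hst
    have h1 : bil (s • p + t • r) q = 0 := by rw [hst]; simp [bil]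
    rw [bil_add_left, bil_smul_left, bil_smul_left, hpq, (mem_perp.1 hr).2] at h1
    have hs : s = 0 := by simpa using h1
    rw [hs, zero_smul, zero_add, smul_eq_zero] at hst
    refine ⟨hs, hst.resolve_right fun h => hr1 ?_⟩
    rw [h, bil_comm l.r, bil_comm l.p 0]
    simp [bil]
  exact ⟨⟨p, r, hind, hqp, hrQ, by rw [bil_comm]; exact hrp⟩, fun h => hr1 (by linear_combination h),
    fun h => hr2 (by linear_combination h)⟩

end CfsgLib.RootSub.Siegel
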