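/-
The special linear and the symplectic group of a space are generated by transvections.
-/
import Mathlib
import Cfsg.Agent.Lib.Linear.Transvection

set_option autoImplicit false

namespace CfsgLib.RootSub

open Matrix

variable {k : Type*} [Field k] {A : Type*} [AddCommGroup A] [Module k A] [FiniteDimensional k A]

theorem tvgen_special (S : Subgroup (A ≃ₗ[k] A))
    (hS : ∀ (f : Module.Dual k A) (v : A) (h : f v = 0), LinearEquiv.transvection h ∈ S)
    (g : A ≃ₗ[k] A) (hg : LinearMap.det (g : A →ₗ[k] A) = 1) : g ∈ S := by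
  let b := Module.finBasis k A
  have main : ∀ M : Matrix.SpecialLinearGroup (Fin (Module.finrank k A)) k,
      ∃ f ∈ S, LinearMap.toMatrix b b (f : A →ₗ[k] A) = M.1 := by
    refine CfsgLib.Linear.SL_transvection_induction _ ⟨1, one_mem _, ?_⟩ (fun i j hij c => ?_) ?_
    · exact (LinearMap.toMatrix_id b).trans rfl
    · have h : (b.coord j) (c • b i) = 0 := by
        simp [Finsupp.single_apply, hij]
      refine ⟨_, hS _ _ h, ?_⟩
      rw [LinearEquiv.transvection.coe_toLinearMap]
      ext l m
      rw [Matrix.SpecialLinearGroup.transvection_coe, LinearMap.toMatrix_apply,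
        LinearMap.transvection.apply, map_add, map_smul, map_smul, Module.Basis.coord_apply,
        Module.Basis.repr_self, Module.Basis.repr_self]
      simp [Matrix.one_apply, Matrix.single_apply, Finsupp.single_apply]
      by_cases h1 : i = l <;> by_cases h2 : m = j <;> simp [h1, h2, eq_comm]
      exact fun e => absurd e.symm h2
    · rintro M M' ⟨f, hf, e⟩ ⟨f', hf', e'⟩
      refine ⟨f * f', mul_mem hf hf', ?_⟩
      rw [show ((f * f' : A ≃ₗ[k] A) : A →ₗ[k] A) = (f : A →ₗ[k] A) ∘ₗ (f' : A →ₗ[k] A) from rfl,
        LinearMap.toMatrix_comp b b b, e, e']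
      rfl
  obtain ⟨f, hf, e⟩ := main ⟨LinearMap.toMatrix b b (g : A →ₗ[k] A),
    by rw [LinearMap.det_toMatrix, hg]⟩
  rwa [← LinearEquiv.toLinearMap_injective ((LinearMap.toMatrix b b).injective e)]

theorem tvgen_symplectic {B : LinearMap.BilinForm k A} (halt : B.IsAlt) (hnd : B.Nondegenerate)
    (S : Subgroup (A ≃ₗ[k] A))
    (hS : ∀ (v : A) (c : k) (h : (c • B v) v = 0), LinearEquiv.transvection h ∈ S)
    (g : A ≃ₗ[k] A) (hg : ∀ x y, B (g x) (g y) = B x y) : g ∈ S := by
  suffices ∀ n, ∀ g : A ≃ₗ[k] A, (∀ x y, B (g x) (g y) = B x y) →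
      Module.finrank k A ≤ Module.finrank k g.fixedSubmodule + n → g ∈ S by
    exact this _ g hg (Nat.le_add_left _ _)
  intro n
  induction n with
  | zero =>
    intro g _ hn
    have htop : g.fixedSubmodule = ⊤ :=
      Submodule.eq_top_of_finrank_eq (le_antisymm (Submodule.finrank_le _) (by simpa using hn))
    have : g = 1 := LinearEquiv.ext fun x => by
      simpa using (htop.symm ▸ Submodule.mem_top : x ∈ g.fixedSubmodule)
    rw [this]
    exact one_mem _
  | succ n ih =>
    intro g hg hn
    by_cases hfix : ∀ x, g x = x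
    · rw [show g = 1 from LinearEquiv.ext hfix]
      exact one_mem _
    push Not at hfix
    have htv : ∀ (v : A) (c : k), (c • B v) v = 0 := fun v c => by
      rw [LinearMap.smul_apply, halt v, smul_zero]
    have hiso : ∀ (v : A) (c : k) (x y : A),
        B (LinearEquiv.transvection (htv v c) x) (LinearEquiv.transvection (htv v c) y) = B x y := by
      intro v c x y
      simp only [LinearEquiv.transvection.apply, map_add, LinearMap.add_apply, map_smul,
        LinearMap.smul_apply, smul_eq_mul, halt v]
      rw [← LinearMap.IsAlt.neg halt v x]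
      ring
    have horth : ∀ w, g w = w → ∀ x, B (g x - x) w = 0 := fun w hw x => by
      rw [map_sub, LinearMap.sub_apply, sub_eq_zero]
      conv_lhs => rw [← hw]
      exact hg x w
    -- an element of `S` fixing the fixed vectors and sending `g x` to `x` finishes
    have step : ∀ (t : A ≃ₗ[k] A) (x : A), t ∈ S → (∀ a b, B (t a) (t b) = B a b) → g x ≠ x →
        t (g x) = x → (∀ w, g w = w → t w = w) → g ∈ S := by
      intro t x ht ht' hx htx htw
      have hlt : g.fixedSubmodule < (t * g).fixedSubmodule := by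
        refine lt_of_le_of_ne (fun w hw => ?_) fun e => ?_
        · have hw' : g w = w := by simpa using hw
          simp [LinearEquiv.mul_apply, hw', htw w hw']
        · refine hx ?_
          have : x ∈ (t * g).fixedSubmodule := by simp [LinearEquiv.mul_apply, htx]
          have h' : x ∈ g.fixedSubmodule := by rw [e]; exact this
          simpa using h'
      have := Submodule.finrank_lt_finrank_of_lt hlt
      have h := ih (t * g) (fun a b => by
        rw [LinearEquiv.mul_apply, LinearEquiv.mul_apply, ht', hg]) (by omega)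
      exact (S.mul_mem_cancel_left ht).1 h
    have move : ∀ (x y : A) (_ : B y x ≠ 0),
        (LinearEquiv.transvection (htv (x - y) (B x y)⁻¹) : A ≃ₗ[k] A) y = x := by
      intro x y h
      have hxy : B x y ≠ 0 := by rw [← LinearMap.IsAlt.neg halt]; exact neg_ne_zero.2 h
      rw [LinearEquiv.transvection.apply, LinearMap.smul_apply, map_sub, LinearMap.sub_apply,
        halt y, sub_zero, smul_eq_mul, inv_mul_cancel₀ hxy, one_smul, add_sub_cancel]
    have keep : ∀ (v w : A) (c : k), B v w = 0 →
        (LinearEquiv.transvection (htv v c) : A ≃ₗ[k] A) w = w := by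
      intro v w c h
      rw [LinearEquiv.transvection.apply, LinearMap.smul_apply, h, smul_zero, zero_smul, add_zero]
    by_cases h1 : ∃ x, B (g x) x ≠ 0
    · obtain ⟨x, hx⟩ := h1
      refine step _ x (hS _ _ (htv (x - g x) (B x (g x))⁻¹)) (hiso _ _) (fun e => hx ?_)
        (move x (g x) hx) fun w hw => keep _ _ _ ?_
      · rw [e]; exact halt x
      · rw [← neg_sub, map_neg, LinearMap.neg_apply, horth w hw x, neg_zero]
    push Not at h1
    obtain ⟨x, hx⟩ := hfix
    let F := g.fixedSubmodule
    -- a vector orthogonal to the fixed vectors but not to `x` or `g x`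
    have hex : ∀ u : A, u ∉ F → ∃ z, (∀ w ∈ F, B z w = 0) ∧ B u z ≠ 0 := by
      intro u hu
      obtain ⟨f, hf, hf'⟩ := Submodule.exists_dual_map_eq_bot_of_notMem hu inferInstance
      obtain ⟨z, hz⟩ : ∃ z, B z = f :=
        ⟨(LinearMap.BilinForm.toDual B hnd).symm f,
          (LinearMap.BilinForm.toDual B hnd).apply_symm_apply f⟩
      refine ⟨z, fun w hw => ?_, ?_⟩
      · rw [hz]
        exact (Submodule.mem_bot k).1 (hf' ▸ Submodule.mem_map_of_mem hw)
      · rw [← LinearMap.IsAlt.neg halt, hz]
        exact neg_ne_zero.2 hf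
    have hxF : x ∉ F := fun h => hx (by simpa [F] using h)
    have hgxF : g x ∉ F := fun h => hx (g.injective (by simpa [F] using h))
    obtain ⟨z, hzF, hzx, hzg⟩ : ∃ z, (∀ w ∈ F, B z w = 0) ∧ B x z ≠ 0 ∧ B (g x) z ≠ 0 := by
      obtain ⟨z1, hz1, hz1x⟩ := hex x hxF
      obtain ⟨z2, hz2, hz2x⟩ := hex (g x) hgxF
      by_cases e1 : B (g x) z1 = 0
      · by_cases e2 : B x z2 = 0
        · refine ⟨z1 + z2, fun w hw => by simp [hz1 w hw, hz2 w hw], ?_, ?_⟩
          · simpa [e2] using hz1x
          · simpa [e1] using hz2x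
        · exact ⟨z2, hz2, e2, hz2x⟩
      · exact ⟨z1, hz1, hz1x, e1⟩
    have hy1 : B (g x) (x + z) ≠ 0 := by rw [map_add, h1 x, zero_add]; exact hzg
    have hy2 : B (x + z) x ≠ 0 := by
      rw [map_add, LinearMap.add_apply, halt x, zero_add, ← LinearMap.IsAlt.neg halt]
      exact neg_ne_zero.2 hzx
    refine step (LinearEquiv.transvection (htv (x - (x + z)) (B x (x + z))⁻¹) *
      LinearEquiv.transvection (htv (x + z - g x) (B (x + z) (g x))⁻¹)) x
      (mul_mem (hS _ _ _) (hS _ _ _)) (fun a b => ?_) hx ?_ fun w hw => ?_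
    · rw [LinearEquiv.mul_apply, LinearEquiv.mul_apply, hiso, hiso]
    · rw [LinearEquiv.mul_apply, move (x + z) (g x) hy1, move x (x + z) hy2]
    · have hwF : w ∈ F := by simpa [F] using hw
      rw [LinearEquiv.mul_apply, keep (x + z - g x) w, keep (x - (x + z)) w]
      · rw [sub_add_cancel_left, map_neg, LinearMap.neg_apply, hzF w hwF, neg_zero]
      · rw [show x + z - g x = z - (g x - x) by abel, map_sub, LinearMap.sub_apply, hzF w hwF,
          horth w hw x, sub_zero]

end CfsgLib.RootSub
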