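/-
Systems of centre/axis pairs of transvections (after McLaughlin): classes of centres.
-/
import Mathlib

set_option autoImplicit false

namespace CfsgLib.RootSub

variable {k : Type*} [Field k]
variable {V : Type*} [AddCommGroup V] [Module k V]
variable {W : Type*} [AddCommGroup W] [Module k W]

/-- A set of (centre, axis) pairs closed as the transvections of a linear group are closed. -/
structure TVSys (β : V →ₗ[k] W →ₗ[k] k) (X : Set (V × W)) : Prop where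
  ne_left : ∀ {a φ}, (a, φ) ∈ X → a ≠ 0
  ne_right : ∀ {a φ}, (a, φ) ∈ X → φ ≠ 0
  perp : ∀ {a φ}, (a, φ) ∈ X → β a φ = 0
  add_left : ∀ {a b φ}, (a, φ) ∈ X → (b, φ) ∈ X → a + b ≠ 0 → (a + b, φ) ∈ X
  add_right : ∀ {a φ ψ}, (a, φ) ∈ X → (a, ψ) ∈ X → φ + ψ ≠ 0 → (a, φ + ψ) ∈ X
  smul_left : ∀ {a φ} {c : k}, c ≠ 0 → (a, φ) ∈ X → (c • a, φ) ∈ X
  smul_right : ∀ {a φ} {c : k}, c ≠ 0 → (a, φ) ∈ X → (a, c • φ) ∈ X
  conj : ∀ {a φ b ψ}, (a, φ) ∈ X → (b, ψ) ∈ X → (b + β b φ • a, ψ - β a ψ • φ) ∈ X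
  partner : ∀ {a φ}, (a, φ) ∈ X → ∃ b ψ, (b, ψ) ∈ X ∧ β b φ ≠ 0 ∧ β a ψ ≠ 0

variable (β : V →ₗ[k] W →ₗ[k] k) (X : Set (V × W))

/-- A centre. -/
def tvPt (a : V) : Prop := ∃ φ, (a, φ) ∈ X

/-- `b` is moved by a transvection with centre `a`. -/
def tvEdge (a b : V) : Prop := tvPt X b ∧ ∃ φ, (a, φ) ∈ X ∧ β b φ ≠ 0

/-- Same class: distance at most two. -/
def tvRel (a b : V) : Prop := tvEdge β X a b ∨ ∃ c, tvEdge β X a c ∧ tvEdge β X c b

/-- The span of the centres of the class. -/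
def tvA (a : V) : Submodule k V := Submodule.span k {b | tvRel β X a b}

/-- The span of the axes of the class. -/
def tvF (a : V) : Submodule k W := Submodule.span k {ψ | ∃ b, tvRel β X a b ∧ (b, ψ) ∈ X}

/-- The vectors killed by a set of functionals. -/
def tvPerp (F : Submodule k W) : Submodule k V where
  carrier := {v | ∀ ψ ∈ F, β v ψ = 0}
  zero_mem' := fun ψ _ => by rw [map_zero, LinearMap.zero_apply]
  add_mem' := fun {x y} hx hy ψ hψ => by
    rw [map_add, LinearMap.add_apply, hx ψ hψ, hy ψ hψ, add_zero]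
  smul_mem' := fun c x hx ψ hψ => by
    rw [map_smul, LinearMap.smul_apply, hx ψ hψ, smul_zero]

/-- The axes of the centre `a`, with zero. -/
def tvAxes (a : V) : Submodule k W := Submodule.span k {φ | (a, φ) ∈ X}

/-- The system with centres and axes exchanged. -/
def tvSwap : Set (W × V) := {q | (q.2, q.1) ∈ X}

variable {β X}

section
variable (hX : TVSys β X)
include hX

theorem tv_mem_axes {a : V} {φ : W} (h : φ ∈ tvAxes (k := k) X a) : φ = 0 ∨ (a, φ) ∈ X := by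
  induction h using Submodule.span_induction with
  | mem x hx => exact Or.inr hx
  | zero => exact Or.inl rfl
  | add x y _ _ hx hy =>
    by_cases e : x + y = 0
    · exact Or.inl e
    rcases hx with rfl | hx
    · rw [zero_add] at *
      exact hy
    rcases hy with rfl | hy
    · rw [add_zero] at *
      exact Or.inr hx
    exact Or.inr (hX.add_right hx hy e)
  | smul c x _ hx =>
    by_cases hc : c = 0
    · exact Or.inl (by rw [hc, zero_smul])
    rcases hx with rfl | hx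
    · exact Or.inl (smul_zero c)
    exact Or.inr (hX.smul_right hc hx)

omit hX in
theorem tv_axes_of_mem {a : V} {φ : W} (h : (a, φ) ∈ X) : φ ∈ tvAxes (k := k) X a :=
  Submodule.subset_span h

theorem tv_swap : TVSys β.flip (tvSwap X) where
  ne_left h := hX.ne_right h
  ne_right h := hX.ne_left h
  perp h := hX.perp h
  add_left h h' e := hX.add_right h h' e
  add_right h h' e := hX.add_left h h' e
  smul_left hc h := hX.smul_right hc h
  smul_right hc h := hX.smul_left hc h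
  conj {φ a ψ b} h h' := by
    have h1 : (a, -φ) ∈ X := neg_one_smul k φ ▸ hX.smul_right (neg_ne_zero.2 one_ne_zero) h
    have := hX.conj h1 h'
    simp only [map_neg, neg_smul, smul_neg, sub_neg_eq_add, ← sub_eq_add_neg] at this
    exact this
  partner {φ a} h := by
    obtain ⟨b, ψ, h1, h2, h3⟩ := hX.partner h
    exact ⟨ψ, b, h1, h3, h2⟩

omit hX in
theorem tvSwap_swap : tvSwap (tvSwap X) = X := rfl

/-- One-sided adjacency: the axis of the passive member is an axis of the active one. -/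
theorem tv_asym {a b : V} {φ ψ : W} (ha : (a, φ) ∈ X) (hb : (b, ψ) ∈ X) (h1 : β b φ ≠ 0)
    (h2 : β a ψ = 0) : (a, ψ) ∈ X := by
  have h3 := hX.conj ha hb
  rw [h2, zero_smul, sub_zero] at h3
  have h4 : (-b, ψ) ∈ X := neg_one_smul k b ▸ hX.smul_left (neg_ne_zero.2 one_ne_zero) hb
  have e : b + β b φ • a + -b = β b φ • a := by abel
  have h5 := hX.add_left h3 h4 (by rw [e]; exact smul_ne_zero h1 (hX.ne_left ha))
  rw [e] at h5
  have h6 := hX.smul_left (inv_ne_zero h1) h5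
  rwa [smul_smul, inv_mul_cancel₀ h1, one_smul] at h6

/-- Conjugation by a scalar multiple. -/
theorem tv_conj_smul {a b : V} {φ ψ : W} {s : k} (hs : s ≠ 0) (ha : (a, φ) ∈ X)
    (hb : (b, ψ) ∈ X) : (b + (s * β b φ) • a, ψ - (s * β a ψ) • φ) ∈ X := by
  have := hX.conj (hX.smul_right hs ha) hb
  simp only [map_smul, smul_eq_mul, smul_smul] at this
  rwa [mul_comm (β a ψ) s] at this

theorem tv_pt_of_rel {a b : V} (h : tvRel β X a b) : tvPt X b := by
  rcases h with h | ⟨c, _, h⟩ <;> exact h.1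

theorem tv_rel_refl {a : V} (ha : tvPt X a) : tvRel β X a a := by
  obtain ⟨φ, hφ⟩ := ha
  obtain ⟨b, ψ, hb, h1, h2⟩ := hX.partner hφ
  exact Or.inr ⟨b, ⟨⟨ψ, hb⟩, φ, hφ, h1⟩, ⟨φ, hφ⟩, ψ, hb, h2⟩

theorem tv_three {a c d b : V} (h1 : tvEdge β X a c) (h2 : tvEdge β X c d)
    (h3 : tvEdge β X d b) : tvRel β X a b := by
  by_cases hb : tvEdge β X c b
  · exact Or.inr ⟨c, h1, hb⟩
  by_cases hd : tvEdge β X a d
  · exact Or.inr ⟨d, hd, h3⟩
  obtain ⟨_, φ, hφ, hφc⟩ := h1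
  obtain ⟨_, χ, hχ, hχd⟩ := h2
  obtain ⟨hbp, η, hη, hηb⟩ := h3
  have hφd : β d φ = 0 := by
    by_contra h
    exact hd ⟨⟨η, hη⟩, φ, hφ, h⟩
  have hχb : β b χ = 0 := by
    by_contra h
    exact hb ⟨hbp, χ, hχ, h⟩
  have h' := hX.conj hχ hη
  refine Or.inr ⟨_, ⟨⟨_, h'⟩, φ, hφ, ?_⟩, hbp, _, h', ?_⟩
  · rw [map_add, LinearMap.add_apply, hφd, zero_add, map_smul, LinearMap.smul_apply, smul_eq_mul]
    exact mul_ne_zero hχd hφc
  · rw [map_sub, map_smul, hχb, smul_zero, sub_zero]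
    exact hηb

theorem tv_rel_edge {a c b : V} (h : tvRel β X a c) (h' : tvEdge β X c b) : tvRel β X a b := by
  rcases h with h | ⟨d, h1, h2⟩
  · exact Or.inr ⟨c, h, h'⟩
  · exact tv_three hX h1 h2 h'

theorem tv_rel_trans {a b c : V} (h : tvRel β X a b) (h' : tvRel β X b c) : tvRel β X a c := by
  rcases h' with h' | ⟨d, h1, h2⟩
  · exact tv_rel_edge hX h h'
  · exact tv_rel_edge hX (tv_rel_edge hX h h1) h2

theorem tv_edge_back {a b : V} (h : tvEdge β X a b) : tvRel β X b a := by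
  obtain ⟨⟨ψ, hψ⟩, φ, hφ, h1⟩ := h
  by_cases h2 : β a ψ = 0
  · have h3 := tv_asym hX hφ hψ h1 h2
    obtain ⟨d, η, hd, hd1, hd2⟩ := hX.partner h3
    exact Or.inr ⟨d, ⟨⟨η, hd⟩, ψ, hψ, hd1⟩, ⟨φ, hφ⟩, η, hd, hd2⟩
  · exact Or.inl ⟨⟨φ, hφ⟩, ψ, hψ, h2⟩

theorem tv_rel_symm {a b : V} (h : tvRel β X a b) : tvRel β X b a := by
  rcases h with h | ⟨c, h1, h2⟩
  · exact tv_edge_back hX h
  · exact tv_rel_trans hX (tv_edge_back hX h2) (tv_edge_back hX h1)

theorem tv_rel_left {a b : V} (h : tvRel β X a b) : tvPt X a :=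
  tv_pt_of_rel hX (tv_rel_symm hX h)

theorem tv_rel_conj {a b : V} {φ ψ : W} (ha : (a, φ) ∈ X) (hb : (b, ψ) ∈ X) :
    tvRel β X b (b + β b φ • a) := by
  by_cases h : β b φ = 0
  · rw [h, zero_smul, add_zero]
    exact tv_rel_refl hX ⟨ψ, hb⟩
  refine tv_rel_trans hX (tv_edge_back hX ⟨⟨ψ, hb⟩, φ, ha, h⟩)
    (Or.inl ⟨⟨_, hX.conj ha hb⟩, φ, ha, ?_⟩)
  rw [map_add, LinearMap.add_apply, map_smul, LinearMap.smul_apply, hX.perp ha, smul_zero, add_zero]
  exact h

theorem tv_rel_conj_smul {a b : V} {φ ψ : W} {s : k} (hs : s ≠ 0) (ha : (a, φ) ∈ X)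
    (hb : (b, ψ) ∈ X) : tvRel β X b (b + (s * β b φ) • a) := by
  have := tv_rel_conj hX (hX.smul_right hs ha) hb
  rwa [map_smul, smul_eq_mul] at this

theorem tv_rel_smul {a b : V} {c : k} (hc : c ≠ 0) (h : tvRel β X a b) : tvRel β X a (c • b) := by
  obtain ⟨ψ, hψ⟩ := tv_pt_of_rel hX h
  obtain ⟨d, η, hd, h1, h2⟩ := hX.partner hψ
  refine tv_rel_edge hX (tv_rel_trans hX h (Or.inl ⟨⟨η, hd⟩, ψ, hψ, h1⟩))
    ⟨⟨ψ, hX.smul_left hc hψ⟩, η, hd, ?_⟩
  rw [map_smul, LinearMap.smul_apply, smul_eq_mul]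
  exact mul_ne_zero hc h2

theorem tv_rel_same_axis {a b : V} {φ : W} (ha : (a, φ) ∈ X) (hb : (b, φ) ∈ X) :
    tvRel β X a b := by
  obtain ⟨d, η, hd, h1, _⟩ := hX.partner ha
  exact tv_rel_trans hX (Or.inl ⟨⟨η, hd⟩, φ, ha, h1⟩)
    (tv_edge_back hX ⟨⟨η, hd⟩, φ, hb, h1⟩)

theorem tv_class_eq {a b : V} (h : tvRel β X a b) :
    tvA β X a = tvA β X b ∧ tvF β X a = tvF β X b := by
  have e : ∀ c, tvRel β X a c ↔ tvRel β X b c := fun c =>
    ⟨fun h' => tv_rel_trans hX (tv_rel_symm hX h) h', fun h' => tv_rel_trans hX h h'⟩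
  simp only [tvA, tvF, e, and_self]

omit hX in
theorem tv_mem_A {a b : V} (h : tvRel β X a b) : b ∈ tvA β X a := Submodule.subset_span h

omit hX in
theorem tv_mem_F {a b : V} {ψ : W} (h : tvRel β X a b) (hb : (b, ψ) ∈ X) : ψ ∈ tvF β X a :=
  Submodule.subset_span ⟨b, h, hb⟩

/-- Centres of the class are not killed by the axes of the class. -/
theorem tv_not_perp {a b : V} (h : tvRel β X a b) : b ∉ tvPerp β (tvF β X a) := by
  intro hb
  obtain ⟨ψ, hψ⟩ := tv_pt_of_rel hX h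
  obtain ⟨d, η, hd, h1, h2⟩ := hX.partner hψ
  exact h2 (hb η (tv_mem_F (tv_rel_trans hX h (Or.inl ⟨⟨η, hd⟩, ψ, hψ, h1⟩)) hd))

/-- Members of different classes do not meet. -/
theorem tv_cross {a b : V} {φ : W} (ha : (a, φ) ∈ X) (hb : tvPt X b) (h : ¬ tvRel β X a b) :
    β b φ = 0 := by
  by_contra e
  exact h (Or.inl ⟨hb, φ, ha, e⟩)

omit hX in
theorem tv_exists_gen {F : Set W} {v : V} (h : v ∉ tvPerp β (Submodule.span k F)) :
    ∃ ψ ∈ F, β v ψ ≠ 0 := by
  by_contra hne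
  push Not at hne
  refine h fun ψ hψ => ?_
  exact (Submodule.span_le.2 (fun x hx => LinearMap.mem_ker.2 (hne x hx)) :
    Submodule.span k F ≤ LinearMap.ker (β v)) hψ

theorem tv_sum_core (h2 : (2 : k) ≠ 0) {a b c : V} {φ ψ χ : W} (ha : (a, φ) ∈ X)
    (hb : (b, ψ) ∈ X) (hperp : ∀ φ', (a, φ') ∈ X → β b φ' = 0) (hc : (c, χ) ∈ X)
    (hac : tvRel β X a c) (hχb : β b χ ≠ 0) (hχf : β (a + b) χ ≠ 0) :
    tvRel β X b (a + b) := by
  have key : ∀ {d : V} {η φ' : W}, (d, η) ∈ X → (a, φ') ∈ X → β d φ' ≠ 0 → β b η ≠ 0 →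
      β (a + b) η ≠ 0 → tvRel β X b (a + b) := by
    intro d η φ' hd ha' h1 h2' h3
    have hbφ := hperp φ' ha'
    have r1 := hX.conj hd hb
    have q1 := tv_rel_conj hX hd hb
    generalize hb1 : b + β b η • d = b1 at r1 q1
    have e1 : β b1 φ' ≠ 0 := by
      rw [← hb1, map_add, LinearMap.add_apply, hbφ, zero_add, map_smul, LinearMap.smul_apply,
        smul_eq_mul]
      exact mul_ne_zero h2' h1
    have r2 := tv_conj_smul hX (inv_ne_zero e1) ha' r1
    have q2 := tv_rel_conj_smul hX (inv_ne_zero e1) ha' r1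
    rw [inv_mul_cancel₀ e1, one_smul] at r2 q2
    have e2 : β (b1 + a) η = β (a + b) η := by
      rw [← hb1]
      simp only [map_add, LinearMap.add_apply, map_smul, LinearMap.smul_apply, hX.perp hd,
        smul_zero, add_zero]
      exact add_comm _ _
    have hu : -(β b η * (β (a + b) η)⁻¹) ≠ 0 :=
      neg_ne_zero.2 (mul_ne_zero h2' (inv_ne_zero h3))
    have q3 := tv_rel_conj_smul hX hu hd r2
    rw [e2, neg_mul, mul_assoc, inv_mul_cancel₀ h3, mul_one, neg_smul] at q3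
    have e3 : b1 + a + -(β b η • d) = a + b := by rw [← hb1]; abel
    rw [e3] at q3
    exact tv_rel_trans hX q1 (tv_rel_trans hX q2 q3)
  rcases hac with ⟨_, φ', ha', h1⟩ | ⟨d, ⟨_, φ', ha', h1⟩, _, η, hd, hηc⟩
  · exact key hc ha' h1 hχb hχf
  by_cases hq : β b η ≠ 0 ∧ β (a + b) η ≠ 0
  · exact key hd ha' h1 hq.1 hq.2
  by_cases hφc : β c φ' ≠ 0
  · exact key hc ha' hφc hχb hχf
  push Not at hφc
  obtain ⟨s, hs, hs1, hs2⟩ : ∃ s : k, s ≠ 0 ∧ β b χ - s * β d χ * β b η ≠ 0 ∧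
      β (a + b) χ - s * β d χ * β (a + b) η ≠ 0 := by
    by_contra hne
    push Not at hne
    have p1 := hne 1 one_ne_zero
    have p2 := hne (-1) (neg_ne_zero.2 one_ne_zero)
    have q : ∀ {u w : k}, u - 1 * w = 0 → u - -1 * w = 0 → u = 0 := fun {u w} e e' => by
      have : 2 * u = 0 := by linear_combination e + e'
      exact (mul_eq_zero.1 this).resolve_left h2
    rcases not_and_or.1 hq with hq | hq <;> push Not at hq <;>
      simp only [hq, mul_zero, sub_zero] at p1 p2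
    · refine hχf (q (w := β d χ * β (a + b) η) ?_ ?_)
      · rw [← mul_assoc]; exact p1 hχb
      · rw [← mul_assoc]; exact p2 hχb
    · refine hχb (q (w := β d χ * β b η) ?_ ?_)
      · rw [← mul_assoc]; by_contra e; exact hχf (p1 e)
      · rw [← mul_assoc]; by_contra e; exact hχf (p2 e)
  refine key (tv_conj_smul hX hs hd hc) ha' ?_ ?_ ?_
  · rw [map_add, LinearMap.add_apply, hφc, zero_add, map_smul, LinearMap.smul_apply, smul_eq_mul]
    exact mul_ne_zero (mul_ne_zero hs hηc) h1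
  · rwa [map_sub, map_smul, smul_eq_mul]
  · rwa [map_sub, map_smul, smul_eq_mul]

theorem tv_sum (h2 : (2 : k) ≠ 0) {a b : V} (hab : tvRel β X a b)
    (hf : a + b ∉ tvPerp β (tvF β X a)) : tvRel β X a (a + b) := by
  obtain ⟨ψ, hψ⟩ := tv_pt_of_rel hX hab
  obtain ⟨φ, hφ⟩ := tv_rel_left hX hab
  by_cases hA : ∃ φ', (a, φ') ∈ X ∧ β b φ' ≠ 0
  · obtain ⟨φ', h1, h1'⟩ := hA
    have h := tv_rel_conj_smul hX (inv_ne_zero h1') h1 hψ
    rw [inv_mul_cancel₀ h1', one_smul, add_comm] at h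
    exact tv_rel_trans hX hab h
  by_cases hB : ∃ ψ', (b, ψ') ∈ X ∧ β a ψ' ≠ 0
  · obtain ⟨ψ', h1, h1'⟩ := hB
    have h := tv_rel_conj_smul hX (inv_ne_zero h1') h1 hφ
    rwa [inv_mul_cancel₀ h1', one_smul] at h
  push Not at hA hB
  obtain ⟨χ, ⟨c, hac, hc⟩, hχ⟩ := tv_exists_gen hf
  by_cases hχb : β b χ = 0
  · have hχa : β a χ ≠ 0 := by
      intro e
      exact hχ (by rw [map_add, LinearMap.add_apply, e, hχb, add_zero])
    have h := tv_sum_core hX h2 hψ hφ hB hc (tv_rel_trans hX (tv_rel_symm hX hab) hac) hχa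
      (by rwa [add_comm])
    rwa [add_comm] at h
  · exact tv_rel_trans hX hab (tv_sum_core hX h2 hφ hψ hA hc hac hχb hχ)

/-- Every vector of the span of a class which is not killed by its axes is a centre of it. -/
theorem tv_span_point (h2 : (2 : k) ≠ 0) {a f : V} (ha : tvPt X a) (hf : f ∈ tvA β X a)
    (hfp : f ∉ tvPerp β (tvF β X a)) : tvRel β X a f := by
  have hsum : ∀ {x y}, tvRel β X a x → tvRel β X a y → x + y ∉ tvPerp β (tvF β X a) →
      tvRel β X a (x + y) := fun {x y} hx hy h =>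
    tv_rel_trans hX hx (tv_sum hX h2 (tv_rel_trans hX (tv_rel_symm hX hx) hy)
      ((tv_class_eq hX hx).2 ▸ h))
  have main : ∀ g ∈ tvA β X a, ∀ x, tvRel β X a x →
      x + g ∉ tvPerp β (tvF β X a) → tvRel β X a (x + g) := by
    intro g hg
    induction hg using Submodule.span_induction with
    | mem g hg => exact fun x hx h => hsum hx hg h
    | zero => exact fun x hx _ => by rwa [add_zero]
    | add g g' _ _ ih ih' =>
      intro x hx h
      by_cases h1 : x + g ∈ tvPerp β (tvF β X a)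
      swap
      · rw [← add_assoc] at h ⊢
        exact ih' _ (ih x hx h1) h
      by_cases h1' : x + g' ∈ tvPerp β (tvF β X a)
      swap
      · rw [add_comm g g', ← add_assoc] at h ⊢
        exact ih _ (ih' x hx h1') h
      have e : x + (g + g') = ((2 : k)⁻¹ • x + g) + ((2 : k)⁻¹ • x + g') := by
        rw [show x + (g + g') = ((2 : k)⁻¹ + (2 : k)⁻¹) • x + (g + g') by
          rw [← two_mul, mul_inv_cancel₀ h2, one_smul], add_smul]
        abel
      have hx2 : tvRel β X a ((2 : k)⁻¹ • x) := tv_rel_smul hX (inv_ne_zero h2) hx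
      have hh : ∀ {g}, x + g ∈ tvPerp β (tvF β X a) →
          (2 : k)⁻¹ • x + g ∉ tvPerp β (tvF β X a) := by
        intro g hg hg'
        have := sub_mem hg hg'
        rw [add_sub_add_right_eq_sub] at this
        have e2 : x - (2 : k)⁻¹ • x = (2 : k)⁻¹ • x := by
          rw [sub_eq_iff_eq_add, ← add_smul, ← two_mul, mul_inv_cancel₀ h2, one_smul]
        rw [e2] at this
        exact tv_not_perp hX hx2 this
      rw [e] at h ⊢
      exact hsum (ih _ hx2 (hh h1)) (ih' _ hx2 (hh h1')) h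
    | smul c g _ ih =>
      intro x hx h
      by_cases hc : c = 0
      · rw [hc, zero_smul, add_zero]
        exact hx
      have e : x + c • g = c • (c⁻¹ • x + g) := by
        rw [smul_add, smul_smul, mul_inv_cancel₀ hc, one_smul]
      rw [e] at h ⊢
      exact tv_rel_smul hX hc (ih _ (tv_rel_smul hX (inv_ne_zero hc) hx)
        fun h' => h (Submodule.smul_mem _ c h'))
  have := main (f - a) (sub_mem hf (tv_mem_A (tv_rel_refl hX ha))) a (tv_rel_refl hX ha)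
  rw [add_sub_cancel] at this
  exact this hfp

/-! ### Exchanging centres and axes -/

omit hX in
theorem tvEdge_swap {φ ψ : W} :
    tvEdge β.flip (tvSwap X) φ ψ ↔ tvPt (tvSwap X) ψ ∧ ∃ a, (a, φ) ∈ X ∧ β a ψ ≠ 0 := Iff.rfl

theorem tv_rel_of_swap_edge {φ ψ : W} {a b : V} (h : tvEdge β.flip (tvSwap X) φ ψ)
    (ha : (a, φ) ∈ X) (hb : (b, ψ) ∈ X) : tvRel β X a b := by
  obtain ⟨_, a', ha', h'⟩ := h
  exact tv_rel_trans hX (tv_rel_same_axis hX ha ha') (tv_edge_back hX ⟨⟨φ, ha'⟩, ψ, hb, h'⟩)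

theorem tv_rel_of_swap {φ ψ : W} {a b : V} (h : tvRel β.flip (tvSwap X) φ ψ)
    (ha : (a, φ) ∈ X) (hb : (b, ψ) ∈ X) : tvRel β X a b := by
  rcases h with h | ⟨χ, h1, h2⟩
  · exact tv_rel_of_swap_edge hX h ha hb
  · obtain ⟨c, hc⟩ := h1.1
    exact tv_rel_trans hX (tv_rel_of_swap_edge hX h1 ha hc) (tv_rel_of_swap_edge hX h2 hc hb)

theorem tv_swap_rel_of_edge {φ ψ : W} {a b : V} (h : tvEdge β X a b)
    (ha : (a, φ) ∈ X) (hb : (b, ψ) ∈ X) : tvRel β.flip (tvSwap X) φ ψ := by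
  obtain ⟨_, φ', ha', h'⟩ := h
  have hY := tv_swap hX
  exact tv_rel_trans hY (tv_rel_same_axis hY (ha : (φ, a) ∈ tvSwap X) ha')
    (tv_edge_back hY ⟨⟨a, ha'⟩, b, hb, h'⟩)

theorem tv_swap_rel {φ ψ : W} {a b : V} (h : tvRel β X a b)
    (ha : (a, φ) ∈ X) (hb : (b, ψ) ∈ X) : tvRel β.flip (tvSwap X) φ ψ := by
  rcases h with h | ⟨c, h1, h2⟩
  · exact tv_swap_rel_of_edge hX h ha hb
  · obtain ⟨χ, hc⟩ := h1.1
    exact tv_rel_trans (tv_swap hX) (tv_swap_rel_of_edge hX h1 ha hc)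
      (tv_swap_rel_of_edge hX h2 hc hb)

theorem tv_swap_A {φ : W} {a : V} (ha : (a, φ) ∈ X) :
    tvA β.flip (tvSwap X) φ = tvF β X a := by
  refine congrArg (Submodule.span k) (Set.ext fun ψ => ⟨fun h => ?_, ?_⟩)
  · obtain ⟨b, hb⟩ := tv_pt_of_rel (tv_swap hX) h
    exact ⟨b, tv_rel_of_swap hX h ha hb, hb⟩
  · rintro ⟨b, hab, hb⟩
    exact tv_swap_rel hX hab ha hb

theorem tv_swap_F {φ : W} {a : V} (ha : (a, φ) ∈ X) :
    tvF β.flip (tvSwap X) φ = tvA β X a := by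
  refine congrArg (Submodule.span k) (Set.ext fun b => ⟨?_, fun h => ?_⟩)
  · rintro ⟨ψ, h, hb⟩
    exact tv_rel_of_swap hX h ha hb
  · obtain ⟨ψ, hb⟩ := tv_pt_of_rel hX h
    exact ⟨ψ, tv_swap_rel hX h ha hb, hb⟩

end

end CfsgLib.RootSub
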