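/-
Systems of centre/axis pairs of transvections: a class is full linear or symplectic.
-/
import Cfsg.Agent.Lib.RootSub.TVSysBasic

set_option autoImplicit false

namespace CfsgLib.RootSub

variable {k : Type*} [Field k]
variable {V : Type*} [AddCommGroup V] [Module k V]
variable {W : Type*} [AddCommGroup W] [Module k W]

/-- Two members which agree modulo the radicals of the class are equal. -/
def TVRigid (β : V →ₗ[k] W →ₗ[k] k) (X : Set (V × W)) : Prop :=
  ∀ {a f : V} {φ ψ : W}, (a, φ) ∈ X → (f, ψ) ∈ X → tvRel β X a f →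
    a - f ∈ tvPerp β (tvF β X a) → (∀ b ∈ tvA β X a, β b φ = β b ψ) → a = f ∧ φ = ψ

/-- A subspace is spanned by what is outside two proper subspaces (characteristic not two). -/
theorem tv_outside_span (h2 : (2 : k) ≠ 0) {K T Z S : Submodule k V} (hT : ¬ K ≤ T) (hZ : ¬ K ≤ Z)
    (hS : ∀ x ∈ K, x ∉ T → x ∉ Z → x ∈ S) : K ≤ S := by
  obtain ⟨u, hu, huT, huZ⟩ : ∃ u ∈ K, u ∉ T ∧ u ∉ Z := by
    obtain ⟨x, hx, hxT⟩ := SetLike.not_le_iff_exists.1 hT
    obtain ⟨y, hy, hyZ⟩ := SetLike.not_le_iff_exists.1 hZ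
    by_cases hxZ : x ∈ Z
    · by_cases hyT : y ∈ T
      · exact ⟨x + y, add_mem hx hy, fun h => hxT ((T.add_mem_iff_left hyT).1 h),
          fun h => hyZ ((Z.add_mem_iff_right hxZ).1 h)⟩
      · exact ⟨y, hy, hyT, hyZ⟩
    · exact ⟨x, hx, hxT, hxZ⟩
  have huS := hS u hu huT huZ
  intro x hx
  by_cases h : x + u ∈ T ∨ x + u ∈ Z
  swap
  · push Not at h
    exact (S.add_mem_iff_left huS).1 (hS _ (add_mem hx hu) h.1 h.2)
  by_cases h' : x - u ∈ T ∨ x - u ∈ Z
  swap
  · push Not at h'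
    exact (S.sub_mem_iff_left huS).1 (hS _ (sub_mem hx hu) h'.1 h'.2)
  have key : ∀ (U : Submodule k V), x + u ∈ U → x - u ∈ U → u ∈ U := fun U a b => by
    have := sub_mem a b
    rw [show x + u - (x - u) = (2 : k) • u by rw [two_smul]; abel] at this
    exact (U.smul_mem_iff h2).1 this
  by_cases hxT : x ∈ T
  · have a : x + u ∈ Z := h.resolve_left fun e => huT ((T.add_mem_iff_right hxT).1 e)
    have b : x - u ∈ Z := h'.resolve_left fun e => huT ((T.sub_mem_iff_right hxT).1 e)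
    exact absurd (key Z a b) huZ
  by_cases hxZ : x ∈ Z
  · have a : x + u ∈ T := h.resolve_right fun e => huZ ((Z.add_mem_iff_right hxZ).1 e)
    have b : x - u ∈ T := h'.resolve_right fun e => huZ ((Z.sub_mem_iff_right hxZ).1 e)
    exact absurd (key T a b) huT
  exact hS x hx hxT hxZ

variable {β : V →ₗ[k] W →ₗ[k] k} {X : Set (V × W)}

theorem tv_rigid_swap (hX : TVSys β X) (hR : TVRigid β X) : TVRigid β.flip (tvSwap X) := by
  intro φ ψ a f ha hf hrel h1 h2
  refine (hR ha hf (tv_rel_of_swap hX hrel ha hf) (fun χ hχ => ?_) fun b hb => ?_).symm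
  · rw [map_sub, LinearMap.sub_apply]
    exact sub_eq_zero.2 (h2 χ ((tv_swap_A hX ha).symm ▸ hχ))
  · have := h1 b ((tv_swap_F hX ha).symm ▸ hb)
    rwa [LinearMap.flip_apply, map_sub, sub_eq_zero] at this

section
variable [FiniteDimensional k W]
variable (hX : TVSys β X)
include hX

/-- The dimension of the space of axes is constant on a class. -/
theorem tv_dim_le {a b : V} {φ χ : W} (ha : (a, φ) ∈ X) (hb : (b, χ) ∈ X) (h1 : β b φ ≠ 0)
    (h2 : β a χ ≠ 0) :
    Module.finrank k (tvAxes (k := k) X a) ≤ Module.finrank k (tvAxes (k := k) X b) := by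
  let K : Submodule k W := tvAxes X a ⊓ LinearMap.ker (β b)
  have hK : K < tvAxes X b := by
    refine lt_of_le_of_ne (fun x hx => ?_) fun e => ?_
    · rcases tv_mem_axes hX hx.1 with rfl | hx'
      · exact zero_mem _
      · exact tv_axes_of_mem (tv_asym hX hb hx' h2 (LinearMap.mem_ker.1 hx.2))
    · have hχ : χ ∈ K := e ▸ tv_axes_of_mem hb
      rcases tv_mem_axes hX hχ.1 with e' | hχ'
      · exact hX.ne_right hb e'
      · exact h2 (hX.perp hχ')
  have hle : tvAxes X a ≤ K ⊔ k ∙ φ := fun x hx => by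
    refine Submodule.mem_sup.2 ⟨x - (β b x / β b φ) • φ, ⟨sub_mem hx (Submodule.smul_mem _ _
      (tv_axes_of_mem ha)), LinearMap.mem_ker.2 ?_⟩, _, Submodule.mem_span_singleton.2 ⟨_, rfl⟩,
      sub_add_cancel _ _⟩
    rw [map_sub, map_smul, smul_eq_mul, div_mul_cancel₀ _ h1, sub_self]
  have e1 := Submodule.finrank_lt_finrank_of_lt hK
  have e2 := Submodule.finrank_mono hle
  have e3 := Submodule.finrank_add_le_finrank_add_finrank K (k ∙ φ)
  rw [finrank_span_singleton (hX.ne_right ha)] at e3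
  omega

theorem tv_dim_eq_edge {a b : V} (h : tvEdge β X a b) :
    Module.finrank k (tvAxes (k := k) X a) = Module.finrank k (tvAxes (k := k) X b) := by
  have sym : ∀ {a b : V} {φ χ : W}, (a, φ) ∈ X → (b, χ) ∈ X → β b φ ≠ 0 → β a χ ≠ 0 →
      Module.finrank k (tvAxes (k := k) X a) = Module.finrank k (tvAxes (k := k) X b) :=
    fun ha hb h1 h2 => le_antisymm (tv_dim_le hX ha hb h1 h2) (tv_dim_le hX hb ha h2 h1)
  obtain ⟨⟨ψ, hb⟩, φ, ha, h1⟩ := h
  by_cases h2 : β a ψ = 0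
  swap
  · exact sym ha hb h1 h2
  have ha' := tv_asym hX ha hb h1 h2
  obtain ⟨c, χ, hc, hc1, hc2⟩ := hX.partner ha'
  by_cases h3 : β b χ = 0
  swap
  · exact (sym ha' hc hc1 hc2).trans (sym hb hc hc1 h3).symm
  have hc' := hX.conj ha hc
  have e1 : β (c + β c φ • a) ψ ≠ 0 := by
    rw [map_add, LinearMap.add_apply, map_smul, LinearMap.smul_apply, h2, smul_zero, add_zero]
    exact hc1
  refine (sym ha' hc' e1 ?_).trans (sym hb hc' e1 ?_).symm
  · rw [map_sub, map_smul, hX.perp ha, smul_zero, sub_zero]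
    exact hc2
  · rw [map_sub, map_smul, h3, zero_sub, neg_ne_zero]
    exact mul_ne_zero hc2 h1

theorem tv_dim_eq {a b : V} (h : tvRel β X a b) :
    Module.finrank k (tvAxes (k := k) X a) = Module.finrank k (tvAxes (k := k) X b) := by
  rcases h with h | ⟨c, h1, h2⟩
  · exact tv_dim_eq_edge hX h
  · exact (tv_dim_eq_edge hX h1).trans (tv_dim_eq_edge hX h2)

theorem tv_axis_unique {a : V} {φ ψ : W} (hd : Module.finrank k (tvAxes (k := k) X a) ≤ 1)
    (ha : (a, φ) ∈ X) (hb : (a, ψ) ∈ X) : ∃ c : k, c ≠ 0 ∧ ψ = c • φ := by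
  have hle : k ∙ φ ≤ tvAxes X a :=
    (Submodule.span_singleton_le_iff_mem _ _).2 (tv_axes_of_mem ha)
  have e : k ∙ φ = tvAxes X a := Submodule.eq_of_le_of_finrank_le hle
    (by rw [finrank_span_singleton (hX.ne_right ha)]; exact hd)
  obtain ⟨c, hc⟩ := Submodule.mem_span_singleton.1 (e.symm ▸ tv_axes_of_mem hb)
  exact ⟨c, fun h => hX.ne_right hb (by rw [← hc, h, zero_smul]), hc.symm⟩

/-- The linear case: all axes of a centre carry all the centres they kill. -/
theorem tv_full (h2 : (2 : k) ≠ 0) {a : V} {φ : W} (ha : (a, φ) ∈ X)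
    (hd : 2 ≤ Module.finrank k (tvAxes (k := k) X a)) {b : V} (hb : b ∈ tvA β X a)
    (hb0 : b ≠ 0) (hbφ : β b φ = 0) : (b, φ) ∈ X := by
  let T : Submodule k V := tvAxes (tvSwap X) φ
  let K : Submodule k V := tvA β X a ⊓ LinearMap.ker (β.flip φ)
  let Z : Submodule k V := tvPerp β (tvF β X a)
  have hY := tv_swap hX
  have hap : tvPt X a := ⟨φ, ha⟩
  have haK : a ∈ K := ⟨tv_mem_A (tv_rel_refl hX hap), LinearMap.mem_ker.2 (hX.perp ha)⟩
  suffices hKT : K ≤ T by
    exact (tv_mem_axes hY (hKT ⟨hb, LinearMap.mem_ker.2 hbφ⟩)).resolve_left hb0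
  by_contra hKT
  have hkill : ∀ φ' ∈ tvAxes (k := k) X a, ∀ x ∈ K, β x φ' = 0 := by
    intro φ' hφ' x hx
    refine LinearMap.mem_ker.1 (tv_outside_span h2 hKT (Z := Z) ?_
      (S := LinearMap.ker (β.flip φ')) (fun y hy hyT hyZ => ?_) hx)
    · exact fun h => tv_not_perp hX (tv_rel_refl hX hap) (h haK)
    rcases tv_mem_axes hX hφ' with rfl | hφ'
    · exact LinearMap.mem_ker.2 (by simp)
    have hy' := tv_span_point hX h2 hap hy.1 hyZ
    have hyφ : β y φ = 0 := LinearMap.mem_ker.1 hy.2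
    have hperp : ∀ ψ, (y, ψ) ∈ X → β a ψ = 0 := fun ψ hψ => by
      by_contra e
      exact hyT (tv_axes_of_mem (show (φ, y) ∈ tvSwap X from tv_asym hX hψ ha e hyφ))
    rw [LinearMap.mem_ker, LinearMap.flip_apply]
    by_contra e
    have hle : tvAxes (k := k) X y ≤ tvAxes X a := fun ψ hψ => by
      rcases tv_mem_axes hX hψ with rfl | hψ'
      · exact zero_mem _
      · exact tv_axes_of_mem (tv_asym hX hφ' hψ' e (hperp ψ hψ'))
    have heq := Submodule.eq_of_le_of_finrank_le hle (tv_dim_eq hX hy').le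
    rcases tv_mem_axes hX (heq.symm ▸ tv_axes_of_mem hφ' : φ' ∈ tvAxes X y) with e' | hy''
    · exact hX.ne_right hφ' e'
    · exact e (hX.perp hy'')
  obtain ⟨φ', hφ', hne⟩ : ∃ φ' ∈ tvAxes (k := k) X a, φ' ∉ k ∙ φ := by
    refine SetLike.not_le_iff_exists.1 fun h => ?_
    have := Submodule.finrank_mono h
    rw [finrank_span_singleton (hX.ne_right ha)] at this
    omega
  obtain ⟨d, η, hd', hd1, hd2⟩ := hX.partner ha
  have hdr : tvRel β X a d := Or.inl ⟨⟨η, hd'⟩, φ, ha, hd1⟩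
  have hmem : φ' - (β d φ' / β d φ) • φ ∈ tvAxes (k := k) X a :=
    sub_mem hφ' (Submodule.smul_mem _ _ (tv_axes_of_mem ha))
  have h0 : φ' - (β d φ' / β d φ) • φ ≠ 0 := fun e =>
    hne (Submodule.mem_span_singleton.2 ⟨_, (sub_eq_zero.1 e).symm⟩)
  have hψ := (tv_mem_axes hX hmem).resolve_left h0
  obtain ⟨e, ε, he, he1, -⟩ := hX.partner hψ
  have heA : e ∈ tvA β X a := tv_mem_A (Or.inl ⟨⟨ε, he⟩, _, hψ, he1⟩)
  apply he1
  have hK' : e - (β e φ / β d φ) • d ∈ K :=
    ⟨sub_mem heA (Submodule.smul_mem _ _ (tv_mem_A hdr)), LinearMap.mem_ker.2 (by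
      rw [LinearMap.flip_apply, map_sub, LinearMap.sub_apply, map_smul, LinearMap.smul_apply,
        smul_eq_mul, div_mul_cancel₀ _ hd1, sub_self])⟩
  have hk := hkill _ hmem _ hK'
  have hdd : β d (φ' - (β d φ' / β d φ) • φ) = 0 := by
    rw [map_sub, map_smul, smul_eq_mul, div_mul_cancel₀ _ hd1, sub_self]
  rwa [map_sub β, LinearMap.sub_apply, map_smul β, LinearMap.smul_apply, hdd, smul_zero,
    sub_zero] at hk

/-- In the symplectic case adjacency is symmetric. -/
theorem tv_symm_edge {a b : V} {φ ψ : W} (hd : Module.finrank k (tvAxes (k := k) X a) ≤ 1)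
    (ha : (a, φ) ∈ X) (hb : (b, ψ) ∈ X) (h : β b φ ≠ 0) : β a ψ ≠ 0 := by
  intro e
  obtain ⟨c, hc, hψ⟩ := tv_axis_unique hX hd ha (tv_asym hX ha hb h e)
  have := hX.perp hb
  rw [hψ, map_smul, smul_eq_mul] at this
  exact mul_ne_zero hc h this

/-- In the symplectic case an axis has one centre. -/
theorem tv_centre_unique {a b : V} {φ : W} (hd : Module.finrank k (tvAxes (k := k) X a) ≤ 1)
    (ha : (a, φ) ∈ X) (hb : (b, φ) ∈ X) : ∃ c : k, b = c • a := by
  obtain ⟨d, χ, hdX, h1, h2⟩ := hX.partner ha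
  refine ⟨β b χ / β a χ, ?_⟩
  by_contra hne
  have hf0 : b - (β b χ / β a χ) • a ≠ 0 := sub_ne_zero.2 hne
  have hf : (b - (β b χ / β a χ) • a, φ) ∈ X := by
    by_cases hc : β b χ / β a χ = 0
    · rwa [hc, zero_smul, sub_zero]
    rw [sub_eq_add_neg, ← neg_smul] at hf0 ⊢
    exact hX.add_left hb (hX.smul_left (neg_ne_zero.2 hc) ha) hf0
  refine tv_symm_edge hX ?_ hf hdX h1 ?_
  · rw [← tv_dim_eq hX (tv_rel_same_axis hX ha hf)]
    exact hd
  · rw [map_sub, LinearMap.sub_apply, map_smul, LinearMap.smul_apply, smul_eq_mul,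
      div_mul_cancel₀ _ h2, sub_self]

/-- The centres of a class meet the common kernel of its axes trivially. -/
theorem tv_nondeg (h2 : (2 : k) ≠ 0) (hR : TVRigid β X) {a z : V} (hap : tvPt X a)
    (hz : z ∈ tvA β X a) (hzp : z ∈ tvPerp β (tvF β X a)) : z = 0 := by
  by_contra hz0
  obtain ⟨φ, ha⟩ := hap
  have hap : tvPt X a := ⟨φ, ha⟩
  have hrefl := tv_rel_refl hX hap
  by_cases hd : 2 ≤ Module.finrank k (tvAxes (k := k) X a)
  · have hzX := tv_full hX h2 ha hd hz hz0 (hzp φ (tv_mem_F hrefl ha))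
    exact tv_not_perp hX (tv_rel_same_axis hX ha hzX) hzp
  push Not at hd
  have hfp : a + z ∉ tvPerp β (tvF β X a) := fun h =>
    tv_not_perp hX hrefl ((Submodule.add_mem_iff_left _ hzp).1 h)
  have hf := tv_span_point hX h2 hap (add_mem (tv_mem_A hrefl) hz) hfp
  obtain ⟨ψ, hψ⟩ := tv_pt_of_rel hX hf
  have hdim : ∀ {y}, tvRel β X a y → Module.finrank k (tvAxes (k := k) X y) ≤ 1 := fun {y} hy => by
    rw [← tv_dim_eq hX hy]; omega
  let K : Submodule k V := tvA β X a ⊓ LinearMap.ker (β.flip φ)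
  have hKψ : K ≤ LinearMap.ker (β.flip ψ) := by
    refine tv_outside_span h2 (T := tvPerp β (tvF β X a)) (Z := tvPerp β (tvF β X a)) ?_ ?_
      fun y hy hyZ _ => ?_
    · exact fun h => tv_not_perp hX hrefl (h ⟨tv_mem_A hrefl, LinearMap.mem_ker.2 (hX.perp ha)⟩)
    · exact fun h => tv_not_perp hX hrefl (h ⟨tv_mem_A hrefl, LinearMap.mem_ker.2 (hX.perp ha)⟩)
    have hy' := tv_span_point hX h2 hap hy.1 hyZ
    obtain ⟨χ, hχ⟩ := tv_pt_of_rel hX hy'
    rw [LinearMap.mem_ker, LinearMap.flip_apply]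
    by_contra e
    have e1 : β (a + z) χ ≠ 0 := tv_symm_edge hX (hdim hf) hψ hχ e
    rw [map_add, LinearMap.add_apply, hzp χ (tv_mem_F hy' hχ), add_zero] at e1
    exact tv_symm_edge hX (hdim hy') hχ ha e1 (LinearMap.mem_ker.1 hy.2)
  obtain ⟨d, η, hd', hd1, -⟩ := hX.partner ha
  have hdA : d ∈ tvA β X a := tv_mem_A (Or.inl ⟨⟨η, hd'⟩, φ, ha, hd1⟩)
  have hψA : ∀ b ∈ tvA β X a, β b ψ = (β d ψ / β d φ) * β b φ := fun b hb => by
    have := hKψ (⟨sub_mem hb (Submodule.smul_mem _ (β b φ / β d φ) hdA), LinearMap.mem_ker.2 (by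
      rw [LinearMap.flip_apply, map_sub, LinearMap.sub_apply, map_smul, LinearMap.smul_apply,
        smul_eq_mul, div_mul_cancel₀ _ hd1, sub_self])⟩ : b - (β b φ / β d φ) • d ∈ K)
    rw [LinearMap.mem_ker, LinearMap.flip_apply, map_sub, LinearMap.sub_apply, map_smul,
      LinearMap.smul_apply, smul_eq_mul, sub_eq_zero] at this
    rw [this, div_mul_eq_mul_div, div_mul_eq_mul_div, mul_comm]
  have hc : β d ψ / β d φ ≠ 0 := by
    intro e
    obtain ⟨g, ε, hg, hg1, -⟩ := hX.partner hψ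
    refine hg1 ?_
    rw [hψA g (tv_mem_A (tv_rel_edge hX hf ⟨⟨ε, hg⟩, ψ, hψ, hg1⟩)), e, zero_mul]
  obtain ⟨e, -⟩ := hR (hX.smul_right hc ha) hψ hf (by
    rw [sub_add_cancel_left]
    exact neg_mem hzp) fun b hb => by rw [map_smul, smul_eq_mul, hψA b hb]
  exact hz0 (left_eq_add.1 e)

variable [FiniteDimensional k V]

theorem tv_nondeg_axes (h2 : (2 : k) ≠ 0) (hR : TVRigid β X) {a : V} (hap : tvPt X a) {ψ : W}
    (hψ : ψ ∈ tvF β X a) (h : ∀ b ∈ tvA β X a, β b ψ = 0) : ψ = 0 := by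
  obtain ⟨φ, ha⟩ := hap
  exact tv_nondeg (tv_swap hX) h2 (tv_rigid_swap hX hR) (a := φ) ⟨a, ha⟩
    (tv_swap_A hX ha ▸ hψ) (fun b hb => h b (tv_swap_F hX ha ▸ hb))

/-- The linear case gives every pair. -/
theorem tv_linear (h2 : (2 : k) ≠ 0) (hR : TVRigid β X) {a : V}
    (hd : 2 ≤ Module.finrank k (tvAxes (k := k) X a)) {x : V} {ψ : W} (hx : x ∈ tvA β X a)
    (hψ : ψ ∈ tvF β X a) (hx0 : x ≠ 0) (hψ0 : ψ ≠ 0) (h : β x ψ = 0) : (x, ψ) ∈ X := by
  have hap : tvPt X a := by
    by_contra hne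
    have : tvAxes (k := k) X a = ⊥ := Submodule.span_eq_bot.2 fun φ hφ => absurd ⟨φ, hφ⟩ hne
    rw [this, finrank_bot] at hd
    omega
  obtain ⟨φ, ha⟩ := hap
  have hap : tvPt X a := ⟨φ, ha⟩
  have hY := tv_swap hX
  have hrel := tv_span_point hY h2 (a := φ) (f := ψ) ⟨a, ha⟩ (tv_swap_A hX ha ▸ hψ) fun e =>
    hψ0 (tv_nondeg_axes hX h2 hR hap hψ fun b hb => e b (tv_swap_F hX ha ▸ hb))
  obtain ⟨b, hb⟩ := tv_pt_of_rel hY hrel
  have hab := tv_rel_of_swap hX hrel ha hb
  exact tv_full hX h2 hb (tv_dim_eq hX hab ▸ hd) ((tv_class_eq hX hab).1 ▸ hx) hx0 h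

/-- The three point identity. -/
theorem tv_cycle {a b c : V} {α γ δ : W} (hd : Module.finrank k (tvAxes (k := k) X a) ≤ 1)
    (ha : (a, α) ∈ X) (hb : (b, γ) ∈ X) (hc : (c, δ) ∈ X) (h1 : β a γ ≠ 0) (h2 : β c α ≠ 0)
    (hab : tvRel β X a b) :
    β b δ * (β a γ * β c α) = -(β c γ * β b α * β a δ) := by
  have hdb : Module.finrank k (tvAxes (k := k) X b) ≤ 1 := tv_dim_eq hX hab ▸ hd
  by_cases h3 : β c γ = 0
  · by_cases h4 : β b δ = 0
    · rw [h3, h4, zero_mul, zero_mul, zero_mul, neg_zero]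
    · refine absurd h3 (tv_symm_edge hX ?_ hc hb h4)
      have : tvRel β X a c := Or.inl ⟨⟨δ, hc⟩, α, ha, h2⟩
      exact tv_dim_eq hX this ▸ hd
  have ht : β c γ / (β a γ * β c α) ≠ 0 := div_ne_zero h3 (mul_ne_zero h1 h2)
  have hb' := tv_conj_smul hX ht ha hb
  have hr := tv_rel_conj_smul hX ht ha hb
  have e0 : β c (γ - (β c γ / (β a γ * β c α) * β a γ) • α) = 0 := by
    rw [map_sub, map_smul, smul_eq_mul]
    field_simp
    ring
  have e : β (b + (β c γ / (β a γ * β c α) * β b α) • a) δ = 0 := by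
    by_contra e
    refine tv_symm_edge hX ?_ hc hb' e e0
    have : tvRel β X a c := Or.inl ⟨⟨δ, hc⟩, α, ha, h2⟩
    exact tv_dim_eq hX this ▸ hd
  rw [map_add, LinearMap.add_apply, map_smul, LinearMap.smul_apply, smul_eq_mul] at e
  field_simp at e
  linear_combination e

/-- The symplectic case. -/
theorem tv_symplectic (h2 : (2 : k) ≠ 0) (hR : TVRigid β X) {a : V} (hap : tvPt X a)
    (hd : Module.finrank k (tvAxes (k := k) X a) ≤ 1) :
    ∃ B : LinearMap.BilinForm k (tvA β X a), B.IsAlt ∧ B.Nondegenerate ∧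
      (∀ x : tvA β X a, (x : V) ≠ 0 → ∀ c : k, c ≠ 0 →
        ∃ φ, ((x : V), φ) ∈ X ∧ ∀ y : tvA β X a, β y φ = c * B x y) ∧
      ∀ (x : tvA β X a) (φ : W), ((x : V), φ) ∈ X →
        ∃ c : k, ∀ y : tvA β X a, β y φ = c * B x y := by
  classical
  obtain ⟨φe, ha⟩ := hap
  have hap : tvPt X a := ⟨φe, ha⟩
  have hrefl := tv_rel_refl hX hap
  have hrel : ∀ {x : V}, x ∈ tvA β X a → x ≠ 0 → tvRel β X a x := fun hx hx0 =>
    tv_span_point hX h2 hap hx fun e => hx0 (tv_nondeg hX h2 hR hap hx e)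
  have hdim : ∀ {x : V}, tvRel β X a x → Module.finrank k (tvAxes (k := k) X x) ≤ 1 :=
    fun h => tv_dim_eq hX h ▸ hd
  have hN : ∀ x : tvA β X a, β x φe ≠ 0 → ∃ ψ, ((x : V), ψ) ∈ X ∧ β a ψ = -β x φe := by
    intro x hx
    have hx0 : (x : V) ≠ 0 := fun e => hx (by rw [e, map_zero, LinearMap.zero_apply])
    obtain ⟨ψ, hψ⟩ := tv_pt_of_rel hX (hrel x.2 hx0)
    have h1 := tv_symm_edge hX hd ha hψ hx
    exact ⟨(-β x φe / β a ψ) • ψ, hX.smul_right (div_ne_zero (neg_ne_zero.2 hx) h1) hψ,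
      by rw [map_smul, smul_eq_mul, div_mul_cancel₀ _ h1]⟩
  choose N hN1 hN2 using hN
  have hanti : ∀ (x y : tvA β X a) (hx : β x φe ≠ 0) (hy : β y φe ≠ 0),
      β y (N x hx) = -β x (N y hy) := by
    intro x y hx hy
    have hxr := hrel x.2 fun e => hx (by rw [e, map_zero, LinearMap.zero_apply])
    have h := tv_cycle hX hd ha (hN1 x hx) (hN1 y hy)
      (by rw [hN2]; exact neg_ne_zero.2 hx) hy hxr
    rw [hN2, hN2] at h
    have : (β y (N x hx) + β x (N y hy)) * (β x φe * β y φe) = 0 := by linear_combination -h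
    linear_combination (mul_eq_zero.1 this).resolve_right (mul_ne_zero hx hy)
  let ρ : tvA β X a →ₗ[k] k := (β.flip φe).domRestrict (tvA β X a)
  let S : Set (tvA β X a) := {x | ρ x ≠ 0}
  have hS : Submodule.span k S = ⊤ := by
    obtain ⟨d, η, hd', hd1, -⟩ := hX.partner ha
    let D : tvA β X a := ⟨d, tv_mem_A (Or.inl ⟨⟨η, hd'⟩, φe, ha, hd1⟩)⟩
    have hD : D ∈ Submodule.span k S := Submodule.subset_span (show ρ D ≠ 0 from hd1)
    refine eq_top_iff.2 fun x _ => ?_
    by_cases hx : ρ x = 0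
    · have : x + D ∈ Submodule.span k S := Submodule.subset_span (show ρ (x + D) ≠ 0 by
        rw [map_add, hx, zero_add]; exact hd1)
      exact (Submodule.add_mem_iff_left _ hD).1 this
    · exact Submodule.subset_span hx
  obtain ⟨s, hsS, hspan, hli⟩ := exists_linearIndependent k S
  let b : Module.Basis s k (tvA β X a) := Module.Basis.mk hli (by
    rw [Subtype.range_coe, hspan, hS])
  have hbS : ∀ i, ρ (b i) ≠ 0 := fun i => by
    rw [Module.Basis.mk_apply]; exact hsS i.2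
  let B : LinearMap.BilinForm k (tvA β X a) :=
    b.constr k fun i => (β.flip (N (b i) (hbS i))).domRestrict (tvA β X a)
  have hB : ∀ i y, B (b i) y = β y (N (b i) (hbS i)) := fun i y =>
    LinearMap.congr_fun (b.constr_basis k _ i) y
  have hflip : ∀ x y, B x y = -B y x := by
    have : B = -B.flip := b.ext fun i => b.ext fun j => by
      simp only [LinearMap.neg_apply, LinearMap.BilinForm.flip_apply]
      rw [hB, hB]
      exact hanti _ _ _ _
    intro x y
    conv_lhs => rw [this]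
    rfl
  have halt : B.IsAlt := fun x => by
    have h : 2 * B x x = 0 := by linear_combination hflip x x
    exact (mul_eq_zero.1 h).resolve_left h2
  have hBN : ∀ (x : tvA β X a) (hx : β x φe ≠ 0) (y), B x y = β y (N x hx) := by
    intro x hx
    have : B x = (β.flip (N x hx)).domRestrict (tvA β X a) := b.ext fun j => by
      rw [hflip, hB]
      exact (hanti x (b j) hx (hbS j)).symm
    exact fun y => LinearMap.congr_fun this y
  let A' : tvA β X a := ⟨a, tv_mem_A hrefl⟩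
  have hBe : ∀ y, B A' y = β y φe := by
    have : B A' = ρ := b.ext fun j => by
      rw [hflip, hB]
      exact (congrArg Neg.neg (hN2 _ _)).trans (neg_neg _)
    exact fun y => LinearMap.congr_fun this y
  have hprop : ∀ (x : tvA β X a) (φ : W), ((x : V), φ) ∈ X →
      ∃ c : k, c ≠ 0 ∧ ∀ y : tvA β X a, β y φ = c * B x y := by
    intro x φ hφ
    have hx0 := hX.ne_left hφ
    have hxr := hrel x.2 hx0
    by_cases hx : β x φe = 0
    swap
    · obtain ⟨c, hc, e⟩ := tv_axis_unique hX (hdim hxr) (hN1 x hx) hφ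
      exact ⟨c, hc, fun y => by rw [e, map_smul, smul_eq_mul, hBN x hx y]⟩
    have hxa : β a φ = 0 := by
      by_contra e
      exact tv_symm_edge hX (hdim hxr) hφ ha e hx
    have hBxy : ∀ (y : tvA β X a), β y φe ≠ 0 → (B x y = 0 ↔ β y φ = 0) := by
      intro y hy
      rw [hflip, neg_eq_zero, hBN y hy]
      have hyr := hrel y.2 fun e => hy (by rw [e, map_zero, LinearMap.zero_apply])
      constructor
      · intro e
        by_contra e'
        exact tv_symm_edge hX (hdim hxr) hφ (hN1 y hy) e' e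
      · intro e
        by_contra e'
        exact tv_symm_edge hX (hdim hyr) (hN1 y hy) hφ e' e
    by_cases hex : ∃ y : tvA β X a, β y φ = 0 ∧ β y φe ≠ 0
    · obtain ⟨y0, hy0, hy0e⟩ := hex
      have hker : ∀ y : tvA β X a, β y φ = 0 → B x y = 0 := by
        intro y hy
        by_cases hye : β y φe = 0
        swap
        · exact (hBxy y hye).2 hy
        have e1 : β ((y + y0 : tvA β X a) : V) φe ≠ 0 := by
          rw [Submodule.coe_add, map_add, LinearMap.add_apply, hye, zero_add]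
          exact hy0e
        have h1 := (hBxy _ e1).2 (by
          rw [Submodule.coe_add, map_add, LinearMap.add_apply, hy, hy0, add_zero])
        rwa [map_add, (hBxy y0 hy0e).2 hy0, add_zero] at h1
      obtain ⟨d, η, hd', hd1, -⟩ := hX.partner hφ
      let D : tvA β X a := ⟨d, tv_mem_A (tv_rel_edge hX hxr ⟨⟨η, hd'⟩, φ, hφ, hd1⟩)⟩
      have hprop : ∀ y : tvA β X a, B x y = β y φ / β d φ * B x D := by
        intro y
        have := hker (y - (β y φ / β d φ) • D) (by
          rw [Submodule.coe_sub, Submodule.coe_smul, map_sub, LinearMap.sub_apply, map_smul,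
            LinearMap.smul_apply, smul_eq_mul, div_mul_cancel₀ _ hd1, sub_self])
        rwa [map_sub, map_smul, smul_eq_mul, sub_eq_zero] at this
      have hne : B x D ≠ 0 := by
        intro e
        by_cases hde : β d φe = 0
        swap
        · exact hd1 ((hBxy D hde).1 e)
        have e1 : β ((D + y0 : tvA β X a) : V) φe ≠ 0 := by
          rw [Submodule.coe_add, map_add, LinearMap.add_apply, hde, zero_add]
          exact hy0e
        have h1 := (hBxy _ e1).1 (by rw [map_add, e, (hBxy y0 hy0e).2 hy0, add_zero])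
        rw [Submodule.coe_add, map_add, LinearMap.add_apply, hy0, add_zero] at h1
        exact hd1 h1
      exact ⟨β d φ / B x D, div_ne_zero hd1 hne, fun y => by rw [hprop y]; field_simp⟩
    push Not at hex
    -- `φ` and `φe` have the same kernel on the class, so `x` is a multiple of `a`
    obtain ⟨d, η, hd', hd1, -⟩ := hX.partner hφ
    let D : tvA β X a := ⟨d, tv_mem_A (tv_rel_edge hX hxr ⟨⟨η, hd'⟩, φ, hφ, hd1⟩)⟩
    have hker : φe - (β d φe / β d φ) • φ = 0 := by
      refine tv_nondeg_axes hX h2 hR hap (sub_mem (tv_mem_F hrefl ha)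
        (Submodule.smul_mem _ _ (tv_mem_F hxr hφ))) fun y hy => ?_
      have := hex (⟨y, hy⟩ - (β y φ / β d φ) • D) (by
        rw [Submodule.coe_sub, Submodule.coe_smul, map_sub, LinearMap.sub_apply, map_smul,
          LinearMap.smul_apply, smul_eq_mul, div_mul_cancel₀ _ hd1, sub_self])
      rw [Submodule.coe_sub, Submodule.coe_smul, map_sub, LinearMap.sub_apply, map_smul,
        LinearMap.smul_apply, smul_eq_mul] at this
      rw [map_sub, map_smul, smul_eq_mul]
      linear_combination this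
    have hc : β d φe / β d φ ≠ 0 := fun e => hX.ne_right ha (by simpa [e] using hker)
    have hxX : ((x : V), φe) ∈ X := by
      rw [sub_eq_zero.1 hker]
      exact hX.smul_right hc hφ
    obtain ⟨c, hcx⟩ := tv_centre_unique hX hd ha hxX
    have hxA : x = c • A' := Subtype.ext hcx
    have hc0 : c ≠ 0 := fun e => hx0 (by rw [hcx, e, zero_smul])
    refine ⟨(β d φe / β d φ * c)⁻¹, inv_ne_zero (mul_ne_zero hc hc0), fun y => ?_⟩
    have e1 : β y φe = β d φe / β d φ * β y φ := by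
      conv_lhs => rw [sub_eq_zero.1 hker, map_smul, smul_eq_mul]
    have hde : β d φe ≠ 0 := (div_ne_zero_iff.1 hc).1
    rw [hxA, map_smul, LinearMap.smul_apply, smul_eq_mul, hBe y, e1]
    field_simp
  have hnd : B.Nondegenerate := by
    have hl : ∀ x, (∀ y, B x y = 0) → x = 0 := by
      intro x hx
      by_contra hx0
      have hxr := hrel x.2 (fun e => hx0 (Subtype.ext e))
      obtain ⟨φ, hφ⟩ := tv_pt_of_rel hX hxr
      obtain ⟨c, -, e⟩ := hprop x φ hφ
      obtain ⟨d, η, hd', hd1, -⟩ := hX.partner hφ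
      exact hd1 (by
        have := e ⟨d, tv_mem_A (tv_rel_edge hX hxr ⟨⟨η, hd'⟩, φ, hφ, hd1⟩)⟩
        rw [hx, mul_zero] at this
        exact this)
    exact ⟨hl, fun y hy => hl y fun x => by rw [hflip, hy x, neg_zero]⟩
  refine ⟨B, halt, hnd, fun x hx c hc => ?_, fun x φ hφ => ?_⟩
  · obtain ⟨φ, hφ⟩ := tv_pt_of_rel hX (hrel x.2 hx)
    obtain ⟨c', hc', e⟩ := hprop x φ hφ
    refine ⟨(c / c') • φ, hX.smul_right (div_ne_zero hc hc') hφ, fun y => ?_⟩
    rw [map_smul, smul_eq_mul, e]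
    field_simp
  · obtain ⟨c, -, e⟩ := hprop x φ hφ
    exact ⟨c, e⟩

end

end CfsgLib.RootSub
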