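/-
The system of transvection pairs of a linear group over a prime field with trivial `p`-core.
-/
import Cfsg.Agent.Lib.RootSub.TVSysMain
import Cfsg.Agent.Lib.Invol.BaerSuzuki
import Cfsg.Prelude.Def_Solvable

set_option autoImplicit false

namespace CfsgLib.RootSub

open Cfsg

variable {p : ℕ} [Fact p.Prime]
variable {V : Type*} [AddCommGroup V] [Module (ZMod p) V]

local notation "GLV" => (V ≃ₗ[ZMod p] V)

/-- The transvection pairs of a group. -/
def tvPairs (H : Subgroup GLV) : Set (V × Module.Dual (ZMod p) V) :=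
  {q | q.1 ≠ 0 ∧ q.2 ≠ 0 ∧ q.2 q.1 = 0 ∧ ∃ g ∈ H, ∀ v, g v = v + q.2 v • q.1}

/-- The pairing of vectors with functionals. -/
def tvEval : V →ₗ[ZMod p] Module.Dual (ZMod p) V →ₗ[ZMod p] ZMod p :=
  Module.Dual.eval (ZMod p) V

theorem tvEval_apply (v : V) (φ : Module.Dual (ZMod p) V) : tvEval v φ = φ v := rfl

/-- The elements acting trivially on the factors of `U₁ ≤ U₂ ≤ V` and on `U₁`. -/
def tvFlag (U₁ U₂ : Submodule (ZMod p) V) : Subgroup GLV where
  carrier := {g | (∀ v, g v - v ∈ U₂) ∧ (∀ u ∈ U₂, g u - u ∈ U₁) ∧ ∀ u ∈ U₁, g u = u}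
  one_mem' := by simp
  mul_mem' := by
    rintro g h ⟨g1, g2, g3⟩ ⟨h1, h2, h3⟩
    refine ⟨fun v => ?_, fun u hu => ?_, fun u hu => ?_⟩
    · have := add_mem (g1 (h v)) (h1 v)
      rwa [sub_add_sub_cancel] at this
    · have hu' : h u ∈ U₂ := by
        have := add_mem (h1 u) hu
        rwa [sub_add_cancel] at this
      have := add_mem (g2 (h u) hu') (h2 u hu)
      rwa [sub_add_sub_cancel] at this
    · rw [LinearEquiv.mul_apply, h3 u hu, g3 u hu]
  inv_mem' := by
    rintro g ⟨g1, g2, g3⟩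
    have hg : ∀ v, g (g⁻¹ v) = v := fun v => LinearEquiv.apply_symm_apply g v
    refine ⟨fun v => ?_, fun u hu => ?_, fun u hu => ?_⟩
    · have := neg_mem (g1 (g⁻¹ v))
      rwa [hg, neg_sub] at this
    · have hu' : g⁻¹ u ∈ U₂ := by
        have := g1 (g⁻¹ u)
        rw [hg] at this
        exact (U₂.sub_mem_iff_right hu).1 this
      have := neg_mem (g2 (g⁻¹ u) hu')
      rwa [hg, neg_sub] at this
    · conv_lhs => rw [← g3 u hu]
      exact LinearEquiv.symm_apply_apply g u

theorem tvFlag_pow (hp : Odd p) {U₁ U₂ : Submodule (ZMod p) V} {g : GLV}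
    (hg : g ∈ tvFlag U₁ U₂) : g ^ p = 1 := by
  obtain ⟨g1, g2, g3⟩ := hg
  have e : ∀ (n : ℕ) (v : V), (g ^ n) v =
      v + n • (g v - v) + n.choose 2 • (g (g v - v) - (g v - v)) := by
    intro n
    induction n with
    | zero => intro v; simp
    | succ n ih =>
      intro v
      generalize ha : g v - v = a
      generalize hb : g a - a = b
      have hgv : g v = v + a := by rw [← ha]; abel
      have hga : g a = a + b := by rw [← hb]; abel
      have hgb : g b = b := g3 b (hb ▸ g2 a (ha ▸ g1 v))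
      rw [pow_succ', LinearEquiv.mul_apply, ih v, ha, hb, map_add, map_add, map_nsmul, map_nsmul,
        hgv, hga, hgb, Nat.choose_succ_succ', Nat.choose_one_right]
      simp only [smul_add, add_smul, one_smul]
      abel
  have h2 : p ∣ p.choose 2 := by
    refine (Fact.out : p.Prime).dvd_choose_self two_ne_zero ?_
    have := (Fact.out : p.Prime).two_le
    rcases hp with ⟨m, rfl⟩
    omega
  refine LinearEquiv.ext fun v => ?_
  rw [e p v, LinearEquiv.coe_one, id_eq]
  have hz : ∀ {n : ℕ}, p ∣ n → ∀ x : V, n • x = 0 := fun {n} hn x => by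
    rw [← Nat.cast_smul_eq_nsmul (ZMod p), (ZMod.natCast_eq_zero_iff n p).2 hn, zero_smul]
  rw [hz dvd_rfl, hz h2, add_zero, add_zero]

theorem tv_two_ne_zero (hp : Odd p) : (2 : ZMod p) ≠ 0 := by
  intro e
  have h : ((2 : ℕ) : ZMod p) = 0 := by exact_mod_cast e
  rw [ZMod.natCast_eq_zero_iff] at h
  have := (Nat.prime_dvd_prime_iff_eq (Fact.out : p.Prime) Nat.prime_two).1 h
  rcases hp with ⟨m, hm⟩
  omega

section
variable {H : Subgroup (V ≃ₗ[ZMod p] V)}

theorem tvPairs_conj {a : V} {φ : Module.Dual (ZMod p) V} {h : GLV} (hh : h ∈ H)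
    (ha : (a, φ) ∈ tvPairs H) : (h a, φ ∘ₗ (h⁻¹ : GLV).toLinearMap) ∈ tvPairs H := by
  obtain ⟨h0, h1, h2, g, hg, e⟩ := ha
  refine ⟨fun e => h0 (h.map_eq_zero_iff.1 e), fun e => h1 ?_, ?_,
    h * g * h⁻¹, mul_mem (mul_mem hh hg) (inv_mem hh), fun v => ?_⟩
  · refine LinearMap.ext fun v => ?_
    have := LinearMap.congr_fun e (h v)
    simpa [LinearEquiv.coe_inv] using this
  · simpa [LinearEquiv.coe_inv] using h2
  · have hinv : h (h⁻¹ v) = v := LinearEquiv.apply_symm_apply h v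
    rw [LinearEquiv.mul_apply, LinearEquiv.mul_apply, e, map_add, map_smul, hinv]
    rfl

theorem tv_pow_apply {a : V} {φ : Module.Dual (ZMod p) V} {g : GLV} (hφ : φ a = 0)
    (e : ∀ v, g v = v + φ v • a) (n : ℕ) (v : V) : (g ^ n) v = v + ((n : ZMod p) * φ v) • a := by
  induction n generalizing v with
  | zero => simp
  | succ n ih =>
    rw [pow_succ', LinearEquiv.mul_apply, ih, map_add, map_smul, e a, hφ, e v, Nat.cast_succ,
      add_mul, one_mul, add_smul]
    simp only [zero_smul, add_zero]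
    abel

theorem tv_smul_mem {a : V} {φ : Module.Dual (ZMod p) V} (c : ZMod p)
    (ha : (a, φ) ∈ tvPairs H) : ∃ g ∈ H, ∀ v, g v = v + (c * φ v) • a := by
  obtain ⟨-, -, h2, g, hg, e⟩ := ha
  exact ⟨g ^ c.val, pow_mem hg _, fun v => by rw [tv_pow_apply h2 e, ZMod.natCast_val, ZMod.cast_id]⟩

variable [Finite V]

theorem tv_finite : Finite GLV := Finite.of_injective _ DFunLike.coe_injective

theorem tv_pcore_trivial (hOp : pCore p ↥H = ⊥) {N : Subgroup ↥H} (hN : N.Normal)
    (hpow : ∀ g ∈ N, g ^ p = 1) : N = ⊥ := by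
  refine le_bot_iff.1 (hOp ▸ ?_)
  exact le_sSup ⟨hN, fun g => ⟨1, by rw [pow_one]; exact Subtype.ext (hpow g g.2)⟩⟩

theorem tv_partner (hp : Odd p) (hOp : pCore p ↥H = ⊥) {a : V} {φ : Module.Dual (ZMod p) V}
    (ha : (a, φ) ∈ tvPairs H) :
    ∃ b ψ, (b, ψ) ∈ tvPairs H ∧ φ b ≠ 0 ∧ ψ a ≠ 0 := by
  have := tv_finite (p := p) (V := V)
  have haX := ha
  obtain ⟨ha0, hφ0, hφa, g, hg, e⟩ := ha
  by_contra hne
  push Not at hne
  obtain ⟨N, hN, hNp, hxN⟩ :=
    CfsgLib.Invol.exists_normal_pGroup_of_pairs (p := p) (⟨g, hg⟩ : ↥H) fun h => by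
      obtain ⟨h, hh⟩ := h
      have hb := tvPairs_conj hh haX
      have he : ∀ v, (h * g * h⁻¹ : GLV) v = v + φ (h⁻¹ v) • h a := fun v => by
        have hinv : h (h⁻¹ v) = v := LinearEquiv.apply_symm_apply h v
        rw [LinearEquiv.mul_apply, LinearEquiv.mul_apply, e, map_add, map_smul, hinv]
      obtain ⟨U₁, U₂, k1, k2⟩ : ∃ U₁ U₂, g ∈ tvFlag (p := p) U₁ U₂ ∧
          h * g * h⁻¹ ∈ tvFlag (p := p) U₁ U₂ := by
        have sa : ∀ {a b : V}, a ∈ Submodule.span (ZMod p) {a, b} := fun {_ _} =>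
          Submodule.subset_span (Set.mem_insert _ _)
        have sb : ∀ {a b : V}, b ∈ Submodule.span (ZMod p) {a, b} := fun {_ _} =>
          Submodule.subset_span (Set.mem_insert_of_mem _ rfl)
        have gen : ∀ (a b : V) (φ ψ : Module.Dual (ZMod p) V) (s t : GLV), φ a = 0 → ψ b = 0 →
            ψ a = 0 → (∀ v, s v = v + φ v • a) → (∀ v, t v = v + ψ v • b) →
            s ∈ tvFlag (Submodule.span (ZMod p) {a}) (Submodule.span (ZMod p) {a, b}) ∧
            t ∈ tvFlag (Submodule.span (ZMod p) {a}) (Submodule.span (ZMod p) {a, b}) := by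
          intro a b φ ψ s t h1 h2 h3 es et
          refine ⟨⟨fun v => ?_, fun u _ => ?_, fun u hu => ?_⟩,
            ⟨fun v => ?_, fun u hu => ?_, fun u hu => ?_⟩⟩
          · rw [es, add_sub_cancel_left]
            exact Submodule.smul_mem _ _ sa
          · rw [es, add_sub_cancel_left]
            exact Submodule.mem_span_singleton.2 ⟨_, rfl⟩
          · obtain ⟨c, rfl⟩ := Submodule.mem_span_singleton.1 hu
            rw [es, map_smul, h1, smul_zero, zero_smul, add_zero]
          · rw [et, add_sub_cancel_left]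
            exact Submodule.smul_mem _ _ sb
          · obtain ⟨x, y, rfl⟩ := Submodule.mem_span_pair.1 hu
            rw [et, add_sub_cancel_left, map_add, map_smul, map_smul, h3, h2, smul_zero, smul_zero,
              add_zero, zero_smul]
            exact zero_mem _
          · obtain ⟨c, rfl⟩ := Submodule.mem_span_singleton.1 hu
            rw [et, map_smul, h3, smul_zero, zero_smul, add_zero]
        by_cases hψa : φ (h⁻¹ a) = 0
        · exact ⟨_, _, gen a (h a) φ (φ ∘ₗ (h⁻¹ : GLV).toLinearMap) g _ hφa hb.2.2.1 hψa e he⟩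
        · have hb' : φ (h a) = 0 := by
            by_contra e'
            exact hψa (hne _ _ hb e')
          obtain ⟨k2, k1⟩ :=
            gen (h a) a (φ ∘ₗ (h⁻¹ : GLV).toLinearMap) φ _ g hb.2.2.1 hφa hb' he e
          exact ⟨_, _, k1, k2⟩
      intro y
      refine ⟨1, ?_⟩
      rw [pow_one]
      have hy : ((y : ↥H) : GLV) ∈ tvFlag (p := p) U₁ U₂ := by
        have hle : Subgroup.closure ({⟨g, hg⟩, ⟨h, hh⟩ * ⟨g, hg⟩ * ⟨h, hh⟩⁻¹} : Set ↥H) ≤
            (tvFlag (p := p) U₁ U₂).comap H.subtype := by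
          rw [Subgroup.closure_le]
          rintro x (rfl | rfl)
          · exact k1
          · exact k2
        exact hle y.2
      exact Subtype.ext (Subtype.ext (tvFlag_pow hp hy))
  have hN1 : (⟨g, hg⟩ : ↥H) ∈ pCore p ↥H := le_sSup (α := Subgroup ↥H)
    (s := {N : Subgroup ↥H | N.Normal ∧ IsPGroup p N}) ⟨hN, hNp⟩ hxN
  rw [hOp, Subgroup.mem_bot] at hN1
  have hg1 : g = 1 := congrArg Subtype.val hN1
  refine hφ0 (LinearMap.ext fun v => ?_)
  have := e v
  rw [hg1, LinearEquiv.coe_one, id_eq, left_eq_add, smul_eq_zero] at this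
  exact this.resolve_right ha0

theorem tvPairs_sys (hp : Odd p) (hOp : pCore p ↥H = ⊥) : TVSys tvEval (tvPairs H) where
  ne_left h := h.1
  ne_right h := h.2.1
  perp h := h.2.2.1
  add_left {a b φ} ha hb hne := by
    obtain ⟨-, h1, h2, g, hg, e⟩ := ha
    obtain ⟨-, -, h2', g', hg', e'⟩ := hb
    refine ⟨hne, h1, by simp only [map_add, h2, h2', add_zero], g * g', mul_mem hg hg', fun v => ?_⟩
    rw [LinearEquiv.mul_apply, e', e, map_add, map_smul, h2', smul_zero, add_zero, smul_add]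
    abel
  add_right {a φ ψ} ha hb hne := by
    obtain ⟨h0, -, h2, g, hg, e⟩ := ha
    obtain ⟨-, -, h2', g', hg', e'⟩ := hb
    refine ⟨h0, hne, by simp only [LinearMap.add_apply, h2, h2', add_zero], g * g', mul_mem hg hg',
      fun v => ?_⟩
    rw [LinearEquiv.mul_apply, e', e, map_add, map_smul, h2, smul_zero, add_zero,
      LinearMap.add_apply, add_smul]
    abel
  smul_left {a φ c} hc ha := by
    obtain ⟨g, hg, e⟩ := tv_smul_mem c ha
    refine ⟨smul_ne_zero hc ha.1, ha.2.1, by simp [ha.2.2.1], g, hg, fun v => ?_⟩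
    rw [e, smul_smul, mul_comm]
  smul_right {a φ c} hc ha := by
    obtain ⟨g, hg, e⟩ := tv_smul_mem c ha
    refine ⟨ha.1, smul_ne_zero hc ha.2.1, by simp [ha.2.2.1], g, hg, fun v => ?_⟩
    rw [e, LinearMap.smul_apply, smul_eq_mul]
  conj {a φ b ψ} ha hb := by
    obtain ⟨-, -, h2, g, hg, e⟩ := ha
    have h := tvPairs_conj hg hb
    have hinv : ∀ v, g⁻¹ v = v - φ v • a := by
      intro v
      apply g.injective
      rw [show g (g⁻¹ v) = v from LinearEquiv.apply_symm_apply g v, map_sub, map_smul, e v, e a, h2,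
        zero_smul, add_zero, add_sub_cancel_right]
    have e1 : ψ ∘ₗ (g⁻¹ : GLV).toLinearMap = ψ - tvEval a ψ • φ := by
      refine LinearMap.ext fun v => ?_
      show ψ (g⁻¹ v) = ψ v - ψ a * φ v
      rw [hinv, map_sub, map_smul, smul_eq_mul, mul_comm]
    rwa [e b, e1] at h
  partner h := tv_partner hp hOp h

/-- A subspace invariant under a generating set is invariant under the group. -/
theorem tv_map_eq {T : Set GLV} (hHT : H = Subgroup.closure T) {U : Submodule (ZMod p) V}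
    (hT : ∀ t ∈ T, ∀ u ∈ U, t u ∈ U) {h : GLV} (hh : h ∈ H) :
    U.map (h : V →ₗ[ZMod p] V) = U := by
  have := tv_finite (p := p) (V := V)
  rw [hHT] at hh
  induction hh using Subgroup.closure_induction with
  | mem t ht =>
    refine Submodule.eq_of_le_of_finrank_eq (Submodule.map_le_iff_le_comap.2 (hT t ht)) ?_
    exact LinearEquiv.finrank_map_eq t U
  | one => exact Submodule.map_id U
  | mul x y _ _ hx hy =>
    rw [show ((x * y : GLV) : V →ₗ[ZMod p] V) = (x : V →ₗ[ZMod p] V).comp (y : V →ₗ[ZMod p] V)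
      from rfl, Submodule.map_comp, hy, hx]
  | inv x _ hx =>
    conv_lhs => rw [← hx]
    rw [← Submodule.map_comp, show ((x⁻¹ : GLV) : V →ₗ[ZMod p] V).comp (x : V →ₗ[ZMod p] V)
      = LinearMap.id from LinearMap.ext fun v => x.symm_apply_apply v, Submodule.map_id]

theorem tv_mem_of_map {h : GLV} {U : Submodule (ZMod p) V}
    (e : U.map (h : V →ₗ[ZMod p] V) = U) {u : V} (hu : u ∈ U) : h u ∈ U := by
  have := Submodule.mem_map_of_mem (f := (h : V →ₗ[ZMod p] V)) hu
  rwa [e] at this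

/-- Each transvection preserves the span of a class and fixes its radical. -/
theorem tv_class_action (hp : Odd p) (hOp : pCore p ↥H = ⊥) {r a : V}
    {φ : Module.Dual (ZMod p) V} (hr : tvPt (tvPairs H) r) (ha : (a, φ) ∈ tvPairs H) :
    (tvRel tvEval (tvPairs H) r a → a ∈ tvA tvEval (tvPairs H) r ∧
      φ ∈ tvF tvEval (tvPairs H) r) ∧
    (¬ tvRel tvEval (tvPairs H) r a → (∀ u ∈ tvA tvEval (tvPairs H) r, φ u = 0) ∧
      a ∈ tvPerp tvEval (tvF tvEval (tvPairs H) r)) := by
  have hX := tvPairs_sys hp hOp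
  refine ⟨fun h => ⟨tv_mem_A h, tv_mem_F h ha⟩, fun h => ⟨fun u hu => ?_, fun ψ hψ => ?_⟩⟩
  · induction hu using Submodule.span_induction with
    | mem b hb =>
      exact tv_cross hX ha (tv_pt_of_rel hX hb)
        fun h' => h (tv_rel_trans hX hb (tv_rel_symm hX h'))
    | zero => exact map_zero φ
    | add x y _ _ hx hy => rw [map_add, hx, hy, add_zero]
    | smul c x _ hx => rw [map_smul, hx, smul_zero]
  · induction hψ using Submodule.span_induction with
    | mem x hx =>
      obtain ⟨b, hb, hbX⟩ := hx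
      exact tv_cross hX hbX ⟨φ, ha⟩ fun h' => h (tv_rel_trans hX hb h')
    | zero => exact map_zero _
    | add x y _ _ hx hy => rw [map_add, hx, hy, add_zero]
    | smul c x _ hx => rw [map_smul, hx, smul_zero]

/-- The group is generated by its transvection pairs. -/
theorem tv_generators {T : Set GLV} (hHT : H = Subgroup.closure T)
    (hT : ∀ t ∈ T, orderOf t = p ∧
      Module.finrank (ZMod p) ↥(LinearMap.ker ((t : V →ₗ[ZMod p] V) - LinearMap.id)) + 1 =
        Module.finrank (ZMod p) V) {t : GLV} (ht : t ∈ T) :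
    ∃ a φ, (a, φ) ∈ tvPairs H ∧ ∀ v, t v = v + φ v • a := by
  obtain ⟨hord, hk⟩ := hT t ht
  generalize hD : (t : V →ₗ[ZMod p] V) - LinearMap.id = D at hk
  have hr : Module.finrank (ZMod p) (LinearMap.range D) = 1 := by
    have := LinearMap.finrank_range_add_finrank_ker D
    omega
  obtain ⟨⟨a, haD⟩, ha0, hspan⟩ := finrank_eq_one_iff'.1 hr
  have ha : a ≠ 0 := fun e => ha0 (Subtype.ext e)
  obtain ⟨ψ, hψ⟩ : ∃ ψ : Module.Dual (ZMod p) V, ψ a = 1 := by
    obtain ⟨ψ, hψ⟩ := Module.Projective.exists_dual_ne_zero (ZMod p) ha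
    exact ⟨(ψ a)⁻¹ • ψ, by rw [LinearMap.smul_apply, smul_eq_mul, inv_mul_cancel₀ hψ]⟩
  have hform : ∀ v, t v = v + ψ (D v) • a := by
    intro v
    obtain ⟨c, hc⟩ := hspan ⟨D v, LinearMap.mem_range_self D v⟩
    have hc' : c • a = D v := congrArg Subtype.val hc
    have e1 : ψ (D v) = c := by rw [← hc', map_smul, hψ, smul_eq_mul, mul_one]
    rw [e1, hc', ← hD, LinearMap.sub_apply, LinearMap.id_apply, add_sub_cancel]
    rfl
  have hφ0 : ψ ∘ₗ D ≠ 0 := by
    intro e
    obtain ⟨v, hv⟩ := LinearMap.mem_range.1 haD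
    have := LinearMap.congr_fun e v
    rw [LinearMap.comp_apply, hv, hψ] at this
    exact one_ne_zero this
  have hφa : ψ (D a) = 0 := by
    have hpow : ∀ n : ℕ, (t ^ n) a = (1 + ψ (D a)) ^ n • a := by
      intro n
      induction n with
      | zero => simp
      | succ n ih =>
        rw [pow_succ', LinearEquiv.mul_apply, ih, map_smul, hform a, pow_succ, mul_smul, add_smul,
          one_smul]
    have h1 := hpow p
    have h0 : t ^ p = 1 := orderOf_dvd_iff_pow_eq_one.1 (dvd_of_eq hord)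
    rw [h0, LinearEquiv.coe_one, id_eq, ZMod.pow_card, add_smul,
      one_smul, left_eq_add, smul_eq_zero] at h1
    exact h1.resolve_right ha
  exact ⟨a, ψ ∘ₗ D, ⟨ha, hφ0, hφa, t, hHT ▸ Subgroup.subset_closure ht, hform⟩, hform⟩

theorem tvPairs_rigid (hp : Odd p) (hOp : pCore p ↥H = ⊥) {T : Set GLV}
    (hHT : H = Subgroup.closure T)
    (hT : ∀ t ∈ T, orderOf t = p ∧
      Module.finrank (ZMod p) ↥(LinearMap.ker ((t : V →ₗ[ZMod p] V) - LinearMap.id)) + 1 =
        Module.finrank (ZMod p) V) :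
    TVRigid tvEval (tvPairs H) := by
  have hX := tvPairs_sys hp hOp
  intro a f φ ψ ha hf hrel haf hfun
  have haX := ha
  have hpt : tvPt (tvPairs H) a := ⟨φ, ha⟩
  let A := tvA tvEval (tvPairs H) a
  let Z := A ⊓ tvPerp tvEval (tvF tvEval (tvPairs H) a)
  have hact : ∀ t ∈ T, (∀ u ∈ A, t u ∈ A) ∧ ∀ u ∈ Z, t u = u := by
    intro t ht
    obtain ⟨b, χ, hb, e⟩ := tv_generators hHT hT ht
    obtain ⟨c1, c2⟩ := tv_class_action hp hOp hpt hb
    by_cases hrb : tvRel tvEval (tvPairs H) a b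
    · refine ⟨fun u hu => e u ▸ add_mem hu (Submodule.smul_mem _ _ (c1 hrb).1), fun u hu => ?_⟩
      rw [e u, show χ u = 0 from hu.2 χ (c1 hrb).2, zero_smul, add_zero]
    · refine ⟨fun u hu => ?_, fun u hu => ?_⟩
      · rw [e u, (c2 hrb).1 u hu, zero_smul, add_zero]; exact hu
      · rw [e u, (c2 hrb).1 u hu.1, zero_smul, add_zero]
  have hA : ∀ h ∈ H, A.map (h : V →ₗ[ZMod p] V) = A := fun h hh =>
    tv_map_eq hHT (fun t ht => (hact t ht).1) hh
  have hZ : ∀ h ∈ H, ∀ u ∈ Z, h u = u := by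
    intro h hh
    rw [hHT] at hh
    induction hh using Subgroup.closure_induction with
    | mem t ht => exact (hact t ht).2
    | one => exact fun u _ => rfl
    | mul x y _ _ hx hy => exact fun u hu => by rw [LinearEquiv.mul_apply, hy u hu, hx u hu]
    | inv x _ hx =>
      intro u hu
      conv_lhs => rw [← hx u hu]
      exact x.symm_apply_apply u
  let N : Subgroup ↥H := (tvFlag Z A).comap H.subtype
  have hN : N.Normal := by
    refine ⟨fun n hn h => ?_⟩
    obtain ⟨n1, n2, n3⟩ := hn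
    have hinv : ∀ v, (h : GLV) ((h : GLV)⁻¹ v) = v := fun v => LinearEquiv.apply_symm_apply _ v
    refine ⟨fun v => ?_, fun u hu => ?_, fun u hu => hZ _ (h * n * h⁻¹).2 u hu⟩
    · have := tv_mem_of_map (hA _ h.2) (n1 ((h : GLV)⁻¹ v))
      rwa [map_sub, hinv] at this
    · have h1 := n2 _ (tv_mem_of_map (hA _ (inv_mem h.2)) hu)
      have h2 := hZ _ h.2 _ h1
      rw [← h2, map_sub, hinv] at h1
      exact h1
  have hN0 := tv_pcore_trivial hOp hN fun n hn => Subtype.ext (tvFlag_pow hp hn)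
  obtain ⟨-, -, hφa, g, hg, eg⟩ := ha
  obtain ⟨-, -, hψf, g', hg', eg'⟩ := hf
  have haA : a ∈ A := tv_mem_A (tv_rel_refl hX hpt)
  have hfA : f ∈ A := tv_mem_A hrel
  have hmem : (⟨g, hg⟩⁻¹ * ⟨g', hg'⟩ : ↥H) ∈ N := by
    have hinv : ∀ v, g⁻¹ v = v - φ v • a := by
      intro v
      apply g.injective
      rw [show g (g⁻¹ v) = v from LinearEquiv.apply_symm_apply g v, map_sub, map_smul, eg v, eg a,
        hφa, zero_smul, add_zero, add_sub_cancel_right]
    have e : ∀ v, (g⁻¹ * g') v - v = ψ v • f - (φ v + ψ v * φ f) • a := by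
      intro v
      rw [LinearEquiv.mul_apply, eg', hinv, map_add, map_smul, smul_eq_mul]
      abel
    refine ⟨fun v => ?_, fun u hu => ?_, fun u hu => hZ _ (mul_mem (inv_mem hg) hg') u hu⟩
    · show (g⁻¹ * g') v - v ∈ A
      rw [e v]
      exact sub_mem (Submodule.smul_mem _ _ hfA) (Submodule.smul_mem _ _ haA)
    · show (g⁻¹ * g') u - u ∈ Z
      have hφf : φ f = 0 := (hfun f hfA).trans hψf
      have hu' : φ u = ψ u := hfun u hu
      rw [e u, hφf, mul_zero, add_zero, hu', ← smul_sub, ← neg_sub a f]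
      exact Submodule.smul_mem _ _ (neg_mem ⟨sub_mem haA hfA, haf⟩)
  rw [hN0, Subgroup.mem_bot, inv_mul_eq_one] at hmem
  have hgg : g = g' := congrArg Subtype.val hmem
  have hcmp : ∀ v, φ v • a = ψ v • f := fun v => by
    have := eg v
    rw [hgg, eg' v] at this
    exact (add_left_cancel this).symm
  obtain ⟨d, χ, hd, hd1, -⟩ := hX.partner haX
  have hdA : d ∈ A := tv_mem_A (Or.inl ⟨⟨χ, hd⟩, φ, haX, hd1⟩)
  have hde : φ d = ψ d := hfun d hdA
  have hafeq : a = f := smul_right_injective V hd1 (by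
    show φ d • a = φ d • f
    rw [hcmp d, hde])
  refine ⟨hafeq, LinearMap.ext fun v => ?_⟩
  have := hcmp v
  rw [← hafeq] at this
  exact smul_left_injective (ZMod p) haX.1 this

end

end CfsgLib.RootSub
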