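/-
Groups generated by transvections with trivial `p`-core: decomposition and the components.
-/
import Cfsg.Agent.Lib.RootSub.TVGroup
import Cfsg.Agent.Lib.RootSub.TVGenerate

set_option autoImplicit false

namespace CfsgLib.RootSub

open Cfsg

variable {p : ℕ} [Fact p.Prime]
variable {V : Type*} [AddCommGroup V] [Module (ZMod p) V] [Finite V]

/-- The restriction of an element preserving a subspace. -/
noncomputable def tvRestrict (K : Subgroup (V ≃ₗ[ZMod p] V)) (U : Submodule (ZMod p) V)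
    (h : ∀ g ∈ K, U.map (g : V →ₗ[ZMod p] V) = U) : ↥K →* (↥U ≃ₗ[ZMod p] ↥U) where
  toFun g := LinearEquiv.ofSubmodules (g : V ≃ₗ[ZMod p] V) U U (h g g.2)
  map_one' := LinearEquiv.ext fun v => Subtype.ext rfl
  map_mul' _ _ := LinearEquiv.ext fun v => Subtype.ext rfl

theorem tvRestrict_apply (K : Subgroup (V ≃ₗ[ZMod p] V)) (U : Submodule (ZMod p) V)
    (h : ∀ g ∈ K, U.map (g : V →ₗ[ZMod p] V) = U) (g : ↥K) (v : ↥U) :
    ((tvRestrict K U h g v : ↥U) : V) = (g : V ≃ₗ[ZMod p] V) (v : V) := rfl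

theorem tv_decomposition (hp : Odd p) (H : Subgroup (V ≃ₗ[ZMod p] V))
    (T : Set (V ≃ₗ[ZMod p] V)) (hHT : H = Subgroup.closure T)
    (hT : ∀ t ∈ T, orderOf t = p ∧
      Module.finrank (ZMod p) ↥(LinearMap.ker ((t : V →ₗ[ZMod p] V) - LinearMap.id)) + 1 =
        Module.finrank (ZMod p) V)
    (hOp : pCore p ↥H = ⊥) :
    ∃ (n : ℕ) (W : Fin (n + 1) → Submodule (ZMod p) V) (K : Fin n → Subgroup (V ≃ₗ[ZMod p] V)),
      1 ≤ n ∧ DirectSum.IsInternal W ∧
      (∀ h ∈ H, ∀ i, (W i).map (h : V →ₗ[ZMod p] V) = W i) ∧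
      (∀ j, K j ≤ H ∧ ((K j).subgroupOf H).Normal) ∧ ⨆ j, K j = H ∧
      (∀ j, K j ⊓ (⨆ j' ∈ {j' : Fin n | j' ≠ j}, K j') = ⊥) ∧
      (∀ j j', j ≠ j' → ∀ a ∈ K j, ∀ b ∈ K j', a * b = b * a) ∧
      (∀ j, ∀ h ∈ K j, ∀ i : Fin (n + 1), i ≠ j.succ → ∀ v ∈ W i, h v = v) ∧
      (∀ j, ∃ ρ : ↥(K j) →* (↥(W j.succ) ≃ₗ[ZMod p] ↥(W j.succ)),
        (∀ (h : ↥(K j)) (v : ↥(W j.succ)),
          ((ρ h v : ↥(W j.succ)) : V) = (h : V ≃ₗ[ZMod p] V) (v : V)) ∧
        ((ρ.range : Set (↥(W j.succ) ≃ₗ[ZMod p] ↥(W j.succ))) =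
            {f : ↥(W j.succ) ≃ₗ[ZMod p] ↥(W j.succ) |
              LinearMap.det (f : ↥(W j.succ) →ₗ[ZMod p] ↥(W j.succ)) = 1} ∨
          ∃ B : LinearMap.BilinForm (ZMod p) ↥(W j.succ), B.IsAlt ∧ B.Nondegenerate ∧
            (ρ.range : Set (↥(W j.succ) ≃ₗ[ZMod p] ↥(W j.succ))) =
              {f : ↥(W j.succ) ≃ₗ[ZMod p] ↥(W j.succ) | ∀ x y, B (f x) (f y) = B x y})) := by
  classical
  have h2 := tv_two_ne_zero (p := p) hp
  have hX := tvPairs_sys hp hOp
  have hR : TVRigid tvEval (tvPairs H) := tvPairs_rigid hp hOp hHT hT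
  set X := tvPairs H with hXdef
  let β : V →ₗ[ZMod p] Module.Dual (ZMod p) V →ₗ[ZMod p] ZMod p := tvEval
  -- the classes
  let st : Setoid {a : V // tvPt X a} :=
    ⟨fun a b => tvRel β X a b, fun a => tv_rel_refl hX a.2, fun h => tv_rel_symm hX h,
      fun h h' => tv_rel_trans hX h h'⟩
  let ι := Quotient st
  have : Finite ι := Quotient.finite _
  have := Fintype.ofFinite ι
  let rep : ι → V := fun q => (q.out : {a : V // tvPt X a}).1
  have hrep : ∀ q, tvPt X (rep q) := fun q => q.out.2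
  have hclass : ∀ a, tvPt X a → ∃! q, tvRel β X (rep q) a := by
    intro a ha
    refine ⟨Quotient.mk st ⟨a, ha⟩, Quotient.exact (Quotient.out_eq (Quotient.mk st ⟨a, ha⟩)), ?_⟩
    intro q hq
    rw [← Quotient.out_eq q]
    exact Quotient.sound (s := st) hq
  let A : ι → Submodule (ZMod p) V := fun q => tvA β X (rep q)
  let F : ι → Submodule (ZMod p) (Module.Dual (ZMod p) V) := fun q => tvF β X (rep q)
  let W0 : Submodule (ZMod p) V :=
    tvPerp β (Submodule.span (ZMod p) {φ | ∃ a, (a, φ) ∈ X})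
  have hF0 : ∀ q, F q ≤ Submodule.span (ZMod p) {φ | ∃ a, (a, φ) ∈ X} := fun q =>
    Submodule.span_mono fun φ ⟨b, _, hb⟩ => ⟨b, hb⟩
  -- off-diagonal facts
  have hoff : ∀ {q r : ι}, q ≠ r → ∀ u ∈ A r, ∀ ψ ∈ F q, β u ψ = 0 := by
    intro q r hqr u hu ψ hψ
    induction hu using Submodule.span_induction with
    | mem b hb =>
      obtain ⟨χ, hχ⟩ := tv_pt_of_rel hX hb
      refine ((tv_class_action hp hOp (hrep q) hχ).2 fun h => hqr ?_).2 ψ hψ
      exact (hclass b ⟨χ, hχ⟩).unique h hb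
    | zero => simp
    | add x y _ _ hx hy => rw [map_add, LinearMap.add_apply, hx, hy, add_zero]
    | smul c x _ hx => rw [map_smul, LinearMap.smul_apply, hx, smul_zero]
  -- the pairing on each class is perfect
  have hinjA : ∀ q, ∀ z ∈ A q, (∀ ψ ∈ F q, β z ψ = 0) → z = 0 := fun q z hz h =>
    tv_nondeg hX h2 hR (hrep q) hz h
  have hinjF : ∀ q, ∀ ψ ∈ F q, (∀ z ∈ A q, β z ψ = 0) → ψ = 0 := fun q ψ hψ h =>
    tv_nondeg_axes hX h2 hR (hrep q) hψ h
  let θ : ∀ q, A q →ₗ[ZMod p] Module.Dual (ZMod p) (F q) := fun q =>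
    (β.domRestrict (A q)).compl₂ (F q).subtype
  let θ' : ∀ q, F q →ₗ[ZMod p] Module.Dual (ZMod p) (A q) := fun q =>
    ((β.domRestrict (A q)).compl₂ (F q).subtype).flip
  have hθ : ∀ q, Function.Injective (θ q) := fun q =>
    (injective_iff_map_eq_zero _).2 fun z hz =>
      Subtype.ext (hinjA q z z.2 fun ψ hψ => LinearMap.congr_fun hz ⟨ψ, hψ⟩)
  have hθ' : ∀ q, Function.Injective (θ' q) := fun q =>
    (injective_iff_map_eq_zero _).2 fun ψ hψ =>
      Subtype.ext (hinjF q ψ ψ.2 fun z hz => LinearMap.congr_fun hψ ⟨z, hz⟩)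
  have hdim : ∀ q, Module.finrank (ZMod p) (A q) = Module.finrank (ZMod p) (F q) := fun q =>
    le_antisymm ((LinearMap.finrank_le_finrank_of_injective (hθ q)).trans_eq Subspace.dual_finrank_eq)
      ((LinearMap.finrank_le_finrank_of_injective (hθ' q)).trans_eq Subspace.dual_finrank_eq)
  have hbij : ∀ q, Function.Bijective (θ q) := fun q => ⟨hθ q,
    (LinearMap.injective_iff_surjective_of_finrank_eq_finrank
      ((hdim q).trans Subspace.dual_finrank_eq.symm)).1 (hθ q)⟩
  have hsurjF : ∀ q, Function.Surjective (θ' q) := fun q =>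
    (LinearMap.injective_iff_surjective_of_finrank_eq_finrank
      ((hdim q).symm.trans Subspace.dual_finrank_eq.symm)).1 (hθ' q)
  -- projections
  let π : ∀ q, V →ₗ[ZMod p] A q := fun q =>
    (LinearEquiv.ofBijective (θ q) (hbij q)).symm.toLinearMap.comp (β.compl₂ (F q).subtype)
  have hπ : ∀ q (v : V), ∀ ψ ∈ F q, β (π q v : V) ψ = β v ψ := by
    intro q v ψ hψ
    have e := (LinearEquiv.ofBijective (θ q) (hbij q)).apply_symm_apply
      (β.compl₂ (F q).subtype v)
    exact LinearMap.congr_fun e ⟨ψ, hψ⟩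
  let P : V →ₗ[ZMod p] V := ∑ q, (A q).subtype.comp (π q)
  have hP : ∀ v, P v = ∑ q, (π q v : V) := fun v => by simp [P]
  have hπ0 : ∀ q v, (∀ ψ ∈ F q, β v ψ = 0) → (π q v : V) = 0 := fun q v h =>
    hinjA q _ (π q v).2 fun ψ hψ => (hπ q v ψ hψ).trans (h ψ hψ)
  have hπA : ∀ q, ∀ u ∈ A q, (π q u : V) = u := fun q u hu =>
    sub_eq_zero.1 (hinjA q _ (sub_mem (π q u).2 hu) fun ψ hψ => by
      rw [map_sub, LinearMap.sub_apply, hπ q u ψ hψ, sub_self])
  have hPA : ∀ q, ∀ u ∈ A q, P u = u := by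
    intro q u hu
    rw [hP, Finset.sum_eq_single q (fun r _ hr => hπ0 r u (hoff hr u hu))
      (fun h => absurd (Finset.mem_univ q) h), hπA q u hu]
  -- the spaces
  let e := (Fintype.equivFin (Option ι)).symm
  let n := Fintype.card (Option ι)
  let A' : Option ι → Submodule (ZMod p) V := fun o => o.elim ⊥ A
  let W : Fin (n + 1) → Submodule (ZMod p) V := Fin.cases W0 fun j => A' (e j)
  have hW0 : W 0 = W0 := rfl
  have hWs : ∀ j : Fin n, W j.succ = A' (e j) := fun j => Fin.cases_succ _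
  have hindep : iSupIndep W := by
    intro i
    induction i using Fin.cases with
    | zero =>
      rw [disjoint_iff, eq_bot_iff]
      rintro x ⟨hx0, hx⟩
      have hle : (⨆ (j) (_ : j ≠ (0 : Fin (n + 1))), W j) ≤ LinearMap.eqLocus P LinearMap.id := by
        refine iSup₂_le fun j hj => ?_
        obtain ⟨j, rfl⟩ := Fin.exists_succ_eq.2 hj
        rw [hWs]
        intro u hu
        cases ho : e j with
        | none =>
          rw [ho] at hu
          rw [(Submodule.mem_bot _).1 hu]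
          exact zero_mem _
        | some q => rw [ho] at hu; exact hPA q u hu
      have e1 : P x = x := hle hx
      rw [Submodule.mem_bot, ← e1, hP]
      exact Finset.sum_eq_zero fun q _ => hπ0 q x fun ψ hψ => hx0 ψ (hF0 q hψ)
    | succ j =>
      cases ho : e j with
      | none =>
        rw [hWs, ho]
        exact disjoint_bot_left
      | some q =>
        have hle : (⨆ (i) (_ : i ≠ j.succ), W i) ≤ tvPerp β (F q) := by
          refine iSup₂_le fun i hi => ?_
          induction i using Fin.cases with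
          | zero => exact fun u hu ψ hψ => hu ψ (hF0 q hψ)
          | succ i =>
            rw [hWs]
            intro u hu
            cases hoi : e i with
            | none => rw [hoi] at hu; rw [(Submodule.mem_bot _).1 hu]; exact zero_mem _
            | some r =>
              rw [hoi] at hu
              refine fun ψ hψ => hoff ?_ u hu ψ hψ
              rintro rfl
              exact hi (by rw [e.injective (hoi.trans ho.symm)])
        rw [hWs, ho, disjoint_iff, eq_bot_iff]
        rintro x ⟨hx, hx'⟩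
        exact (Submodule.mem_bot _).2 (hinjA q x hx (hle hx'))
  have hAW : ∀ q, A q ≤ ⨆ i, W i := fun q => by
    refine le_iSup_of_le (e.symm (some q)).succ ?_
    rw [hWs, Equiv.apply_symm_apply]
    exact le_rfl
  have htop : ⨆ i, W i = ⊤ := by
    refine eq_top_iff.2 fun v _ => ?_
    have h0 : v - P v ∈ W0 := by
      intro ψ hψ
      induction hψ using Submodule.span_induction with
      | mem φ hφ =>
        obtain ⟨a, ha⟩ := hφ
        obtain ⟨q, hq, -⟩ := hclass a ⟨φ, ha⟩
        have hφq : φ ∈ F q := tv_mem_F hq ha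
        rw [map_sub, LinearMap.sub_apply, sub_eq_zero, hP, map_sum, LinearMap.sum_apply,
          Finset.sum_eq_single q (fun r _ hr => hoff (Ne.symm hr) _ (π r v).2 φ hφq)
            (fun h => absurd (Finset.mem_univ q) h), hπ q v φ hφq]
      | zero => exact map_zero _
      | add x y _ _ hx hy => rw [map_add, hx, hy, add_zero]
      | smul c x _ hx => rw [map_smul, hx, smul_zero]
    rw [← sub_add_cancel v (P v), hP]
    exact add_mem (Submodule.mem_iSup_of_mem 0 (hP v ▸ h0))
      (Submodule.sum_mem _ fun q _ => hAW q (π q v).2)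
  -- the components of the group
  let gens : ι → Set (V ≃ₗ[ZMod p] V) := fun q =>
    {g | g ∈ H ∧ ∃ a φ, (a, φ) ∈ X ∧ tvRel β X (rep q) a ∧ ∀ v, g v = v + φ v • a}
  let K' : Option ι → Subgroup (V ≃ₗ[ZMod p] V) := fun o =>
    o.elim ⊥ fun q => Subgroup.closure (gens q)
  have hKH : ∀ o, K' o ≤ H := by
    rintro (_ | q)
    · exact bot_le
    · exact (Subgroup.closure_le _).2 fun g hg => hg.1
  have hinvA : ∀ h ∈ H, ∀ i, (W i).map (h : V →ₗ[ZMod p] V) = W i := by
    intro h hh i
    refine tv_map_eq hHT (fun t ht => ?_) hh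
    obtain ⟨a, φ, ha, et⟩ := tv_generators hHT hT ht
    intro u hu
    induction i using Fin.cases with
    | zero =>
      rw [et, show φ u = 0 from hu φ (Submodule.subset_span ⟨a, ha⟩), zero_smul, add_zero]
      exact hu
    | succ j =>
      rw [hWs] at hu ⊢
      cases ho : e j with
      | none =>
        rw [ho] at hu
        rw [(Submodule.mem_bot _).1 hu, map_zero]
        exact zero_mem _
      | some q =>
        rw [ho] at hu
        obtain ⟨c1, c2⟩ := tv_class_action hp hOp (hrep q) ha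
        rw [et]
        by_cases hr : tvRel β X (rep q) a
        · exact add_mem hu (Submodule.smul_mem _ _ (c1 hr).1)
        · rw [(c2 hr).1 u hu, zero_smul, add_zero]
          exact hu
  have hfix : ∀ o, ∀ g ∈ K' o, ∀ i : Fin (n + 1), i ≠ (e.symm o).succ → ∀ v ∈ W i, g v = v := by
    rintro (_ | q) g hg i hi v hv
    · rw [show g = 1 from (Subgroup.mem_bot).1 hg]
      rfl
    induction hg using Subgroup.closure_induction with
    | mem g hg =>
      obtain ⟨-, a, φ, ha, hr, eg⟩ := hg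
      have hφ : φ v = 0 := by
        induction i using Fin.cases with
        | zero => exact hv φ (Submodule.subset_span ⟨a, ha⟩)
        | succ j =>
          rw [hWs] at hv
          cases ho : e j with
          | none => rw [ho] at hv; rw [(Submodule.mem_bot _).1 hv, map_zero]
          | some r =>
            rw [ho] at hv
            refine hoff (q := q) ?_ v hv φ (tv_mem_F hr ha)
            rintro rfl
            exact hi (by rw [← ho, Equiv.symm_apply_apply])
      rw [eg, hφ, zero_smul, add_zero]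
    | one => rfl
    | mul x y _ _ hx hy => rw [LinearEquiv.mul_apply, hy, hx]
    | inv x _ hx =>
      conv_lhs => rw [← hx]
      exact x.symm_apply_apply v
  have hnormal : ∀ o, ((K' o).subgroupOf H).Normal := by
    rintro (_ | q)
    · exact Subgroup.bot_subgroupOf H ▸ inferInstance
    refine ⟨fun n hn h => ?_⟩
    rw [Subgroup.mem_subgroupOf] at hn ⊢
    generalize hh : (h : V ≃ₗ[ZMod p] V) = h'
    have hh' : h' ∈ H := hh ▸ h.2
    have key : Subgroup.closure (gens q) ≤
        (Subgroup.closure (gens q)).comap (MulAut.conj h').toMonoidHom := by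
      rw [Subgroup.closure_le]
      rintro g ⟨hgH, a, φ, ha, hr, eg⟩
      refine Subgroup.subset_closure ⟨mul_mem (mul_mem hh' hgH) (inv_mem hh'), _, _,
        tvPairs_conj hh' ha, ?_, fun v => ?_⟩
      · refine tv_span_point hX h2 (hrep q) ?_ fun h0 => ?_
        · have hmap := hinvA h' hh' (e.symm (some q)).succ
          rw [hWs, Equiv.apply_symm_apply] at hmap
          exact tv_mem_of_map hmap (tv_mem_A hr)
        · have hmap := hinvA h' hh' (e.symm (some q)).succ
          rw [hWs, Equiv.apply_symm_apply] at hmap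
          have := hinjA q _ (tv_mem_of_map hmap (tv_mem_A hr)) h0
          exact hX.ne_left ha (h'.map_eq_zero_iff.1 this)
      · show (h' * g * h'⁻¹) v = _
        have hinv : h' (h'⁻¹ v) = v := LinearEquiv.apply_symm_apply h' v
        rw [LinearEquiv.mul_apply, LinearEquiv.mul_apply, eg, map_add, map_smul, hinv]
        rfl
    have := key hn
    rw [Subgroup.coe_mul, Subgroup.coe_mul, Subgroup.coe_inv, hh]
    exact this
  have hgen : ⨆ j, K' (e j) = H := by
    refine le_antisymm (iSup_le fun j => hKH _) ?_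
    conv_lhs => rw [hHT]
    rw [Subgroup.closure_le]
    intro t ht
    obtain ⟨a, φ, ha, et⟩ := tv_generators hHT hT ht
    obtain ⟨q, hq, -⟩ := hclass a ⟨φ, ha⟩
    refine Subgroup.mem_iSup_of_mem (e.symm (some q)) ?_
    rw [Equiv.apply_symm_apply]
    exact Subgroup.subset_closure ⟨hHT ▸ Subgroup.subset_closure ht, a, φ, ha, hq, et⟩
  have hall : ∀ g : V ≃ₗ[ZMod p] V, (∀ i, ∀ v ∈ W i, g v = v) → g = 1 := fun g hg => by
    refine LinearEquiv.ext fun v => ?_
    have hle : (⨆ i, W i) ≤ LinearMap.eqLocus (g : V →ₗ[ZMod p] V) LinearMap.id :=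
      iSup_le fun i => hg i
    exact hle (htop.symm ▸ Submodule.mem_top)
  have hfix' : ∀ j, ∀ g ∈ K' (e j), ∀ i : Fin (n + 1), i ≠ j.succ → ∀ v ∈ W i, g v = v :=
    fun j g hg i hi => hfix _ g hg i (by rwa [Equiv.symm_apply_apply])
  refine ⟨n, W, fun j => K' (e j), Fintype.card_pos, ?_, hinvA, fun j => ⟨hKH _, hnormal _⟩,
    hgen, ?_, ?_, hfix', fun j => ?_⟩
  · exact (DirectSum.isInternal_submodule_iff_iSupIndep_and_iSup_eq_top W).2 ⟨hindep, htop⟩
  · intro j
    refine eq_bot_iff.2 fun g hg => ?_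
    obtain ⟨hg1, hg2⟩ := hg
    refine Subgroup.mem_bot.2 (hall g fun i v hv => ?_)
    by_cases hi : i = j.succ
    swap
    · exact hfix' j g hg1 i hi v hv
    let S : Subgroup (V ≃ₗ[ZMod p] V) := fixingSubgroup (V ≃ₗ[ZMod p] V) (W j.succ : Set V)
    have hle : (⨆ j' ∈ {j' : Fin n | j' ≠ j}, K' (e j')) ≤ S := by
      refine iSup₂_le fun j' hj' x hx => (mem_fixingSubgroup_iff _).2 fun u hu => ?_
      exact hfix' j' x hx j.succ (fun h => hj' (Fin.succ_injective _ h).symm) u hu
    exact (mem_fixingSubgroup_iff _).1 (hle hg2) v (hi ▸ hv)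
  · intro j j' hjj' a ha b hb
    refine mul_inv_eq_one.1 (hall _ fun i v hv => ?_)
    have hcomm : ∀ u ∈ W i, (a * b) u = (b * a) u := by
      intro u hu
      rw [LinearEquiv.mul_apply, LinearEquiv.mul_apply]
      by_cases hi : i = j.succ
      · have hi' : i ≠ j'.succ := fun h => hjj' (Fin.succ_injective _ (hi.symm.trans h))
        rw [hfix' j' b hb i hi' u hu, hfix' j' b hb i hi' _
          (tv_mem_of_map (hinvA a (hKH _ ha) i) hu)]
      · rw [hfix' j a ha i hi u hu, hfix' j a ha i hi _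
          (tv_mem_of_map (hinvA b (hKH _ hb) i) hu)]
    rw [LinearEquiv.mul_apply, hcomm _
      (tv_mem_of_map (hinvA _ (inv_mem (mul_mem (hKH _ hb) (hKH _ ha))) i) hv)]
    exact LinearEquiv.apply_symm_apply _ v
  -- the action of a component on its space
  refine ⟨tvRestrict _ _ fun g hg => hinvA g (hKH _ hg) _, fun _ _ => rfl, ?_⟩
  generalize hρ : tvRestrict (K' (e j)) (W j.succ) _ = ρ
  have hρ_apply : ∀ (g : ↥(K' (e j))) (v : ↥(W j.succ)),
      ((ρ g v : ↥(W j.succ)) : V) = (g : V ≃ₗ[ZMod p] V) (v : V) := fun g v => by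
    rw [← hρ, tvRestrict_apply]
  cases ho : e j with
  | none =>
    left
    have hbot : W j.succ = ⊥ := by rw [hWs, ho]; rfl
    have : Subsingleton ↥(W j.succ) := by rw [hbot]; infer_instance
    ext f
    refine ⟨fun _ => ?_, fun _ => ?_⟩
    · exact LinearMap.det_eq_one_of_finrank_eq_zero Module.finrank_zero_of_subsingleton _
    · exact ⟨1, LinearEquiv.ext fun v => Subsingleton.elim _ _⟩
  | some q =>
    have hU : W j.succ = A q := by rw [hWs, ho]; rfl
    have hgenρ : ∀ (g : V ≃ₗ[ZMod p] V) (hg : g ∈ K' (e j)), g ∈ gens q →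
        ∃ (a : ↥(W j.succ)) (φ : Module.Dual (ZMod p) V), ((a : V), φ) ∈ X ∧
          tvRel β X (rep q) a ∧ ∀ v : ↥(W j.succ), ρ ⟨g, hg⟩ v = v + φ v • a := by
      rintro g hg ⟨-, a, φ, ha, hr, eg⟩
      exact ⟨⟨a, hU ▸ tv_mem_A hr⟩, φ, ha, hr, fun v => Subtype.ext (by
        rw [hρ_apply, eg]; rfl)⟩
    have hrangele : ∀ S : Subgroup (↥(W j.succ) ≃ₗ[ZMod p] ↥(W j.succ)),
        (∀ (g : V ≃ₗ[ZMod p] V) (hg : g ∈ K' (e j)), g ∈ gens q → ρ ⟨g, hg⟩ ∈ S) → ρ.range ≤ S := by
      intro S hS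
      rw [MonoidHom.range_eq_map, Subgroup.map_le_iff_le_comap]
      rintro ⟨g, hg⟩ -
      have hcl : Subgroup.closure (gens q) ≤ (S.comap ρ).map (K' (e j)).subtype := by
        rw [Subgroup.closure_le]
        intro x hx
        have hx' : x ∈ K' (e j) := ho ▸ Subgroup.subset_closure hx
        exact ⟨⟨x, hx'⟩, hS x hx' hx, rfl⟩
      obtain ⟨y, hy, hye⟩ := hcl (show g ∈ Subgroup.closure (gens q) by rw [ho] at hg; exact hg)
      have : y = ⟨g, hg⟩ := Subtype.ext hye
      subst this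
      exact hy
    have hlift : ∀ (a : ↥(W j.succ)) (φ : Module.Dual (ZMod p) V), ((a : V), φ) ∈ X →
        ∃ g : ↥(K' (e j)), ∀ v : ↥(W j.succ), ρ g v = v + φ v • a := by
      intro a φ ha
      obtain ⟨-, -, -, g, hg, eg⟩ := id ha
      have hr : tvRel β X (rep q) (a : V) := tv_span_point hX h2 (hrep q) (hU.le a.2) fun h0 =>
        hX.ne_left ha (hinjA q _ (hU.le a.2) h0)
      exact ⟨⟨g, ho ▸ Subgroup.subset_closure ⟨hg, a, φ, ha, hr, eg⟩⟩,
        fun v => Subtype.ext (by rw [hρ_apply, eg]; rfl)⟩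
    by_cases hd : 2 ≤ Module.finrank (ZMod p) (tvAxes (k := ZMod p) X (rep q))
    · left
      let SL : Subgroup (↥(W j.succ) ≃ₗ[ZMod p] ↥(W j.succ)) := LinearEquiv.det.ker
      have hSL : ∀ f, f ∈ SL ↔ LinearMap.det (f : ↥(W j.succ) →ₗ[ZMod p] ↥(W j.succ)) = 1 :=
        fun f => by rw [MonoidHom.mem_ker, ← Units.val_inj, LinearEquiv.coe_det]; rfl
      have hle : ρ.range ≤ SL := hrangele SL fun g hg hgq => by
        obtain ⟨a, φ, ha, -, eg⟩ := hgenρ g hg hgq
        have h0 : (φ ∘ₗ (W j.succ).subtype) a = 0 := hX.perp ha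
        have : ρ ⟨g, hg⟩ = LinearEquiv.transvection h0 := LinearEquiv.ext fun v => eg v
        rw [this, hSL, LinearEquiv.transvection.coe_toLinearMap, LinearMap.transvection.det, h0,
          add_zero]
      ext f
      refine ⟨fun hf => (hSL f).1 (hle hf), fun hf => tvgen_special ρ.range (fun ω a h0 => ?_) f hf⟩
      by_cases ha0 : a = 0
      · subst ha0
        exact ⟨1, LinearEquiv.ext fun v => by simp [LinearEquiv.transvection.apply]⟩
      by_cases hω : ω = 0
      · subst hω
        exact ⟨1, LinearEquiv.ext fun v => by simp [LinearEquiv.transvection.apply]⟩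
      obtain ⟨ψ, hψ⟩ := hsurjF q (ω ∘ₗ (LinearEquiv.ofEq _ _ hU.symm).toLinearMap)
      have hψv : ∀ v : ↥(W j.succ), (ψ : Module.Dual (ZMod p) V) v = ω v := fun v => by
        have := LinearMap.congr_fun hψ ⟨(v : V), hU ▸ v.2⟩
        exact this
      have hψ0 : (ψ : Module.Dual (ZMod p) V) ≠ 0 := fun e0 => hω (LinearMap.ext fun v => by
        rw [← hψv v, e0]; rfl)
      have hmem : ((a : V), (ψ : Module.Dual (ZMod p) V)) ∈ X := tv_linear hX h2 hR hd
        (hU.le a.2) ψ.2 (fun e0 => ha0 (Subtype.ext e0)) hψ0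
        (show (ψ : Module.Dual (ZMod p) V) a = 0 by rw [hψv, h0])
      obtain ⟨g, hg⟩ := hlift a _ hmem
      exact ⟨g, LinearEquiv.ext fun v => by rw [hg, hψv, LinearEquiv.transvection.apply]⟩
    · right
      push Not at hd
      obtain ⟨B, halt, hnd, hall', hev⟩ := tv_symplectic hX h2 hR (hrep q) (by omega)
      let ε : ↥(W j.succ) ≃ₗ[ZMod p] ↥(A q) := LinearEquiv.ofEq _ _ hU
      let B' : LinearMap.BilinForm (ZMod p) ↥(W j.succ) :=
        (B : ↥(A q) →ₗ[ZMod p] ↥(A q) →ₗ[ZMod p] ZMod p).compl₁₂ ε.toLinearMap ε.toLinearMap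
      have hB' : ∀ x y, B' x y = B (ε x) (ε y) := fun _ _ => rfl
      have halt' : B'.IsAlt := fun x => halt (ε x)
      have hnd' : B'.Nondegenerate := by
        refine ⟨fun x hx => ?_, fun y hy => ?_⟩
        · exact ε.map_eq_zero_iff.1 (hnd.1 _ fun y => by
            have := hx (ε.symm y); rwa [hB', LinearEquiv.apply_symm_apply] at this)
        · exact ε.map_eq_zero_iff.1 (hnd.2 _ fun x => by
            have := hy (ε.symm x); rwa [hB', LinearEquiv.apply_symm_apply] at this)
      let Sp : Subgroup (↥(W j.succ) ≃ₗ[ZMod p] ↥(W j.succ)) :=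
        { carrier := {f | ∀ x y, B' (f x) (f y) = B' x y}
          one_mem' := fun x y => rfl
          mul_mem' := fun {f g} hf hg x y => by
            rw [LinearEquiv.mul_apply, LinearEquiv.mul_apply, hf, hg]
          inv_mem' := fun {f} hf x y => by
            have := hf (f⁻¹ x) (f⁻¹ y)
            rw [show f (f⁻¹ x) = x from f.apply_symm_apply x,
              show f (f⁻¹ y) = y from f.apply_symm_apply y] at this
            exact this.symm }
      refine ⟨B', halt', hnd', Set.ext fun f => ⟨fun hf => ?_, fun hf => ?_⟩⟩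
      · refine hrangele Sp (fun g hg hgq x y => ?_) hf
        obtain ⟨a, φ, ha, -, eg⟩ := hgenρ g hg hgq
        obtain ⟨c, hc⟩ := hev (ε a) φ ha
        have hc' : ∀ v : ↥(W j.succ), φ v = c * B' a v := fun v => hc (ε v)
        simp only [eg, hc', map_add, LinearMap.add_apply, map_smul, LinearMap.smul_apply,
          smul_eq_mul, halt' a]
        rw [← LinearMap.IsAlt.neg halt' a x]
        ring
      · refine tvgen_symplectic halt' hnd' ρ.range (fun a c h0 => ?_) f hf
        by_cases ha0 : a = 0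
        · subst ha0
          exact ⟨1, LinearEquiv.ext fun v => by simp [LinearEquiv.transvection.apply]⟩
        by_cases hc0 : c = 0
        · subst hc0
          exact ⟨1, LinearEquiv.ext fun v => by simp [LinearEquiv.transvection.apply]⟩
        obtain ⟨φ, hφ, hφv⟩ := hall' (ε a) (fun e0 => ha0 (Subtype.ext e0)) c hc0
        obtain ⟨g, hg⟩ := hlift a φ hφ
        refine ⟨g, LinearEquiv.ext fun v => ?_⟩
        have hv : φ v = c * B' a v := hφv (ε v)
        rw [hg, hv, LinearEquiv.transvection.apply, LinearMap.smul_apply, smul_eq_mul]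

end CfsgLib.RootSub
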